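import Mathlib.RingTheory.Smooth.NoetherianDescent
import Mathlib.RingTheory.Unramified.Field
import Mathlib.RingTheory.TensorProduct.Pi
import Mathlib.RingTheory.Ideal.MinimalPrime.Noetherian
import Mathlib.AlgebraicGeometry.Morphisms.Etale
import Mathlib.AlgebraicGeometry.Properties
import Mathlib.RingTheory.RingHom.Etale

/-!
# Reducedness is etale local
-/

universe u

open CategoryTheory AlgebraicGeometry
open scoped TensorProduct

namespace Groth.Agent.AlgSpD

theorem isReduced_of_etale_of_noetherian (A B : Type u) [CommRing A] [CommRing B] [Algebra A B]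
    [IsNoetherianRing A] [_root_.IsReduced A] [Algebra.Etale A B] : _root_.IsReduced B := by
  let ι := {p : Ideal A // p ∈ minimalPrimes A}
  have hP : ∀ p : ι, p.1.IsPrime := fun p => Ideal.minimalPrimes_isPrime p.2
  have : Finite ι := (minimalPrimes.finite_of_isNoetherianRing A).to_subtype
  have := Fintype.ofFinite ι
  classical
  let K := fun p : ι => FractionRing (A ⧸ p.1)
  have hinj : Function.Injective (algebraMap A (∀ p, K p)) := by
    rw [injective_iff_map_eq_zero]
    intro a ha
    have h : a ∈ sInf (minimalPrimes A) := Ideal.mem_sInf.2 fun {p} hp => by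
      have := congrFun ha ⟨p, hp⟩
      rw [Pi.algebraMap_apply, IsScalarTower.algebraMap_apply A (A ⧸ p) (K ⟨p, hp⟩),
        Pi.zero_apply] at this
      exact Ideal.Quotient.eq_zero_iff_mem.1 ((FaithfulSMul.algebraMap_injective (A ⧸ p) _).eq_iff'
        (map_zero _) |>.1 this)
    change a ∈ sInf (Ideal.minimalPrimes (⊥ : Ideal A)) at h
    rw [Ideal.sInf_minimalPrimes] at h
    change a ∈ nilradical A at h
    rwa [nilradical_eq_zero, Ideal.zero_eq_bot, Ideal.mem_bot] at h
  refine ⟨fun b hb => ?_⟩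
  have h0 : b ⊗ₜ[A] (1 : ∀ p, K p) = 0 := by
    apply (Algebra.TensorProduct.piRight A A B K).injective
    rw [map_zero]
    funext p
    rw [Algebra.TensorProduct.piRight_tmul]
    apply (Algebra.TensorProduct.comm A B (K p)).injective
    rw [Pi.zero_apply, map_zero, Algebra.TensorProduct.comm_tmul, Pi.one_apply]
    have : _root_.IsReduced (K p ⊗[A] B) := Algebra.FormallyUnramified.isReduced_of_field (K p) _
    exact IsNilpotent.eq_zero (hb.map (Algebra.TensorProduct.includeRight (R := A) (A := K p) (B := B)))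
  have h1 := Module.Flat.lTensor_preserves_injective_linearMap (M := B)
    (Algebra.linearMap A (∀ p, K p)) hinj
  have h2 : b ⊗ₜ[A] (1 : A) = 0 := by
    apply h1
    rw [LinearMap.lTensor_tmul, map_zero, Algebra.linearMap_apply, map_one]
    exact h0
  simpa using congrArg (TensorProduct.rid A B) h2

/-- An etale algebra over a reduced ring is reduced. -/
theorem isReduced_of_etale (A B : Type u) [CommRing A] [CommRing B] [Algebra A B] [_root_.IsReduced A]
    [Algebra.Etale A B] : _root_.IsReduced B := by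
  classical
  obtain ⟨A₀, B₀, _, _, hfg, hE, ⟨e⟩⟩ := Algebra.Etale.exists_subalgebra_fg (R := ℤ) A B
  refine ⟨fun b hb => e.injective ?_⟩
  rw [map_zero]
  obtain ⟨s, hs⟩ := TensorProduct.exists_finset (e b)
  let A₁ : Subalgebra A₀ A := Algebra.adjoin A₀ ((s.image Prod.fst : Finset A) : Set A)
  have : IsNoetherianRing A₀ :=
    have : Algebra.FiniteType ℤ A₀ := (Subalgebra.fg_iff_finiteType A₀).mp hfg
    Algebra.FiniteType.isNoetherianRing ℤ A₀
  have : IsNoetherianRing A₁ :=
    have : Algebra.FiniteType A₀ A₁ := (Subalgebra.fg_iff_finiteType A₁).mp ⟨_, rfl⟩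
    Algebra.FiniteType.isNoetherianRing A₀ A₁
  have : _root_.IsReduced A₁ := isReduced_of_injective A₁.val Subtype.val_injective
  have hred₁ := isReduced_of_etale_of_noetherian A₁ (A₁ ⊗[A₀] B₀)
  let φ : A₁ ⊗[A₀] B₀ →ₐ[A₀] A ⊗[A₀] B₀ := Algebra.TensorProduct.map A₁.val (AlgHom.id A₀ B₀)
  have hφ : Function.Injective φ := Module.Flat.rTensor_preserves_injective_linearMap (M := B₀)
    A₁.val.toLinearMap Subtype.val_injective
  have hmem : e b ∈ φ.range := by
    rw [hs]
    refine sum_mem fun i hi => ?_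
    exact ⟨⟨i.1, Algebra.subset_adjoin (by simpa using ⟨i.2, hi⟩)⟩ ⊗ₜ i.2, rfl⟩
  obtain ⟨c, hc⟩ := hmem
  obtain ⟨n, hn⟩ := hb.map e
  have : c = 0 := hred₁.eq_zero c ⟨n, hφ (by rw [map_pow, map_zero]; exact hc ▸ hn)⟩
  rw [← hc, this]
  exact map_zero φ

/-- Localisations of etale algebras at points over reduced local rings are reduced. -/
theorem isReduced_localization_of_etale (A B : Type u) [CommRing A] [CommRing B] [Algebra A B]
    [Algebra.Etale A B] (q : Ideal B) [q.IsPrime] (C : Type u) [CommRing C] [Algebra B C]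
    [IsLocalization.AtPrime C q] [_root_.IsReduced (Localization.AtPrime (q.comap (algebraMap A B)))] :
    _root_.IsReduced C := by
  let p := q.comap (algebraMap A B)
  have hT := isReduced_of_etale (Localization.AtPrime p) (Localization.AtPrime p ⊗[A] B)
  refine ⟨fun x hx => ?_⟩
  obtain ⟨⟨b, m⟩, rfl⟩ := IsLocalization.mk'_surjective q.primeCompl x
  obtain ⟨n, hn⟩ := hx
  rw [← IsLocalization.mk'_pow, IsLocalization.mk'_eq_zero_iff] at hn
  obtain ⟨t, ht⟩ := hn
  rw [IsLocalization.mk'_eq_zero_iff]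
  have hnil : IsNilpotent ((t : B) * b) := by
    refine ⟨n + 1, ?_⟩
    rw [mul_pow, pow_succ, pow_succ, mul_assoc, ← mul_assoc (t : B) (b ^ n), ht, zero_mul, mul_zero]
  have h0 : (Algebra.TensorProduct.includeRight (R := A) (A := Localization.AtPrime p) ((t : B) * b)) = 0 :=
    IsNilpotent.eq_zero (hnil.map _)
  have : IsLocalizedModule p.primeCompl (TensorProduct.mk A (Localization.AtPrime p) B 1) :=
    (isLocalizedModule_iff_isBaseChange p.primeCompl (Localization.AtPrime p) _).2
      (TensorProduct.isBaseChange A B (Localization.AtPrime p))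
  obtain ⟨s, hs⟩ := (IsLocalizedModule.eq_zero_iff p.primeCompl
    (TensorProduct.mk A (Localization.AtPrime p) B 1)).1 h0
  refine ⟨⟨algebraMap A B s, fun h => s.2 h⟩ * t, ?_⟩
  change algebraMap A B s * (t : B) * b = 0
  rw [mul_assoc, ← Algebra.smul_def]
  exact hs

/-- Stalks of etale schemes over points with reduced stalk are reduced, and conversely. -/
theorem isReduced_stalk_iff {X Y : Scheme.{u}} (f : X ⟶ Y) [Etale f] (x : ↥X) :
    _root_.IsReduced ↥(X.presheaf.stalk x) ↔ _root_.IsReduced ↥(Y.presheaf.stalk (f x)) := by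
  constructor
  · intro h
    refine isReduced_of_injective (f.stalkMap x).hom ?_
    have hfl := Flat.stalkMap f x
    let := (f.stalkMap x).hom.toAlgebra
    have : Module.Flat ↥(Y.presheaf.stalk (f x)) ↥(X.presheaf.stalk x) := hfl
    have : IsLocalHom (algebraMap ↥(Y.presheaf.stalk (f x)) ↥(X.presheaf.stalk x)) := f.toLRSHom.prop x
    have := Module.FaithfullyFlat.of_flat_of_isLocalHom (A := ↥(Y.presheaf.stalk (f x)))
      (B := ↥(X.presheaf.stalk x))
    exact FaithfulSMul.algebraMap_injective _ _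
  · intro h
    obtain ⟨V, hV, hxV, -⟩ := exists_isAffineOpen_mem_and_subset (x := f x) (U := ⊤) trivial
    obtain ⟨W, hW, hxW, hWV⟩ := exists_isAffineOpen_mem_and_subset (x := x) (U := f ⁻¹ᵁ V) hxV
    let φ := f.appLE V W hWV
    have hφ : φ.hom.Etale := HasRingHomProperty.appLE @Etale f ‹_› ⟨V, hV⟩ ⟨W, hW⟩ hWV
    let := φ.hom.toAlgebra
    have : Algebra.Etale ↥Γ(Y, V) ↥Γ(X, W) := hφ
    let := TopCat.Presheaf.algebra_section_stalk X.presheaf ⟨x, hxW⟩
    have := hW.isLocalization_stalk ⟨x, hxW⟩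
    let := TopCat.Presheaf.algebra_section_stalk Y.presheaf ⟨f x, hxV⟩
    have := hV.isLocalization_stalk ⟨f x, hxV⟩
    have e : (hW.primeIdealOf ⟨x, hxW⟩).asIdeal.comap (algebraMap ↥Γ(Y, V) ↥Γ(X, W)) =
        (hV.primeIdealOf ⟨f x, hxV⟩).asIdeal := by
      have := IsAffineOpen.comap_primeIdealOf_appLE (f := f) V hV W hW hWV hxW
      exact congrArg PrimeSpectrum.asIdeal this
    have hred : ∀ (P : Ideal ↥Γ(Y, V)) [P.IsPrime], P = (hV.primeIdealOf ⟨f x, hxV⟩).asIdeal →
        _root_.IsReduced (Localization.AtPrime P) := by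
      intro P _ hP
      subst hP
      let ε := IsLocalization.algEquiv (hV.primeIdealOf ⟨f x, hxV⟩).asIdeal.primeCompl
        (Localization.AtPrime (hV.primeIdealOf ⟨f x, hxV⟩).asIdeal) ↥(Y.presheaf.stalk (f x))
      exact isReduced_of_injective ε ε.injective
    have := hred _ e
    exact isReduced_localization_of_etale ↥Γ(Y, V) ↥Γ(X, W) (hW.primeIdealOf ⟨x, hxW⟩).asIdeal _

end Groth.Agent.AlgSpD
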