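import Mathlib.AlgebraicGeometry.Morphisms.Etale
import Mathlib.AlgebraicGeometry.Morphisms.QuasiFinite
import Mathlib.AlgebraicGeometry.Morphisms.UniversallyOpen
import Mathlib.AlgebraicGeometry.Properties
import Mathlib.RingTheory.Unramified.LocalStructure
import Groth.Prelude.Def_Flat

/-!
# Dimension of points along flat, quasi-finite and etale morphisms of schemes
-/

universe u

open CategoryTheory AlgebraicGeometry TopologicalSpace Order

namespace Groth.Agent.AlgSpD

/-- Specializations inside a fibre of a locally quasi-finite morphism are trivial. -/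
theorem eq_of_specializes_of_apply_eq {X Y : Scheme.{u}} (f : X ⟶ Y) [LocallyQuasiFinite f] {x x' : X}
    (h : x' ⤳ x) (e : f x' = f x) : x' = x := by
  have hd := f.isDiscrete_preimage_singleton (f x)
  have := hd.to_subtype
  have h' : (⟨x', e⟩ : ↥(f ⁻¹' {f x})) ⤳ ⟨x, rfl⟩ := (subtype_specializes_iff _ _).2 h
  exact congrArg Subtype.val h'.eq

theorem strictMono_of_locallyQuasiFinite {X Y : Scheme.{u}} (f : X ⟶ Y) [LocallyQuasiFinite f] :
    StrictMono (f : X → Y) := by
  intro a b hab
  have h1 : b ⤳ a := hab.le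
  refine lt_iff_le_not_ge.2 ⟨h1.map f.continuous, fun h2 => hab.not_ge ?_⟩
  have e : f b = f a := ((h1.map f.continuous).antisymm h2).eq
  rw [eq_of_specializes_of_apply_eq f h1 e]

theorem coheight_le_apply {X Y : Scheme.{u}} (f : X ⟶ Y) [LocallyQuasiFinite f] (x : X) :
    coheight x ≤ coheight (f x) :=
  coheight_le_coheight_apply_of_strictMono _ (strictMono_of_locallyQuasiFinite f) x

theorem coheight_apply_le {X Y : Scheme.{u}} (f : X ⟶ Y) (hf : GeneralizingMap f) (x : X) :
    coheight (f x) ≤ coheight x := by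
  have key : ∀ (n : ℕ) (x : X) (q : LTSeries Y), q.length = n → q.head = f x → (n : ℕ∞) ≤ coheight x := by
    intro n
    induction n with
    | zero => intros; simp
    | succ n ih =>
      intro x q hn hq
      have h0 : q.length ≠ 0 := by omega
      let q' := q.tail h0
      have hlt : f x < q'.head := by
        rw [← hq, RelSeries.head_tail]
        exact q.strictMono (by
          rw [Fin.lt_def]
          simp only [Fin.val_zero, Fin.val_one', Nat.mod_eq_of_lt (show 1 < q.length + 1 by omega)]
          omega)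
      obtain ⟨x', hx', e⟩ := hf (show q'.head ⤳ f x from hlt.le)
      have hlt' : x < x' := lt_iff_le_not_ge.2 ⟨hx', fun h => hlt.not_ge
        (e ▸ (show x ⤳ x' from h).map f.continuous)⟩
      have := ih x' q' (by simp [q', hn]) e.symm
      push_cast
      exact le_trans (by gcongr) (coheight_add_one_le hlt')
  exact coheight_le fun q hq => key _ x q rfl hq

theorem coheight_apply_eq {X Y : Scheme.{u}} (e : X ⟶ Y) [Flat e] [LocallyQuasiFinite e] (x : X) :
    coheight (e x) = coheight x :=
  le_antisymm (coheight_apply_le e (Flat.generalizingMap e) x) (coheight_le_apply e x)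

theorem locallyQuasiFinite_of_etale {X Y : Scheme.{u}} (f : X ⟶ Y) [Etale f] : LocallyQuasiFinite f := by
  refine ⟨fun {U} hU {V} hV e => ?_⟩
  have h1 := (f.etale_appLE hU hV e).formallyUnramified
  have h2 := f.etale_appLE hU hV e
  algebraize [(f.appLE U V e).hom]
  exact RingHom.quasiFinite_algebraMap.2 inferInstance

theorem coheight_apply_eq_of_etale {X Y : Scheme.{u}} (e : X ⟶ Y) [Etale e] (x : X) :
    coheight (e x) = coheight x :=
  have := locallyQuasiFinite_of_etale e
  coheight_apply_eq e x

theorem ringKrullDim_stalk_le {X Y : Scheme.{u}} (f : X ⟶ Y) [LocallyQuasiFinite f] (x : X) :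
    ringKrullDim (X.presheaf.stalk x) ≤ ringKrullDim (Y.presheaf.stalk (f x)) := by
  rw [ringKrullDim_stalk_eq_coheight, ringKrullDim_stalk_eq_coheight]
  exact_mod_cast coheight_le_apply f x

theorem ringKrullDim_stalk_apply_le {X Y : Scheme.{u}} (f : X ⟶ Y) [Flat f] (x : X) :
    ringKrullDim (Y.presheaf.stalk (f x)) ≤ ringKrullDim (X.presheaf.stalk x) := by
  rw [ringKrullDim_stalk_eq_coheight, ringKrullDim_stalk_eq_coheight]
  exact_mod_cast coheight_apply_le f (Flat.generalizingMap f) x

theorem ringKrullDim_stalk_eq {X Y : Scheme.{u}} (e : X ⟶ Y) [Etale e] (x : X) :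
    ringKrullDim (Y.presheaf.stalk (e x)) = ringKrullDim (X.presheaf.stalk x) := by
  rw [ringKrullDim_stalk_eq_coheight, ringKrullDim_stalk_eq_coheight, coheight_apply_eq_of_etale]

theorem topologicalKrullDim_eq_iSup (X : Scheme.{u}) :
    topologicalKrullDim X = ⨆ x : X, (coheight x : WithBot ℕ∞) := by
  rw [← Order.krullDim_eq_iSup_coheight]
  exact @Order.krullDim_eq_of_orderIso _ _ _ _ (irreducibleSetEquivPoints (α := X))

theorem topologicalKrullDim_opens_eq {X : Scheme.{u}} (U : X.Opens) :
    topologicalKrullDim (U : Set X) = ⨆ x : (U : Set X), (coheight (x : X) : WithBot ℕ∞) := by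
  refine (topologicalKrullDim_eq_iSup U.toScheme).trans (iSup_congr fun x => ?_)
  exact congrArg _ (coheight_apply_eq_of_etale U.ι x).symm

theorem localDim_apply_eq {X Y : Scheme.{u}} (e : X ⟶ Y) [Etale e] (x : X) :
    FlatMor.localDim Y (e x) = FlatMor.localDim X x := by
  apply le_antisymm
  · refine le_iInf fun U => ?_
    let V : Y.Opens := ⟨e '' (U.1 : Set X), e.isOpenMap _ U.1.2⟩
    refine (iInf_le _ ⟨V, ⟨x, U.2, rfl⟩⟩).trans ?_
    rw [topologicalKrullDim_opens_eq, topologicalKrullDim_opens_eq]
    refine iSup_le fun ⟨y, hy⟩ => ?_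
    obtain ⟨z, hz, rfl⟩ := hy
    exact (le_of_eq (by rw [coheight_apply_eq_of_etale])).trans
      (le_iSup (fun w : (U.1 : Set X) => (coheight (w : X) : WithBot ℕ∞)) ⟨z, hz⟩)
  · refine le_iInf fun V => ?_
    refine (iInf_le _ ⟨(e ⁻¹ᵁ V.1), V.2⟩).trans ?_
    rw [topologicalKrullDim_opens_eq, topologicalKrullDim_opens_eq]
    refine iSup_le fun ⟨z, hz⟩ => ?_
    exact (le_of_eq (by rw [coheight_apply_eq_of_etale])).trans
      (le_iSup (fun w : (V.1 : Set Y) => (coheight (w : Y) : WithBot ℕ∞)) ⟨e z, hz⟩)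

theorem topologicalKrullDim_le_of_lqf {X Y : Scheme.{u}} (f : X ⟶ Y) [LocallyQuasiFinite f] :
    topologicalKrullDim X ≤ topologicalKrullDim Y := by
  rw [topologicalKrullDim_eq_iSup, topologicalKrullDim_eq_iSup]
  exact iSup_le fun x => (WithBot.coe_le_coe.2 (coheight_le_apply f x)).trans
    (le_iSup (fun y : Y => (coheight y : WithBot ℕ∞)) (f x))

theorem topologicalKrullDim_le_of_surjective_etale {X Y : Scheme.{u}} (e : X ⟶ Y) [Etale e] [Surjective e] :
    topologicalKrullDim Y ≤ topologicalKrullDim X := by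
  rw [topologicalKrullDim_eq_iSup, topologicalKrullDim_eq_iSup]
  refine iSup_le fun y => ?_
  obtain ⟨x, rfl⟩ := e.surjective y
  exact (le_of_eq (by rw [coheight_apply_eq_of_etale])).trans
    (le_iSup (fun z : X => (coheight z : WithBot ℕ∞)) x)

end Groth.Agent.AlgSpD
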