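import Groth.Agent.AlgSpCov.LocPBasic
import Groth.Agent.AlgSpB.Points
import Groth.Agent.AlgSp.Space
import Groth.Agent.AlgSpD.EtaleTop

/-!
# Properties of pointed schemes read on etale charts of algebraic spaces
-/

universe u

open CategoryTheory CategoryTheory.Limits AlgebraicGeometry Opposite

set_option backward.isDefEq.respectTransparency false

namespace Groth.Agent.AlgSpD

open Groth.Agent

variable {S : Scheme.{u}}

/-- Every point of an algebraic space lies on a chart. -/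
theorem exists_chart (X : AlgSp.Space S) (x : AlgSp.Points X.obj) :
    ∃ (U : Over S) (a : (AlgSp.yon S).obj U ⟶ X.obj) (u : ↥U.left),
      AlgSp.RepWith @Etale a ∧ AlgSp.Points.ofPt a u = x := by
  obtain ⟨U, a, ha, has⟩ := X.property.atlas
  obtain ⟨u, hu⟩ := AlgSpB.surjective_ofPt has x
  exact ⟨U, a, u, ha, hu⟩

/-- Two charts through one point have a common refinement. -/
theorem exists_common_chart {F : AlgSp.Sp S} {U V : Over S} {a : (AlgSp.yon S).obj U ⟶ F}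
    {b : (AlgSp.yon S).obj V ⟶ F} (ha : AlgSp.RepWith @Etale a) (hb : AlgSp.RepWith @Etale b)
    {u : ↥U.left} {v : ↥V.left} (e : AlgSp.Points.ofPt a u = AlgSp.Points.ofPt b v) :
    ∃ (W : Over S) (p : W ⟶ U) (q : W ⟶ V) (w : ↥W.left),
      IsPullback ((AlgSp.yon S).map p) ((AlgSp.yon S).map q) a b ∧ Etale p.left ∧ Etale q.left ∧
        p.left w = u ∧ q.left w = v := by
  obtain ⟨W, p, q, h⟩ := AlgSpB.exists_pullback_yon ha.1 b
  obtain ⟨w, hw1, hw2⟩ := (AlgSpB.ofPt_eq_ofPt_iff h u v).1 e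
  exact ⟨W, p, q, w, h, hb.2 _ _ _ h.flip, ha.2 _ _ _ h, hw1, hw2⟩

/-- For `Q` invariant under etale morphisms some chart and all charts agree. -/
theorem hasAt_iff_chart {Q : ∀ U : Scheme.{u}, ↥U → Prop}
    (hQ : ∀ ⦃U V : Scheme.{u}⦄ (e : U ⟶ V) [Etale e] (u : ↥U), Q U u ↔ Q V (e u))
    {F : AlgSp.Sp S} {U : Over S} {a : (AlgSp.yon S).obj U ⟶ F} (ha : AlgSp.RepWith @Etale a) (u : ↥U.left) :
    AlgSp.HasAt Q F (AlgSp.Points.ofPt a u) ↔ Q U.left u := by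
  refine ⟨?_, fun h => ⟨U, a, u, ha, rfl, h⟩⟩
  rintro ⟨V, b, v, hb, e, hv⟩
  obtain ⟨W, p, q, w, -, hp, hq, hwp, hwq⟩ := exists_common_chart hb ha e
  rw [← hwq]
  rw [← hwp] at hv
  exact (hQ q.left w).1 ((hQ p.left w).2 hv)

/-- The all-charts form. -/
theorem hasAt_iff_forall {Q : ∀ U : Scheme.{u}, ↥U → Prop}
    (hQ : ∀ ⦃U V : Scheme.{u}⦄ (e : U ⟶ V) [Etale e] (u : ↥U), Q U u ↔ Q V (e u))
    (X : AlgSp.Space S) (x : AlgSp.Points X.obj) :
    AlgSp.HasAt Q X.obj x ↔ ∀ (U : Over S) (a : (AlgSp.yon S).obj U ⟶ X.obj) (u : ↥U.left),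
      AlgSp.RepWith @Etale a → AlgSp.Points.ofPt a u = x → Q U.left u := by
  refine ⟨fun h U a u ha hu => (hasAt_iff_chart hQ ha u).1 (hu ▸ h), fun h => ?_⟩
  obtain ⟨U, a, u, ha, hu⟩ := exists_chart X x
  exact ⟨U, a, u, ha, hu, h U a u ha hu⟩

/-- Along an etale morphism the property is preserved and reflected. -/
theorem hasAt_map_iff {Q : ∀ U : Scheme.{u}, ↥U → Prop}
    (hQ : ∀ ⦃U V : Scheme.{u}⦄ (e : U ⟶ V) [Etale e] (u : ↥U), Q U u ↔ Q V (e u))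
    {X Y : AlgSp.Space S} (f : X ⟶ Y) (hf : AlgSp.IsEtaleMor f.hom) (x : AlgSp.Points X.obj) :
    AlgSp.HasAt Q X.obj x ↔ AlgSp.HasAt Q Y.obj (AlgSp.Points.map f.hom x) := by
  obtain ⟨U, a, u, ha, rfl⟩ := exists_chart X x
  rw [AlgSp.Points.map_ofPt, hasAt_iff_chart hQ ha, hasAt_iff_chart hQ (hf a ha)]

/-- A chart diagram of a morphism through a given point of a given chart of the source. -/
theorem exists_diagram_over {X Y : AlgSp.Space S} (f : X ⟶ Y) {U : Over S}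
    {a : (AlgSp.yon S).obj U ⟶ X.obj} (ha : AlgSp.RepWith @Etale a) (u : ↥U.left) {V : Over S}
    {b : (AlgSp.yon S).obj V ⟶ Y.obj} (hb : AlgSp.RepWith @Etale b) {v : ↥V.left}
    (hv : AlgSp.Points.ofPt b v = AlgSp.Points.map f.hom (AlgSp.Points.ofPt a u)) :
    ∃ (R : Over S) (p : R ⟶ U) (h : R ⟶ V) (r : ↥R.left),
      AlgSp.RepWith @Etale ((AlgSp.yon S).map p ≫ a) ∧ Etale p.left ∧
        ((AlgSp.yon S).map p ≫ a) ≫ f.hom = (AlgSp.yon S).map h ≫ b ∧ p.left r = u ∧ h.left r = v := by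
  obtain ⟨R, p, h, sq⟩ := AlgSpB.exists_pullback_yon (Y.property.representable_from_yon (a ≫ f.hom)) b
  rw [AlgSp.Points.map_ofPt] at hv
  obtain ⟨r, h1, h2⟩ := (AlgSpB.ofPt_eq_ofPt_iff sq u v).1 hv.symm
  have : Etale p.left := hb.2 _ _ _ sq.flip
  exact ⟨R, p, h, r, AlgSpB.repWith_etale_map_comp p ha, this,
    (Category.assoc _ _ _).trans sq.w, h1, h2⟩

theorem stalkDim_invariant (d : WithBot ℕ∞) ⦃U V : Scheme.{u}⦄ (e : U ⟶ V) [Etale e] (u : ↥U) :
    ringKrullDim ↥(U.presheaf.stalk u) = d ↔ ringKrullDim ↥(V.presheaf.stalk (e u)) = d := by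
  rw [ringKrullDim_stalk_eq]

theorem localDim_invariant (d : WithBot ℕ∞) ⦃U V : Scheme.{u}⦄ (e : U ⟶ V) [Etale e] (u : ↥U) :
    FlatMor.localDim ↥U u = d ↔ FlatMor.localDim ↥V (e u) = d := by
  rw [localDim_apply_eq]

end Groth.Agent.AlgSpD
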