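import Groth.Agent.AlgSp.AffineMor
import Groth.Agent.AlgSp.QCMor
import Groth.Agent.AlgSp.PointsMor
import Groth.Agent.AlgSp.Sep
import Groth.Agent.AlgSpCov.LocPBasic
import Groth.Agent.AlgSpCov.Instances

/-!
# Integral and finite morphisms of algebraic spaces
-/

universe u

open CategoryTheory CategoryTheory.Limits AlgebraicGeometry Opposite

set_option backward.isDefEq.respectTransparency.types false

namespace Groth.Agent.AlgSpD

open Groth.Agent

variable {S : Scheme.{u}}

/-- A property of affine morphisms tested on affine schemes over the target is the same as being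
representable with that property. -/
theorem affineType_iff (P : MorphismProperty Scheme.{u}) [P.IsStableUnderBaseChange] [IsZariskiLocalAtTarget P]
    (hP : ∀ {A B : Scheme.{u}} (h : A ⟶ B), P h → IsAffineHom h) {F G : AlgSp.Sp S} (a : F ⟶ G) :
    (∀ ⦃Z : Over S⦄, IsAffine Z.left → ∀ (g : (AlgSp.yon S).obj Z ⟶ G),
      ∃ (W : Over S) (i : W ⟶ Z) (fst : (AlgSp.yon S).obj W ⟶ F),
        IsPullback fst ((AlgSp.yon S).map i) a g ∧ IsAffine W.left ∧ P i.left) ↔ AlgSp.RepWith P a := by
  constructor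
  · refine fun h => AlgSp.repWith_of_affine_baseChange a fun Z hZ g Q fst snd sq => ?_
    obtain ⟨W, i, fst', sW, -, hi⟩ := h hZ g
    rw [← sq.isoIsPullback_hom_snd _ _ sW]
    exact (MorphismProperty.cancel_left_of_respectsIso _ _ _).2 ((AlgSp.repWith_yon_map_iff _ i).2 hi)
  · intro h Z hZ g
    have hi : P (h.1.snd g).left := h.2 _ _ _ (h.1.isPullback g)
    have := hP _ hi
    exact ⟨h.1.pullback g, h.1.snd g, h.1.fst g, h.1.isPullback g, isAffine_of_isAffineHom (h.1.snd g).left, hi⟩

theorem isIntegralMor_iff {F G : AlgSp.Sp S} (a : F ⟶ G) :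
    AlgSp.IsIntegralMor a ↔ AlgSp.RepWith @IsIntegralHom a :=
  affineType_iff @IsIntegralHom (fun h (hh : IsIntegralHom h) => inferInstance) a

theorem isFiniteMor_iff {F G : AlgSp.Sp S} (a : F ⟶ G) :
    AlgSp.IsFiniteMor a ↔ AlgSp.RepWith @IsFinite a :=
  affineType_iff @IsFinite (fun h (hh : IsFinite h) => inferInstance) a

/-- A finite morphism is an integral morphism locally of finite type. -/
theorem isFiniteMor_iff_integral {X Y : AlgSp.Space S} (f : X.obj ⟶ Y.obj) :
    AlgSp.IsFiniteMor f ↔ AlgSp.IsIntegralMor f ∧ AlgSp.LocP @LocallyOfFiniteType f := by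
  rw [isFiniteMor_iff, isIntegralMor_iff]
  constructor
  · intro h
    exact ⟨AlgSp.repWith_mono (Q := @IsIntegralHom) (fun g (hg : IsFinite g) => (inferInstance : IsIntegralHom g)) h,
      AlgSpCov.locP_of_repWith AlgSpCov.etaleLocal_locallyOfFiniteType
        (AlgSp.repWith_mono (Q := @LocallyOfFiniteType) (fun g (hg : IsFinite g) => (inferInstance : LocallyOfFiniteType g)) h)⟩
  · rintro ⟨h1, h2⟩
    have h3 := AlgSpCov.repWith_of_locP AlgSpCov.etaleLocal_locallyOfFiniteType X.property Y.property h1.1 h2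
    exact ⟨h1.1, fun U V g fst snd sq => (IsFinite.iff_isIntegralHom_and_locallyOfFiniteType _).2
      ⟨h1.2 g fst snd sq, h3.2 g fst snd sq⟩⟩

/-- An integral morphism is an affine universally closed morphism. -/
theorem isIntegralMor_iff_affine {X Y : AlgSp.Space S} (f : X.obj ⟶ Y.obj) :
    AlgSp.IsIntegralMor f ↔ AlgSp.IsAffineMor f ∧ AlgSp.IsUnivClosedMor f := by
  rw [isIntegralMor_iff, AlgSp.isAffineMor_iff]
  constructor
  · intro h
    exact ⟨AlgSp.repWith_mono (Q := @IsAffineHom) (fun g (hg : IsIntegralHom g) => (inferInstance : IsAffineHom g)) h,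
      AlgSp.isUnivClosedMor_of_repWith (AlgSp.repWith_mono (Q := @UniversallyClosed) (fun g (hg : IsIntegralHom g) => (inferInstance : UniversallyClosed g)) h)⟩
  · rintro ⟨h1, h2⟩
    have h3 := (AlgSp.repWith_universallyClosed_iff f h1.1).2 h2
    exact ⟨h1.1, fun U V g fst snd sq => IsIntegralHom.iff_universallyClosed_and_isAffineHom.2
      ⟨h3.2 g fst snd sq, h1.2 g fst snd sq⟩⟩

/-- A finite morphism is an affine proper morphism. -/
theorem isFiniteMor_iff_proper {X Y : AlgSp.Space S} (f : X.obj ⟶ Y.obj) :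
    AlgSp.IsFiniteMor f ↔ AlgSp.IsAffineMor f ∧ AlgSp.IsProperMor f := by
  rw [isFiniteMor_iff_integral, isIntegralMor_iff_affine]
  constructor
  · rintro ⟨⟨h1, h2⟩, h3⟩
    have h1' := (AlgSp.isAffineMor_iff f).1 h1
    refine ⟨h1, ?_, ⟨h3, ?_⟩, h2⟩
    · exact (AlgSp.repWith_diagonal_iff_of_representable @IsClosedImmersion @IsSeparated
        (fun h => ⟨fun hh => ⟨hh⟩, fun hh => hh.1⟩) X.property h1'.1).2
          (AlgSp.repWith_mono (Q := @IsSeparated) (fun g (hg : IsAffineHom g) => (inferInstance : IsSeparated g)) h1')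
    · exact AlgSp.isQuasiCompactMor_of_repWith Y.property
        (AlgSp.repWith_mono (Q := @QuasiCompact) (fun g (hg : IsAffineHom g) => (inferInstance : QuasiCompact g)) h1')
  · rintro ⟨h1, -, ⟨h3, -⟩, h2⟩
    exact ⟨⟨h1, h2⟩, h3⟩

/-- Integral morphisms descend along etale surjections from schemes. -/
theorem repWith_descend {P : MorphismProperty Scheme.{u}} [P.IsStableUnderBaseChange]
    [P.IsLocalAtTarget Scheme.fppfPrecoverage] (hP : ∀ {A B : Scheme.{u}} (h : A ⟶ B), P h → IsAffineHom h)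
    {X Y : AlgSp.Space S} (f : X.obj ⟶ Y.obj) {V : Over S}
    (p : (AlgSp.yon S).obj V ⟶ Y.obj) (hp : AlgSp.RepWith @Etale p) (hps : AlgSp.RepWith @Surjective p)
    {Q : AlgSp.Sp S} {fst : Q ⟶ X.obj} {snd : Q ⟶ (AlgSp.yon S).obj V} (sq : IsPullback fst snd f p)
    (h : AlgSp.RepWith P snd) : AlgSp.RepWith P f := by
  have := AlgSp.isLocallySurjective_of_etale_surjective p hp hps
  have ha := AlgSp.repWith_isAffineHom_of_baseChange f p sq
    (AlgSp.repWith_mono (fun g hg => hP g hg) h)
  exact AlgSp.repWith_of_isPullback_of_isLocallySurjective f ha.1 p _ _ sq P h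

end Groth.Agent.AlgSpD
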