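import Groth.Agent.AlgSpD.IntegralMor
import Groth.Agent.AlgSp.ProperSub
import Groth.Agent.AlgSp.Diag
import Mathlib.AlgebraicGeometry.ZariskisMainTheorem
import Groth.Agent.AlgSp.LocPFin
import Groth.Agent.AlgSpCov.Listed

/-!
# Proper morphisms of algebraic spaces
-/

universe u

open CategoryTheory CategoryTheory.Limits AlgebraicGeometry Opposite

set_option backward.isDefEq.respectTransparency.types false

namespace Groth.Agent.AlgSpD

open Groth.Agent

variable {S : Scheme.{u}}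

theorem isSeparatedMor_comp {X Y Z : AlgSp.Sp S} {f : X ⟶ Y} {g : Y ⟶ Z} (hf : AlgSp.IsSeparatedMor f)
    (hg : AlgSp.IsSeparatedMor g) : AlgSp.IsSeparatedMor (f ≫ g) :=
  MorphismProperty.comp_mem (AlgSp.RepWith (S := S) @IsClosedImmersion).diagonal f g hf hg

/-- Properness is stable under base change. -/
theorem isProperMor_baseChange {X Y X' Y' : AlgSp.Sp S} (hX : AlgSp.IsAlgSpace X) (hY : AlgSp.IsAlgSpace Y)
    {f : X ⟶ Y} {g : Y' ⟶ Y} {fst : X' ⟶ X} {f' : X' ⟶ Y'} (sq : IsPullback fst f' f g)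
    (hf : AlgSp.IsProperMor f) : AlgSp.IsProperMor f' :=
  ⟨AlgSp.repWith_diagonal_baseChange sq hf.1,
    ⟨AlgSpCov.locP_baseChange AlgSpCov.etaleLocal_locallyOfFiniteType hX hY sq hf.2.1.1,
      AlgSp.isQuasiCompactMor_baseChange sq hf.2.1.2⟩,
    AlgSp.isUnivClosedMor_baseChange sq hf.2.2⟩

/-- Composites of proper morphisms are proper. -/
theorem isProperMor_comp {X Y Z : AlgSp.Space S} {f : X.obj ⟶ Y.obj} {g : Y.obj ⟶ Z.obj}
    (hf : AlgSp.IsProperMor f) (hg : AlgSp.IsProperMor g) : AlgSp.IsProperMor (f ≫ g) :=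
  ⟨isSeparatedMor_comp hf.1 hg.1,
    ⟨AlgSpCov.locP_comp AlgSpCov.etaleLocal_locallyOfFiniteType Y.property Z.property hf.2.1.1 hg.2.1.1,
      AlgSp.isQuasiCompactMor_comp X.property Y.property Z.property hf.2.1.2 hg.2.1.2⟩,
    AlgSp.isUnivClosedMor_comp Y.property Z.property hf.2.2 hg.2.2⟩

/-- Being locally of finite type is tested on affine schemes over the target. -/
theorem locP_lft_of_affine {X Y : AlgSp.Space S} (f : X.obj ⟶ Y.obj)
    (h : ∀ (Z : Over S), IsAffine Z.left → ∀ (g : (AlgSp.yon S).obj Z ⟶ Y.obj) (P : AlgSp.Sp S) (fst : P ⟶ X.obj)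
      (snd : P ⟶ (AlgSp.yon S).obj Z), IsPullback fst snd f g → AlgSp.LocP @LocallyOfFiniteType snd) :
    AlgSp.LocP @LocallyOfFiniteType f := by
  intro U V a b k ha hb w
  refine IsZariskiLocalAtTarget.of_forall_exists_morphismRestrict fun v => ?_
  obtain ⟨W, hW, hvW, -⟩ := exists_isAffineOpen_mem_and_subset (x := v) (U := ⊤) trivial
  refine ⟨W, hvW, ?_⟩
  let Z : Over S := Over.mk (W.ι ≫ V.hom)
  let j : Z ⟶ V := Over.homMk W.ι rfl
  let U' : Over S := Over.mk ((k.left ⁻¹ᵁ W).ι ≫ U.hom)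
  let i : U' ⟶ U := Over.homMk (k.left ⁻¹ᵁ W).ι rfl
  let k' : U' ⟶ Z := Over.homMk (k.left ∣_ W) (by
    change (k.left ∣_ W) ≫ W.ι ≫ V.hom = (k.left ⁻¹ᵁ W).ι ≫ U.hom
    rw [morphismRestrict_ι_assoc, Over.w k])
  have hik : i ≫ k = k' ≫ j := by ext; exact (morphismRestrict_ι _ _).symm
  have ha' : AlgSp.RepWith @Etale ((AlgSp.yon S).map i ≫ a) :=
    (AlgSp.RepWith _).comp_mem _ _ ((AlgSp.repWith_yon_map_iff _ _).2 (inferInstanceAs (Etale (k.left ⁻¹ᵁ W).ι))) ha
  have hb' : AlgSp.RepWith @Etale ((AlgSp.yon S).map j ≫ b) :=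
    (AlgSp.RepWith _).comp_mem _ _ ((AlgSp.repWith_yon_map_iff _ _).2 (inferInstanceAs (Etale W.ι))) hb
  have w' : ((AlgSp.yon S).map i ≫ a) ≫ f = (AlgSp.yon S).map k' ≫ (AlgSp.yon S).map j ≫ b := by
    rw [Category.assoc, w, ← Category.assoc, ← Functor.map_comp, hik, Functor.map_comp, Category.assoc]
  have hQ := IsPullback.of_hasPullback f ((AlgSp.yon S).map j ≫ b)
  obtain ⟨m, hm, -, hm2⟩ := AlgSpCov.etale_toPullback ha' hb' w' hQ
  exact h Z hW _ _ _ _ hQ m (𝟙 _) k' hm (AlgSp.repWith_id _ Z) (by rw [hm2, Category.comp_id])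

/-- Properness is tested on affine schemes over the target. -/
theorem isProperMor_iff_affine {X Y : AlgSp.Space S} (f : X.obj ⟶ Y.obj) :
    AlgSp.IsProperMor f ↔
      ∀ (Z : Over S), IsAffine Z.left → ∀ (g : (AlgSp.yon S).obj Z ⟶ Y.obj) (P : AlgSp.Sp S) (fst : P ⟶ X.obj)
        (snd : P ⟶ (AlgSp.yon S).obj Z), IsPullback fst snd f g → AlgSp.IsProperMor snd := by
  constructor
  · exact fun h _ _ _ _ _ _ sq => isProperMor_baseChange X.property Y.property sq h
  · intro h
    refine ⟨AlgSp.repWith_diagonal_of_affine X.property fun Z hZ g P fst snd sq => (h Z hZ g P fst snd sq).1,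
      ⟨locP_lft_of_affine f fun Z hZ g P fst snd sq => (h Z hZ g P fst snd sq).2.1.1,
        AlgSp.isQuasiCompactMor_of_affine X.property Y.property f fun Z hZ g P fst snd sq => ?_⟩,
      (AlgSp.isUnivClosedMor_iff_affine f).2 fun Z hZ g P fst snd sq => ?_⟩
    · have : CompactSpace ↥Z.left := inferInstance
      exact AlgSp.compactSpace_points <| (h Z hZ g P fst snd sq).2.1.2 (AlgSp.IsAlgSpace.yon_obj Z) (AlgSp.isQuasiCompactSp_yon Z) (𝟙 _) (𝟙 P) snd
        IsPullback.of_id_fst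
    · exact (h Z hZ g P fst snd sq).2.2 (AlgSp.IsAlgSpace.yon_obj Z) (𝟙 _) (𝟙 P) snd IsPullback.of_id_fst

/-- Properness descends along etale surjections. -/
theorem isProperMor_descend {X Y : AlgSp.Space S} (f : X.obj ⟶ Y.obj) {V : Over S}
    (p : (AlgSp.yon S).obj V ⟶ Y.obj) (hp : AlgSp.RepWith @Etale p) (hps : AlgSp.RepWith @Surjective p)
    {P : AlgSp.Sp S} {fst : P ⟶ X.obj} {snd : P ⟶ (AlgSp.yon S).obj V} (sq : IsPullback fst snd f p)
    (h : AlgSp.IsProperMor snd) : AlgSp.IsProperMor f :=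
  ⟨AlgSp.repWith_diagonal_descend sq X.property hp hps h.1,
    ⟨AlgSp.locP_of_target_cover AlgSpCov.standard_locallyOfFiniteType X.property Y.property f p hp hps sq h.2.1.1,
      AlgSp.isQuasiCompactMor_of_univOpen_baseChange X.property Y.property (AlgSp.IsAlgSpace.yon_obj V) f p sq
        (AlgSp.isUnivOpenMor_of_repWith (AlgSp.repWith_mono (Q := @UniversallyOpen)
          (fun g (hg : Etale g) => (inferInstance : UniversallyOpen g)) hp))
        ((AlgSp.repWith_surjective_iff p hp.1).1 hps) h.2.1.2⟩,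
    AlgSp.isUnivClosedMor_of_chart f p sq Y.property (AlgSp.IsAlgSpace.yon_obj V) hp hps h.2.2⟩

/-- A morphism from a proper space to a separated space is proper. -/
theorem isProperMor_of_comp {X Y B : AlgSp.Space S} {f : X.obj ⟶ Y.obj} {q : Y.obj ⟶ B.obj}
    (hq : AlgSp.IsSeparatedMor q) (h : AlgSp.IsProperMor (f ≫ q)) : AlgSp.IsProperMor f := by
  have e : f = pullback.lift (𝟙 _) f (by simp) ≫ pullback.snd (f ≫ q) q := by rw [pullback.lift_snd]
  have h1 : AlgSp.RepWith @IsClosedImmersion (pullback.lift (𝟙 _) f (by simp) : X.obj ⟶ pullback (f ≫ q) q) :=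
    MorphismProperty.of_isPullback (pullback_lift_diagonal_isPullback f q) hq
  have hP := AlgSp.isAlgSpace_pullback B.property X.property Y.property (f ≫ q) q
  rw [e]
  exact isProperMor_comp (X := X) (Y := ⟨_, hP⟩) (Z := Y) (AlgSp.isProperMor_of_isClosedImmersion hP h1)
    (isProperMor_baseChange X.property B.property (IsPullback.of_hasPullback (f ≫ q) q) h)

end Groth.Agent.AlgSpD

namespace Groth.Agent.AlgSpD

open Groth.Agent

variable {S : Scheme.{u}}

/-- Separatedness means that the diagonal is universally closed. -/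
theorem isSeparatedMor_iff_univClosed {X Y : AlgSp.Space S} (f : X.obj ⟶ Y.obj) :
    AlgSp.IsSeparatedMor f ↔ AlgSp.IsUnivClosedMor (pullback.diagonal f) := by
  refine ⟨fun h => AlgSp.isUnivClosedMor_of_repWith
    (AlgSp.repWith_mono (Q := @UniversallyClosed) (fun g (hg : IsClosedImmersion g) => (inferInstance : UniversallyClosed g)) h),
    fun h => ?_⟩
  obtain ⟨h0, h1, h2, h3, -⟩ := AlgSp.diagonal_props X.property f
  have h4 := (AlgSp.repWith_universallyClosed_iff _ h0).2 h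
  refine ⟨h0, fun U V g fst snd sq => ?_⟩
  have : LocallyOfFiniteType snd.left := h1.2 g fst snd sq
  have : Mono snd.left := h2.2 g fst snd sq
  have : IsSeparated snd.left := h3.2 g fst snd sq
  have : UniversallyClosed snd.left := h4.2 g fst snd sq
  have : IsProper snd.left := ⟨⟩
  exact (IsClosedImmersion.iff_isProper_and_mono snd.left).2 ⟨inferInstance, inferInstance⟩

end Groth.Agent.AlgSpD
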