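import Groth.Agent.AlgSpD.EtSite
import Groth.Agent.AlgSpB.FieldPoints
import Groth.Agent.AlgSpB.Points
import Groth.Agent.AlgSpB.Open
import Groth.Agent.AlgSp.Space
import Groth.Prelude.Def_AlgSpOX3
import Mathlib.AlgebraicGeometry.Sites.EtalePoint
import Mathlib.CategoryTheory.Sites.Point.Skyscraper

/-!
# Geometric points give points of the small etale site
-/

universe u

open CategoryTheory CategoryTheory.Limits AlgebraicGeometry Opposite

set_option backward.isDefEq.respectTransparency false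

namespace Groth.Agent.AlgSpD

open Groth.Agent

variable {S : Scheme.{u}} (X : AlgSp.Space S) (p : AlgSp.FieldPt X.obj)

theorem etNbhd_cone_objs (i j : AlgSp.EtNbhd p) : ∃ (k : AlgSp.EtNbhd p) (_ : k ⟶ i) (_ : k ⟶ j), True := by
  obtain ⟨R, f, g, sq⟩ := AlgSpB.exists_pullback_yon (X.property.representable_from_yon i.1.obj.hom) j.1.obj.hom
  have : Etale f.left := j.1.property.2 _ _ _ sq.flip
  let E : AlgSp.EtOver X.obj := AlgSp.EtOver.mk ((AlgSp.yon S).map f ≫ i.1.obj.hom)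
    ((AlgSp.RepWith _).comp_mem _ _ ((AlgSp.repWith_yon_map_iff _ _).2 ‹_›) i.1.property)
  obtain ⟨l, hl⟩ := (AlgSp.yon S).map_surjective (sq.lift ((AlgSp.yon S).map i.2.1) ((AlgSp.yon S).map j.2.1)
    (i.2.2.trans j.2.2.symm))
  have h1 : l ≫ f = i.2.1 := (AlgSp.yon S).map_injective (by rw [Functor.map_comp, hl, sq.lift_fst])
  have h2 : l ≫ g = j.2.1 := (AlgSp.yon S).map_injective (by rw [Functor.map_comp, hl, sq.lift_snd])
  let u : (AlgSp.FieldPt.liftsTo p).obj E := ⟨l, by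
    change (AlgSp.yon S).map l ≫ (AlgSp.yon S).map f ≫ i.1.obj.hom = _
    rw [← Category.assoc, ← Functor.map_comp, h1]; exact i.2.2⟩
  exact ⟨⟨E, u⟩, CategoryOfElements.homMk _ _ (AlgSp.EtOver.homMk f rfl) (Subtype.ext h1),
    CategoryOfElements.homMk _ _ (AlgSp.EtOver.homMk g sq.w.symm) (Subtype.ext h2), trivial⟩

theorem etNbhd_cone_maps {i j : AlgSp.EtNbhd p} (φ ψ : i ⟶ j) :
    ∃ (k : AlgSp.EtNbhd p) (h : k ⟶ i), h ≫ φ = h ≫ ψ := by
  obtain ⟨R, f, g, sq⟩ := AlgSpB.exists_pullback_yon (X.property.representable_from_yon j.1.obj.hom) j.1.obj.hom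
  have hf : Etale f.left := j.1.property.2 _ _ _ sq.flip
  obtain ⟨L, hL⟩ := (AlgSp.yon S).map_surjective (sq.lift ((AlgSp.yon S).map φ.val.hom.left)
    ((AlgSp.yon S).map ψ.val.hom.left) ((AlgSp.EtOver.w φ.val).trans (AlgSp.EtOver.w ψ.val).symm))
  obtain ⟨δ, hδ⟩ := (AlgSp.yon S).map_surjective (sq.lift (𝟙 _) (𝟙 _) rfl)
  have hL1 : L ≫ f = φ.val.hom.left := (AlgSp.yon S).map_injective (by rw [Functor.map_comp, hL, sq.lift_fst])
  have hL2 : L ≫ g = ψ.val.hom.left := (AlgSp.yon S).map_injective (by rw [Functor.map_comp, hL, sq.lift_snd])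
  have hδ1 : δ ≫ f = 𝟙 _ := (AlgSp.yon S).map_injective (by
    rw [Functor.map_comp, hδ, sq.lift_fst, CategoryTheory.Functor.map_id])
  have hδ2 : δ ≫ g = 𝟙 _ := (AlgSp.yon S).map_injective (by
    rw [Functor.map_comp, hδ, sq.lift_snd, CategoryTheory.Functor.map_id])
  have hδe : Etale δ.left := by
    refine MorphismProperty.HasOfPostcompProperty.of_postcomp (W := @Etale) δ.left f.left hf ?_
    rw [← Over.comp_left, hδ1, Over.id_left]
    infer_instance
  let w₁ := pullback.fst L δ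
  have eP : IsPullback w₁.left (pullback.snd L δ).left L.left δ.left :=
    (IsPullback.of_hasPullback L δ).map (Over.forget S)
  have : Etale w₁.left := MorphismProperty.of_isPullback eP.flip hδe
  let E : AlgSp.EtOver X.obj := AlgSp.EtOver.mk ((AlgSp.yon S).map w₁ ≫ i.1.obj.hom)
    ((AlgSp.RepWith _).comp_mem _ _ ((AlgSp.repWith_yon_map_iff _ _).2 ‹_›) i.1.property)
  have e1 : i.2.1 ≫ φ.val.hom.left = j.2.1 := congrArg Subtype.val φ.property
  have e2 : i.2.1 ≫ ψ.val.hom.left = j.2.1 := congrArg Subtype.val ψ.property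
  let l : p.pt ⟶ pullback L δ := pullback.lift i.2.1 j.2.1 ((AlgSp.yon S).map_injective (sq.hom_ext
    (by rw [← Functor.map_comp, ← Functor.map_comp, Category.assoc, Category.assoc, hL1, hδ1, Category.comp_id, e1])
    (by rw [← Functor.map_comp, ← Functor.map_comp, Category.assoc, Category.assoc, hL2, hδ2, Category.comp_id, e2])))
  let u : (AlgSp.FieldPt.liftsTo p).obj E := ⟨l, by
    change (AlgSp.yon S).map l ≫ (AlgSp.yon S).map w₁ ≫ i.1.obj.hom = _
    rw [← Category.assoc, ← Functor.map_comp, pullback.lift_fst]; exact i.2.2⟩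
  refine ⟨⟨E, u⟩, CategoryOfElements.homMk _ _ (AlgSp.EtOver.homMk w₁ rfl)
    (Subtype.ext (pullback.lift_fst _ _ _)), ?_⟩
  apply CategoryOfElements.ext
  apply AlgSp.EtOver.hom_ext
  change w₁ ≫ φ.val.hom.left = w₁ ≫ ψ.val.hom.left
  calc w₁ ≫ φ.val.hom.left = (w₁ ≫ L) ≫ f := by rw [Category.assoc, hL1]
    _ = pullback.snd L δ := by rw [pullback.condition, Category.assoc, hδ1, Category.comp_id]
    _ = (w₁ ≫ L) ≫ g := by rw [pullback.condition, Category.assoc, hδ2, Category.comp_id]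
    _ = w₁ ≫ ψ.val.hom.left := by rw [Category.assoc, hL2]

variable (hp : p.IsGeometric)
include hp

theorem exists_lift_chart {U : Over S} (a : (AlgSp.yon S).obj U ⟶ X.obj) (ha : AlgSp.RepWith @Etale a)
    (has : AlgSp.RepWith @Surjective a) : ∃ c : p.pt ⟶ U, (AlgSp.yon S).map c ≫ a = p.toHom := by
  obtain ⟨t, ht⟩ := AlgSpB.surjective_ofPt has (AlgSp.Points.mk p)
  obtain ⟨c, hc, -⟩ := AlgSpB.exists_lift_geometric ha p hp t ht
  exact ⟨c, hc⟩

theorem etNbhd_isCofiltered : IsCofiltered (AlgSp.EtNbhd p) :=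
  have : IsCofilteredOrEmpty (AlgSp.EtNbhd p) :=
    ⟨etNbhd_cone_objs X p, fun _ _ φ ψ => etNbhd_cone_maps X p φ ψ⟩
  have : Nonempty (AlgSp.EtNbhd p) := by
    obtain ⟨U, a, ha, has⟩ := X.property.atlas
    obtain ⟨c, hc⟩ := exists_lift_chart X p hp a ha has
    exact ⟨⟨AlgSp.EtOver.mk a ha, ⟨c, hc⟩⟩⟩
  ⟨⟩

theorem etNbhd_initiallySmall : InitiallySmall.{u} (AlgSp.EtNbhd p) := by
  have := etNbhd_isCofiltered X p hp
  obtain ⟨A, a, ha, has⟩ := X.property.atlas
  obtain ⟨ā, hā⟩ := exists_lift_chart X p hp a ha has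
  let G : A.left.AffineEtale ⥤ AlgSp.EtOver X.obj := Scheme.AffineEtale.Spec A.left ⋙ AlgSp.EtOver.ofChart a ha
  refine initiallySmall_of_essentiallySmall_weakly_initial_objectProperty
    (Functor.Elements.precomp G (AlgSp.FieldPt.liftsTo p)).essImage ?_
  rintro ⟨E, u⟩
  obtain ⟨W, f, g, sq⟩ := AlgSpB.exists_pullback_yon (X.property.representable_from_yon E.obj.hom) a
  have : Etale g.left := E.property.2 _ _ _ sq
  obtain ⟨l, hl⟩ := (AlgSp.yon S).map_surjective (sq.lift ((AlgSp.yon S).map u.1) ((AlgSp.yon S).map ā)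
    (u.2.trans hā.symm))
  have h1 : l ≫ f = u.1 := (AlgSp.yon S).map_injective (by rw [Functor.map_comp, hl, sq.lift_fst])
  let o : ↥p.pt.left := IsLocalRing.closedPoint p.K
  obtain ⟨R, j, _, hj, -⟩ := Scheme.exists_affine_mem_range_and_range_subset (x := l.left o) (U := ⊤) (by simp)
  have hr : Set.range l.left ⊆ Set.range j := by
    rintro _ ⟨z, rfl⟩
    have : Subsingleton ↥p.pt.left := inferInstanceAs (Subsingleton (PrimeSpectrum p.K))
    rwa [Subsingleton.elim z o]
  let y := IsOpenImmersion.lift j l.left hr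
  have : Etale (j ≫ g.left) := inferInstance
  let V : A.left.AffineEtale := Scheme.AffineEtale.mk (j ≫ g.left)
  let jO : (G.obj V).obj.left ⟶ W := Over.homMk j (by
    change j ≫ W.hom = (j ≫ g.left) ≫ A.hom
    rw [Category.assoc, Over.w g])
  let yO : p.pt ⟶ (G.obj V).obj.left := Over.homMk y (by
    change y ≫ (j ≫ g.left) ≫ A.hom = p.pt.hom
    rw [Category.assoc, Over.w g, ← Category.assoc, IsOpenImmersion.lift_fac, Over.w l])
  have hyj : yO ≫ jO = l := Over.OverMorphism.ext (IsOpenImmersion.lift_fac _ _ _)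
  have hjg : AlgSp.EtOver.homOfEtale (U := A) ((Scheme.AffineEtale.Spec A.left).obj V) = jO ≫ g :=
    Over.OverMorphism.ext rfl
  have hwG : (AlgSp.yon S).map (jO ≫ f) ≫ E.obj.hom = (G.obj V).obj.hom := by
    rw [Functor.map_comp, Category.assoc, sq.w, ← Category.assoc, ← Functor.map_comp, ← hjg]
    rfl
  refine ⟨_, ⟨⟨V, ⟨yO, ?_⟩⟩, ⟨Iso.refl _⟩⟩, ⟨CategoryOfElements.homMk _ _ (AlgSp.EtOver.homMk (jO ≫ f) hwG) ?_⟩⟩
  · rw [← hwG, ← Category.assoc, ← Functor.map_comp, ← Category.assoc, hyj, h1]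
    exact u.2
  · exact Subtype.ext (by change yO ≫ jO ≫ f = u.1; rw [← Category.assoc, hyj, h1])

/-- Lifts of a geometric point extend along morphisms of the site through any point of the fibre. -/
theorem exists_lift_of_mem_range {E E' : AlgSp.EtOver X.obj} (g : E' ⟶ E)
    (u : (AlgSp.FieldPt.liftsTo p).obj E) (w : ↥E'.obj.left.left)
    (hw : g.hom.left.left w = u.1.left (IsLocalRing.closedPoint p.K)) :
    ∃ c : (AlgSp.FieldPt.liftsTo p).obj E', (AlgSp.FieldPt.liftsTo p).map g c = u := by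
  have he : AlgSp.RepWith @Etale ((AlgSp.yon S).map g.hom.left) :=
    (AlgSp.repWith_yon_map_iff _ _).2 (AlgSp.EtOver.etale_left g)
  let q : AlgSp.FieldPt ((AlgSp.yon S).obj E.obj.left) := ⟨p.K, p.str, ⟨u.1⟩⟩
  have hq : q.toHom = (AlgSp.yon S).map u.1 := by
    apply (AlgSp.J S).uliftYonedaEquiv.injective
    rw [AlgSp.FieldPt.uliftYonedaEquiv_toHom, GrothendieckTopology.uliftYonedaEquiv_uliftYoneda_map]
  have hpt' : AlgSp.Points.ofPt ((AlgSp.yon S).map g.hom.left) w = AlgSp.Points.mk q := by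
    rw [← AlgSp.Points.ofPt_toHom q (IsLocalRing.closedPoint p.K), hq]
    refine (AlgSp.Points.schemeEquiv E.obj.left).symm.injective ?_
    exact (AlgSp.Points.toScheme_ofPt g.hom.left w).trans
      (hw.trans (AlgSp.Points.toScheme_ofPt u.1 (IsLocalRing.closedPoint p.K)).symm)
  obtain ⟨c, hc, -⟩ := AlgSpB.exists_lift_geometric he q hp w hpt'
  have hc' : c ≫ g.hom.left = u.1 := (AlgSp.yon S).map_injective (by rw [Functor.map_comp, hc, hq])
  refine ⟨⟨c, ?_⟩, Subtype.ext hc'⟩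
  rw [← AlgSp.EtOver.w g, ← Category.assoc, ← Functor.map_comp, hc']
  exact u.2

/-- The point of the small etale site given by a geometric point. -/
noncomputable def stalkPoint : GrothendieckTopology.Point.{u} (AlgSp.etTop X.obj) where
  fiber := AlgSp.FieldPt.liftsTo p
  isCofiltered := etNbhd_isCofiltered X p hp
  initiallySmall := etNbhd_initiallySmall X p hp
  jointly_surjective {E} R hR u := by
    obtain ⟨E', g, hg, hx⟩ := (mem_etTop_iff R).1 hR (u.1.left (IsLocalRing.closedPoint p.K))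
    obtain ⟨w, hw⟩ := hx
    obtain ⟨c, hc⟩ := exists_lift_of_mem_range X p hp g u w hw
    exact ⟨E', g, hg, c, hc⟩

omit hp

/-- A point of an object lifts to a geometric point. -/
theorem exists_geometric_lift (E : AlgSp.EtOver X.obj) (z : ↥E.obj.left.left) :
    ∃ (q : AlgSp.FieldPt X.obj) (_ : q.IsGeometric) (l : (AlgSp.FieldPt.liftsTo q).obj E),
      l.1.left (IsLocalRing.closedPoint q.K) = z ∧ AlgSp.Points.mk q = AlgSp.Points.ofPt E.obj.hom z := by
  let K := AlgebraicClosure ↥(E.obj.left.left.residueField z)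
  let g : Spec (CommRingCat.of K) ⟶ E.obj.left.left :=
    Spec.map (CommRingCat.ofHom (algebraMap ↥(E.obj.left.left.residueField z) K)) ≫
      E.obj.left.left.fromSpecResidueField z
  let str : Spec (CommRingCat.of K) ⟶ S := g ≫ E.obj.left.hom
  let l : Over.mk str ⟶ E.obj.left := Over.homMk g rfl
  let q : AlgSp.FieldPt X.obj :=
    { K := K, str := str, val := (AlgSp.J S).uliftYonedaEquiv ((AlgSp.yon S).map l ≫ E.obj.hom) }
  have hq : q.toHom = (AlgSp.yon S).map l ≫ E.obj.hom := by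
    exact (AlgSp.J S).uliftYonedaEquiv.symm_apply_apply _
  have hl : ∀ o, l.left o = z := fun o => by
    show g o = z
    exact (Scheme.Hom.comp_apply _ _ o).trans (Scheme.fromSpecResidueField_apply _ _)
  refine ⟨q, AlgebraicClosure.isAlgClosed _, ⟨l, hq.symm⟩, hl _, ?_⟩
  rw [← AlgSp.Points.ofPt_toHom q (IsLocalRing.closedPoint q.K), hq, AlgSpB.ofPt_map_comp, hl]

end Groth.Agent.AlgSpD
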