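import Groth.Agent.AlgSpD.HasAt
import Groth.Agent.AlgSp.FppfLocal2
import Groth.Agent.AlgSpB.Open
import Groth.Agent.S10215

/-!
# Points of decent algebraic spaces: quasi-compact field points and finite fibres of charts
-/

universe u

open CategoryTheory CategoryTheory.Limits AlgebraicGeometry Opposite

set_option backward.isDefEq.respectTransparency false

namespace Groth.Agent.AlgSpD

open Groth.Agent

variable {S : Scheme.{u}}

theorem quasiCompact_of_finite {X Y : Scheme.{u}} (f : X ⟶ Y) [Finite ↥X] : QuasiCompact f :=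
  ⟨fun _ _ _ => (Set.toFinite _).isCompact⟩

/-- Quasi-compact field points have finite fibres on quasi-compact etale charts. -/
theorem finite_preimage_of_qc_point {F : AlgSp.Sp S} (q : AlgSp.FieldPt F)
    (hq : AlgSp.RepWith @QuasiCompact q.toHom) {V : Over S} [CompactSpace ↥V.left]
    (b : (AlgSp.yon S).obj V ⟶ F) (hb : AlgSp.RepWith @Etale b) :
    (AlgSp.Points.ofPt b ⁻¹' {AlgSp.Points.mk q}).Finite := by
  obtain ⟨P, fst, snd, sq⟩ := AlgSpB.exists_pullback_yon hq.1 b
  have : Etale fst.left := hb.2 _ _ _ sq.flip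
  have : QuasiCompact snd.left := hq.2 _ _ _ sq
  have : CompactSpace ↥P.left := QuasiCompact.compactSpace_of_compactSpace snd.left
  have : IsAffine q.pt.left := inferInstanceAs (IsAffine (Spec (CommRingCat.of q.K)))
  have : QuasiCompact fst.left := HasAffineProperty.iff_of_isAffine.2 (by infer_instance)
  have := locallyQuasiFinite_of_etale fst.left
  refine ((fst.left.finite_preimage_singleton (IsLocalRing.closedPoint q.K)).image snd.left).subset fun v hv => ?_
  obtain ⟨w, hw, rfl⟩ := (AlgSpB.ofPt_eq_ofPt_iff sq (IsLocalRing.closedPoint q.K) v).1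
    ((AlgSp.Points.ofPt_toHom q _).trans hv.symm)
  exact ⟨w, hw, rfl⟩

/-- A field point equivalent to a monomorphic one factors through it. -/
theorem exists_factor_of_mono (X : AlgSp.Space S) (p q : AlgSp.FieldPt X.obj) (hm : Mono p.toHom)
    (h : AlgSp.Points.mk q = AlgSp.Points.mk p) :
    ∃ c : q.pt ⟶ p.pt, (AlgSp.yon S).map c ≫ p.toHom = q.toHom :=
  have := hm
  (S10215.result X p q h.symm).exists

theorem repWith_quasiCompact_of_eq (X : AlgSp.Space S) (p q : AlgSp.FieldPt X.obj) (hm : Mono p.toHom)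
    (hp : AlgSp.RepWith @QuasiCompact p.toHom) (h : AlgSp.Points.mk q = AlgSp.Points.mk p) :
    AlgSp.RepWith @QuasiCompact q.toHom := by
  obtain ⟨c, hc⟩ := exists_factor_of_mono X p q hm h
  rw [← hc]
  exact (AlgSp.RepWith _).comp_mem _ _ ((AlgSp.repWith_yon_map_iff _ _).2
    (have : Finite ↥q.pt.left := inferInstanceAs (Finite (PrimeSpectrum q.K)); quasiCompact_of_finite c.left)) hp

/-- Finiteness of fibres on affine charts spreads from any jointly surjective family. -/
theorem finite_preimage_of_cover (X : AlgSp.Space S) (x : AlgSp.Points X.obj) {ι : Type*}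
    (U : ι → Over S) (φ : ∀ i, (AlgSp.yon S).obj (U i) ⟶ X.obj) (hφ : ∀ i, AlgSp.RepWith @Etale (φ i))
    (hsurj : ∀ y : AlgSp.Points X.obj, ∃ (i : ι) (v : ↥(U i).left), AlgSp.Points.ofPt (φ i) v = y)
    (hfin : ∀ (i : ι) (W : (U i).left.Opens), IsAffineOpen W →
      (AlgSp.Points.ofPt (φ i) ⁻¹' {x} ∩ (W : Set ↥(U i).left)).Finite)
    {V : Over S} [CompactSpace ↥V.left] (ψ : (AlgSp.yon S).obj V ⟶ X.obj) (hψ : AlgSp.RepWith @Etale ψ) :
    (AlgSp.Points.ofPt ψ ⁻¹' {x}).Finite := by
  have H : ∀ v : ↥V.left, ∃ O : Set ↥V.left, IsOpen O ∧ v ∈ O ∧ (AlgSp.Points.ofPt ψ ⁻¹' {x} ∩ O).Finite := by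
    intro v
    obtain ⟨i, w, hw⟩ := hsurj (AlgSp.Points.ofPt ψ v)
    obtain ⟨R, p, q, r, sq, hp, hq, hr, hr'⟩ := exists_common_chart hψ (hφ i) hw.symm
    obtain ⟨W, hW, hwW, -⟩ := exists_isAffineOpen_mem_and_subset (x := q.left r) (U := ⊤) trivial
    obtain ⟨A, hA, hrA, hAW⟩ := exists_isAffineOpen_mem_and_subset (x := r) (U := q.left ⁻¹ᵁ W) hwW
    refine ⟨p.left '' (A : Set ↥R.left), p.left.isOpenMap _ A.2, ⟨r, hrA, hr⟩, ?_⟩
    let g : A.toScheme ⟶ W.toScheme := q.left.resLE W A hAW
    have : IsAffine A.toScheme := hA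
    have : IsAffine W.toScheme := hW
    have : Etale g := by dsimp [g, Scheme.Hom.resLE]; infer_instance
    have := locallyQuasiFinite_of_etale g
    have hfW : ((Subtype.val : ↥W → _) ⁻¹' (AlgSp.Points.ofPt (φ i) ⁻¹' {x})).Finite := by
      refine Set.Finite.of_finite_image ((hfin i W hW).subset ?_) Subtype.val_injective.injOn
      rintro _ ⟨z, hz, rfl⟩
      exact ⟨hz, z.2⟩
    refine ((g.finite_preimage hfW).image fun a : ↥A => p.left a.1).subset ?_
    rintro _ ⟨hz, a, ha, rfl⟩
    refine ⟨⟨a, ha⟩, ?_, rfl⟩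
    have key : (g ⟨a, ha⟩).1 = q.left a := congrArg (fun m : A.toScheme ⟶ _ => m ⟨a, ha⟩) (Scheme.Hom.resLE_comp_ι q.left hAW)
    rw [Set.mem_preimage, Set.mem_preimage, key, Set.mem_preimage, Set.mem_singleton_iff]
    rw [← ((AlgSpB.ofPt_eq_ofPt_iff sq _ _).2 ⟨a, rfl, rfl⟩)]
    exact hz
  choose O hO hvO hf using H
  obtain ⟨t, ht⟩ := isCompact_univ.elim_finite_subcover O hO fun v _ => Set.mem_iUnion.2 ⟨v, hvO v⟩
  refine (t.finite_toSet.biUnion fun v _ => hf v).subset fun v hv => ?_
  obtain ⟨w, hw, hvw⟩ := Set.mem_iUnion₂.1 (ht trivial)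
  exact Set.mem_iUnion₂.2 ⟨w, hw, hv, hvw⟩

/-- A monomorphic field point with finite fibres on affine opens of one atlas is quasi-compact. -/
theorem repWith_quasiCompact_of_finite (X : AlgSp.Space S) (p : AlgSp.FieldPt X.obj) (hm : Mono p.toHom)
    {U : Over S} (a : (AlgSp.yon S).obj U ⟶ X.obj) (ha : AlgSp.RepWith @Etale a)
    (has : AlgSp.RepWith @Surjective a)
    (hfin : ∀ W : U.left.Opens, IsAffineOpen W →
      (AlgSp.Points.ofPt a ⁻¹' {AlgSp.Points.mk p} ∩ (W : Set ↥U.left)).Finite) :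
    AlgSp.RepWith @QuasiCompact p.toHom := by
  obtain ⟨P, fst, snd, sq⟩ := AlgSpB.exists_pullback_yon (X.property.representable_from_yon p.toHom) a
  have := hm
  have : Mono ((AlgSp.yon S).map snd) := MorphismProperty.of_isPullback
    (P := MorphismProperty.monomorphisms _) sq ‹Mono p.toHom›
  have : Mono snd := Functor.mono_of_mono_map (AlgSp.yon S) this
  have hinj : Function.Injective snd.left := (snd.left).injective
  have hqc : QuasiCompact snd.left := by
    refine quasiCompact_iff_forall_isAffineOpen.2 fun W hW => ?_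
    refine Set.Finite.isCompact (((hfin W hW).preimage hinj.injOn).subset fun z hz => ⟨?_, hz⟩)
    change AlgSp.Points.ofPt a (snd.left z) = _
    rw [← ((AlgSpB.ofPt_eq_ofPt_iff sq (fst.left z) _).2 ⟨z, rfl, rfl⟩)]
    exact AlgSp.Points.ofPt_toHom p _
  have := Groth.Agent.AlgSp.isLocallySurjective_of_etale_surjective a ha has
  exact Groth.Agent.AlgSp.repWith_of_isPullback_of_isLocallySurjective p.toHom
    (X.property.representable_from_yon p.toHom) a _ _ sq @QuasiCompact ((AlgSp.repWith_yon_map_iff _ _).2 hqc)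

/-- A space with a representable morphism to a decent space is decent at every point. -/
theorem isDecent_of_representable {F G : AlgSp.Sp S} (f : F ⟶ G) (hf : AlgSp.Representable f)
    (hG : AlgSp.IsDecent G) : AlgSp.IsDecent F := by
  intro x
  obtain ⟨p, hp, hm, hq⟩ := hG (AlgSp.Points.map f x)
  obtain ⟨W, snd, fst, sq⟩ := hf p.toHom
  obtain ⟨z, hz, -⟩ := AlgSpB.exists_of_isPullback sq x
    (AlgSp.Points.ofScheme p.pt (IsLocalRing.closedPoint p.K))
    (by rw [← AlgSp.Points.ofPt_eq_map_ofScheme, AlgSp.Points.ofPt_toHom, hp])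
  rw [← AlgSp.Points.ofScheme_toScheme W z, ← AlgSp.Points.ofPt_eq_map_ofScheme] at hz
  let w := AlgSp.Points.toScheme W z
  refine ⟨AlgSp.FieldPt.ofPt fst w, hz, ?_, ?_⟩
  · rw [AlgSp.FieldPt.toHom_ofPt]
    have : Mono fst := MorphismProperty.of_isPullback (P := MorphismProperty.monomorphisms _) sq.flip hm
    let c : (Over.mk (W.left.fromSpecResidueField w ≫ W.hom) : Over S) ⟶ W :=
      Over.homMk (W.left.fromSpecResidueField w) rfl
    have : Mono c.left := inferInstanceAs (Mono (W.left.fromSpecResidueField w))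
    have : Mono c := Functor.mono_of_mono_map (Over.forget S) this
    have : Mono ((AlgSp.yon S).map c) := inferInstance
    exact mono_comp _ _
  · rw [AlgSp.FieldPt.toHom_ofPt]
    refine (AlgSp.RepWith _).comp_mem _ _ ((AlgSp.repWith_yon_map_iff _ _).2 ?_)
      (MorphismProperty.of_isPullback sq.flip hq)
    change QuasiCompact (W.left.fromSpecResidueField w)
    exact quasiCompact_of_finite _

end Groth.Agent.AlgSpD
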