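import Groth.Agent.AlgSpD.EtaleTop
import Groth.Agent.EtStruct.QFinPts
import Groth.Agent.CAlgLib.LocalDimSpec
import Groth.Prelude.Def_Flat

/-!
# Fibre dimensions are invariant under base change
-/

universe u

open CategoryTheory CategoryTheory.Limits AlgebraicGeometry TensorProduct

set_option backward.isDefEq.respectTransparency false

namespace Groth.Agent.AlgSpD

/-- The local dimension of a scheme locally of finite type over a field is invariant under field extensions. -/
theorem localDim_of_isPullback_field {k K : CommRingCat.{u}} (hk : IsField k) (hK : IsField K) (φ : k ⟶ K)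
    {Z Z' : Scheme.{u}} {s : Z ⟶ Spec k} {s' : Z' ⟶ Spec K} {r : Z' ⟶ Z} [LocallyOfFiniteType s]
    (sq : IsPullback r s' s (Spec.map φ)) (z' : Z') :
    FlatMor.localDim Z' z' = FlatMor.localDim Z (r z') := by
  obtain ⟨j, w, hw⟩ := Z.affineCover.exists_eq (r z')
  obtain ⟨z'', hz1, hz2⟩ := Scheme.Pullback.exists_preimage_pullback (f := r) (g := Z.affineCover.f j) z' w hw.symm
  have sq₁ : IsPullback (pullback.snd r (Z.affineCover.f j)) (pullback.fst r (Z.affineCover.f j) ≫ s')
      (Z.affineCover.f j ≫ s) (Spec.map φ) :=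
    (IsPullback.of_hasPullback r (Z.affineCover.f j)).flip.paste_vert sq
  obtain ⟨R, eR, i, hi, hj⟩ : ∃ (R : CommRingCat.{u}) (eR : Z.affineCover.X j ≅ Spec R) (i : Spec R ⟶ Z),
      IsOpenImmersion i ∧ Z.affineCover.f j = eR.hom ≫ i :=
    ⟨_, (Z.affineCover.X j).isoSpec, (Z.affineCover.X j).isoSpec.inv ≫ Z.affineCover.f j, inferInstance, by simp⟩
  have sq₂ : IsPullback (pullback.snd r (Z.affineCover.f j) ≫ eR.hom) (pullback.fst r (Z.affineCover.f j) ≫ s')
      (i ≫ s) (Spec.map φ) :=
    sq₁.of_iso (Iso.refl _) eR (Iso.refl _) (Iso.refl _) (by simp) (by simp) (by simp [hj]) (by simp)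
  obtain ⟨ψ, hψ⟩ := Spec.map_surjective (i ≫ s)
  rw [← hψ] at sq₂
  have hft : ψ.hom.FiniteType := by
    rw [← HasRingHomProperty.Spec_iff (P := @LocallyOfFiniteType), hψ]; infer_instance
  let := hk.toField
  let := hK.toField
  algebraize [φ.hom, ψ.hom]
  let e := sq₂.flip.isoPullback ≪≫ pullbackSpecIso k K R
  have he : e.inv ≫ (pullback.snd r (Z.affineCover.f j) ≫ eR.hom) =
      Spec.map (CommRingCat.ofHom ((Algebra.TensorProduct.includeRight : R →ₐ[k] K ⊗[k] R) : R →+* _)) := by
    simp only [e, Iso.trans_inv, Category.assoc, IsPullback.isoPullback_inv_snd]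
    exact pullbackSpecIso_inv_snd k K R
  let t : Spec (CommRingCat.of (K ⊗[k] R)) := e.hom z''
  let rt : Spec R := (pullback.snd r (Z.affineCover.f j) ≫ eR.hom) z''
  have ht : Spec.map (CommRingCat.ofHom ((Algebra.TensorProduct.includeRight : R →ₐ[k] K ⊗[k] R) : R →+* _)) t = rt := by
    rw [← he]
    simp only [t, rt, ← Scheme.Hom.comp_apply]
    rw [Iso.hom_inv_id_assoc]; rfl
  have key : FlatMor.localDim (Spec (CommRingCat.of (K ⊗[k] R))) t = FlatMor.localDim (Spec R) rt := by
    have := Groth.Agent.CAlgLib.LocalDimSpec.localDim_baseChange k (S := R) K t.asIdeal rt.asIdeal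
      (congrArg PrimeSpectrum.asIdeal ht)
    exact this
  rw [show FlatMor.localDim (Spec (CommRingCat.of (K ⊗[k] R))) t = FlatMor.localDim _ z'' from
    localDim_apply_eq e.hom z''] at key
  rw [← hz1, localDim_apply_eq (pullback.fst r (Z.affineCover.f j)) z'', key]
  have hrz : r (pullback.fst r (Z.affineCover.f j) z'') = i rt := by
    simp only [rt, ← Scheme.Hom.comp_apply, Category.assoc, ← hj, pullback.condition]
  rw [hrz]
  exact (localDim_apply_eq i rt).symm

/-- Fibre dimensions are invariant under base change. -/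
theorem fibreDimAt_of_isPullback {X S X' S' : Scheme.{u}} (f : X ⟶ S) [LocallyOfFiniteType f] {g : S' ⟶ S}
    {g' : X' ⟶ X} {f' : X' ⟶ S'} (sq : IsPullback g' f' f g) (x' : X') :
    FlatMor.fibreDimAt f' x' = FlatMor.fibreDimAt f (g' x') := by
  have : LocallyOfFiniteType (f.fiberToSpecResidueField (g (f' x'))) :=
    MorphismProperty.pullback_snd _ _ inferInstance
  have h := localDim_of_isPullback_field (Field.toIsField _) (Field.toIsField _) (g.residueFieldMap (f' x'))
    (isPullback_fiberToSpecResidueField_of_isPullback sq (f' x')) (f'.asFiber x')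
  unfold FlatMor.fibreDimAt
  refine h.trans ?_
  have key : ∀ y (z : f.fiber y), f (g' x') = y → f.fiberι y z = g' x' →
      FlatMor.localDim (f.fiber y) z = FlatMor.localDim (f.fiber (f (g' x'))) (f.asFiber (g' x')) := by
    rintro y z rfl hz
    rw [show z = f.asFiber (g' x') from (f.fiberι _).isEmbedding.injective (hz.trans (f.fiberι_asFiber _).symm)]
  exact key _ _ (by rw [← Scheme.Hom.comp_apply, ← Scheme.Hom.comp_apply, sq.w])
    (EtStruct.fiberMap_asFiber f sq x')

end Groth.Agent.AlgSpD
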