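import Groth.Agent.AlgSpD.HasAt
import Groth.Agent.AlgSp.Diag
import Groth.Agent.AlgSpCov.Sheaf

/-!
# Chart diagrams of base changes
-/

universe u

open CategoryTheory CategoryTheory.Limits AlgebraicGeometry Opposite

set_option backward.isDefEq.respectTransparency false

namespace Groth.Agent.AlgSpD

open Groth.Agent

variable {S : Scheme.{u}}

/-- The diagonal of an etale chart is etale. -/
theorem repWith_etale_diagonal {F : AlgSp.Sp S} {V : Over S} {b : (AlgSp.yon S).obj V ⟶ F}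
    (hb : AlgSp.RepWith @Etale b) : AlgSp.RepWith @Etale (pullback.diagonal b) := by
  refine AlgSpCov.repWith_etale_cancel _ (pullback.fst b b)
    (AlgSpCov.repWith_bc (IsPullback.of_hasPullback b b).flip hb) ?_
  rw [pullback.diagonal_fst, ← (AlgSp.yon S).map_id]
  exact (AlgSp.repWith_yon_map_iff _ _).2 (inferInstanceAs (Etale (𝟙 V.left)))

/-- A scheme fibre product of charts gives a chart of the fibre product. -/
theorem repWith_etale_lift {X Y Y' X' : AlgSp.Sp S} {f : X ⟶ Y} {g : Y' ⟶ Y} {g' : X' ⟶ X} {f' : X' ⟶ Y'}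
    (sq : IsPullback g' f' f g) {U V V' W : Over S} {a : (AlgSp.yon S).obj U ⟶ X}
    {b : (AlgSp.yon S).obj V ⟶ Y} {c : (AlgSp.yon S).obj V' ⟶ Y'} (ha : AlgSp.RepWith @Etale a)
    (hb : AlgSp.RepWith @Etale b) (hc : AlgSp.RepWith @Etale c) {h : U ⟶ V} {k : V' ⟶ V}
    (w : a ≫ f = (AlgSp.yon S).map h ≫ b) (wg : c ≫ g = (AlgSp.yon S).map k ≫ b)
    {fst : W ⟶ U} {snd : W ⟶ V'} (hW : IsPullback fst snd h k) :
    ∃ d : (AlgSp.yon S).obj W ⟶ X', AlgSp.RepWith @Etale d ∧ d ≫ g' = (AlgSp.yon S).map fst ≫ a ∧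
      d ≫ f' = (AlgSp.yon S).map snd ≫ c := by
  have hW' := hW.map (AlgSp.yon S)
  have h1 : AlgSp.RepWith @Etale (pullback.mapDesc ((AlgSp.yon S).map h) ((AlgSp.yon S).map k) b) :=
    AlgSp.mapDesc_mem_of_diagonal _ _ _ b (repWith_etale_diagonal hb)
  have h2 : AlgSp.RepWith @Etale (pullback.map ((AlgSp.yon S).map h ≫ b) ((AlgSp.yon S).map k ≫ b) f g a c (𝟙 _)
      (by rw [w, Category.comp_id]) (by rw [wg, Category.comp_id])) :=
    MorphismProperty.pullbackMap (P := AlgSp.RepWith @Etale) ha hc w.symm wg.symm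
  refine ⟨hW'.isoPullback.hom ≫ pullback.mapDesc ((AlgSp.yon S).map h) ((AlgSp.yon S).map k) b ≫
    pullback.map ((AlgSp.yon S).map h ≫ b) ((AlgSp.yon S).map k ≫ b) f g a c (𝟙 _)
      (by rw [w, Category.comp_id]) (by rw [wg, Category.comp_id]) ≫ sq.isoPullback.inv, ?_, ?_, ?_⟩
  · exact (MorphismProperty.cancel_left_of_respectsIso (AlgSp.RepWith @Etale) _ _).2
      (by rw [← Category.assoc, MorphismProperty.cancel_right_of_respectsIso (AlgSp.RepWith @Etale)]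
          exact AlgSpCov.repWith_comp h1 h2)
  · simp [pullback.mapDesc]
  · simp [pullback.mapDesc]

/-- Compatible chart diagrams in a cartesian square through a given point. -/
theorem exists_baseChange_diagram {X Y Y' X' : AlgSp.Space S} (f : X ⟶ Y) (g : Y' ⟶ Y) (g' : X' ⟶ X)
    (f' : X' ⟶ Y') (sq : IsPullback g'.hom f'.hom f.hom g.hom) (x' : AlgSp.Points X'.obj) :
    ∃ (U V V' W : Over S) (a : (AlgSp.yon S).obj U ⟶ X.obj) (b : (AlgSp.yon S).obj V ⟶ Y.obj)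
      (c : (AlgSp.yon S).obj V' ⟶ Y'.obj) (d : (AlgSp.yon S).obj W ⟶ X'.obj) (h : U ⟶ V) (h' : W ⟶ V')
      (k : V' ⟶ V) (fst : W ⟶ U) (r : ↥W.left),
      AlgSp.RepWith @Etale a ∧ AlgSp.RepWith @Etale b ∧ AlgSp.RepWith @Etale c ∧ AlgSp.RepWith @Etale d ∧
      a ≫ f.hom = (AlgSp.yon S).map h ≫ b ∧ d ≫ f'.hom = (AlgSp.yon S).map h' ≫ c ∧
      IsPullback fst.left h'.left h.left k.left ∧ AlgSp.Points.ofPt d r = x' ∧
      AlgSp.Points.ofPt a (fst.left r) = AlgSp.Points.map g'.hom x' := by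
  obtain ⟨U₀, a₀, u₀, ha₀, hu₀⟩ := exists_chart X (AlgSp.Points.map g'.hom x')
  obtain ⟨V, b, v, hb, hv⟩ := exists_chart Y (AlgSp.Points.map f.hom (AlgSp.Points.ofPt a₀ u₀))
  obtain ⟨V₀, c₀, v₀, hc₀, hv₀⟩ := exists_chart Y' (AlgSp.Points.map f'.hom x')
  have hx' : AlgSp.Points.map (f'.hom ≫ g.hom) x' = AlgSp.Points.map b (AlgSp.Points.ofScheme V v) := by
    rw [← AlgSp.Points.ofPt_eq_map_ofScheme, hv, ← sq.w, AlgSp.Points.map_comp, hu₀]
  obtain ⟨p1, hp1, hp1'⟩ := AlgSpB.exists_of_isPullback (IsPullback.of_hasPullback (f'.hom ≫ g.hom) b) _ _ hx'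
  obtain ⟨p2, hp2, hp2'⟩ := AlgSpB.exists_of_isPullback
    (IsPullback.of_hasPullback a₀ (pullback.fst (f'.hom ≫ g.hom) b ≫ g'.hom)) (AlgSp.Points.ofScheme U₀ u₀) p1
    (by rw [← AlgSp.Points.ofPt_eq_map_ofScheme, hu₀, AlgSp.Points.map_comp, hp1])
  obtain ⟨p3, -, hp3'⟩ := AlgSpB.exists_of_isPullback
    (IsPullback.of_hasPullback c₀ (pullback.snd a₀ (pullback.fst (f'.hom ≫ g.hom) b ≫ g'.hom) ≫
      pullback.fst (f'.hom ≫ g.hom) b ≫ f'.hom)) (AlgSp.Points.ofScheme V₀ v₀) p2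
    (by rw [← AlgSp.Points.ofPt_eq_map_ofScheme, hv₀, AlgSp.Points.map_comp, AlgSp.Points.map_comp, hp2', hp1])
  obtain ⟨q, hq⟩ := AlgSpB.exists_eq_ofPt_toHom p3
  let m2 := q.toHom ≫ pullback.snd c₀ (pullback.snd a₀ (pullback.fst (f'.hom ≫ g.hom) b ≫ g'.hom) ≫
      pullback.fst (f'.hom ≫ g.hom) b ≫ f'.hom)
  let m1 := m2 ≫ pullback.snd a₀ (pullback.fst (f'.hom ≫ g.hom) b ≫ g'.hom)
  let t := m1 ≫ pullback.fst (f'.hom ≫ g.hom) b
  let tV := m1 ≫ pullback.snd (f'.hom ≫ g.hom) b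
  let tU := m2 ≫ pullback.fst a₀ (pullback.fst (f'.hom ≫ g.hom) b ≫ g'.hom)
  let tV' := q.toHom ≫ pullback.fst c₀ (pullback.snd a₀ (pullback.fst (f'.hom ≫ g.hom) b ≫ g'.hom) ≫
      pullback.fst (f'.hom ≫ g.hom) b ≫ f'.hom)
  have eU : tU ≫ a₀ = t ≫ g'.hom := by simp only [tU, t, m1, Category.assoc, pullback.condition]
  have eV' : tV' ≫ c₀ = t ≫ f'.hom := by simp only [tV', t, m1, m2, Category.assoc, pullback.condition]
  have eV : tV ≫ b = t ≫ f'.hom ≫ g.hom := by simp only [tV, t, Category.assoc, pullback.condition]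
  obtain ⟨U, p, h, sqU⟩ := AlgSpB.exists_pullback_yon (Y.property.representable_from_yon (a₀ ≫ f.hom)) b
  obtain ⟨V', o, k, sqV⟩ := AlgSpB.exists_pullback_yon (Y.property.representable_from_yon (c₀ ≫ g.hom)) b
  have : Etale p.left := hb.2 _ _ _ sqU.flip
  have : Etale o.left := hb.2 _ _ _ sqV.flip
  have ha := AlgSpB.repWith_etale_map_comp p ha₀
  have hc := AlgSpB.repWith_etale_map_comp o hc₀
  obtain ⟨d, hd, hd1, hd2⟩ := repWith_etale_lift sq ha hb hc
    ((Category.assoc _ _ _).trans sqU.w) ((Category.assoc _ _ _).trans sqV.w) (IsPullback.of_hasPullback h k)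
  have hpb : IsPullback (pullback.fst h k).left (pullback.snd h k).left h.left k.left :=
    (IsPullback.of_hasPullback h k).map (Over.forget S)
  let lU := sqU.lift tU tV (by rw [reassoc_of% eU, eV, sq.w])
  let lV := sqV.lift tV' tV (by rw [reassoc_of% eV', eV])
  let l := ((IsPullback.of_hasPullback h k).map (AlgSp.yon S)).lift lU lV (by
    simp only [lU, lV, IsPullback.lift_snd])
  have el : l ≫ d = t := by
    apply sq.hom_ext
    · rw [Category.assoc, hd1, IsPullback.lift_fst_assoc, IsPullback.lift_fst_assoc, eU]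
    · rw [Category.assoc, hd2, IsPullback.lift_snd_assoc, IsPullback.lift_fst_assoc, eV']
  obtain ⟨lW, hlW⟩ := (AlgSp.yon S).map_surjective l
  obtain ⟨s⟩ : Nonempty ↥q.pt.left := ⟨IsLocalRing.closedPoint q.K⟩
  have hrx : AlgSp.Points.ofPt t s = x' := by
    simp only [t, m1, m2, Category.assoc]
    rw [← AlgSp.Points.map_ofPt, hq, AlgSp.Points.map_comp, AlgSp.Points.map_comp, hp3', hp2', hp1]
  refine ⟨U, V, V', pullback h k, _, b, _, d, h, pullback.snd h k, k, pullback.fst h k, lW.left s, ha, hb, hc, hd,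
    (Category.assoc _ _ _).trans sqU.w, hd2, hpb, ?_, ?_⟩
  · rw [← AlgSpB.ofPt_map_comp, hlW, el, hrx]
  · rw [← AlgSpB.ofPt_map_comp, ← hd1, ← AlgSp.Points.map_ofPt, ← AlgSpB.ofPt_map_comp, hlW, el, hrx]

end Groth.Agent.AlgSpD
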