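import Groth.Agent.AlgSpD.RelDim
import Groth.Agent.AlgSpD.BaseChangeChart
import Groth.Agent.AlgSpB.Open
import Groth.Agent.AlgSpCov.LocPBasic
import Groth.Agent.S9798
import Mathlib.AlgebraicGeometry.ZariskisMainTheorem

/-!
# The locally quasi-finite locus of a morphism of algebraic spaces
-/

universe u

open CategoryTheory CategoryTheory.Limits AlgebraicGeometry Opposite Topology

set_option backward.isDefEq.respectTransparency false

namespace Groth.Agent.AlgSpD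

open Groth.Agent

variable {S : Scheme.{u}}

/-- Quasi-finite on an open around the point. -/
def LqfNear : ∀ (U V : Scheme.{u}), (U ⟶ V) → ↥U → Prop := fun U _ h u =>
  ∃ W : U.Opens, u ∈ W ∧ LocallyQuasiFinite (W.ι ≫ h) ∧ LocallyOfFiniteType (W.ι ≫ h)

/-- The relative dimension is zero. -/
abbrev DimZeroAt : ∀ (U V : Scheme.{u}), (U ⟶ V) → ↥U → Prop := fun _ _ h u => FlatMor.fibreDimAt h u = 0

theorem quasiFiniteAt_iff_fibreDimAt_eq_zero {U V : Scheme.{u}} (h : U ⟶ V) [LocallyOfFiniteType h] (u : U) :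
    h.QuasiFiniteAt u ↔ FlatMor.fibreDimAt h u = 0 := by
  have : LocallyOfFiniteType (h.fiberToSpecResidueField (h u)) :=
    MorphismProperty.pullback_snd _ _ inferInstance
  have := LocallyOfFiniteType.isLocallyNoetherian (h.fiberToSpecResidueField (h u))
  rw [Scheme.Hom.quasiFiniteAt_iff_isOpen_singleton_asFiber]
  exact (S9798.result (h.fiber (h u)) (h.asFiber u)).symm

theorem locallyQuasiFinite_of_forall {U V : Scheme.{u}} (h : U ⟶ V) [LocallyOfFiniteType h]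
    (H : ∀ u, FlatMor.fibreDimAt h u = 0) : LocallyQuasiFinite h := by
  rw [← Scheme.Hom.quasiFiniteLocus_eq_top_iff]
  exact TopologicalSpace.Opens.ext (Set.eq_univ_of_forall fun u =>
    Scheme.Hom.mem_quasiFiniteLocus.2 ((quasiFiniteAt_iff_fibreDimAt_eq_zero h u).2 (H u)))

theorem lqfNear_iff {U V : Scheme.{u}} (h : U ⟶ V) [LocallyOfFiniteType h] (u : U) :
    LqfNear U V h u ↔ FlatMor.fibreDimAt h u = 0 := by
  rw [← quasiFiniteAt_iff_fibreDimAt_eq_zero]
  constructor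
  · rintro ⟨W, hu, h1, -⟩
    have := (W.ι ≫ h).quasiFiniteAt ⟨u, hu⟩
    rwa [Scheme.Hom.quasiFiniteAt_comp_iff_of_isOpenImmersion] at this
  · intro hu
    refine ⟨h.quasiFiniteLocus, hu, ?_, inferInstance⟩
    rw [← Scheme.Hom.quasiFiniteLocus_eq_top_iff]
    refine TopologicalSpace.Opens.ext (Set.eq_univ_of_forall fun w => ?_)
    show (h.quasiFiniteLocus.ι ≫ h).QuasiFiniteAt w
    rw [Scheme.Hom.quasiFiniteAt_comp_iff_of_isOpenImmersion]
    exact w.2

theorem hasAtMor_congr {Q Q' : ∀ (U V : Scheme.{u}), (U ⟶ V) → ↥U → Prop} {F G : AlgSp.Sp S} (f : F ⟶ G)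
    (H : ∀ {U V : Over S} (a : (AlgSp.yon S).obj U ⟶ F) (b : (AlgSp.yon S).obj V ⟶ G) (h : U ⟶ V),
      AlgSp.RepWith @Etale a → AlgSp.RepWith @Etale b → a ≫ f = (AlgSp.yon S).map h ≫ b →
        ∀ u, Q U.left V.left h.left u ↔ Q' U.left V.left h.left u)
    (x : AlgSp.Points F) : AlgSp.HasAtMor Q f x ↔ AlgSp.HasAtMor Q' f x := by
  constructor <;> rintro ⟨U, V, a, b, h, u, ha, hb, w, hx, hu⟩
  · exact ⟨U, V, a, b, h, u, ha, hb, w, hx, (H a b h ha hb w u).1 hu⟩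
  · exact ⟨U, V, a, b, h, u, ha, hb, w, hx, (H a b h ha hb w u).2 hu⟩

theorem hasAtMor_lqfNear_iff {F G : AlgSp.Sp S} (f : F ⟶ G) (hf : AlgSp.LocP @LocallyOfFiniteType f)
    (x : AlgSp.Points F) : AlgSp.HasAtMor LqfNear f x ↔ AlgSp.HasAtMor DimZeroAt f x :=
  hasAtMor_congr f (fun a b h ha hb w u => have := hf a b h ha hb w; lqfNear_iff h.left u) x

theorem isOpen_dimZero {X Y : AlgSp.Space S} (f : X ⟶ Y) (hf : AlgSp.LocP @LocallyOfFiniteType f.hom) :
    IsOpen {x : AlgSp.Points X.obj | AlgSp.HasAtMor DimZeroAt f.hom x} := by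
  rw [isOpen_iff_forall_mem_open]
  rintro x ⟨U, V, a, b, h, u, ha, hb, w, rfl, hu⟩
  have := hf a b h ha hb w
  refine ⟨AlgSp.Points.ofPt a '' (h.left.quasiFiniteLocus : Set ↥U.left), ?_,
    AlgSpB.isOpenMap_ofPt ha _ h.left.quasiFiniteLocus.2,
    ⟨u, (quasiFiniteAt_iff_fibreDimAt_eq_zero h.left u).2 hu, rfl⟩⟩
  rintro _ ⟨t, ht, rfl⟩
  exact ⟨U, V, a, b, h, t, ha, hb, w, rfl, (quasiFiniteAt_iff_fibreDimAt_eq_zero h.left t).1 ht⟩

/-- The open subspace on which a morphism locally of finite type is locally quasi-finite. -/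
theorem exists_lqf_open {X Y : AlgSp.Space S} (f : X ⟶ Y) (hf : AlgSp.LocP @LocallyOfFiniteType f.hom) :
    ∃ (X' : AlgSp.Space S) (j : X' ⟶ X), AlgSp.RepWith @IsOpenImmersion j.hom ∧
      AlgSp.LocP (@LocallyQuasiFinite ⊓ @LocallyOfFiniteType) (j ≫ f).hom ∧
      Set.range (AlgSp.Points.map j.hom) = {x | AlgSp.HasAtMor DimZeroAt f.hom x} := by
  obtain ⟨X', j, hj, hr⟩ := AlgSpB.exists_openSubspace X (isOpen_dimZero f hf)
  refine ⟨X', j, hj, ?_, hr⟩
  intro U V a b h ha hb w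
  have haj : AlgSp.RepWith @Etale (a ≫ j.hom) := AlgSpCov.repWith_comp ha
    (Groth.Agent.AlgSp.repWith_mono (Q := @Etale) (fun g (hg : IsOpenImmersion g) => (inferInstance : Etale g)) hj)
  have w' : (a ≫ j.hom) ≫ f.hom = (AlgSp.yon S).map h ≫ b := by rw [Category.assoc]; exact w
  have := hf _ b h haj hb w'
  refine ⟨locallyQuasiFinite_of_forall h.left fun u => ?_, this⟩
  have hu : AlgSp.Points.ofPt (a ≫ j.hom) u ∈ Set.range (AlgSp.Points.map j.hom) :=
    ⟨AlgSp.Points.ofPt a u, AlgSp.Points.map_ofPt _ _ _⟩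
  rw [hr] at hu
  exact (hasAtMor_iff_chart (morEtaleInv_fibreDimAt 0) f haj hb w' u).1 hu

end Groth.Agent.AlgSpD
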