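import Groth.Agent.AlgSpD.Relation
import Groth.Agent.AlgSpB.Diag

/-!
# Criteria for decent points
-/

universe u

open CategoryTheory CategoryTheory.Limits AlgebraicGeometry Opposite

set_option backward.isDefEq.respectTransparency false

namespace Groth.Agent.AlgSpD

open Groth.Agent

variable {S : Scheme.{u}}

/-- An open subscheme of a chart is a chart. -/
theorem repWith_etale_restrict {F : AlgSp.Sp S} {U : Over S} (a : (AlgSp.yon S).obj U ⟶ F)
    (ha : AlgSp.RepWith @Etale a) (W : U.left.Opens) :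
    AlgSp.RepWith @Etale ((AlgSp.yon S).map (Over.homMk W.ι rfl : Over.mk (W.ι ≫ U.hom) ⟶ U) ≫ a) :=
  (AlgSp.RepWith _).comp_mem _ _ ((AlgSp.repWith_yon_map_iff _ _).2 (inferInstanceAs (Etale W.ι))) ha

/-- The image of a point of a restricted chart. -/
theorem ofPt_restrict {F : AlgSp.Sp S} {U : Over S} (a : (AlgSp.yon S).obj U ⟶ F) (W : U.left.Opens)
    (w : ↥W.toScheme) :
    AlgSp.Points.ofPt ((AlgSp.yon S).map (Over.homMk W.ι rfl : Over.mk (W.ι ≫ U.hom) ⟶ U) ≫ a) w =
      AlgSp.Points.ofPt a (W.ι w) := by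
  rw [AlgSpB.ofPt_map_comp]; rfl

/-- Every point lies on an affine chart. -/
theorem exists_affine_chart (X : AlgSp.Space S) (x : AlgSp.Points X.obj) :
    ∃ (U : Over S) (a : (AlgSp.yon S).obj U ⟶ X.obj) (u : ↥U.left),
      IsAffine U.left ∧ AlgSp.RepWith @Etale a ∧ AlgSp.Points.ofPt a u = x := by
  obtain ⟨U, a, u, ha, hu⟩ := exists_chart X x
  obtain ⟨W, hW, huW, -⟩ := exists_isAffineOpen_mem_and_subset (x := u) (U := ⊤) trivial
  refine ⟨Over.mk (W.ι ≫ U.hom), (AlgSp.yon S).map (Over.homMk W.ι rfl) ≫ a, (⟨u, huW⟩ : ↥W), ?_,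
    repWith_etale_restrict a ha W, (ofPt_restrict a W ⟨u, huW⟩).trans hu⟩
  exact hW

/-- Finite fibres on compact charts give finite fibres on affine opens of any chart. -/
theorem finite_preimage_inter {F : AlgSp.Sp S} {U : Over S} (a : (AlgSp.yon S).obj U ⟶ F)
    (ha : AlgSp.RepWith @Etale a) (x : AlgSp.Points F)
    (hfin : ∀ (V : Over S) (b : (AlgSp.yon S).obj V ⟶ F), IsAffine V.left → AlgSp.RepWith @Etale b →
      (AlgSp.Points.ofPt b ⁻¹' {x}).Finite)
    (W : U.left.Opens) (hW : IsAffineOpen W) :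
    (AlgSp.Points.ofPt a ⁻¹' {x} ∩ (W : Set ↥U.left)).Finite := by
  refine ((hfin (Over.mk (W.ι ≫ U.hom)) _ (show IsAffine W.toScheme from hW)
    (repWith_etale_restrict a ha W)).image fun w : ↥W.toScheme => W.ι w).subset ?_
  rintro v ⟨hv, hvW⟩
  exact ⟨(⟨v, hvW⟩ : ↥W), (ofPt_restrict a W _).trans hv, rfl⟩

/-- A monomorphic field point with finite fibres on affine charts is quasi-compact. -/
theorem repWith_quasiCompact_of_finite' (X : AlgSp.Space S) (p : AlgSp.FieldPt X.obj) (hm : Mono p.toHom)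
    (hfin : ∀ (V : Over S) (b : (AlgSp.yon S).obj V ⟶ X.obj), IsAffine V.left → AlgSp.RepWith @Etale b →
      (AlgSp.Points.ofPt b ⁻¹' {AlgSp.Points.mk p}).Finite) :
    AlgSp.RepWith @QuasiCompact p.toHom := by
  obtain ⟨U, a, ha, has⟩ := X.property.atlas
  exact repWith_quasiCompact_of_finite X p hm a ha has (finite_preimage_inter a ha _ hfin)

/-- A quasi-compact field point gives a quasi-compact monomorphic one. -/
theorem exists_qc_mono_of_qc (X : AlgSp.Space S) (q : AlgSp.FieldPt X.obj)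
    (hq : AlgSp.RepWith @QuasiCompact q.toHom) :
    ∃ p : AlgSp.FieldPt X.obj, AlgSp.Points.mk p = AlgSp.Points.mk q ∧ Mono p.toHom ∧
      AlgSp.RepWith @QuasiCompact p.toHom := by
  obtain ⟨U, a, u, hU, ha, hu⟩ := exists_affine_chart X (AlgSp.Points.mk q)
  obtain ⟨R, t, s, hR⟩ := AlgSpB.exists_pullback_yon (X.property.representable_from_yon a) a
  obtain ⟨p, hp, hm, -⟩ := exists_mono_of_chart X a ha s t hR u
    ((finite_pairs_of_qc_point X q hq a ha s t hR hu).subset fun r hr => hr.2)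
  refine ⟨p, hp.trans hu, hm, repWith_quasiCompact_of_finite' X p hm fun V b hV hb => ?_⟩
  have : CompactSpace ↥V.left := inferInstance
  rw [hp, hu]
  exact finite_preimage_of_qc_point q hq b hb

/-- Every field point of a quasi-separated space is quasi-compact. -/
theorem repWith_quasiCompact_of_qs (X : AlgSp.Space S) (hX : AlgSp.IsQuasiSeparatedSp X.obj)
    (q : AlgSp.FieldPt X.obj) : AlgSp.RepWith @QuasiCompact q.toHom := by
  refine ⟨X.property.representable_from_yon q.toHom, fun V P g fst snd sq => ?_⟩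
  obtain ⟨fst', rfl⟩ := (AlgSp.yon S).map_surjective fst
  have : QuasiCompact (AlgSpB.pairHom fst' snd) := AlgSpB.prop_pairHom hX sq
  have : Finite ↥q.pt.left := inferInstanceAs (Finite (PrimeSpectrum q.K))
  have : QuasiCompact q.pt.hom := quasiCompact_of_finite _
  have h : AlgSpB.pairHom fst' snd ≫ pullback.snd q.pt.hom V.hom = snd.left := pullback.lift_snd _ _ _
  change QuasiCompact snd.left
  rw [← h]
  infer_instance

end Groth.Agent.AlgSpD
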