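import Groth.Agent.AlgSpD.ExistVC
import Groth.Agent.AlgSp.QCMor
import Groth.Agent.S10286

/-!
# Quasi-compact morphisms with the existence criterion are universally closed
-/

universe u

open CategoryTheory CategoryTheory.Limits AlgebraicGeometry Opposite

set_option backward.isDefEq.respectTransparency false
set_option autoImplicit false

namespace Groth.Agent.AlgSpD

open Groth.Agent

variable {S : Scheme.{u}}

/-- A closed subset of an affine scheme has closed image in an affine scheme as soon as the image is stable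
under specialization. -/
theorem isClosed_image_of_affine {X Y : Scheme.{u}} [IsAffine X] [IsAffine Y] (f : X ⟶ Y) (C : Set ↥X)
    (hC : IsClosed C) (h : StableUnderSpecialization (f '' C)) : IsClosed (f '' C) := by
  wlog hX : ∃ R, X = Spec R
  · have := this (X.isoSpec.inv ≫ f) (X.isoSpec.inv ⁻¹' C) (hC.preimage X.isoSpec.inv.continuous)
    simp_rw [Scheme.Hom.comp_base, TopCat.comp_app, ← Set.image_image,
      Set.image_preimage_eq _ X.isoSpec.inv.surjective] at this
    exact this h ⟨_, rfl⟩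
  obtain ⟨R, rfl⟩ := hX
  wlog hY : ∃ R', Y = Spec R'
  · have e : (f ≫ Y.isoSpec.hom) '' C = Y.isoSpec.hom '' (f '' C) := by
      rw [Set.image_image]; rfl
    have hi : Topology.IsClosedEmbedding Y.isoSpec.hom := (Scheme.homeoOfIso Y.isoSpec).isClosedEmbedding
    have h' : StableUnderSpecialization ((f ≫ Y.isoSpec.hom) '' C) := by
      rw [e]
      exact h.image ((Scheme.homeoOfIso Y.isoSpec).isClosedMap.specializingMap)
    have := this R (f ≫ Y.isoSpec.hom) C hC h' ⟨_, rfl⟩
    rw [e] at this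
    exact hi.isClosed_iff_image_isClosed.2 this
  obtain ⟨R', rfl⟩ := hY
  obtain ⟨φ, rfl⟩ := Spec.homEquiv.symm.surjective f
  exact PrimeSpectrum.isClosed_image_of_stableUnderSpecialization φ.hom C hC h

theorem ofPt_yon_map {T T' : Over S} (φ : T ⟶ T') (t : ↥T.left) :
    AlgSp.Points.ofPt ((AlgSp.yon S).map φ) t = AlgSp.Points.schemeHomeo T' (φ.left t) := by
  rw [← Category.comp_id ((AlgSp.yon S).map φ), AlgSpB.ofPt_map_comp]
  rfl

/-- Over an affine scheme: a quasi-compact space with the existence criterion has closed projection. -/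
theorem isClosedMap_of_existVC {A : Over S} [IsAffine A.left] {P : AlgSp.Sp S} (hP : AlgSp.IsAlgSpace P)
    [CompactSpace (AlgSp.Points P)] (π : P ⟶ (AlgSp.yon S).obj A) (he : AlgSp.ExistVC π) :
    IsClosedMap (AlgSp.Points.map π) := by
  intro C hC
  obtain ⟨U, p, hpe, hps⟩ := hP.atlas
  obtain ⟨V, i, hV, hbe, hbs⟩ := AlgSpB.exists_affine_chart_of_compactSpace hpe hps
  let b : (AlgSp.yon S).obj V ⟶ P := (AlgSp.yon S).map i ≫ p
  let g : V ⟶ A := (AlgSp.yon S).preimage (b ≫ π)
  have hg : (AlgSp.yon S).map g = b ≫ π := Functor.map_preimage _ _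
  have hmap : ∀ v : ↥V.left, AlgSp.Points.map π (AlgSp.Points.ofPt b v) = AlgSp.Points.schemeHomeo A (g.left v) := by
    intro v
    rw [AlgSp.Points.map_ofPt, ← hg, ← Category.comp_id ((AlgSp.yon S).map g), AlgSpB.ofPt_map_comp]
    rfl
  let C' := AlgSp.Points.ofPt b ⁻¹' C
  have hC' : IsClosed C' := hC.preimage (AlgSp.Points.continuous_ofPt b)
  have e : AlgSp.Points.map π '' C = AlgSp.Points.schemeHomeo A '' (g.left '' C') := by
    ext y
    constructor
    · rintro ⟨x, hx, rfl⟩
      obtain ⟨v, rfl⟩ := AlgSpB.surjective_ofPt hbs x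
      exact ⟨g.left v, ⟨v, hx, rfl⟩, (hmap v).symm⟩
    · rintro ⟨_, ⟨v, hv, rfl⟩, rfl⟩
      exact ⟨_, hv, hmap v⟩
  rw [e]
  refine (AlgSp.Points.schemeHomeo A).isClosedMap _ (isClosed_image_of_affine g.left C' hC' ?_)
  rintro t t' htt ⟨u, hu, rfl⟩
  let L : Type u := V.left.residueField u
  let q : Spec (CommRingCat.of L) ⟶ V.left := V.left.fromSpecResidueField u
  have hq : q (IsLocalRing.closedPoint L) = u := Scheme.fromSpecResidueField_apply _ _
  obtain ⟨B, m, hm, hmt⟩ := exists_valuation_extension (q ≫ g.left) t' (by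
    rw [Scheme.Hom.comp_apply, hq]; exact htt)
  let KP : Over S := Over.mk (Spec.map (CommRingCat.ofHom (algebraMap B L)) ≫ m ≫ A.hom)
  let qO : KP ⟶ V := Over.homMk q (by
    change q ≫ V.hom = Spec.map (CommRingCat.ofHom (algebraMap B L)) ≫ m ≫ A.hom
    rw [← Category.assoc _ m, hm, Category.assoc, Over.w g])
  let sq : AlgSp.ValSq π :=
    { A := B
      K := L
      str := m ≫ A.hom
      top := (AlgSp.yon S).map qO ≫ b
      bot := (AlgSp.yon S).map (Over.homMk m rfl)
      comm := by
        rw [Category.assoc, ← hg, ← Functor.map_comp, ← Functor.map_comp]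
        congr 1
        ext1
        exact hm.symm }
  obtain ⟨E, l, hl1, hl2⟩ := he sq
  let k₀ : ↥(E.ptK'.left) := IsLocalRing.closedPoint E.K'
  let a₀ : ↥(E.ptA'.left) := IsLocalRing.closedPoint E.A'
  let η : ↥(E.ptA'.left) := Spec.map (CommRingCat.ofHom (algebraMap E.A' E.K')) k₀
  have hη : AlgSp.Points.ofPt l η = AlgSp.Points.ofPt b u := by
    have h1 := congrArg (fun x => AlgSp.Points.ofPt x k₀) hl1
    simp only [sq, AlgSpB.ofPt_map_comp] at h1
    refine h1.trans ?_
    congr 1
    change q _ = u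
    have : Spec.map (CommRingCat.ofHom E.ψ) k₀ = IsLocalRing.closedPoint L := Subsingleton.elim _ _
    exact (congrArg q this).trans hq
  have hη' : η ⤳ a₀ := IsLocalRing.specializes_closedPoint _
  have hx : AlgSp.Points.ofPt l a₀ ∈ C :=
    (hη'.map (AlgSp.Points.continuous_ofPt l)).mem_closed hC (by rw [hη]; exact hu)
  obtain ⟨v, hv⟩ := AlgSpB.surjective_ofPt hbs (AlgSp.Points.ofPt l a₀)
  refine ⟨v, by rw [Set.mem_preimage, hv]; exact hx, ?_⟩
  apply (AlgSp.Points.schemeHomeo A).injective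
  rw [← hmap, hv, AlgSp.Points.map_ofPt, hl2]
  have hloc : Spec.map (CommRingCat.ofHom E.φ) a₀ = IsLocalRing.closedPoint B :=
    (IsLocalRing.isLocalHom_iff_comap_closedPoint (E.φ)).1 E.isLocalHom
  rw [AlgSpB.ofPt_map_comp]
  refine (ofPt_yon_map (S := S) _ _).trans ?_
  congr 1
  exact (congrArg m hloc).trans hmt

/-- A quasi-compact morphism satisfying the existence criterion is universally closed. -/
theorem isUnivClosedMor_of_existVC {X Y : AlgSp.Space S} (f : X ⟶ Y) (hq : AlgSp.IsQuasiCompactMor f.hom)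
    (he : AlgSp.ExistVC f.hom) : AlgSp.IsUnivClosedMor f.hom := by
  refine (AlgSp.isUnivClosedMor_iff_affine f.hom).2 fun Z _ g P fst snd sq => ?_
  have hT : AlgSp.IsAlgSpace ((AlgSp.yon S).obj Z) := AlgSp.IsAlgSpace.yon_obj Z
  have hP : AlgSp.IsAlgSpace P := AlgSp.isAlgSpace_of_isPullback' Y.property X.property hT sq
  have hPc : AlgSp.IsQuasiCompactSp P := hq hT (AlgSp.isQuasiCompactSp_yon Z) g fst snd sq
  have := AlgSp.compactSpace_points hPc
  let X' : AlgSp.Space S := ⟨P, hP⟩
  let Z' : AlgSp.Space S := ⟨_, hT⟩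
  exact isClosedMap_of_existVC hP snd
    ((Groth.Agent.S10286.result f (ObjectProperty.homMk g : Z' ⟶ Y) (ObjectProperty.homMk fst : X' ⟶ X)
      (ObjectProperty.homMk snd : X' ⟶ Z') sq).1 he)

end Groth.Agent.AlgSpD
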