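import Groth.Agent.AlgSpD.CompositeVal
import Groth.Agent.AlgSpD.QcClosed
import Groth.Agent.AlgSpCov.LocP
import Groth.Agent.AlgSp.GaloisData
import Groth.Agent.AlgSp.Diag
import Mathlib.RingTheory.Spectrum.Prime.Topology
import Mathlib.AlgebraicGeometry.ValuativeCriterion
import Mathlib.AlgebraicGeometry.ZariskisMainTheorem

/-!
# The refined valuative criterion
-/

universe u

open CategoryTheory CategoryTheory.Limits AlgebraicGeometry Opposite
open scoped TensorProduct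

set_option backward.isDefEq.respectTransparency false
set_option autoImplicit false

namespace Groth.Agent.AlgSpD

open Groth.Agent

variable {S : Scheme.{u}}

/-- An affine chart through a point. -/
theorem exists_affine_chart_at {Z : AlgSp.Sp S} (hZ : AlgSp.IsAlgSpace Z) (x : AlgSp.Points Z) :
    ∃ (R : CommRingCat.{u}) (str : Spec R ⟶ S) (a : (AlgSp.yon S).obj (Over.mk str) ⟶ Z) (v : ↥(Spec R)),
      AlgSp.RepWith @Etale a ∧ AlgSp.Points.ofPt a v = x := by
  obtain ⟨U, a, ha, has⟩ := hZ.atlas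
  obtain ⟨u₀, rfl⟩ := AlgSpB.surjective_ofPt has x
  obtain ⟨W, hW, hu₀, -⟩ := exists_isAffineOpen_mem_and_subset (x := u₀) (U := ⊤) trivial
  let i : Over.mk (hW.fromSpec ≫ U.hom) ⟶ U := Over.homMk hW.fromSpec rfl
  obtain ⟨v, hv⟩ : u₀ ∈ Set.range hW.fromSpec := by rw [hW.range_fromSpec]; exact hu₀
  have : Etale i.left := inferInstanceAs (Etale hW.fromSpec)
  exact ⟨_, hW.fromSpec ≫ U.hom, (AlgSp.yon S).map i ≫ a, v, AlgSpB.repWith_etale_map_comp i ha,
    (AlgSpB.ofPt_map_comp i a v).trans (congrArg _ hv)⟩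

/-- Every point of an affine scheme is a specialisation of a point in a dense image of an affine scheme. -/
theorem exists_specializes_of_dense {X Y : CommRingCat.{u}} (f : Spec X ⟶ Spec Y) (h : DenseRange f)
    (y : ↥(Spec Y)) : ∃ x, f x ⤳ y := by
  obtain ⟨φ, rfl⟩ := Spec.homEquiv.symm.surjective f
  have hk : RingHom.ker φ.hom ≤ nilradical Y := PrimeSpectrum.denseRange_comap_iff_ker_le_nilRadical _ |>.1 h
  have hy : (⊥ : Ideal X).comap φ.hom ≤ (y : PrimeSpectrum Y).asIdeal :=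
    hk.trans ((nilradical_eq_sInf Y).le.trans (sInf_le (y : PrimeSpectrum Y).isPrime))
  obtain ⟨q, -, hq, hqle⟩ := (y : PrimeSpectrum Y).asIdeal.exists_ideal_comap_le_prime ⊥ hy
  exact ⟨(⟨q, hq⟩ : PrimeSpectrum X), (PrimeSpectrum.le_iff_specializes _ _).1 hqle⟩

/-- Two field extensions of a field have a common extension. -/
theorem exists_common_field {k L M : CommRingCat.{u}} (hk : IsField k) (hL : IsField L) (hM : IsField M)
    (a : k ⟶ L) (b : k ⟶ M) :
    ∃ (Ω : Type u) (_ : Field Ω) (a' : L →+* Ω) (b' : M →+* Ω), a'.comp a.hom = b'.comp b.hom := by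
  letI := hk.toField
  letI := hL.toField
  letI := hM.toField
  letI : Algebra k L := a.hom.toAlgebra
  letI : Algebra k M := b.hom.toAlgebra
  have : Nontrivial (L ⊗[k] M) := Algebra.TensorProduct.nontrivial_of_algebraMap_injective_of_flat_left k L M
    (algebraMap k M).injective
  obtain ⟨I, hI⟩ := Ideal.exists_maximal (L ⊗[k] M)
  refine ⟨_, Ideal.Quotient.field I, (Ideal.Quotient.mk I).comp Algebra.TensorProduct.includeLeftRingHom,
    (Ideal.Quotient.mk I).comp (Algebra.TensorProduct.includeRight : M →ₐ[k] L ⊗[k] M).toRingHom, ?_⟩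
  ext x
  simp only [RingHom.comp_apply]
  congr 1
  exact (Algebra.TensorProduct.includeLeft.commutes (R := k) x).trans
    (Algebra.TensorProduct.includeRight.commutes (R := k) x).symm

/-- A lift for a square from a composite valuation ring mapping to a chart. -/
theorem hasLiftExt_of_composite {R : CommRingCat.{u}} {strR : Spec R ⟶ S} {X : AlgSp.Sp S} {U : AlgSp.Sp S}
    (f : X ⟶ (AlgSp.yon S).obj (Over.mk strR)) (h : U ⟶ X)
    (hv : ∀ sq : AlgSp.ValSq f, (∃ t : (AlgSp.yon S).obj sq.ptK ⟶ U, t ≫ h = sq.top) →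
      sq.HasUniq ∧ sq.HasLiftExt)
    {V : Over S} (a : (AlgSp.yon S).obj V ⟶ X) (gv : V ⟶ Over.mk strR) (hgv : (AlgSp.yon S).map gv = a ≫ f)
    (sq : AlgSp.ValSq f) {F : Type u} [Field F] (B' : ValuationSubring F)
    (mB' : Spec (CommRingCat.of B') ⟶ V.left) (ψ₁ : sq.K →+* IsLocalRing.ResidueField B')
    (xk : Over.mk (Spec.map (CommRingCat.ofHom ψ₁) ≫ sq.ptK.hom) ⟶ V)
    (hxk : xk.left = Spec.map (CommRingCat.ofHom (IsLocalRing.residue B')) ≫ mB')
    (hxa : (AlgSp.yon S).map xk ≫ a = (AlgSp.yon S).map (Over.homMk (Spec.map (CommRingCat.ofHom ψ₁)) rfl :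
      Over.mk (Spec.map (CommRingCat.ofHom ψ₁) ≫ sq.ptK.hom) ⟶ sq.ptK) ≫ sq.top)
    (hfac : ∀ (T : Over S) (y : T ⟶ V) (θ : T.left ⟶ Spec (CommRingCat.of F)),
      y.left = θ ≫ Spec.map (CommRingCat.ofHom (algebraMap B' F)) ≫ mB' →
        ∃ t : (AlgSp.yon S).obj T ⟶ U, t ≫ h = (AlgSp.yon S).map y ≫ a) : sq.HasLiftExt := by
  obtain ⟨β, hβ⟩ := (AlgSp.yon S).map_surjective sq.bot
  obtain ⟨A₁, hA₁, hA₁l⟩ := IsLocalRing.exists_factor_valuationRing (ψ₁.comp (algebraMap sq.A sq.K))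
  let φ₁ : sq.A →+* A₁ := (ψ₁.comp (algebraMap sq.A sq.K)).codRestrict A₁.toSubring hA₁
  have hφ₁l : IsLocalHom φ₁ := hA₁l
  let kO : Over S := Over.mk (Spec.map (CommRingCat.ofHom ψ₁) ≫ sq.ptK.hom)
  let ψO₁ : kO ⟶ sq.ptK := Over.homMk (Spec.map (CommRingCat.ofHom ψ₁)) rfl
  have hxβ : xk ≫ gv = ψO₁ ≫ sq.j ≫ β := (AlgSp.yon S).map_injective (by
    rw [Functor.map_comp, hgv, ← Category.assoc, hxa, Category.assoc, sq.comm, Functor.map_comp,
      Functor.map_comp, hβ])
  let r₁ : R ⟶ CommRingCat.of B' := Spec.preimage (mB' ≫ gv.left)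
  have hr₁ : Spec.map r₁ = mB' ≫ gv.left := Spec.map_preimage _
  let r₀ : R ⟶ CommRingCat.of sq.A := Spec.preimage β.left
  have hr₀ : Spec.map r₀ = β.left := Spec.map_preimage _
  let r₂ : R ⟶ CommRingCat.of A₁ := r₀ ≫ CommRingCat.ofHom φ₁
  have hr₁₂ : ∀ x, IsLocalRing.residue B' (r₁.hom x) = (r₂.hom x : IsLocalRing.ResidueField B') := by
    have e : r₁ ≫ CommRingCat.ofHom (IsLocalRing.residue B') =
        r₀ ≫ CommRingCat.ofHom (algebraMap sq.A sq.K) ≫ CommRingCat.ofHom ψ₁ := by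
      refine Spec.map_injective ?_
      rw [Spec.map_comp, hr₁, Spec.map_comp, Spec.map_comp, hr₀, ← Category.assoc, ← hxk]
      exact congrArg (fun k => k.left) hxβ |>.trans (Category.assoc _ _ _).symm
    exact fun x => congr($e x)
  let C := compVal B' A₁
  let rc : R ⟶ CommRingCat.of C := CommRingCat.ofHom
    (((B'.subtype).comp r₁.hom).codRestrict C.toSubring fun x =>
      (mem_compVal B' A₁).2 ⟨(r₁.hom x).2, by
        show IsLocalRing.residue B' (r₁.hom x) ∈ A₁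
        rw [hr₁₂]; exact (r₂.hom x).2⟩)
  have hrcF : Spec.map (CommRingCat.ofHom (algebraMap C F)) ≫ Spec.map rc =
      Spec.map (CommRingCat.ofHom (algebraMap B' F)) ≫ mB' ≫ gv.left := by
    rw [← hr₁, ← Spec.map_comp, ← Spec.map_comp]
    rfl
  have hrcA : ∀ x, compValResidue B' A₁ (rc.hom x) = r₂.hom x := fun x => Subtype.ext (hr₁₂ x)
  let KC : Over S := Over.mk (Spec.map (CommRingCat.ofHom (algebraMap C F)) ≫ Spec.map rc ≫ strR)
  let tF : KC ⟶ V := Over.homMk (Spec.map (CommRingCat.ofHom (algebraMap B' F)) ≫ mB') (by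
    rw [← Over.w gv]
    change _ = Spec.map _ ≫ Spec.map rc ≫ strR
    rw [← Category.assoc (Spec.map _) (Spec.map rc), hrcF]
    simp only [Category.assoc]; rfl)
  let botC : Over.mk (Spec.map rc ≫ strR) ⟶ Over.mk strR := Over.homMk (Spec.map rc) rfl
  let sqC : AlgSp.ValSq f :=
    { A := C
      K := F
      str := Spec.map rc ≫ strR
      top := (AlgSp.yon S).map tF ≫ a
      bot := (AlgSp.yon S).map botC
      comm := by
        rw [Category.assoc, ← hgv, ← Functor.map_comp, ← Functor.map_comp]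
        congr 1
        ext1
        change (Spec.map _ ≫ mB') ≫ gv.left = Spec.map _ ≫ Spec.map rc
        rw [hrcF, Category.assoc] }
  obtain ⟨-, e, l, hl₁, hl₂⟩ := hv sqC (hfac _ tF (𝟙 _) (Category.id_comp _).symm)
  have : IsLocalHom e.φ := e.isLocalHom
  obtain ⟨B'', iB, hiB, iC, A'', iA, rC, hiA, hiB', hiC', hiA', hrC', hrφ⟩ :=
    exists_split_extension B' A₁ e.ψ e.φ (fun x => RingHom.congr_fun e.comm x)
  let strB : Spec (CommRingCat.of B'') ⟶ S := Spec.map (CommRingCat.ofHom iC) ≫ e.ptA'.hom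
  let KB : Over S := Over.mk (Spec.map (CommRingCat.ofHom (algebraMap B'' e.K')) ≫ strB)
  let ψK : e.ptK' ⟶ KC := Over.homMk (Spec.map (CommRingCat.ofHom e.ψ)) (by
    change Spec.map _ ≫ Spec.map _ ≫ _ = Spec.map _ ≫ Spec.map _ ≫ _
    rw [← Category.assoc (Spec.map _) (Spec.map _), ← Category.assoc (Spec.map _) (Spec.map _), ← Spec.map_comp,
      ← Spec.map_comp]
    congr 2
    exact CommRingCat.hom_ext e.comm.symm)
  let toK : KB ⟶ e.ptK' := Over.homMk (𝟙 _) (by
    change 𝟙 _ ≫ Spec.map _ ≫ e.ptA'.hom = Spec.map _ ≫ Spec.map _ ≫ e.ptA'.hom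
    rw [Category.id_comp, ← Spec.map_comp_assoc]
    congr 2
    ext x
    exact (hiC' x).symm)
  let iCO : Over.mk strB ⟶ e.ptA' := Over.homMk (Spec.map (CommRingCat.ofHom iC)) rfl
  let φC : e.ptA' ⟶ sqC.ptA := Over.homMk (Spec.map (CommRingCat.ofHom e.φ)) rfl
  have hringB : (Spec.map (CommRingCat.ofHom iC) ≫ Spec.map (CommRingCat.ofHom e.φ)) ≫ Spec.map rc =
      Spec.map (CommRingCat.ofHom iB) ≫ mB' ≫ gv.left := by
    rw [← hr₁, ← Spec.map_comp, ← Spec.map_comp, ← Spec.map_comp]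
    congr 1
    refine CommRingCat.hom_ext (RingHom.ext fun x => Subtype.ext ?_)
    change (iC (e.φ (rc.hom x)) : e.K') = iB (r₁.hom x)
    rw [hiC', hiB']
    exact RingHom.congr_fun e.comm (rc.hom x)
  let mBO : Over.mk strB ⟶ V := Over.homMk (Spec.map (CommRingCat.ofHom iB) ≫ mB') (by
    change (Spec.map (CommRingCat.ofHom iB) ≫ mB') ≫ V.hom =
      Spec.map (CommRingCat.ofHom iC) ≫ Spec.map (CommRingCat.ofHom e.φ) ≫ Spec.map rc ≫ strR
    rw [reassoc_of% hringB, ← Over.w gv]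
    simp only [Category.assoc]; rfl)
  have hsqBcomm : ((AlgSp.yon S).map (toK ≫ ψK) ≫ sqC.top) ≫ f =
      (AlgSp.yon S).map (Over.homMk (Spec.map (CommRingCat.ofHom (algebraMap B'' e.K'))) rfl : KB ⟶ Over.mk strB) ≫
        (AlgSp.yon S).map (iCO ≫ φC) ≫ sqC.bot := by
    rw [Category.assoc, sqC.comm, ← Functor.map_comp_assoc, ← Functor.map_comp_assoc]
    congr 2
    ext1
    change (𝟙 _ ≫ Spec.map _) ≫ Spec.map _ = Spec.map _ ≫ Spec.map _ ≫ Spec.map _
    rw [Category.id_comp, ← Spec.map_comp, ← Spec.map_comp, ← Spec.map_comp, ← CommRingCat.ofHom_comp,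
      ← CommRingCat.ofHom_comp, ← CommRingCat.ofHom_comp]
    congr 2
    ext x
    exact (RingHom.congr_fun e.comm x).symm.trans (hiC' _).symm
  let sqB : AlgSp.ValSq f :=
    { A := B''
      K := e.K'
      str := strB
      top := (AlgSp.yon S).map (toK ≫ ψK) ≫ sqC.top
      bot := (AlgSp.yon S).map (iCO ≫ φC) ≫ sqC.bot
      comm := hsqBcomm }
  obtain ⟨huniq, -⟩ := hv sqB (by
    obtain ⟨t, ht⟩ := hfac _ ((toK ≫ ψK) ≫ tF) (toK ≫ ψK).left rfl
    exact ⟨t, ht.trans (by rw [Functor.map_comp, Category.assoc])⟩)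
  let jC : e.ptK' ⟶ e.ptA' := Over.homMk (Spec.map (CommRingCat.ofHom (algebraMap e.A' e.K'))) rfl
  have hl₁' : (AlgSp.yon S).map sqB.j ≫ (AlgSp.yon S).map iCO ≫ l = sqB.top := by
    have e3 : sqB.j ≫ iCO = toK ≫ jC := by
      ext1
      change Spec.map _ ≫ Spec.map _ = 𝟙 _ ≫ Spec.map _
      rw [Category.id_comp, ← Spec.map_comp, ← CommRingCat.ofHom_comp]
      congr 2
      ext x
      exact hiC' x
    rw [← Functor.map_comp_assoc, e3, Functor.map_comp_assoc]
    show _ = (AlgSp.yon S).map (toK ≫ ψK) ≫ sqC.top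
    rw [Functor.map_comp_assoc]
    exact congrArg _ hl₁
  have hl₂' : ((AlgSp.yon S).map iCO ≫ l) ≫ f = sqB.bot := by
    show _ = (AlgSp.yon S).map (iCO ≫ φC) ≫ sqC.bot
    rw [Category.assoc, hl₂, Functor.map_comp_assoc]
  have hm₁ : (AlgSp.yon S).map sqB.j ≫ (AlgSp.yon S).map mBO ≫ a = sqB.top := by
    show _ = (AlgSp.yon S).map (toK ≫ ψK) ≫ (AlgSp.yon S).map tF ≫ a
    rw [← Functor.map_comp_assoc, ← Functor.map_comp_assoc]
    congr 2
    ext1
    change Spec.map _ ≫ Spec.map (CommRingCat.ofHom iB) ≫ mB' =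
      (𝟙 _ ≫ Spec.map (CommRingCat.ofHom e.ψ)) ≫ Spec.map _ ≫ mB'
    rw [Category.id_comp, ← Spec.map_comp_assoc, ← Spec.map_comp_assoc]
    congr 2
    ext x
    exact hiB' x
  have hm₂ : ((AlgSp.yon S).map mBO ≫ a) ≫ f = sqB.bot := by
    show _ = (AlgSp.yon S).map (iCO ≫ φC) ≫ (AlgSp.yon S).map botC
    rw [Category.assoc, ← hgv, ← Functor.map_comp, ← Functor.map_comp]
    congr 1
    ext1
    change (Spec.map (CommRingCat.ofHom iB) ≫ mB') ≫ gv.left =
      (Spec.map (CommRingCat.ofHom iC) ≫ Spec.map (CommRingCat.ofHom e.φ)) ≫ Spec.map rc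
    rw [hringB, Category.assoc]
  have key : (AlgSp.yon S).map iCO ≫ l = (AlgSp.yon S).map mBO ≫ a := huniq _ _ hl₁' hl₂' hm₁ hm₂
  have hcomm : (algebraMap A'' (IsLocalRing.ResidueField B'')).comp (iA.comp φ₁) =
      ((IsLocalRing.ResidueField.map iB).comp ψ₁).comp (algebraMap sq.A sq.K) :=
    RingHom.ext fun x => hiA' (φ₁ x)
  let e' : sq.DomExt := { A' := A'', K' := IsLocalRing.ResidueField B'', φ := iA.comp φ₁, ψ := (IsLocalRing.ResidueField.map iB).comp ψ₁, comm := hcomm, isLocalHom := RingHom.isLocalHom_comp _ _ }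
  have hringA : (Spec.map (CommRingCat.ofHom rC) ≫ Spec.map (CommRingCat.ofHom e.φ)) ≫ Spec.map rc =
      Spec.map (CommRingCat.ofHom (iA.comp φ₁)) ≫ β.left := by
    rw [← hr₀, ← Spec.map_comp, ← Spec.map_comp, ← Spec.map_comp]
    congr 1
    refine CommRingCat.hom_ext (RingHom.ext fun x => ?_)
    change rC (e.φ (rc.hom x)) = iA (φ₁ (r₀.hom x))
    rw [hrφ, hrcA]
    rfl
  let rCO : e'.ptA' ⟶ e.ptA' := Over.homMk (Spec.map (CommRingCat.ofHom rC)) (by
    change Spec.map (CommRingCat.ofHom rC) ≫ Spec.map (CommRingCat.ofHom e.φ) ≫ Spec.map rc ≫ strR =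
      Spec.map (CommRingCat.ofHom (iA.comp φ₁)) ≫ sq.str
    rw [reassoc_of% hringA]
    congr 1
    exact Over.w β)
  refine ⟨e', (AlgSp.yon S).map rCO ≫ l, ?_, ?_⟩
  · let resO : e'.ptK' ⟶ Over.mk strB := Over.homMk (Spec.map (CommRingCat.ofHom (IsLocalRing.residue B''))) (by
      change Spec.map _ ≫ Spec.map _ ≫ e.ptA'.hom = Spec.map _ ≫ e'.ptA'.hom
      rw [← Over.w rCO]
      change _ = Spec.map _ ≫ Spec.map (CommRingCat.ofHom rC) ≫ e.ptA'.hom
      rw [← Spec.map_comp_assoc, ← Spec.map_comp_assoc]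
      congr 2
      ext x
      exact (hrC' x).symm)
    let jK : e'.ptK' ⟶ e'.ptA' := Over.homMk (Spec.map (CommRingCat.ofHom (algebraMap e'.A' e'.K'))) rfl
    have e4 : jK ≫ rCO = resO ≫ iCO := by
      ext1
      change Spec.map _ ≫ Spec.map _ = Spec.map _ ≫ Spec.map _
      rw [← Spec.map_comp, ← Spec.map_comp]
      congr 1
      ext x
      exact hrC' x
    change (AlgSp.yon S).map jK ≫ _ = _
    rw [← Functor.map_comp_assoc, e4, Functor.map_comp_assoc, key, ← Functor.map_comp_assoc]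
    let ψO : e'.ptK' ⟶ sq.ptK := Over.homMk (Spec.map (CommRingCat.ofHom e'.ψ)) (by
      change Spec.map _ ≫ Spec.map _ ≫ _ = Spec.map _ ≫ Spec.map _ ≫ _
      rw [← Spec.map_comp_assoc, ← Spec.map_comp_assoc, ← CommRingCat.ofHom_comp, ← CommRingCat.ofHom_comp, e'.comm])
    change _ = (AlgSp.yon S).map ψO ≫ sq.top
    let zK : e'.ptK' ⟶ kO := Over.homMk (Spec.map (CommRingCat.ofHom (IsLocalRing.ResidueField.map iB))) (by
      refine Eq.trans ?_ (Over.w ψO)
      change Spec.map _ ≫ Spec.map _ ≫ sq.ptK.hom = Spec.map (CommRingCat.ofHom e'.ψ) ≫ sq.ptK.hom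
      rw [← Spec.map_comp_assoc]
      rfl)
    have e5 : resO ≫ mBO = zK ≫ xk := by
      ext1
      change Spec.map _ ≫ Spec.map (CommRingCat.ofHom iB) ≫ mB' = Spec.map _ ≫ xk.left
      rw [hxk, ← Spec.map_comp_assoc, ← Spec.map_comp_assoc]
      rfl
    have e6 : zK ≫ ψO₁ = ψO := by
      ext1
      change Spec.map _ ≫ Spec.map _ = Spec.map _
      rw [← Spec.map_comp]
      rfl
    rw [e5, Functor.map_comp_assoc, hxa, ← Functor.map_comp_assoc]
    exact congrArg (fun z => (AlgSp.yon S).map z ≫ sq.top) e6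
  · rw [Category.assoc, hl₂, ← hβ, ← Functor.map_comp_assoc]
    show (AlgSp.yon S).map _ ≫ (AlgSp.yon S).map botC = _
    rw [← Functor.map_comp, ← Functor.map_comp]
    congr 1
    ext1
    exact hringA

/-- The existence criterion from its refined version, over an affine base. -/
theorem hasLiftExt_of_dense {R : CommRingCat.{u}} {strR : Spec R ⟶ S} {X : AlgSp.Space S} {U : AlgSp.Sp S}
    (hU : AlgSp.IsAlgSpace U) (f : X.obj ⟶ (AlgSp.yon S).obj (Over.mk strR)) (h : U ⟶ X.obj)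
    (hh : AlgSp.IsQuasiCompactMor h) (hd : DenseRange (AlgSp.Points.map h))
    (hv : ∀ sq : AlgSp.ValSq f, (∃ t : (AlgSp.yon S).obj sq.ptK ⟶ U, t ≫ h = sq.top) →
      sq.HasUniq ∧ sq.HasLiftExt)
    (sq : AlgSp.ValSq f) : sq.HasLiftExt := by
  obtain ⟨β, hβ⟩ := (AlgSp.yon S).map_surjective sq.bot
  let o : ↥sq.ptK.left := IsLocalRing.closedPoint sq.K
  obtain ⟨RV, strV, a, v, ha, hav⟩ := exists_affine_chart_at X.property (AlgSp.Points.ofPt sq.top o)
  let V : Over S := Over.mk strV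
  have : IsAffine V.left := inferInstanceAs (IsAffine (Spec RV))
  let gv : V ⟶ Over.mk strR := (AlgSp.yon S).preimage (a ≫ f)
  have hgv : (AlgSp.yon S).map gv = a ≫ f := Functor.map_preimage _ _
  -- a point of the dense subspace generalising `v`
  have sqP := IsPullback.of_hasPullback h a
  have hP : AlgSp.IsAlgSpace (pullback h a) :=
    AlgSp.isAlgSpace_pullback X.property hU (AlgSp.IsAlgSpace.yon_obj _) _ _
  have := AlgSp.compactSpace_points (hh (AlgSp.IsAlgSpace.yon_obj _) (AlgSp.isQuasiCompactSp_yon V) a _ _ sqP)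
  obtain ⟨U₁, p₁, hp₁, hp₁s⟩ := hP.atlas
  obtain ⟨Q₀, iQ, hQ₀, hqe, hqs⟩ := AlgSpB.exists_affine_chart_of_compactSpace hp₁ hp₁s
  let q₀ : (AlgSp.yon S).obj Q₀ ⟶ pullback h a := (AlgSp.yon S).map iQ ≫ p₁
  let gQ₀ : Q₀ ⟶ V := (AlgSp.yon S).preimage (q₀ ≫ pullback.snd h a)
  have hgQ₀ : (AlgSp.yon S).map gQ₀ = q₀ ≫ pullback.snd h a := Functor.map_preimage _ _
  have hrange : Set.range gQ₀.left = AlgSp.Points.ofPt a ⁻¹' Set.range (AlgSp.Points.map h) := by
    have e : ∀ x, AlgSp.Points.map (pullback.snd h a) (AlgSp.Points.ofPt q₀ x) =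
        AlgSp.Points.schemeHomeo V (gQ₀.left x) := fun x => by
      rw [AlgSp.Points.map_ofPt, ← hgQ₀]; exact ofPt_yon_map _ _
    ext y
    have h1 : y ∈ AlgSp.Points.ofPt a ⁻¹' Set.range (AlgSp.Points.map h) ↔
        AlgSp.Points.schemeHomeo V y ∈ AlgSp.Points.map (pullback.snd h a) '' Set.univ := by
      rw [← Set.preimage_univ (f := AlgSp.Points.map (pullback.fst h a)), ← AlgSp.preimage_image_map sqP,
        Set.image_univ, Set.mem_preimage, Set.mem_preimage, AlgSp.Points.ofPt_eq_map_ofScheme]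
      rfl
    rw [h1]
    constructor
    · rintro ⟨x, rfl⟩
      exact ⟨AlgSp.Points.ofPt q₀ x, trivial, e x⟩
    · rintro ⟨z, -, hz⟩
      obtain ⟨x, rfl⟩ := AlgSpB.surjective_ofPt hqs z
      exact ⟨x, (AlgSp.Points.schemeHomeo V).injective ((e x).symm.trans hz)⟩
  have hdense : DenseRange gQ₀.left := by
    rw [DenseRange, hrange]
    exact hd.preimage (AlgSpB.isOpenMap_ofPt ha)
  obtain ⟨w₁, hw₁⟩ := exists_specializes_of_dense (Q₀.left.isoSpec.inv ≫ gQ₀.left)
    (hdense.comp Q₀.left.isoSpec.inv.surjective.denseRange gQ₀.left.continuous) v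
  let w : ↥Q₀.left := Q₀.left.isoSpec.inv w₁
  have hw : gQ₀.left w ⤳ v := hw₁
  let M : Type u := Q₀.left.residueField w
  let ρ₀ : Spec (CommRingCat.of M) ⟶ Q₀.left := Q₀.left.fromSpecResidueField w
  obtain ⟨B, m, hm, hmv⟩ := exists_valuation_extension (ρ₀ ≫ gQ₀.left) v (by
    rw [Scheme.Hom.comp_apply]
    exact (congrArg gQ₀.left (Q₀.left.fromSpecResidueField_apply w _)).symm ▸ hw)
  -- the residue fields
  obtain ⟨Pz, fz, sz, sqz⟩ := AlgSpB.exists_pullback_yon ha.1 sq.top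
  obtain ⟨z, hz1, hz2⟩ := (AlgSpB.ofPt_eq_ofPt_iff sqz v o).1 hav
  let L : CommRingCat.{u} := Pz.left.residueField z
  let pz : Spec L ⟶ Pz.left := Pz.left.fromSpecResidueField z
  have hpz : ∀ x, pz x = z := Scheme.fromSpecResidueField_apply _
  obtain ⟨a₁, ha₁⟩ := AlgSp.exists_fac_residueField (L := L) (pz ≫ fz.left) v (by
    rw [Scheme.Hom.comp_apply]; exact (congrArg fz.left (hpz _)).trans hz1)
  let kB : CommRingCat.{u} := CommRingCat.of (IsLocalRing.ResidueField B)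
  obtain ⟨a₂, ha₂⟩ := AlgSp.exists_fac_residueField (L := IsLocalRing.ResidueField B)
    (Spec.map (CommRingCat.ofHom (IsLocalRing.residue B)) ≫ m) v (by
    rw [Scheme.Hom.comp_apply]
    have : Spec.map (CommRingCat.ofHom (IsLocalRing.residue B)) default = IsLocalRing.closedPoint B :=
      IsLocalRing.comap_closedPoint (S := IsLocalRing.ResidueField B) (IsLocalRing.residue B) |>.symm ▸
        congrArg _ (Subsingleton.elim _ _)
    rw [this, hmv])
  obtain ⟨Ω, _, b₁, b₂, hb⟩ := exists_common_field (Semifield.toIsField _) (Semifield.toIsField L)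
    (Semifield.toIsField kB) a₁ a₂
  obtain ⟨F, _, ι, B', i, hi, hiι, j, hj⟩ := exists_valuation_enlargement B (b₂.comp (IsLocalRing.residue B))
    (by rw [RingHom.ker_comp_of_injective _ b₂.injective, IsLocalRing.ker_residue])
  let ψz : CommRingCat.of sq.K ⟶ L := Spec.preimage (pz ≫ sz.left)
  have hψz : Spec.map ψz = pz ≫ sz.left := Spec.map_preimage _
  let ψ₁ : sq.K →+* IsLocalRing.ResidueField B' := (j.comp b₁).comp ψz.hom
  let mB' : Spec (CommRingCat.of B') ⟶ V.left := Spec.map (CommRingCat.ofHom i) ≫ m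
  let kO : Over S := Over.mk (Spec.map (CommRingCat.ofHom ψ₁) ≫ sq.ptK.hom)
  let zO : kO ⟶ Pz := Over.homMk (Spec.map (CommRingCat.ofHom (j.comp b₁)) ≫ pz) (by
    rw [← Over.w sz, Category.assoc, ← Category.assoc pz, ← hψz, ← Spec.map_comp_assoc]
    rfl)
  have hres : Spec.map (CommRingCat.ofHom (IsLocalRing.residue B')) ≫ mB' =
      Spec.map (CommRingCat.ofHom (j.comp b₁)) ≫ pz ≫ fz.left := by
    rw [← Category.assoc, ← Spec.map_comp, ← CommRingCat.ofHom_comp, ← hj, ← RingHom.comp_assoc,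
      CommRingCat.ofHom_comp, Spec.map_comp, Category.assoc, ← ha₂, ← ha₁, ← Spec.map_comp_assoc,
      ← Spec.map_comp_assoc]
    congr 2
    ext x
    exact (congrArg j (RingHom.congr_fun hb x)).symm
  refine hasLiftExt_of_composite f h hv a gv hgv sq B' mB' ψ₁ (zO ≫ fz) ?_ ?_ ?_
  · rw [hres]; exact Category.assoc _ _ _
  · rw [Functor.map_comp_assoc, sqz.w, ← Functor.map_comp_assoc]
    congr 2
    ext1
    change (Spec.map _ ≫ pz) ≫ sz.left = Spec.map _
    rw [Category.assoc, ← hψz, ← Spec.map_comp]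
    rfl
  · intro T y θ hy
    have hιm : Spec.map (CommRingCat.ofHom (algebraMap B' F)) ≫ mB' =
        Spec.map (CommRingCat.ofHom ι) ≫ ρ₀ ≫ gQ₀.left := by
      rw [← hm, ← Category.assoc, ← Category.assoc, ← Spec.map_comp, ← Spec.map_comp]
      congr 2
      ext b
      exact hiι b
    rw [hιm] at hy
    let yQ : T ⟶ Q₀ := Over.homMk (θ ≫ Spec.map (CommRingCat.ofHom ι) ≫ ρ₀) (by
      rw [← Over.w y, hy, ← Over.w gQ₀]
      simp only [Category.assoc]; rfl)
    have hyQ : yQ ≫ gQ₀ = y := by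
      ext1
      change (θ ≫ Spec.map (CommRingCat.ofHom ι) ≫ ρ₀) ≫ gQ₀.left = y.left
      rw [hy]; simp only [Category.assoc]
    refine ⟨(AlgSp.yon S).map yQ ≫ q₀ ≫ pullback.fst h a, ?_⟩
    rw [← hyQ, Functor.map_comp, hgQ₀]
    simp only [Category.assoc, pullback.condition]

/-- The existence criterion from its refined version. -/
theorem existVC_of_refined {U X Y : AlgSp.Space S} (f : X ⟶ Y) (h : U ⟶ X)
    (hh : AlgSp.IsQuasiCompactMor h.hom) (hd : DenseRange (AlgSp.Points.map h.hom))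
    (hv : ∀ sq : AlgSp.ValSq f.hom, (∃ t : (AlgSp.yon S).obj sq.ptK ⟶ U.obj, t ≫ h.hom = sq.top) →
      sq.HasUniq ∧ sq.HasLiftExt) : AlgSp.ExistVC f.hom := by
  intro sq
  obtain ⟨R, strR, b, v, hb, hbv⟩ := exists_affine_chart_at Y.property
    (AlgSp.Points.ofPt sq.bot (IsLocalRing.closedPoint sq.A))
  let c : ↥sq.ptA.left := IsLocalRing.closedPoint sq.A
  obtain ⟨V', q, p, sV⟩ := AlgSpB.exists_pullback_yon hb.1 sq.bot
  have : Etale p.left := hb.2 _ _ _ sV
  obtain ⟨v', -, hv'⟩ := (AlgSpB.ofPt_eq_ofPt_iff sV v c).1 hbv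
  let η₀ : ↥sq.ptA.left := (⟨⊥, Ideal.isPrime_bot⟩ : PrimeSpectrum sq.A)
  obtain ⟨v₁, hv₁, hv₁p⟩ := Flat.generalizingMap p.left (show η₀ ⤳ p.left v' by
    rw [hv']; exact IsLocalRing.specializes_closedPoint (R := sq.A) η₀)
  let L : Type u := V'.left.residueField v₁
  let r : Spec (CommRingCat.of L) ⟶ V'.left := V'.left.fromSpecResidueField v₁
  have hr : r (IsLocalRing.closedPoint L) = v₁ := Scheme.fromSpecResidueField_apply _ _
  obtain ⟨B, m, hm, hmv⟩ := exists_valuation_extension r v' (by rw [hr]; exact hv₁)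
  let φ : CommRingCat.of sq.A ⟶ CommRingCat.of B := Spec.preimage (m ≫ p.left)
  have hφ : Spec.map φ = m ≫ p.left := Spec.map_preimage _
  have hloc : IsLocalHom φ.hom := by
    rw [IsLocalRing.isLocalHom_iff_comap_closedPoint]
    change Spec.map φ (IsLocalRing.closedPoint B) = c
    rw [hφ, Scheme.Hom.comp_apply, hmv]
    exact hv'
  have hinj : Function.Injective ((algebraMap B L).comp φ.hom) := by
    have e : Spec.map (φ ≫ CommRingCat.ofHom (algebraMap B L)) (IsLocalRing.closedPoint L) = η₀ := by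
      rw [Spec.map_comp, hφ, ← Category.assoc, hm, Scheme.Hom.comp_apply, hr]
      exact hv₁p
    have hk : (IsLocalRing.closedPoint L).asIdeal = ⊥ := IsLocalRing.maximalIdeal_eq_bot
    have h0 := congrArg PrimeSpectrum.asIdeal e
    change Ideal.comap (φ ≫ CommRingCat.ofHom (algebraMap B L)).hom (IsLocalRing.closedPoint L).asIdeal = ⊥ at h0
    rw [hk] at h0
    exact (RingHom.injective_iff_ker_eq_bot _).2 h0
  obtain ⟨φh, hφh⟩ : ∃ φh : sq.A →+* B, φh = φ.hom := ⟨φ.hom, rfl⟩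
  have hinj' : Function.Injective ((algebraMap B L).comp φh) := by rw [hφh]; exact hinj
  obtain ⟨ψ, hψ'⟩ : ∃ ψ : sq.K →+* L, ∀ x, ψ (algebraMap sq.A sq.K x) = (algebraMap B L).comp φh x :=
    ⟨IsFractionRing.lift (A := sq.A) (K := sq.K) (g := (algebraMap B L).comp φh) hinj', fun x =>
      IsFractionRing.lift_algebraMap (A := sq.A) (K := sq.K) hinj' x⟩
  have hψ : (algebraMap B L).comp φ.hom = ψ.comp (algebraMap sq.A sq.K) := by
    rw [← hφh]
    exact RingHom.ext fun x => (hψ' x).symm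
  let strB : Spec (CommRingCat.of B) ⟶ S := Spec.map φ ≫ sq.str
  let KB : Over S := Over.mk (Spec.map (CommRingCat.ofHom (algebraMap B L)) ≫ strB)
  let ψO : KB ⟶ sq.ptK := Over.homMk (Spec.map (CommRingCat.ofHom ψ)) (by
    change Spec.map _ ≫ Spec.map _ ≫ _ = Spec.map _ ≫ Spec.map φ ≫ _
    rw [← Category.assoc (Spec.map _) (Spec.map _), ← Category.assoc (Spec.map _) (Spec.map _), ← Spec.map_comp,
      ← Spec.map_comp]
    congr 2
    exact CommRingCat.hom_ext hψ.symm)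
  let mO : Over.mk strB ⟶ V' := Over.homMk m (by
    change m ≫ V'.hom = Spec.map φ ≫ sq.str
    rw [hφ, Category.assoc, ← Over.w p]; rfl)
  let φO : Over.mk strB ⟶ sq.ptA := Over.homMk (Spec.map φ) rfl
  have hmp : mO ≫ p = φO := Over.OverMorphism.ext hφ.symm
  let jB : KB ⟶ Over.mk strB := Over.homMk (Spec.map (CommRingCat.ofHom (algebraMap B L))) rfl
  have hjψ : ψO ≫ sq.j = jB ≫ φO := by
    ext1
    change Spec.map _ ≫ Spec.map _ = Spec.map _ ≫ Spec.map φ
    rw [← Spec.map_comp, ← Spec.map_comp]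
    congr 1
    exact CommRingCat.hom_ext hψ.symm
  -- the base change to the chart
  let V₀ : Over S := Over.mk strR
  let X₀ : AlgSp.Space S :=
    ⟨pullback f.hom b, AlgSp.isAlgSpace_pullback Y.property X.property (AlgSp.IsAlgSpace.yon_obj _) _ _⟩
  let g : X₀.obj ⟶ X.obj := pullback.fst f.hom b
  let f₀ : X₀.obj ⟶ (AlgSp.yon S).obj V₀ := pullback.snd f.hom b
  let U₀ : AlgSp.Sp S := pullback h.hom g
  let h₀ : U₀ ⟶ X₀.obj := pullback.snd h.hom g
  have hU₀ : AlgSp.IsAlgSpace U₀ := AlgSp.isAlgSpace_pullback X.property U.property X₀.property _ _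
  have sqU := IsPullback.of_hasPullback h.hom g
  have hh₀ : AlgSp.IsQuasiCompactMor h₀ := AlgSp.isQuasiCompactMor_baseChange sqU hh
  have hg : AlgSp.RepWith @Etale g := MorphismProperty.of_isPullback (IsPullback.of_hasPullback f.hom b).flip hb
  have hgo : IsOpenMap (AlgSp.Points.map g) := AlgSp.isOpenMap_map_of_repWith
    (AlgSp.repWith_mono (Q := @UniversallyOpen) (fun k hk => have : Etale k := hk; inferInstance) hg)
  have hd₀ : DenseRange (AlgSp.Points.map h₀) := by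
    have e : Set.range (AlgSp.Points.map h₀) = AlgSp.Points.map g ⁻¹' Set.range (AlgSp.Points.map h.hom) := by
      rw [← Set.image_univ, ← Set.image_univ, AlgSp.preimage_image_map sqU, Set.preimage_univ]
    rw [DenseRange, e]
    exact hd.preimage hgo
  have hv₀ : ∀ sq₀ : AlgSp.ValSq f₀, (∃ t : (AlgSp.yon S).obj sq₀.ptK ⟶ U₀, t ≫ h₀ = sq₀.top) →
      sq₀.HasUniq ∧ sq₀.HasLiftExt := by
    rintro sq₀ ⟨t, ht⟩
    let sq' : AlgSp.ValSq f.hom :=
      { A := sq₀.A
        K := sq₀.K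
        str := sq₀.str
        top := sq₀.top ≫ g
        bot := sq₀.bot ≫ b
        comm := by rw [Category.assoc, pullback.condition, reassoc_of% sq₀.comm] }
    obtain ⟨hu, e, l, hl₁, hl₂⟩ := hv sq' ⟨t ≫ pullback.fst h.hom g, by
      show _ = sq₀.top ≫ g
      rw [Category.assoc, pullback.condition, ← Category.assoc]; exact congrArg (· ≫ g) ht⟩
    refine ⟨fun l₁ l₂ h₁ h₁' h₂ h₂' => ?_, ?_⟩
    · apply pullback.hom_ext
      · refine hu _ _ ?_ ?_ ?_ ?_
        · show (AlgSp.yon S).map sq₀.j ≫ l₁ ≫ g = sq₀.top ≫ g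
          rw [← Category.assoc, h₁]
        · show (l₁ ≫ g) ≫ f.hom = sq₀.bot ≫ b
          rw [Category.assoc, pullback.condition, ← Category.assoc]; exact congrArg (· ≫ b) h₁'
        · show (AlgSp.yon S).map sq₀.j ≫ l₂ ≫ g = sq₀.top ≫ g
          rw [← Category.assoc, h₂]
        · show (l₂ ≫ g) ≫ f.hom = sq₀.bot ≫ b
          rw [Category.assoc, pullback.condition, ← Category.assoc]; exact congrArg (· ≫ b) h₂'
      · exact h₁'.trans h₂'.symm
    · let e₀ : sq₀.DomExt := { A' := e.A', K' := e.K', φ := e.φ, ψ := e.ψ, comm := e.comm, isLocalHom := e.isLocalHom }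
      let φe : e₀.ptA' ⟶ sq₀.ptA := Over.homMk (Spec.map (CommRingCat.ofHom e.φ)) rfl
      let lb : (AlgSp.yon S).obj e₀.ptA' ⟶ (AlgSp.yon S).obj V₀ := (AlgSp.yon S).map φe ≫ sq₀.bot
      have hlb : l ≫ f.hom = lb ≫ b := hl₂.trans (Category.assoc _ _ _).symm
      refine ⟨e₀, pullback.lift l lb hlb, ?_, pullback.lift_snd _ _ _⟩
      apply pullback.hom_ext
      · exact (Category.assoc _ _ _).trans (((congrArg (_ ≫ ·) (pullback.lift_fst _ _ _)).trans hl₁).trans
          (Category.assoc _ _ _).symm)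
      · refine ((Category.assoc _ _ _).trans (congrArg (_ ≫ ·) (pullback.lift_snd _ _ _))).trans
          (Eq.trans ?_ (Category.assoc _ _ _).symm)
        show _ = _ ≫ (sq₀.top ≫ f₀)
        rw [sq₀.comm, ← Functor.map_comp_assoc, ← Functor.map_comp_assoc]
        congr 2
        ext1
        change Spec.map _ ≫ Spec.map _ = Spec.map _ ≫ Spec.map _
        rw [← Spec.map_comp, ← Spec.map_comp]
        exact congrArg Spec.map (CommRingCat.hom_ext e₀.comm)
  have hcomm₁ : ((AlgSp.yon S).map ψO ≫ sq.top) ≫ f.hom = ((AlgSp.yon S).map jB ≫ (AlgSp.yon S).map (mO ≫ q)) ≫ b := by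
    rw [Category.assoc, sq.comm, ← Functor.map_comp_assoc, hjψ, Category.assoc, Functor.map_comp, Functor.map_comp,
      Category.assoc, Category.assoc, sV.w, ← Functor.map_comp_assoc (AlgSp.yon S) mO, hmp]
  let sq₁ : AlgSp.ValSq f₀ :=
    { A := B
      K := L
      str := strB
      top := pullback.lift _ _ hcomm₁
      bot := (AlgSp.yon S).map (mO ≫ q)
      comm := pullback.lift_snd _ _ _ }
  obtain ⟨e₁, l₁, hl₁, hl₂⟩ := hasLiftExt_of_dense hU₀ f₀ h₀ hh₀ hd₀ hv₀ sq₁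
  have : IsLocalHom e₁.φ := e₁.isLocalHom
  let e : sq.DomExt := { A' := e₁.A', K' := e₁.K', φ := e₁.φ.comp φ.hom, ψ := e₁.ψ.comp ψ, comm := (by
    rw [← RingHom.comp_assoc, e₁.comm, RingHom.comp_assoc]
    exact congrArg (RingHom.comp e₁.ψ) hψ), isLocalHom := RingHom.isLocalHom_comp _ _ }
  let i : e.ptA' ⟶ e₁.ptA' := Over.homMk (𝟙 _) (by
    change 𝟙 _ ≫ Spec.map _ ≫ Spec.map φ ≫ sq.str = Spec.map (φ ≫ CommRingCat.ofHom e₁.φ) ≫ sq.str
    rw [Category.id_comp, Spec.map_comp, Category.assoc])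
  let ik : e.ptK' ⟶ e₁.ptK' := Over.homMk (𝟙 _) (by
    change 𝟙 _ ≫ Spec.map _ ≫ Spec.map _ ≫ Spec.map φ ≫ sq.str =
      Spec.map (CommRingCat.ofHom (algebraMap e₁.A' e₁.K')) ≫ Spec.map (φ ≫ CommRingCat.ofHom e₁.φ) ≫ sq.str
    rw [Category.id_comp, Spec.map_comp, Category.assoc])
  refine ⟨e, (AlgSp.yon S).map i ≫ l₁ ≫ g, ?_, ?_⟩
  · let j₁ : e₁.ptK' ⟶ e₁.ptA' := Over.homMk (Spec.map (CommRingCat.ofHom (algebraMap e₁.A' e₁.K'))) rfl
    let ψ₁O : e₁.ptK' ⟶ sq₁.ptK := Over.homMk (Spec.map (CommRingCat.ofHom e₁.ψ)) (by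
      change Spec.map _ ≫ Spec.map _ ≫ _ = Spec.map _ ≫ Spec.map _ ≫ _
      rw [← Category.assoc (Spec.map _) (Spec.map _), ← Category.assoc (Spec.map _) (Spec.map _), ← Spec.map_comp,
        ← Spec.map_comp]
      congr 2
      exact CommRingCat.hom_ext e₁.comm.symm)
    have h1 : (AlgSp.yon S).map j₁ ≫ l₁ ≫ g = (AlgSp.yon S).map ψ₁O ≫ (AlgSp.yon S).map ψO ≫ sq.top := by
      rw [← Category.assoc]
      refine (congrArg (· ≫ g) hl₁).trans ?_
      rw [Category.assoc, pullback.lift_fst]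
    have h2 := congrArg ((AlgSp.yon S).map ik ≫ ·) h1
    simp only [← Functor.map_comp_assoc] at h2
    rw [← Functor.map_comp_assoc]
    refine Eq.trans ?_ (h2.trans ?_)
    · congr 2
    · congr 2
      ext1
      change (𝟙 _ ≫ Spec.map _) ≫ Spec.map _ = Spec.map _
      rw [Category.id_comp, ← Spec.map_comp]
      rfl
  · rw [Category.assoc, Category.assoc, pullback.condition, ← Category.assoc l₁, hl₂]
    show _ ≫ ((AlgSp.yon S).map _ ≫ (AlgSp.yon S).map (mO ≫ q)) ≫ b = _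
    rw [Category.assoc, Functor.map_comp, Category.assoc, sV.w, ← Functor.map_comp_assoc, ← Functor.map_comp_assoc,
      ← Functor.map_comp_assoc]
    congr 2
    ext1
    change 𝟙 _ ≫ (Spec.map _ ≫ m) ≫ p.left = Spec.map _
    rw [Category.id_comp, Category.assoc, ← hφ, ← Spec.map_comp]
    rfl

/-- The refined valuative criterion gives separatedness. -/
theorem isSeparatedMor_of_refined {U X Y : AlgSp.Space S} (f : X ⟶ Y) (h : U ⟶ X)
    (hh : AlgSp.IsQuasiCompactMor h.hom) (hd : DenseRange (AlgSp.Points.map h.hom))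
    (hv : ∀ sq : AlgSp.ValSq f.hom, (∃ t : (AlgSp.yon S).obj sq.ptK ⟶ U.obj, t ≫ h.hom = sq.top) →
      sq.HasUniq ∧ sq.HasLiftExt)
    (hqs : AlgSp.IsQuasiSeparatedMor f.hom) : AlgSp.IsSeparatedMor f.hom := by
  obtain ⟨hrep, hlft, hmono, -⟩ := AlgSp.diagonal_props X.property f.hom
  let P : AlgSp.Space S := ⟨pullback f.hom f.hom, AlgSp.isAlgSpace_pullback Y.property X.property X.property _ _⟩
  let Δ : X ⟶ P := ObjectProperty.homMk (pullback.diagonal f.hom)
  have hΔq : AlgSp.IsQuasiCompactMor Δ.hom := AlgSp.isQuasiCompactMor_of_repWith P.property hqs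
  have hex : AlgSp.ExistVC Δ.hom := by
    refine existVC_of_refined Δ h hh hd fun sq ht => ⟨?_, ?_⟩
    · intro l l' _ h₁' _ h₂'
      have := congrArg (· ≫ pullback.fst f.hom f.hom) (h₁'.trans h₂'.symm)
      simpa [Δ] using this
    · have hc := sq.comm
      have hc₁ := congrArg (· ≫ pullback.fst f.hom f.hom) hc
      have hc₂ := congrArg (· ≫ pullback.snd f.hom f.hom) hc
      simp only [Δ, ObjectProperty.homMk_hom, Category.assoc, pullback.diagonal_fst, pullback.diagonal_snd, Category.comp_id] at hc₁ hc₂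
      let sq' : AlgSp.ValSq f.hom :=
        { A := sq.A
          K := sq.K
          str := sq.str
          top := sq.top
          bot := sq.bot ≫ pullback.fst f.hom f.hom ≫ f.hom
          comm := (congrArg (· ≫ f.hom) hc₁).trans (by simp only [Category.assoc]) }
      obtain ⟨hu, -⟩ := hv sq' ht
      have key : sq.bot ≫ pullback.fst f.hom f.hom = sq.bot ≫ pullback.snd f.hom f.hom :=
        hu _ _ hc₁.symm (Category.assoc _ _ _) hc₂.symm ((Category.assoc _ _ _).trans (by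
          show _ = sq.bot ≫ pullback.fst f.hom f.hom ≫ f.hom
          rw [pullback.condition]))
      have : IsLocalHom (RingHom.id sq.A) := isLocalHom_id _
      let e : sq.DomExt := { A' := sq.A, K' := sq.K, φ := RingHom.id _, ψ := RingHom.id _, comm := rfl, isLocalHom := this }
      let i : e.ptA' ⟶ sq.ptA := Over.homMk (Spec.map (CommRingCat.ofHom e.φ)) rfl
      refine ⟨e, (AlgSp.yon S).map i ≫ sq.bot ≫ pullback.fst f.hom f.hom, ?_, ?_⟩
      · conv_rhs => rw [hc₁]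
        rw [← Functor.map_comp_assoc, ← Functor.map_comp_assoc]
        congr 2
        ext1
        change Spec.map _ ≫ Spec.map _ = Spec.map _ ≫ Spec.map _
        rw [← Spec.map_comp, ← Spec.map_comp]
        congr 1
      · rw [Category.assoc]
        congr 1
        apply pullback.hom_ext
        · simp [Δ]
        · simpa [Δ] using key
  have hrw : AlgSp.RepWith @UniversallyClosed (pullback.diagonal f.hom) :=
    (AlgSp.repWith_universallyClosed_iff _ hrep).2 (isUnivClosedMor_of_existVC Δ hΔq hex)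
  refine ⟨hrep, fun V W g fst snd sqW => ?_⟩
  have : LocallyOfFiniteType snd.left := hlft.2 _ _ _ sqW
  have : Mono snd.left := hmono.2 _ _ _ sqW
  have : QuasiCompact snd.left := hqs.2 _ _ _ sqW
  have : UniversallyClosed snd.left := hrw.2 _ _ _ sqW
  exact (IsClosedImmersion.iff_isProper_and_mono snd.left).2 ⟨⟨⟩, inferInstance⟩

end Groth.Agent.AlgSpD
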