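import Groth.Agent.AlgSpD.StalkExact
import Groth.Agent.AlgSpD.DecentCrit
import Mathlib.Algebra.Category.Ring.FilteredColimits
import Mathlib.Algebra.Category.Grp.Zero

/-!
# Supports of sections and of sheaves on the small etale site
-/

universe u

open CategoryTheory CategoryTheory.Limits AlgebraicGeometry Opposite TopologicalSpace

set_option backward.isDefEq.respectTransparency false

namespace Groth.Agent.AlgSpD

open Groth.Agent

instance hasColimitsOfSize_commRingCat : HasColimitsOfSize.{u, u} CommRingCat.{u + 1} :=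
  hasColimitsOfSizeShrink.{u, u, u + 1, u + 1} _

instance preservesFilteredColimits_forget_commRingCat :
    PreservesFilteredColimitsOfSize.{u, u} (forget CommRingCat.{u+1}) :=
  preservesFilteredColimitsOfSize_shrink.{u, u+1, u, u+1} _

variable {S : Scheme.{u}} {X : AlgSp.Space S}

/-- The open set where a section of an abelian sheaf vanishes. -/
def vanishLocus (F : AlgSp.AbEt X.obj) {U : AlgSp.EtOver X.obj} (σ : ↥(F.obj.obj (op U))) :
    Opens ↥U.obj.left.left :=
  ⟨⋃ (V : AlgSp.EtOver X.obj) (g : V ⟶ U) (_ : (F.obj.map g.op).hom σ = 0), Set.range g.hom.left.left,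
    isOpen_iUnion fun _ => isOpen_iUnion fun g => isOpen_iUnion fun _ =>
      have := AlgSp.EtOver.etale_left g
      g.hom.left.left.isOpenMap.isOpen_range⟩

theorem mem_vanishLocus_iff (F : AlgSp.AbEt X.obj) {U : AlgSp.EtOver X.obj} (σ : ↥(F.obj.obj (op U)))
    (q : AlgSp.FieldPt X.obj) (hq : q.IsGeometric) (l : (AlgSp.FieldPt.liftsTo q).obj U) :
    (stalkPoint X q hq).toPresheafFiber U l F.obj σ = 0 ↔
      l.1.left (IsLocalRing.closedPoint q.K) ∈ vanishLocus F σ := by
  constructor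
  · intro h
    obtain ⟨Y, f, y, hy, he⟩ := ((stalkPoint X q hq).toPresheafFiber_eq_iff' U l σ 0).1 (h.trans (map_zero _).symm)
    rw [map_zero] at he
    refine Set.mem_iUnion.2 ⟨Y, Set.mem_iUnion.2 ⟨f, Set.mem_iUnion.2 ⟨he, y.1.left (IsLocalRing.closedPoint q.K), ?_⟩⟩⟩
    exact congrArg (fun m : q.pt ⟶ U.obj.left => m.left (IsLocalRing.closedPoint q.K)) (congrArg Subtype.val hy)
  · intro h
    obtain ⟨V, g, hg, w, hw⟩ := by
      simpa only [vanishLocus, ← SetLike.mem_coe, Opens.coe_mk, Set.mem_iUnion] using h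
    obtain ⟨c, rfl⟩ := exists_lift_of_mem_range X q hq g l w hw
    refine Eq.trans ((stalkPoint X q hq).toPresheafFiber_w_apply g c F.obj σ).symm ?_
    erw [hg, map_zero]

theorem map_eq_zero_iff_subset (F : AlgSp.AbEt X.obj) {U : AlgSp.EtOver X.obj} (σ : ↥(F.obj.obj (op U)))
    {V : AlgSp.EtOver X.obj} (φ : V ⟶ U) :
    (F.obj.map φ.op).hom σ = 0 ↔ Set.range φ.hom.left.left ⊆ (vanishLocus F σ : Set ↥U.obj.left.left) := by
  constructor
  · intro h z hz
    exact Set.mem_iUnion.2 ⟨V, Set.mem_iUnion.2 ⟨φ, Set.mem_iUnion.2 ⟨h, hz⟩⟩⟩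
  · intro h
    have key : Presheaf.equalizerSieve (F := F.obj) ((F.obj.map φ.op).hom σ) 0 ∈ AlgSp.etTop X.obj V :=
      equalizerSieve_mem X F.obj _ _ fun q hq l => by
        refine Eq.trans ((stalkPoint X q hq).toPresheafFiber_w_apply φ l F.obj σ) (Eq.trans ?_ (map_zero _).symm)
        exact (mem_vanishLocus_iff F σ q hq _).2 (h ⟨l.1.left (IsLocalRing.closedPoint q.K), rfl⟩)
    exact ((isSheaf_iff_isSheaf_of_type _ _).1
      ((Presheaf.isSheaf_iff_isSheaf_forget _ _ (forget AddCommGrpCat.{u + 1})).1 F.property)).isSeparated _ key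
      |>.ext fun _ f hf => hf

theorem not_isZero_stalk_iff (F : AlgSp.AbEt X.obj) (q : AlgSp.FieldPt X.obj) (hq : q.IsGeometric) :
    ¬ IsZero (AlgSp.stalkEt q F) ↔ ∃ (U : AlgSp.EtOver X.obj) (l : (AlgSp.FieldPt.liftsTo q).obj U)
      (σ : ↥(F.obj.obj (op U))), (stalkPoint X q hq).toPresheafFiber U l F.obj σ ≠ 0 := by
  constructor
  · intro h
    by_contra hall
    push Not at hall
    refine h (@AddCommGrpCat.isZero_of_subsingleton _ ⟨fun a b => ?_⟩)
    obtain ⟨U, l, σ, rfl⟩ := (stalkPoint X q hq).toPresheafFiber_jointly_surjective (P := F.obj) a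
    obtain ⟨U', l', σ', rfl⟩ := (stalkPoint X q hq).toPresheafFiber_jointly_surjective (P := F.obj) b
    exact (hall U l σ).trans (hall U' l' σ').symm
  · rintro ⟨U, l, σ, hσ⟩ h
    exact hσ (@Subsingleton.elim _ (AddCommGrpCat.subsingleton_of_isZero h) _ _)

theorem ofPt_lift (q : AlgSp.FieldPt X.obj) {U : AlgSp.EtOver X.obj} (l : (AlgSp.FieldPt.liftsTo q).obj U) :
    AlgSp.Points.ofPt U.obj.hom (l.1.left (IsLocalRing.closedPoint q.K)) = AlgSp.Points.mk q := by
  rw [← AlgSpB.ofPt_map_comp, l.2, AlgSp.Points.ofPt_toHom]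

theorem nontrivial_stalk_iff (O' : AlgSp.EtSh X.obj CommRingCat.{u + 1}) (q : AlgSp.FieldPt X.obj) (hq : q.IsGeometric) :
    Nontrivial ↥(AlgSp.stalkEt q O') ↔ ∀ (U : AlgSp.EtOver X.obj), (AlgSp.FieldPt.liftsTo q).obj U →
      Nontrivial ↥(O'.obj.obj (op U)) := by
  let Φ := stalkPoint X q hq
  constructor
  · intro h U l
    by_contra hU
    rw [not_nontrivial_iff_subsingleton] at hU
    have e := congrArg (Φ.toPresheafFiber U l O'.obj).hom (Subsingleton.elim (1 : ↥(O'.obj.obj (op U))) 0)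
    rw [map_one, map_zero] at e
    exact one_ne_zero (α := ↥(AlgSp.stalkEt q O')) e
  · intro h
    obtain ⟨U, a, ha, has⟩ := X.property.atlas
    obtain ⟨c, hc⟩ := exists_lift_chart X q hq a ha has
    let E : AlgSp.EtOver X.obj := AlgSp.EtOver.mk a ha
    let l : (AlgSp.FieldPt.liftsTo q).obj E := ⟨c, hc⟩
    by_contra hs
    rw [not_nontrivial_iff_subsingleton] at hs
    obtain ⟨Y, f, y, -, he⟩ := (Φ.toPresheafFiber_eq_iff' (P := O'.obj) E l 1 0).1 (@Subsingleton.elim _ hs _ _)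
    rw [map_one, map_zero] at he
    exact @one_ne_zero ↥(O'.obj.obj (op Y)) _ _ (@NeZero.one _ _ (h Y y)) he

end Groth.Agent.AlgSpD
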