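import Mathlib.CategoryTheory.Sites.CoverPreserving
import Groth.Prelude.Def_AlgSpEt

/-!
# The small etale site of an algebraic space: covering sieves
-/

universe u

open CategoryTheory CategoryTheory.Limits AlgebraicGeometry Opposite

set_option backward.isDefEq.respectTransparency false

namespace Groth.Agent.AlgSpD

variable {S : Scheme.{u}}

instance etPre_hasPullbacks (X : AlgSp.Sp S) : (AlgSp.etPre X).HasPullbacks where
  hasPullbacks_of_mem _ _ := ⟨fun _ => inferInstance⟩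

/-- A sieve of the small etale site covers exactly when it is jointly surjective. -/
theorem mem_etTop_iff {X : AlgSp.Sp S} {E : AlgSp.EtOver X} (T : Sieve E) :
    T ∈ AlgSp.etTop X E ↔
      ∀ x : ↥E.obj.left.left, ∃ (E' : AlgSp.EtOver X) (g : E' ⟶ E), T g ∧ x ∈ Set.range g.hom.left.left := by
  constructor
  · intro h x
    obtain ⟨R, hR, hle⟩ := Precoverage.mem_toGrothendieck_iff_of_isStableUnderComposition.1 h
    obtain ⟨ι, Y, g, rfl⟩ := R.exists_eq_ofArrows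
    obtain ⟨i, hi⟩ := (AlgSp.ofArrows_mem_etPre_iff Y g).1 hR x
    exact ⟨Y i, g i, hle _ _ ⟨i⟩, hi⟩
  · intro h
    choose E' g hg hx using h
    refine GrothendieckTopology.superset_covering _ ?_
      (AlgSp.ofArrows_mem_etTop E' g fun x => ⟨x, hx x⟩)
    rw [Sieve.ofArrows, Sieve.generate_le_iff]
    rintro _ _ ⟨x⟩
    exact hg x

/-- Postcomposition with an etale morphism is cocontinuous. -/
theorem postcomp_isCocontinuous {X Y : AlgSp.Sp S} (f : X ⟶ Y) (hf : AlgSp.IsEtaleMor f) :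
    (AlgSp.EtOver.postcomp f hf).IsCocontinuous (AlgSp.etTop X) (AlgSp.etTop Y) := by
  refine ⟨fun {E} T hT => ?_⟩
  rw [mem_etTop_iff] at hT ⊢
  intro x
  obtain ⟨E', g, hg, hx⟩ := hT x
  have : Etale g.hom.left.left := AlgSp.EtOver.etale_left g
  refine ⟨AlgSp.EtOver.mk ((AlgSp.yon S).map g.hom.left ≫ E.obj.hom)
    ((AlgSp.RepWith _).comp_mem _ _ ((AlgSp.repWith_yon_map_iff _ _).2 ‹_›) E.property),
    AlgSp.EtOver.homMk g.hom.left rfl, ?_, hx⟩
  let l : (AlgSp.EtOver.postcomp f hf).obj (AlgSp.EtOver.mk ((AlgSp.yon S).map g.hom.left ≫ E.obj.hom)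
      ((AlgSp.RepWith _).comp_mem _ _ ((AlgSp.repWith_yon_map_iff _ _).2 ‹_›) E.property)) ⟶ E' :=
    AlgSp.EtOver.homMk (𝟙 _) (by
      change (AlgSp.yon S).map (𝟙 E'.obj.left) ≫ E'.obj.hom = ((AlgSp.yon S).map g.hom.left ≫ E.obj.hom) ≫ f
      rw [CategoryTheory.Functor.map_id, Category.id_comp, Category.assoc]
      exact (AlgSp.EtOver.w g).symm)
  have e : (AlgSp.EtOver.postcomp f hf).map (AlgSp.EtOver.homMk g.hom.left rfl) = l ≫ g :=
    AlgSp.EtOver.hom_ext _ _ (Category.id_comp _).symm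
  change T ((AlgSp.EtOver.postcomp f hf).map _)
  rw [e]
  exact T.downward_closed hg l

/-- Postcomposition with an etale morphism is continuous. -/
theorem postcomp_isContinuous {X Y : AlgSp.Sp S} (f : X ⟶ Y) (hf : AlgSp.IsEtaleMor f) :
    (AlgSp.EtOver.postcomp f hf).IsContinuous (AlgSp.etTop X) (AlgSp.etTop Y) := by
  refine Functor.isContinuous_of_coverPreserving ⟨?_⟩ ⟨fun {E T} hT => ?_⟩
  · intro ℱ Z T x hx Y₁ Y₂ W f₁ f₂ g₁ g₂ hg₁ hg₂ eq
    have : Etale f₁.hom.left.left := AlgSp.EtOver.etale_left f₁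
    let W' : AlgSp.EtOver X := AlgSp.EtOver.mk ((AlgSp.yon S).map f₁.hom.left ≫ Y₁.obj.hom)
      ((AlgSp.RepWith _).comp_mem _ _ ((AlgSp.repWith_yon_map_iff _ _).2 ‹_›) Y₁.property)
    have e₀ : f₁.hom.left ≫ g₁.hom.left = f₂.hom.left ≫ g₂.hom.left :=
      congrArg (fun k : W ⟶ _ => k.hom.left) eq
    let k₁ : W' ⟶ Y₁ := AlgSp.EtOver.homMk f₁.hom.left rfl
    let k₂ : W' ⟶ Y₂ := AlgSp.EtOver.homMk f₂.hom.left (by
      change (AlgSp.yon S).map f₂.hom.left ≫ Y₂.obj.hom = (AlgSp.yon S).map f₁.hom.left ≫ Y₁.obj.hom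
      rw [← AlgSp.EtOver.w g₂, ← AlgSp.EtOver.w g₁, ← Category.assoc, ← Category.assoc,
        ← Functor.map_comp, ← Functor.map_comp, e₀])
    let l : W ⟶ (AlgSp.EtOver.postcomp f hf).obj W' := AlgSp.EtOver.homMk (𝟙 W.obj.left) (by
      change (AlgSp.yon S).map (𝟙 W.obj.left) ≫ ((AlgSp.yon S).map f₁.hom.left ≫ Y₁.obj.hom) ≫ f = W.obj.hom
      rw [CategoryTheory.Functor.map_id, Category.id_comp, Category.assoc]
      exact AlgSp.EtOver.w f₁)
    have h₁ : f₁ = l ≫ (AlgSp.EtOver.postcomp f hf).map k₁ :=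
      AlgSp.EtOver.hom_ext _ _ (Category.id_comp _).symm
    have h₂ : f₂ = l ≫ (AlgSp.EtOver.postcomp f hf).map k₂ :=
      AlgSp.EtOver.hom_ext _ _ (Category.id_comp _).symm
    have := hx k₁ k₂ hg₁ hg₂ (AlgSp.EtOver.hom_ext _ _ e₀)
    simp only [Functor.comp_map, Functor.op_map, Quiver.Hom.unop_op] at this
    rw [h₁, h₂, op_comp, op_comp, Functor.map_comp, Functor.map_comp]
    exact congrArg (ℱ.obj.map l.op) this
  · rw [mem_etTop_iff] at hT ⊢
    intro x
    obtain ⟨E', g, hg, hx⟩ := hT x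
    exact ⟨_, _, Sieve.image_mem_functorPushforward _ T hg, hx⟩

end Groth.Agent.AlgSpD
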