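import Groth.Agent.AlgSpD.StalkPoint
import Mathlib.CategoryTheory.Abelian.GrothendieckCategory.Basic
import Mathlib.Algebra.Category.Grp.AB
import Mathlib.CategoryTheory.Abelian.GrothendieckAxioms.Types
import Mathlib.Algebra.Homology.ShortComplex.Ab
import Mathlib.CategoryTheory.Sites.LocallySurjective
import Mathlib.Algebra.Homology.ShortComplex.ExactFunctor

/-!
# Stalks at geometric points detect injectivity and surjectivity
-/

universe u

open CategoryTheory CategoryTheory.Limits AlgebraicGeometry Opposite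

set_option backward.isDefEq.respectTransparency false

namespace Groth.Agent.AlgSpD

open Groth.Agent

instance ab5_addCommGrp : AB5OfSize.{u, u} AddCommGrpCat.{u+1} := AB5OfSize_shrink.{u, u, u+1, u+1} _

instance ab5_type : AB5OfSize.{u, u} (Type (u+1)) := AB5OfSize_shrink.{u, u, u+1, u+1} _

instance preservesFilteredColimits_forget_addCommGrp :
    PreservesFilteredColimitsOfSize.{u, u} (forget AddCommGrpCat.{u+1}) :=
  preservesFilteredColimitsOfSize_shrink.{u, u+1, u, u+1} _

variable {S : Scheme.{u}} (X : AlgSp.Space S)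

section

variable {A : Type (u + 2)} [Category.{u + 1} A] [HasColimitsOfSize.{u, u} A]
  {FC : A → A → Type*} {CC : A → Type (u + 1)} [∀ (X Y : A), FunLike (FC X Y) (CC X) (CC Y)]
  [ConcreteCategory.{u + 1} A FC] [PreservesFilteredColimitsOfSize.{u, u} (forget A)]

/-- Sections with equal germs at every geometric point agree on a covering. -/
theorem equalizerSieve_mem (P : (AlgSp.EtOver X.obj)ᵒᵖ ⥤ A) {E : AlgSp.EtOver X.obj}
    (s t : ToType (P.obj (op E)))
    (h : ∀ (q : AlgSp.FieldPt X.obj) (hq : q.IsGeometric) (l : (AlgSp.FieldPt.liftsTo q).obj E),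
      (stalkPoint X q hq).toPresheafFiber E l P s = (stalkPoint X q hq).toPresheafFiber E l P t) :
    Presheaf.equalizerSieve s t ∈ AlgSp.etTop X.obj E := by
  rw [mem_etTop_iff]
  intro z
  obtain ⟨q, hq, l, hl, -⟩ := exists_geometric_lift X E z
  obtain ⟨Y, f, y, hy, he⟩ := ((stalkPoint X q hq).toPresheafFiber_eq_iff' E l s t).1 (h q hq l)
  refine ⟨Y, f, he, y.1.left (IsLocalRing.closedPoint q.K), ?_⟩
  have e := congrArg (fun m : q.pt ⟶ E.obj.left => m.left (IsLocalRing.closedPoint q.K)) (congrArg Subtype.val hy)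
  exact e.trans hl

/-- Morphisms surjective on all stalks are locally surjective. -/
theorem isLocallySurjective_of_stalk {P Q : (AlgSp.EtOver X.obj)ᵒᵖ ⥤ A} (f : P ⟶ Q)
    (h : ∀ (q : AlgSp.FieldPt X.obj) (hq : q.IsGeometric),
      Function.Surjective ((stalkPoint X q hq).presheafFiber.map f)) :
    Presheaf.IsLocallySurjective (AlgSp.etTop X.obj) f := by
  refine ⟨fun {E} s => ?_⟩
  rw [mem_etTop_iff]
  intro z
  obtain ⟨q, hq, l, hl, -⟩ := exists_geometric_lift X E z
  let Φ := stalkPoint X q hq
  obtain ⟨σ, hσ⟩ := h q hq (Φ.toPresheafFiber E l Q s)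
  obtain ⟨E', l', t, rfl⟩ := Φ.toPresheafFiber_jointly_surjective σ
  obtain ⟨k, a, b, -⟩ := etNbhd_cone_objs X q ⟨E, l⟩ ⟨E', l'⟩
  have ea : Φ.fiber.map a.val k.2 = l := a.property
  have eb : Φ.fiber.map b.val k.2 = l' := b.property
  have hk : Φ.toPresheafFiber k.1 k.2 Q (Q.map a.val.op s) =
      Φ.toPresheafFiber k.1 k.2 Q (f.app _ (P.map b.val.op t)) := by
    rw [GrothendieckTopology.Point.toPresheafFiber_w_apply, ea, NatTrans.naturality_apply,
      GrothendieckTopology.Point.toPresheafFiber_w_apply, eb, ← hσ,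
      GrothendieckTopology.Point.toPresheafFiber_naturality_apply]
  obtain ⟨Y, g, y, hy, he⟩ := (Φ.toPresheafFiber_eq_iff' k.1 k.2 _ _).1 hk
  refine ⟨Y, g ≫ a.val, ⟨P.map g.op (P.map b.val.op t), ?_⟩, y.1.left (IsLocalRing.closedPoint q.K), ?_⟩
  · rw [NatTrans.naturality_apply, ← he, op_comp, Functor.map_comp, ConcreteCategory.comp_apply]
  · have hh : Φ.fiber.map (g ≫ a.val) y = l := by rw [Functor.map_comp_apply, hy, ea]
    have e := congrArg (fun m : q.pt ⟶ E.obj.left => m.left (IsLocalRing.closedPoint q.K)) (congrArg Subtype.val hh)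
    exact e.trans hl

end

theorem stalkEtFunctor_eq_sheafFiber (A : Type (u + 2)) [Category.{u + 1} A] [HasColimitsOfSize.{u, u} A]
    (q : AlgSp.FieldPt X.obj) (hq : q.IsGeometric) [HasColimitsOfShape (AlgSp.EtNbhd q)ᵒᵖ A] :
    AlgSp.stalkEtFunctor A q = (stalkPoint X q hq).sheafFiber (A := A) := rfl

/-- Injectivity of maps of sheaves of sets is tested on stalks. -/
theorem mono_iff_stalk {F G : AlgSp.EtSh X.obj (Type (u + 1))} (a : F ⟶ G) :
    Mono a ↔ ∀ (q : AlgSp.FieldPt X.obj) (hq : q.IsGeometric),
      Function.Injective ((stalkPoint X q hq).sheafFiber.map a) := by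
  constructor
  · intro _ q hq
    exact (mono_iff_injective _).1 inferInstance
  · intro h
    have : ∀ E, Mono (a.hom.app E) := fun E => (mono_iff_injective _).2 fun s t hst => by
      have key : Presheaf.equalizerSieve (F := F.obj) s t ∈ AlgSp.etTop X.obj E.unop :=
        equalizerSieve_mem X F.obj s t fun q hq l => h q hq (by
          show (stalkPoint X q hq).presheafFiber.map a.hom _ = (stalkPoint X q hq).presheafFiber.map a.hom _
          rw [GrothendieckTopology.Point.toPresheafFiber_naturality_apply,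
            GrothendieckTopology.Point.toPresheafFiber_naturality_apply, hst])
      exact (((isSheaf_iff_isSheaf_of_type _ _).1 F.property).isSeparated _ key).ext fun _ f hf => hf
    have : Mono a.hom := NatTrans.mono_of_mono_app a.hom
    have : Mono ((sheafToPresheaf _ _).map a) := this
    exact (sheafToPresheaf (AlgSp.etTop X.obj) (Type (u + 1))).mono_of_mono_map this

/-- Surjectivity of maps of sheaves of sets is tested on stalks. -/
theorem epi_iff_stalk {F G : AlgSp.EtSh X.obj (Type (u + 1))} (a : F ⟶ G) :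
    Epi a ↔ ∀ (q : AlgSp.FieldPt X.obj) (hq : q.IsGeometric),
      Function.Surjective ((stalkPoint X q hq).sheafFiber.map a) := by
  rw [← Sheaf.isLocallySurjective_iff_epi]
  constructor
  · intro h q hq
    have : Presheaf.IsLocallySurjective (AlgSp.etTop X.obj) a.hom := h
    exact (stalkPoint X q hq).toPresheafFiber_map_surjective a.hom
  · exact fun h => isLocallySurjective_of_stalk X a.hom h

/-- Exactness of abelian sheaves is tested on stalks. -/
theorem exact_iff_stalk (C : ShortComplex (AlgSp.AbEt X.obj)) :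
    C.Exact ↔ ∀ (q : AlgSp.FieldPt X.obj) (hq : q.IsGeometric),
      (C.map ((stalkPoint X q hq).sheafFiber (A := AddCommGrpCat.{u + 1}))).Exact := by
  constructor
  · exact fun h q hq => h.map _
  · intro h
    rw [C.exact_iff_epi_toCycles]
    suffices Sheaf.IsLocallySurjective C.toCycles from
      Sheaf.epi_of_isLocallySurjective _
    refine isLocallySurjective_of_stalk X C.toCycles.hom fun q hq => ?_
    let L := (stalkPoint X q hq).sheafFiber (A := AddCommGrpCat.{u + 1})
    intro y
    have hzero : L.map C.g (L.map C.iCycles y) = 0 := by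
      rw [← ConcreteCategory.comp_apply, ← L.map_comp, C.iCycles_g, L.map_zero]
      rfl
    obtain ⟨x, hx⟩ := (ShortComplex.ab_exact_iff _).1 (h q hq) _ hzero
    refine ⟨x, (AddCommGrpCat.mono_iff_injective (L.map C.iCycles)).1 inferInstance ?_⟩
    refine Eq.trans ?_ hx
    show L.map C.iCycles (L.map C.toCycles x) = L.map C.f x
    rw [← ConcreteCategory.comp_apply, ← L.map_comp, C.toCycles_i]

end Groth.Agent.AlgSpD
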