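import Mathlib.Topology.Spectral.ConstructibleTopology
import Mathlib.Topology.Sober

/-!
# Generic points in open images of spectral spaces with finite fibres
-/

open Topology Set

namespace Groth.Agent.AlgSpD

variable {U X : Type*} [TopologicalSpace U] [TopologicalSpace X]

/-- In a spectral space countably many open sets dense in a closed set have a common point there. -/
theorem exists_mem_forall_of_dense [CompactSpace U] [QuasiSober U] [PrespectralSpace U] [QuasiSeparatedSpace U]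
    {C : Set U} (hC : IsClosed C) (hne : C.Nonempty) (D : ℕ → Set U) (hD : ∀ n, IsOpen (D n))
    (hd : ∀ n (K : Set U), IsOpen K → (K ∩ C).Nonempty → (K ∩ D n ∩ C).Nonempty) :
    ∃ c ∈ C, ∀ n, c ∈ D n := by
  classical
  let Q := {K : Set U // IsOpen K ∧ IsCompact K ∧ (K ∩ C).Nonempty}
  have step : ∀ (n : ℕ) (K : Q), ∃ K' : Q, K'.1 ⊆ K.1 ∩ D n := by
    rintro n ⟨K, hKo, -, hKne⟩
    obtain ⟨c, hc, hcC⟩ := hd n K hKo hKne
    obtain ⟨K', ⟨hK'o, hK'c⟩, hcK', hK'⟩ :=
      PrespectralSpace.isTopologicalBasis.exists_subset_of_mem_open hc (hKo.inter (hD n))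
    exact ⟨⟨K', hK'o, hK'c, c, hcK', hcC⟩, hK'⟩
  choose next hnext using step
  let K : ℕ → Q := fun n => Nat.rec ⟨univ, isOpen_univ, isCompact_univ, by simpa using hne⟩ (fun i k => next i k) n
  let e : WithConstructibleTopology U → U := fun z => z.ofTopology
  have hclosed : ∀ s : Set U, IsOpen s → IsCompact s → IsClosed (e ⁻¹' s) := fun s ho hc => by
    rw [← isOpen_compl_iff, WithConstructibleTopology.isOpen_iff]
    exact IsCompact.isOpen_constructibleTopology_of_isClosed (s := sᶜ) (by rwa [compl_compl]) ho.isClosed_compl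
  have hCc : IsClosed (e ⁻¹' C) := by
    rw [← isOpen_compl_iff, WithConstructibleTopology.isOpen_iff]
    obtain ⟨S, hS, hSe⟩ := PrespectralSpace.isTopologicalBasis.open_eq_sUnion (u := Cᶜ) hC.isOpen_compl
    show IsOpen[constructibleTopology U] Cᶜ
    rw [hSe]
    exact @isOpen_sUnion U (constructibleTopology U) S fun s hs =>
      (hS hs).2.isOpen_constructibleTopology_of_isOpen (hS hs).1
  have hK : ∀ n, IsClosed (e ⁻¹' (K n).1 ∩ e ⁻¹' C) := fun n =>
    (hclosed _ (K n).2.1 (K n).2.2.1).inter hCc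
  have hmono : ∀ n, (K (n + 1)).1 ⊆ (K n).1 ∩ D n := fun n => hnext n (K n)
  obtain ⟨z, hz⟩ := IsCompact.nonempty_iInter_of_sequence_nonempty_isCompact_isClosed
    (fun n => e ⁻¹' (K n).1 ∩ e ⁻¹' C) (fun n z hz => ⟨((hmono n) hz.1).1, hz.2⟩)
    (fun n => by
      obtain ⟨c, hc⟩ := (K n).2.2.2
      exact ⟨WithTopology.toTopology _ c, hc⟩)
    (hK 0).isCompact hK
  rw [mem_iInter] at hz
  exact ⟨e z, (hz 0).2, fun n => ((hmono n) (hz (n + 1)).1).2⟩

/-- An irreducible closed set meeting the open image of a spectral space with finite fibres has a generic point. -/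
theorem exists_closure_singleton_eq [CompactSpace U] [QuasiSober U] [PrespectralSpace U] [QuasiSeparatedSpace U]
    (a : U → X) (hc : Continuous a) (ho : IsOpenMap a) (hf : ∀ x, (a ⁻¹' {x}).Finite)
    {T : Set X} (hTi : IsIrreducible T) (hTc : IsClosed T) (hne : (T ∩ range a).Nonempty) :
    ∃ x : X, closure {x} = T := by
  classical
  let C : Set U := a ⁻¹' T
  let G : ℕ → Set X := fun n => {x | ∃ W : Fin n → Set U, (∀ i, IsOpen (W i)) ∧
    (∀ i j, i ≠ j → W i ∩ W j ∩ C = ∅) ∧ ∀ i, x ∈ a '' W i}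
  have hG : ∀ n, IsOpen (G n) := by
    intro n
    rw [isOpen_iff_forall_mem_open]
    rintro x ⟨W, h1, h2, h3⟩
    exact ⟨⋂ i, a '' W i, fun y hy => ⟨W, h1, h2, fun i => mem_iInter.1 hy i⟩,
      isOpen_iInter_of_finite fun i => ho _ (h1 i), mem_iInter.2 h3⟩
  obtain ⟨m, hm, hm'⟩ : ∃ m, (T ∩ G (m + 1)).Nonempty ∧ ¬ (T ∩ G (m + 2)).Nonempty := by
    by_contra hall
    push Not at hall
    have h1 : (T ∩ G 1).Nonempty := by
      obtain ⟨_, hx, u, rfl⟩ := hne
      exact ⟨a u, hx, fun _ => univ, fun _ => isOpen_univ, fun i j h => absurd (Subsingleton.elim i j) h,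
        fun _ => ⟨u, trivial, rfl⟩⟩
    have hGn : ∀ n, (T ∩ G (n + 1)).Nonempty := fun n => by
      induction n with
      | zero => exact h1
      | succ k ih => exact hall k ih
    obtain ⟨_, hxT, u, rfl⟩ := hne
    obtain ⟨c, hcC, hcD⟩ := exists_mem_forall_of_dense (C := C) (hTc.preimage hc) ⟨u, hxT⟩
      (fun n => a ⁻¹' G (n + 1)) (fun n => (hG _).preimage hc) (fun n K hK ⟨k, hkK, hkC⟩ => by
        obtain ⟨_, hyT, ⟨k', hk', rfl⟩, hy⟩ :=
          hTi.2 (a '' K) (G (n + 1)) (ho _ hK) (hG _) ⟨a k, hkC, k, hkK, rfl⟩ (hGn n)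
        exact ⟨k', ⟨hk', hy⟩, hyT⟩)
    obtain ⟨W, -, hd, hW⟩ := hcD ((hf (a c)).toFinset.card)
    choose z hzW hza using hW
    have hinj : Function.Injective z := fun i j e => by
      by_contra hij
      exact (eq_empty_iff_forall_notMem.1 (hd i j hij)) (z i)
        ⟨⟨hzW i, e ▸ hzW j⟩, show a (z i) ∈ T by rw [hza]; exact hcC⟩
    have := Finset.card_le_card (s := Finset.univ.image z) (t := (hf (a c)).toFinset) (fun w hw => by
      obtain ⟨i, -, rfl⟩ := Finset.mem_image.1 hw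
      exact (hf (a c)).mem_toFinset.2 (hza i))
    rw [Finset.card_image_of_injective _ hinj, Finset.card_univ, Fintype.card_fin] at this
    omega
  obtain ⟨x, hxT, W, hWo, hWd, hxW⟩ := hm
  let V' : Set X := ⋂ i, a '' W i
  have hV' : IsOpen V' := isOpen_iInter_of_finite fun i => ho _ (hWo i)
  let W0 : Set U := W 0 ∩ a ⁻¹' V'
  have hW0 : IsOpen W0 := (hWo 0).inter (hV'.preimage hc)
  obtain ⟨w, hw, hwx⟩ := hxW 0
  have hw0 : w ∈ W0 ∩ C := ⟨⟨hw, by rw [mem_preimage, hwx]; exact mem_iInter.2 hxW⟩, by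
    rw [show C = a ⁻¹' T from rfl, mem_preimage, hwx]; exact hxT⟩
  have hirr : IsIrreducible (W0 ∩ C) := ⟨⟨w, hw0⟩, by
    rintro A B hA hB ⟨s, ⟨hs0, hsC⟩, hsA⟩ ⟨t, ⟨ht0, htC⟩, htB⟩
    by_contra hAB
    rw [not_nonempty_iff_eq_empty] at hAB
    obtain ⟨y, hyT, hyA, hyB⟩ := hTi.2 (a '' (A ∩ W0)) (a '' (B ∩ W0)) (ho _ (hA.inter hW0)) (ho _ (hB.inter hW0))
      ⟨a s, hsC, s, ⟨hsA, hs0⟩, rfl⟩ ⟨a t, htC, t, ⟨htB, ht0⟩, rfl⟩
    refine hm' ⟨y, hyT, Fin.cons (A ∩ W0) (Function.update W 0 (B ∩ W0)), ?_, ?_, ?_⟩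
    · intro i
      refine Fin.cases ?_ (fun j => ?_) i
      · exact hA.inter hW0
      · rcases eq_or_ne j 0 with rfl | hj
        · simpa using hB.inter hW0
        · simpa [hj] using hWo j
    · have hAB' : ∀ p, p ∈ W0 → p ∈ C → p ∈ A → p ∈ B → False := fun p a b c d =>
        eq_empty_iff_forall_notMem.1 hAB p ⟨⟨a, b⟩, c, d⟩
      have hsub : ∀ j : Fin (m + 1), Function.update W 0 (B ∩ W0) j ⊆ W j := fun j => by
        rcases eq_or_ne j 0 with rfl | hj
        · rw [Function.update_self]; exact fun p hp => hp.2.1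
        · simp [hj]
      have key : ∀ j : Fin (m + 1), (A ∩ W0) ∩ Function.update W 0 (B ∩ W0) j ∩ C = ∅ := fun j => by
        rw [eq_empty_iff_forall_notMem]
        rintro p ⟨⟨⟨hpA, hp0⟩, hpj⟩, hpC⟩
        rcases eq_or_ne j 0 with rfl | hj
        · rw [Function.update_self] at hpj
          exact hAB' p hp0 hpC hpA hpj.1
        · exact eq_empty_iff_forall_notMem.1 (hWd 0 j hj.symm) p ⟨⟨hp0.1, hsub j hpj⟩, hpC⟩
      intro i
      refine Fin.cases ?_ (fun i' => ?_) i <;> intro j <;> refine Fin.cases ?_ (fun j' => ?_) j <;> intro hij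
      · exact absurd rfl hij
      · simpa using key j'
      · simpa [inter_comm (A ∩ W0)] using key i'
      · simp only [Fin.cons_succ]
        exact subset_eq_empty (inter_subset_inter_left _ (inter_subset_inter (hsub i') (hsub j')))
          (hWd i' j' fun e => hij (congrArg Fin.succ e))
    · intro i
      refine Fin.cases ?_ (fun j => ?_) i
      · simpa using hyA
      · rcases eq_or_ne j 0 with rfl | hj
        · simpa using hyB
        · obtain ⟨q, ⟨-, hq0⟩, hq⟩ := hyA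
          rw [Fin.cons_succ, Function.update_of_ne hj]
          exact mem_iInter.1 (hq ▸ hq0.2 : y ∈ V') j⟩
  obtain ⟨η, hη⟩ := QuasiSober.sober hirr.closure isClosed_closure
  have hηT : a η ∈ T := (closure_minimal inter_subset_right (hTc.preimage hc) hη.mem : η ∈ C)
  refine ⟨a η, subset_antisymm (closure_minimal (singleton_subset_iff.2 hηT) hTc) ?_⟩
  refine (subset_closure_inter_of_isPreirreducible_of_isOpen hTi.2 (ho _ hW0) ⟨a w, hw0.2, w, hw0.1, rfl⟩).trans
    (closure_minimal ?_ isClosed_closure)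
  rintro _ ⟨hvT, v, hv, rfl⟩
  exact specializes_iff_mem_closure.1
    ((specializes_iff_mem_closure.2 (hη.def.symm ▸ subset_closure ⟨hv, hvT⟩)).map hc)

end Groth.Agent.AlgSpD
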