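import Groth.Agent.AlgSpD.DecentCrit
import Groth.Agent.AlgSpD.ReducedEtale
import Groth.Agent.AlgSpB.FieldPoints
import Groth.Agent.S10341
import Groth.Agent.AlgSp.InfGlue

/-!
# Reduced spaces mapping to a point
-/

universe u

open CategoryTheory CategoryTheory.Limits AlgebraicGeometry Opposite

set_option backward.isDefEq.respectTransparency false

namespace Groth.Agent.AlgSpD

open Groth.Agent

/-- A morphism from a reduced affine scheme to an affine scheme with one point as image factors through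
the residue field of that point. -/
theorem exists_factor_fromSpecResidueField {O W : Scheme.{u}} [IsAffine O] [IsAffine W] [IsReduced O]
    (g : O ⟶ W) (v : ↥W) (h : ∀ o, g o = v) :
    ∃ g' : O ⟶ Spec (W.residueField v), g' ≫ W.fromSpecResidueField v = g := by
  have hunit : ∀ b : Γ(W, ⊤), v ∈ W.basicOpen b → IsUnit (g.appTop.hom b) := fun b hb => by
    refine RingedSpace.isUnit_of_isUnit_germ _ _ _ fun z hz => (Scheme.mem_basicOpen _ _ z hz).1 ?_
    rw [← Scheme.preimage_basicOpen_top]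
    exact show g z ∈ W.basicOpen b by rw [h]; exact hb
  have hzero : ∀ b : Γ(W, ⊤), v ∉ W.basicOpen b → g.appTop.hom b = 0 := fun b hb => by
    rw [← basicOpen_eq_bot_iff, ← Scheme.preimage_basicOpen_top, ← SetLike.coe_set_eq]
    exact Set.eq_empty_of_forall_notMem fun z hz => hb (h z ▸ hz)
  let := TopCat.Presheaf.algebra_section_stalk W.presheaf (⟨v, trivial⟩ : (⊤ : W.Opens))
  have := (isAffineOpen_top W).isLocalization_stalk ⟨v, trivial⟩
  let p := ((isAffineOpen_top W).primeIdealOf ⟨v, trivial⟩).asIdeal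
  have hmem : ∀ b : Γ(W, ⊤), b ∈ p.primeCompl → v ∈ W.basicOpen b := fun b hb =>
    (Scheme.mem_basicOpen_top _ _ _).2 (IsLocalization.map_units _ (⟨b, hb⟩ : p.primeCompl))
  let ψ₀ : W.presheaf.stalk v →+* Γ(O, ⊤) :=
    IsLocalization.lift (M := p.primeCompl) fun b : p.primeCompl => hunit b (hmem b b.2)
  have hψ₀ : ∀ b, ψ₀ ((W.presheaf.germ ⊤ v trivial).hom b) = g.appTop.hom b := fun b =>
    IsLocalization.lift_eq _ b
  have hker : ∀ z ∈ IsLocalRing.maximalIdeal (W.presheaf.stalk v), ψ₀ z = 0 := fun z hz => by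
    obtain ⟨⟨b, m⟩, hbm⟩ := IsLocalization.mk'_surjective p.primeCompl z
    obtain rfl : IsLocalization.mk' _ b m = z := hbm
    have hb : v ∉ W.basicOpen b := fun hb => hz <| by
      have := (Scheme.mem_basicOpen_top _ _ _).1 hb
      rw [show (W.presheaf.germ ⊤ v trivial).hom b = _ from
        (IsLocalization.mk'_spec (W.presheaf.stalk v) b m).symm] at this
      exact isUnit_of_mul_isUnit_left this
    exact (IsLocalization.lift_mk'_spec _ _ _ _).2 ((hzero b hb).trans (mul_zero _).symm)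
  let ψ : IsLocalRing.ResidueField (W.presheaf.stalk v) →+* Γ(O, ⊤) := Ideal.Quotient.lift _ ψ₀ hker
  refine ⟨O.isoSpec.hom ≫ Spec.map (CommRingCat.ofHom ψ), ?_⟩
  have e1 : W.presheaf.germ ⊤ v trivial ≫ W.residue v ≫ CommRingCat.ofHom ψ = g.appTop :=
    CommRingCat.hom_ext (RingHom.ext hψ₀)
  rw [Scheme.fromSpecResidueField, ← (isAffineOpen_top W).fromSpecStalk_eq_fromSpecStalk (x := v) trivial,
    IsAffineOpen.fromSpecStalk, IsAffineOpen.fromSpec_top, Category.assoc, ← Spec.map_comp_assoc,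
    ← Spec.map_comp_assoc]
  change O.isoSpec.hom ≫ Spec.map (W.presheaf.germ ⊤ v trivial ≫ W.residue v ≫ CommRingCat.ofHom ψ) ≫ _ = g
  rw [e1, ← Category.assoc, Scheme.isoSpec_hom_naturality, Category.assoc, Iso.hom_inv_id, Category.comp_id]

variable {S : Scheme.{u}}

/-- A morphism from a reduced scheme to a space hitting one quasi-compact monomorphic point factors through it. -/
theorem exists_factor_of_mono_reduced (X : AlgSp.Space S) (p : AlgSp.FieldPt X.obj) (hm : Mono p.toHom)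
    (hq : AlgSp.RepWith @QuasiCompact p.toHom) {U : Over S} [IsReduced U.left]
    (c : (AlgSp.yon S).obj U ⟶ X.obj) (hc : ∀ u, AlgSp.Points.ofPt c u = AlgSp.Points.mk p) :
    ∃ g : (AlgSp.yon S).obj U ⟶ (AlgSp.yon S).obj p.pt, g ≫ p.toHom = c := by
  obtain ⟨V, b, hb, hbs⟩ := X.property.atlas
  have hfin : ∀ (V' : Over S) (b' : (AlgSp.yon S).obj V' ⟶ X.obj), IsAffine V'.left →
      AlgSp.RepWith @Etale b' → (AlgSp.Points.ofPt b' ⁻¹' {AlgSp.Points.mk p}).Finite := fun V' b' _ hb' => by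
    have : CompactSpace ↥V'.left := inferInstance
    exact finite_preimage_of_qc_point p hq b' hb'
  have hnbhd : ∀ v : ↥V.left, AlgSp.Points.ofPt b v = AlgSp.Points.mk p → ∃ W : V.left.Opens,
      IsAffineOpen W ∧ v ∈ W ∧ ∀ w ∈ W, AlgSp.Points.ofPt b w = AlgSp.Points.mk p → w = v := by
    intro v hv
    obtain ⟨W₀, hW₀, hvW₀, -⟩ := exists_isAffineOpen_mem_and_subset (x := v) (U := ⊤) trivial
    let E : Set ↥V.left := (AlgSp.Points.ofPt b ⁻¹' {AlgSp.Points.mk p} ∩ (W₀ : Set ↥V.left)) \ {v}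
    have hE : E.Finite := (finite_preimage_inter b hb _ hfin W₀ hW₀).sdiff
    have hcl : v ∉ ⋃ w ∈ E, closure {w} := fun h => by
      obtain ⟨w, hw, hvw⟩ := Set.mem_iUnion₂.1 h
      exact hw.2 (S10341.result X _ hfin b hb v w hv hw.1.1 (specializes_iff_mem_closure.2 hvw)).symm
    obtain ⟨W, hW, hvW, hWsub⟩ := exists_isAffineOpen_mem_and_subset (x := v)
      (U := W₀ ⊓ ⟨(⋃ w ∈ E, closure {w})ᶜ, (hE.isClosed_biUnion fun _ _ => isClosed_closure).isOpen_compl⟩)
      ⟨hvW₀, hcl⟩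
    refine ⟨W, hW, hvW, fun w hwW hw => ?_⟩
    by_contra hne
    exact (hWsub hwW).2 (Set.mem_iUnion₂.2 ⟨w, ⟨⟨hw, (hWsub hwW).1⟩, hne⟩, subset_closure rfl⟩)
  obtain ⟨T, t₁, t₂, sqT⟩ := AlgSpB.exists_pullback_yon hb.1 c
  have : Etale t₂.left := hb.2 _ _ _ sqT
  have : Surjective t₂.left := hbs.2 _ _ _ sqT
  have hT : ∀ t, AlgSp.Points.ofPt b (t₁.left t) = AlgSp.Points.mk p := fun t =>
    ((AlgSpB.ofPt_eq_ofPt_iff sqT (t₁.left t) (t₂.left t)).2 ⟨t, rfl, rfl⟩).trans (hc _)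
  have hTred : IsReduced T.left := by
    have : ∀ t : ↥T.left, _root_.IsReduced ↥(T.left.presheaf.stalk t) := fun t =>
      (isReduced_stalk_iff t₂.left t).2 inferInstance
    exact isReduced_of_isReduced_stalk T.left
  choose W hW hvW hWuniq using fun t : ↥T.left => hnbhd (t₁.left t) (hT t)
  choose O hO htO hOW using fun t : ↥T.left =>
    exists_isAffineOpen_mem_and_subset (x := t) (U := t₁.left ⁻¹ᵁ W t) (hvW t)
  let OO : ↥T.left → Over S := fun t => Over.mk ((O t).ι ≫ T.hom)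
  let j : ∀ t, OO t ⟶ T := fun t => Over.homMk (O t).ι rfl
  have hloc : ∀ t, ∃ g : (AlgSp.yon S).obj (OO t) ⟶ (AlgSp.yon S).obj p.pt,
      g ≫ p.toHom = (AlgSp.yon S).map (j t) ≫ (AlgSp.yon S).map t₁ ≫ b := by
    intro t
    let W' : Over S := Over.mk ((W t).ι ≫ V.hom)
    let k : W' ⟶ V := Over.homMk (W t).ι rfl
    have : IsAffine W'.left := hW t
    have : IsAffine (O t).toScheme := hO t
    let v : ↥W'.left := ⟨t₁.left t, hvW t⟩
    let g₁ : (O t).toScheme ⟶ W'.left := t₁.left.resLE (W t) (O t) (hOW t)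
    have hg₁ : g₁ ≫ (W t).ι = (O t).ι ≫ t₁.left := Scheme.Hom.resLE_comp_ι _ _
    obtain ⟨g', hg'⟩ := exists_factor_fromSpecResidueField g₁ v fun o => by
      refine Subtype.ext ?_
      have e : (g₁ o).1 = t₁.left o.1 := congrArg (fun m : (O t).toScheme ⟶ _ => m o) hg₁
      refine hWuniq t _ (e ▸ (hOW t o.2)) ?_
      rw [e]; exact hT _
    let q := AlgSp.FieldPt.ofPt ((AlgSp.yon S).map k ≫ b) v
    obtain ⟨d, hd⟩ := exists_factor_of_mono X p q hm
      ((ofPt_restrict b (W t) v).trans (hT t))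
    have hw' : g' ≫ q.pt.hom = (OO t).hom := by
      change g' ≫ W'.left.fromSpecResidueField v ≫ W'.hom = (O t).ι ≫ T.hom
      rw [reassoc_of% hg']
      change g₁ ≫ (W t).ι ≫ V.hom = _
      rw [reassoc_of% hg₁, Over.w t₁]
    refine ⟨(AlgSp.yon S).map ((Over.homMk g' hw' : OO t ⟶ q.pt) ≫ d), ?_⟩
    rw [Functor.map_comp, Category.assoc, hd, AlgSp.FieldPt.toHom_ofPt]
    simp only [← Category.assoc, ← Functor.map_comp]
    congr 2
    ext
    change g' ≫ W'.left.fromSpecResidueField v ≫ (W t).ι = (O t).ι ≫ t₁.left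
    rw [reassoc_of% hg', hg₁]
  choose gl hgl using hloc
  have hm' := hm
  obtain ⟨g, hg⟩ := Groth.Agent.AlgSp.InfGlue.exists_glue (F := (AlgSp.yon S).obj p.pt) (fun t => j t ≫ t₂)
    (fun t => (inferInstance : Etale ((O t).ι ≫ t₂.left)))
    (fun u => by
      obtain ⟨t, rfl⟩ := t₂.left.surjective u
      exact ⟨t, ⟨t, htO t⟩, rfl⟩) gl
    (fun i k Z a b' w => by
      rw [← cancel_mono p.toHom, Category.assoc, Category.assoc, hgl, hgl, sqT.w]
      simp only [← Category.assoc, ← Functor.map_comp] at w ⊢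
      simp only [Category.assoc] at w ⊢
      rw [w])
  refine ⟨g, Groth.Agent.AlgSp.InfGlue.hom_ext_cover (fun t => j t ≫ t₂) (fun t => (inferInstance : Etale ((O t).ι ≫ t₂.left)))
    (fun u => by
      obtain ⟨t, rfl⟩ := t₂.left.surjective u
      exact ⟨t, ⟨t, htO t⟩, rfl⟩) _ _ fun t => ?_⟩
  rw [← Category.assoc, hg, hgl, sqT.w, ← Category.assoc, ← Functor.map_comp]

end Groth.Agent.AlgSpD
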