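import Groth.Agent.AlgSpQC.Conv
import Groth.Agent.AlgSpD.EtSite
import Groth.Agent.AlgSpB.Open
import Groth.Prelude.Def_AlgSpOX2
import Mathlib.Algebra.Category.ModuleCat.Sheaf.PullbackContinuous

/-!
# Modules along representable etale morphisms: restriction and inverse image
-/

universe u

open CategoryTheory CategoryTheory.Limits AlgebraicGeometry Opposite

set_option backward.isDefEq.respectTransparency false
set_option backward.isDefEq.respectTransparency.types false
set_option autoImplicit false
set_option maxHeartbeats 800000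

namespace Groth.Agent.AlgSpD.EtaleRes

open _root_.AlgSp
open Groth.Agent.AlgSpQC

variable {S : Scheme.{u}} {U X : Sp S} {j : U ⟶ X} (hr : Representable j) (he : IsEtaleMor j)

/-- Objects of the site of the source as objects of the site. -/
noncomputable abbrev post : EtOver U ⥤ EtOver X := EtOver.postcomp j he

instance continuous_post : (post he).IsContinuous (etTop U) (etTop X) :=
  Groth.Agent.AlgSpD.postcomp_isContinuous _ _

/-- The structure sheaf restricts to the structure sheaf. -/
noncomputable def resRingHom :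
    OEtRing U ⟶ ((post he).sheafPushforwardContinuous RingCat.{u + 1} (etTop U) (etTop X)).obj (OEtRing X) :=
  ObjectProperty.homMk
    { app := fun E => 𝟙 ((OEtRing U).obj.obj E)
      naturality := fun E E' g => (Category.comp_id _).trans (Category.id_comp _).symm }

/-- Restriction of modules to the open subspace. -/
noncomputable abbrev Res : ModEt X ⥤ ModEt U := SheafOfModules.pushforward.{u + 1} (resRingHom he)

/-- The unit of the adjunction. -/
noncomputable def unitLeft (E : EtOver U) : E.obj.left ⟶ hr.pullback ((post he).obj E).obj.hom :=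
  hr.lift E.obj.hom (𝟙 E.obj.left) (by
    change E.obj.hom ≫ j = (yon S).map (𝟙 E.obj.left) ≫ E.obj.hom ≫ j
    exact ((congrArg (· ≫ E.obj.hom ≫ j) (CategoryTheory.Functor.map_id (yon S) E.obj.left)).trans
      (Category.id_comp _)).symm)

theorem unitLeft_fst (E : EtOver U) :
    (yon S).map (unitLeft hr he E) ≫ hr.fst ((post he).obj E).obj.hom = E.obj.hom := hr.lift_fst _ _ _

theorem unitLeft_snd (E : EtOver U) : unitLeft hr he E ≫ hr.snd ((post he).obj E).obj.hom = 𝟙 E.obj.left :=
  hr.lift_snd _ _ _

/-- The unit of the adjunction. -/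
noncomputable def unitApp (E : EtOver U) : E ⟶ (EtOver.bc hr).obj ((post he).obj E) :=
  EtOver.homMk (unitLeft hr he E) (unitLeft_fst hr he E)

/-- The counit of the adjunction. -/
noncomputable def counitApp (E : EtOver X) : (post he).obj ((EtOver.bc hr).obj E) ⟶ E :=
  EtOver.homMk (hr.snd E.obj.hom) (hr.isPullback E.obj.hom).w.symm

theorem unit_natural {E E' : EtOver U} (g : E ⟶ E') :
    g ≫ unitApp hr he E' = unitApp hr he E ≫ (EtOver.bc hr).map ((post he).map g) := by
  refine EtOver.hom_ext _ _ (hr.hom_ext ?_ ?_)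
  · change (yon S).map (g.hom.left ≫ unitLeft hr he E') ≫ hr.fst ((post he).obj E').obj.hom =
      (yon S).map (unitLeft hr he E ≫ (EtOver.bcMap hr ((post he).map g)).hom.left) ≫ hr.fst ((post he).obj E').obj.hom
    refine Eq.trans ?_ (((congrArg (· ≫ _) ((yon S).map_comp _ _)).trans (Category.assoc _ _ _)).trans
      ((congrArg (_ ≫ ·) (EtOver.map_bcMap_fst hr ((post he).map g))).trans (unitLeft_fst hr he E))).symm
    exact ((congrArg (· ≫ _) ((yon S).map_comp _ _)).trans (Category.assoc _ _ _)).trans
      ((congrArg (_ ≫ ·) (unitLeft_fst hr he E')).trans (EtOver.w g))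
  · change (g.hom.left ≫ unitLeft hr he E') ≫ hr.snd ((post he).obj E').obj.hom =
      (unitLeft hr he E ≫ (EtOver.bcMap hr ((post he).map g)).hom.left) ≫ hr.snd ((post he).obj E').obj.hom
    refine Eq.trans ?_ ((Category.assoc _ _ _).trans
      ((congrArg (_ ≫ ·) (EtOver.bcMap_snd hr ((post he).map g))).trans
        ((Category.assoc _ _ _).symm.trans (congrArg (· ≫ g.hom.left) (unitLeft_snd hr he E))))).symm
    exact (Category.assoc _ _ _).trans ((congrArg (_ ≫ ·) (unitLeft_snd hr he E')).trans
      ((Category.comp_id _).trans (Category.id_comp _).symm))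

theorem left_tri (E : EtOver U) : (post he).map (unitApp hr he E) ≫ counitApp hr he ((post he).obj E) = 𝟙 _ :=
  EtOver.hom_ext _ _ (unitLeft_snd hr he E)

theorem right_tri (E : EtOver X) :
    unitApp hr he ((EtOver.bc hr).obj E) ≫ (EtOver.bc hr).map (counitApp hr he E) = 𝟙 _ := by
  refine EtOver.hom_ext _ _ (hr.hom_ext ?_ ?_)
  · change (yon S).map (unitLeft hr he _ ≫ (EtOver.bcMap hr (counitApp hr he E)).hom.left) ≫ hr.fst E.obj.hom =
      (yon S).map (𝟙 _) ≫ hr.fst E.obj.hom
    refine (((congrArg (· ≫ _) ((yon S).map_comp _ _)).trans (Category.assoc _ _ _)).trans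
      ((congrArg (_ ≫ ·) (EtOver.map_bcMap_fst hr (counitApp hr he E))).trans (unitLeft_fst hr he _))).trans ?_
    exact ((congrArg (· ≫ _) ((yon S).map_id _)).trans (Category.id_comp _)).symm
  · change (unitLeft hr he _ ≫ (EtOver.bcMap hr (counitApp hr he E)).hom.left) ≫ hr.snd E.obj.hom =
      𝟙 _ ≫ hr.snd E.obj.hom
    exact (Category.assoc _ _ _).trans ((congrArg (_ ≫ ·) (EtOver.bcMap_snd hr (counitApp hr he E))).trans
      ((Category.assoc _ _ _).symm.trans (congrArg (· ≫ hr.snd E.obj.hom) (unitLeft_snd hr he _))))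

/-- Base change is right adjoint to postcomposition. -/
noncomputable def postAdj : post he ⊣ EtOver.bc hr :=
  Adjunction.mkOfUnitCounit
    { unit := { app := unitApp hr he, naturality := fun _ _ g => unit_natural hr he g }
      counit := { app := counitApp hr he, naturality := fun E E' g => EtOver.hom_ext _ _ (EtOver.bcMap_snd hr g) }
      left_triangle := by ext E : 2; exact (congrArg (_ ≫ ·) (Category.id_comp _)).trans (left_tri hr he E)
      right_triangle := by ext E : 2; exact (congrArg (_ ≫ ·) (Category.id_comp _)).trans (right_tri hr he E) }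

/-- Restriction is left adjoint to direct image. -/
noncomputable def resAdj : Res he ⊣ pushModEt hr :=
  SheafOfModules.pushforwardPushforwardAdj (postAdj hr he) (resRingHom he) (bcRingHom hr)
    (by
      ext E : 2
      exact (Category.comp_id _).symm)
    (by
      ext E : 2
      change 𝟙 _ ≫ (BigSite.ORing Scheme.etalePrecoverage S).obj.map (hr.snd ((post he).obj E.unop).obj.hom).op ≫
        (BigSite.ORing Scheme.etalePrecoverage S).obj.map (unitLeft hr he E.unop).op = 𝟙 _
      exact (Category.id_comp _).trans (((BigSite.ORing Scheme.etalePrecoverage S).obj.map_comp _ _).symm.trans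
        ((congrArg (BigSite.ORing Scheme.etalePrecoverage S).obj.map
          (op_comp.symm.trans (congrArg Quiver.Hom.op (unitLeft_snd hr he E.unop)))).trans
          ((BigSite.ORing Scheme.etalePrecoverage S).obj.map_id _))))

/-- The inverse image on an open subspace is restriction. -/
noncomputable def pullIso [(SheafOfModules.pushforward.{u + 1} (bcRingHom hr)).IsRightAdjoint] :
    pullModEt hr ≅ Res he :=
  (pullPushAdjModEt hr).leftAdjointUniq (resAdj hr he)

open Groth.Agent.AlgSpQC

/-- Restriction has the same sections, so it is cartesian where the module is. -/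
theorem bc_res {M : ModEt X} {E W : EtOver U} (g : W ⟶ E) :
    BC ((Res he).obj M) g ↔ BC M ((post he).map g) := Iff.rfl

/-- Restrictions of quasi-coherent modules are quasi-coherent. -/
theorem isQuasicoherent_res (M : ModEt X) [M.IsQuasicoherent] : ((Res he).obj M).IsQuasicoherent :=
  isQuasicoherent_of_bc fun E W g hE hW => by
    have : IsAffine ((post he).obj E).obj.left.left := hE
    have : IsAffine ((post he).obj W).obj.left.left := hW
    exact (bc_res he g).2 (bc_of_isQuasicoherent _)

/-- A module with quasi-coherent restriction is cartesian over restricted affine objects. -/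
theorem bc_of_res {M : ModEt X} [((Res he).obj M).IsQuasicoherent] (E : EtOver U) [IsAffine E.obj.left.left]
    (W : EtOver X) (hW : IsAffine W.obj.left.left) (g : W ⟶ (post he).obj E) : BC M g := by
  obtain ⟨⟨Wl, ⟨⟨⟩⟩, Wh⟩, hWe⟩ := W
  obtain ⟨k, hk, rfl⟩ : ∃ (k : Wl ⟶ E.obj.left) (hk : (yon S).map k ≫ E.obj.hom ≫ j = Wh),
      g = EtOver.homMk k hk := ⟨g.hom.left, EtOver.w g, EtOver.hom_ext _ _ rfl⟩
  subst hk
  have : Etale k.left := EtOver.etale_left (EtOver.homMk (E := ⟨⟨Wl, ⟨⟨⟩⟩, _⟩, hWe⟩) (E' := (post he).obj E) k rfl)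
  let W' : EtOver U := EtOver.mk ((yon S).map k ≫ E.obj.hom)
    ((RepWith _).comp_mem _ _ ((repWith_yon_map_iff _ _).2 this) E.property)
  let g' : W' ⟶ E := EtOver.homMk k rfl
  have : IsAffine W'.obj.left.left := hW
  exact (bc_res he g').1 (bc_of_isQuasicoherent g')

/-- Quasi-coherence may be checked after restriction along a surjective representable etale morphism. -/
theorem isQuasicoherent_of_res {T : Over S} {X : Sp S} {p : (yon S).obj T ⟶ X} (hp : RepWith @Etale p)
    (hs : RepWith @Surjective p) (he : IsEtaleMor p) (M : ModEt X) [((Res he).obj M).IsQuasicoherent] :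
    M.IsQuasicoherent := by
  refine isQuasicoherent_of_bc fun E W g hE hW => ?_
  obtain ⟨R, r₁, r₂, sq⟩ := Groth.Agent.AlgSpB.exists_pullback_yon E.property.1 p
  have hr₁ : Etale r₁.left := hp.2 _ _ _ sq.flip
  have hr₂ : Etale r₂.left := E.property.2 _ _ _ sq
  have hr₁s : Surjective r₁.left := hs.2 _ _ _ sq.flip
  choose O hO hxO _ using fun x : ↥R.left => exists_isAffineOpen_mem_and_subset (x := x) (U := ⊤) trivial
  obtain ⟨t, ht⟩ := (isCompact_univ (X := ↥E.obj.left.left)).elim_finite_subcover
    (fun x => r₁.left '' (O x : Set ↥R.left)) (fun x => r₁.left.isOpenMap _ (O x).2) (fun e _ => by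
      obtain ⟨x, rfl⟩ := hr₁s.surj e
      exact Set.mem_iUnion.2 ⟨x, x, hxO x, rfl⟩)
  let o : ∀ x : ↥R.left, Over.mk ((O x).ι ≫ R.hom) ⟶ R := fun x => Over.homMk (O x).ι rfl
  let V : ∀ x : ↥R.left, EtOver ((yon S).obj T) := fun x => EtOver.mk ((yon S).map (o x ≫ r₂))
    ((repWith_yon_map_iff _ _).2 (inferInstanceAs (Etale ((O x).ι ≫ r₂.left))))
  let f : ∀ x : ↥R.left, (post he).obj (V x) ⟶ E := fun x => EtOver.homMk (o x ≫ r₁) (by
    change (yon S).map (o x ≫ r₁) ≫ E.obj.hom = (yon S).map (o x ≫ r₂) ≫ p
    rw [Functor.map_comp, Functor.map_comp, Category.assoc, Category.assoc, sq.w])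
  refine bc_of_cover (κ := {x // x ∈ t}) (V := fun k => (post he).obj (V k)) (fun k => f k)
    (hV := fun k => hO k.1) (fun e => ?_) (fun k => ?_) g
  · obtain ⟨x, hx, y, hy, rfl⟩ := Set.mem_iUnion₂.1 (ht (Set.mem_univ e))
    exact ⟨⟨x, hx⟩, ⟨y, hy⟩, rfl⟩
  · have : IsAffine (V k.1).obj.left.left := hO k.1
    exact ⟨_, _, pres_id_of_bc fun W' g' hW' => bc_of_res he (V k.1) W' hW' g'⟩

end Groth.Agent.AlgSpD.EtaleRes
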