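import Groth.Agent.AlgSpQC.Extension
import Groth.Agent.AlgSpD.EtaleRes
import Mathlib.CategoryTheory.Abelian.Exact

/-!
# Extensions of quasi-coherent modules on the small etale site
-/

universe u

open CategoryTheory CategoryTheory.Limits AlgebraicGeometry Opposite

set_option backward.isDefEq.respectTransparency false
set_option backward.isDefEq.respectTransparency.types false
set_option autoImplicit false
set_option maxHeartbeats 800000

namespace Groth.Agent.AlgSpD.QCExtension

open _root_.AlgSp
open Groth.Agent.AlgSpQC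
open Groth.Agent.AlgSpD.EtaleRes (Res post)

variable {S : Scheme.{u}}

section Unit

variable {X : Sp S}

/-- The unit section of the structure sheaf. -/
noncomputable def oneSect (E : EtOver X) : sectModEt (unitModEt X) E := (1 : (OEtRing X).obj.obj (op E))

theorem smul_oneSect {E : EtOver X} (x : sectModEt (unitModEt X) E) :
    (ULift.down (α := gr E) x : gr E) • oneSect E = x :=
  mul_one (M := (OEtRing X).obj.obj (op E)) x

theorem rs_oneSect {E W : EtOver X} (g : W ⟶ E) : rs (unitModEt X) g (oneSect E) = oneSect W :=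
  map_one ((OEtRing X).obj.map g.op).hom

theorem finite_unit (E : EtOver X) : Module.Finite (gr E) (sectModEt (unitModEt X) E) :=
  Module.Finite.of_surjective (LinearMap.toSpanSingleton (gr E) _ (oneSect E)) fun x => ⟨_, smul_oneSect x⟩

theorem pres_oneSect (E : EtOver X) : Pres (fun _ : PUnit.{u + 2} => oneSect E) := by
  refine ⟨fun E' g m => ⟨⊤, GrothendieckTopology.top_mem _ _, fun V h _ => ?_⟩,
    fun E' g c hc => ⟨⊤, GrothendieckTopology.top_mem _ _, fun V h _ => ?_⟩⟩
  · refine Submodule.mem_span_range_iff_exists_fun _ |>.2 ⟨fun _ => ULift.down (α := gr V) (rs _ h m), ?_⟩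
    simp only [sr, Finset.univ_unique, Finset.sum_singleton, rs_oneSect]
    exact smul_oneSect _
  · have h0 : c = 0 := Finsupp.ext fun _ => by
      have h1 : c PUnit.unit • oneSect E' = 0 := by
        refine Eq.trans ?_ hc
        conv_rhs => rw [Finsupp.unique_single c]
        rw [Finsupp.linearCombination_single]
        exact congrArg (_ • ·) (rs_oneSect g).symm
      exact congrArg ULift.down ((mul_one _).symm.trans h1)
    rw [h0, cmap_zero]
    exact Submodule.zero_mem _

theorem isQuasicoherent_unit (X : Sp S) : (unitModEt X).IsQuasicoherent :=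
  isQuasicoherent_of_bc fun E W g hE hW => bc_of_pres (pres_oneSect E) g

end Unit

section Top

variable {Y : Over S}

/-- The final object of the site of a scheme. -/
noncomputable abbrev topE (Y : Over S) : EtOver ((yon S).obj Y) := EtOver.mk (𝟙 _) (repWith_id _ Y)

/-- The morphism to the final object. -/
noncomputable def toTopE (E : EtOver ((yon S).obj Y)) : E ⟶ topE Y :=
  EtOver.homMk ((yon S).preimage E.obj.hom) (by
    change (yon S).map _ ≫ 𝟙 _ = _
    rw [Category.comp_id, Functor.map_preimage])

theorem toTopE_unique {E : EtOver ((yon S).obj Y)} (g : E ⟶ topE Y) : g = toTopE E :=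
  EtOver.hom_ext _ _ ((yon S).map_injective (by
    refine ((Category.comp_id _).symm.trans (EtOver.w g)).trans ?_
    exact ((yon S).map_preimage E.obj.hom).symm))

/-- The morphism from the structure sheaf attached to a global section. -/
noncomputable def fromUnit {M : ModEt ((yon S).obj Y)} (m : sectModEt M (topE Y)) : unitModEt _ ⟶ M :=
  M.unitHomEquiv.symm (PresheafOfModules.sectionsMk (fun E => rs M (toTopE E.unop) m) fun {E E'} f => by
    refine (rs_comp (toTopE E.unop) f.unop m).symm.trans ?_
    rw [toTopE_unique (f.unop ≫ toTopE E.unop)])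

theorem hs_fromUnit {M : ModEt ((yon S).obj Y)} (m : sectModEt M (topE Y)) :
    hs (fromUnit m) (topE Y) (oneSect _) = m := by
  have h := congrArg (fun s : M.sections => s.val (op (topE Y)))
    (M.unitHomEquiv.apply_symm_apply (PresheafOfModules.sectionsMk (fun E => rs M (toTopE E.unop) m) fun {E E'} f => by
    refine (rs_comp (toTopE E.unop) f.unop m).symm.trans ?_
    rw [toTopE_unique (f.unop ≫ toTopE E.unop)]))
  refine Eq.trans h ?_
  change rs M (toTopE (topE Y)) m = m
  rw [← toTopE_unique (𝟙 (topE Y)), rs_id]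

end Top

theorem shortExact_pullback {C : Type*} [Category C] [Abelian C] (T : ShortComplex C) (hT : T.ShortExact) {U : C}
    (φ : U ⟶ T.X₃) :
    ∃ (f : T.X₁ ⟶ pullback T.g φ) (w : f ≫ pullback.snd T.g φ = 0), (ShortComplex.mk f (pullback.snd T.g φ) w).ShortExact := by
  have := hT.mono_f
  have := hT.epi_g
  let f' : T.X₁ ⟶ pullback T.g φ := pullback.lift T.f 0 (by simp)
  have hz : f' ≫ pullback.snd T.g φ = 0 := pullback.lift_snd _ _ _
  have hf' : f' ≫ pullback.fst T.g φ = T.f := pullback.lift_fst _ _ _
  have hk := hT.fIsKernel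
  have hk' : IsLimit (KernelFork.ofι f' hz) := KernelFork.IsLimit.ofι _ _
    (fun {W} k w => hk.lift (KernelFork.ofι (k ≫ pullback.fst T.g φ) (by
      rw [Category.assoc, pullback.condition, ← Category.assoc, w, zero_comp])))
    (fun {W} k w => pullback.hom_ext
      (by rw [Category.assoc, hf']; exact hk.fac _ WalkingParallelPair.zero)
      (by rw [Category.assoc, hz, comp_zero, w]))
    (fun {W} k w m hm => Fork.IsLimit.hom_ext hk (by
      rw [Fork.IsLimit.lift_ι]
      show m ≫ T.f = k ≫ pullback.fst T.g φ
      rw [← hm, Category.assoc, hf']))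
  have : Mono f' := mono_of_isLimit_fork hk'
  exact ⟨f', hz, { exact := ShortComplex.exact_of_f_is_kernel _ hk', mono_f := this, epi_g := inferInstance }⟩

variable {X : Sp S}

theorem isEtaleMor_hom (E : EtOver X) : IsEtaleMor E.obj.hom :=
  fun _ _ hφ => (RepWith _).comp_mem _ _ hφ E.property

theorem preservesFiniteLimits_res {U : Sp S} {j : U ⟶ X} (he : IsEtaleMor j) :
    PreservesFiniteLimits (Res he) := by
  have : PreservesFiniteLimits
      ((post he).sheafPushforwardContinuous AddCommGrpCat.{u + 1} (etTop U) (etTop X)) := by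
    have : PreservesFiniteLimits ((post he).sheafPushforwardContinuous AddCommGrpCat.{u + 1}
        (etTop U) (etTop X) ⋙ sheafToPresheaf (etTop U) AddCommGrpCat.{u + 1}) :=
      inferInstanceAs (PreservesFiniteLimits (sheafToPresheaf (etTop X) AddCommGrpCat.{u + 1} ⋙
        (Functor.whiskeringLeft _ _ _).obj (post he).op))
    exact ⟨fun J _ _ => preservesLimitsOfShape_of_reflects_of_preserves _ (sheafToPresheaf (etTop U) AddCommGrpCat.{u + 1})⟩
  have : PreservesFiniteLimits (Res he ⋙ SheafOfModules.toSheaf _) :=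
    inferInstanceAs (PreservesFiniteLimits (SheafOfModules.toSheaf (OEtRing X) ⋙
      (post he).sheafPushforwardContinuous AddCommGrpCat.{u + 1} (etTop U) (etTop X)))
  exact ⟨fun J _ _ => preservesLimitsOfShape_of_reflects_of_preserves _ (SheafOfModules.toSheaf _)⟩

/-- Over a scheme global sections lift along an epimorphism with quasi-coherent kernel, the target being
quasi-coherent. -/
theorem lift_top_aux {Y : Over S} [IsAffine Y.left] {A P M N : ModEt ((yon S).obj Y)} {f : A ⟶ P}
    {g : P ⟶ unitModEt _} (w : f ≫ g = 0) (h : (ShortComplex.mk f g w).ShortExact) [A.IsQuasicoherent]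
    {φ : unitModEt _ ⟶ N} {q : P ⟶ M} (π : M ⟶ N) {n : sectModEt N (topE Y)} (hq : q ≫ π = g ≫ φ)
    (hn : hs φ (topE Y) (oneSect _) = n) : ∃ m, hs π (topE Y) m = n := by
  have := h.epi_g
  have : (ShortComplex.mk f g w).X₁.IsQuasicoherent := ‹A.IsQuasicoherent›
  have : (ShortComplex.mk f g w).X₃.IsQuasicoherent := isQuasicoherent_unit _
  have : P.IsQuasicoherent := isQuasicoherent_extension h fun E _ => finite_unit E
  have : IsAffine (topE Y).obj.left.left := inferInstanceAs (IsAffine Y.left)
  obtain ⟨p, hp⟩ := hs_surjective g (topE Y) (oneSect _)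
  refine ⟨hs q (topE Y) p, ?_⟩
  rw [← hs_comp, hq, hs_comp, hp, hn]

theorem exists_lift_top {Y : Over S} [IsAffine Y.left] (T : ShortComplex (ModEt ((yon S).obj Y))) (hT : T.ShortExact)
    [T.X₁.IsQuasicoherent] (n : sectModEt T.X₃ (topE Y)) : ∃ m, hs T.g (topE Y) m = n := by
  obtain ⟨f', w, h⟩ := shortExact_pullback T hT (fromUnit n)
  exact lift_top_aux w h T.g pullback.condition (hs_fromUnit n)

/-- Epimorphisms with quasi-coherent kernel onto quasi-coherent modules are surjective on affine objects. -/
theorem hs_surjective_ext (T : ShortComplex (ModEt X)) (hT : T.ShortExact) [T.X₁.IsQuasicoherent]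
    (E : EtOver X) [IsAffine E.obj.left.left] : Function.Surjective (hs T.g E) := by
  intro n
  let he := isEtaleMor_hom E
  have : (Res he).IsLeftAdjoint := (Groth.Agent.AlgSpD.EtaleRes.resAdj E.property.1 he).isLeftAdjoint
  have := preservesFiniteLimits_res he
  have hT' := hT.map_of_exact (Res he)
  have : (T.map (Res he)).X₁.IsQuasicoherent := Groth.Agent.AlgSpD.EtaleRes.isQuasicoherent_res he T.X₁
  let a : (post he).obj (topE E.obj.left) ⟶ E := EtOver.homMk (𝟙 _) (congrArg (· ≫ E.obj.hom) ((yon S).map_id _))
  let b : E ⟶ (post he).obj (topE E.obj.left) := EtOver.homMk (𝟙 _) ((congrArg (· ≫ _) ((yon S).map_id _)).trans ((Category.id_comp _).trans (Category.id_comp E.obj.hom)))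
  obtain ⟨m, hm⟩ := exists_lift_top (T.map (Res he)) hT' (rs T.X₃ a n : sectModEt T.X₃ ((post he).obj (topE E.obj.left)))
  let m' : sectModEt T.X₂ ((post he).obj (topE E.obj.left)) := m
  have hm' : hs T.g ((post he).obj (topE E.obj.left)) m' = rs T.X₃ a n := hm
  refine ⟨rs T.X₂ b m', ?_⟩
  rw [hs_rs, hm', ← rs_comp, EtOver.hom_ext (b ≫ a) (𝟙 E) (Category.id_comp _), rs_id]

/-- An extension of quasi-coherent modules is quasi-coherent. -/
theorem isQuasicoherent_ext (T : ShortComplex (ModEt X)) (hT : T.ShortExact) [T.X₁.IsQuasicoherent]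
    [T.X₃.IsQuasicoherent] : T.X₂.IsQuasicoherent := by
  have := hT.mono_f
  refine isQuasicoherent_of_bc fun E W g hE hW => ?_
  refine bc_of_pres (pres_extFam hT.exact (Function.surjInv (hs_surjective_ext T hT E)) ?_) g
  rw [eq_top_iff]
  intro m _
  refine Submodule.subset_span ⟨m, ?_⟩
  exact Function.surjInv_eq _ m

end Groth.Agent.AlgSpD.QCExtension
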