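import Groth.Agent.AlgSpD.DecentQs
import Groth.Agent.AlgSpD.EtaleTop
import Groth.Agent.AlgSp.SchImageRep
import Groth.Agent.AlgSp.PointsMor
import Groth.Agent.AlgSp.Space
import Groth.Agent.AlgSp.Quot
import Groth.Agent.AlgSp.Basic
import Groth.Agent.AlgSpB.RedInduced
import Groth.Agent.AlgSpB.EqvQuot
import Groth.Agent.AlgSpB.LqfLocal
import Groth.Agent.AlgSpCov.LocPBasic
import Groth.Agent.AlgSpCov.Instances
import Mathlib.AlgebraicGeometry.Morphisms.LocalFlatDescent
import Mathlib.RingTheory.RegularLocalRing.Defs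

/-!
# Reduced algebraic spaces with a single point
-/

universe u

open CategoryTheory CategoryTheory.Limits AlgebraicGeometry Opposite TopologicalSpace

set_option backward.isDefEq.respectTransparency false

namespace Groth.Agent.AlgSpD

open Groth.Agent

/-- A scheme which is reduced with no nontrivial specializations. -/
def RedZeroDim (V : Scheme.{u}) : Prop :=
  AlgebraicGeometry.IsReduced V ∧ ∀ v w : ↥V, v ⤳ w → v = w

theorem RedZeroDim.isClosed {V : Scheme.{u}} (h : RedZeroDim V) (v : ↥V) : IsClosed ({v} : Set ↥V) :=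
  closure_subset_iff_isClosed.1 fun w hw => (h.2 v w (specializes_iff_mem_closure.2 hw)).symm

theorem RedZeroDim.dim_eq_zero {V : Scheme.{u}} (h : RedZeroDim V) (v : ↥V) :
    ringKrullDim ↥(V.presheaf.stalk v) = 0 := by
  rw [AlgSp.stalkDim_zero_iff, Groth.Agent.FlatMor.GenericPts.closure_mem_irreducibleComponents_iff]
  intro w hw
  rw [h.2 w v hw]

theorem eq_of_specializes_of_dim_zero {V : Scheme.{u}}
    (h : ∀ v : ↥V, ringKrullDim ↥(V.presheaf.stalk v) = 0) {v w : ↥V} (hvw : v ⤳ w) : v = w := by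
  have h0 := h w
  rw [AlgSp.stalkDim_zero_iff, Groth.Agent.FlatMor.GenericPts.closure_mem_irreducibleComponents_iff] at h0
  exact (hvw.antisymm (h0 v hvw)).eq

theorem RedZeroDim.isField {V : Scheme.{u}} (h : RedZeroDim V) (v : ↥V) : IsField ↥(V.presheaf.stalk v) := by
  have := h.1
  have : Ring.KrullDimLE 0 ↥(V.presheaf.stalk v) := Ring.krullDimLE_iff.2 (h.dim_eq_zero v).le
  have : (IsLocalRing.maximalIdeal ↥(V.presheaf.stalk v)) = ⊥ := by
    rw [← le_bot_iff, ← nilradical_eq_bot_iff.2 (inferInstance : _root_.IsReduced ↥(V.presheaf.stalk v))]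
    rw [nilradical_eq_sInf]
    refine le_sInf fun J hJ => ?_
    have hJ' : J.IsPrime := hJ
    exact (IsLocalRing.eq_maximalIdeal (Ideal.IsPrime.isMaximal' hJ')).ge
  exact IsLocalRing.isField_iff_maximalIdeal_eq.2 this

theorem RedZeroDim.flat {T V : Scheme.{u}} (h : RedZeroDim V) (f : T ⟶ V) : Flat f :=
  Flat.of_stalkMap _ fun x => by
    let := (h.isField (f x)).toField
    let := (f.stalkMap x).hom.toAlgebra
    exact (inferInstance : Module.Flat ↥(V.presheaf.stalk (f x)) ↥(T.presheaf.stalk x))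

theorem redZeroDim_spec_field (k : Type u) [Field k] : RedZeroDim (Spec (CommRingCat.of k)) :=
  ⟨inferInstance, fun v w _ => @Subsingleton.elim _ (inferInstanceAs (Subsingleton (PrimeSpectrum k))) v w⟩

theorem RedZeroDim.etale {P V : Scheme.{u}} (h : RedZeroDim V) (f : P ⟶ V) [Etale f] : RedZeroDim P :=
  have := h.1
  ⟨AlgSpB.isReduced_of_etale f, fun _ _ hab => eq_of_specializes_of_dim_zero
    (fun z => (ringKrullDim_stalk_eq f z).symm.trans (h.dim_eq_zero _)) hab⟩

theorem redZeroDim_of_flat_surjective {P V : Scheme.{u}} (f : P ⟶ V) [Flat f] [Surjective f]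
    (h : RedZeroDim P) : RedZeroDim V :=
  have := h.1
  ⟨AlgSp.SchImageRep.isReduced_of_flat_surjective f, fun v w hvw => by
    obtain ⟨b, rfl⟩ := f.surjective w
    obtain ⟨a, hab, rfl⟩ := Flat.generalizingMap f hvw
    rw [h.2 a b hab]⟩

variable {S : Scheme.{u}} (Z : AlgSp.Space S)

/-- Every etale chart is reduced and zero-dimensional. -/
def RedZeroDimSp : Prop :=
  ∀ (V : Over S) (b : (AlgSp.yon S).obj V ⟶ Z.obj), AlgSp.RepWith @Etale b → RedZeroDim V.left

theorem repWith_surjective_fieldPt {k : Type u} [Field k] {str : Spec (CommRingCat.of k) ⟶ S}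
    (p : (AlgSp.yon S).obj (Over.mk str) ⟶ Z.obj) (hps : AlgSp.IsSurjectiveMor p) :
    AlgSp.RepWith @Surjective p :=
  (AlgSp.repWith_surjective_iff p (Z.property.representable_from_yon p)).2 hps

theorem subsingleton_of_surjective {k : Type u} [Field k] {str : Spec (CommRingCat.of k) ⟶ S}
    (p : (AlgSp.yon S).obj (Over.mk str) ⟶ Z.obj) (hps : AlgSp.IsSurjectiveMor p) :
    Nonempty (AlgSp.Points Z.obj) ∧ Subsingleton (AlgSp.Points Z.obj) := by
  have : Subsingleton ↥(Over.mk str).left := inferInstanceAs (Subsingleton (PrimeSpectrum k))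
  have hz : ∀ y : AlgSp.Points Z.obj, ∃ z : ↥(Over.mk str).left, AlgSp.Points.ofPt p z = y := fun y => by
    obtain ⟨z, hz⟩ := hps y
    refine ⟨AlgSp.Points.toScheme (Over.mk str) z, ?_⟩
    rw [AlgSp.Points.ofPt_eq_map_ofScheme, AlgSp.Points.ofScheme_toScheme]
    exact hz
  refine ⟨⟨AlgSp.Points.ofPt p (IsLocalRing.closedPoint k)⟩, ⟨fun y y' => ?_⟩⟩
  obtain ⟨z, rfl⟩ := hz y
  obtain ⟨z', rfl⟩ := hz y'
  rw [Subsingleton.elim z z']

theorem redZeroDimSp_of_flat_surjective {k : Type u} [Field k] {str : Spec (CommRingCat.of k) ⟶ S}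
    (p : (AlgSp.yon S).obj (Over.mk str) ⟶ Z.obj) (hpf : AlgSp.LocP @Flat p)
    (hps : AlgSp.IsSurjectiveMor p) : RedZeroDimSp Z := by
  intro V b hb
  have hr := Z.property.representable_from_yon p
  have hf : AlgSp.RepWith @Flat p :=
    AlgSpCov.repWith_of_locP AlgSpCov.etaleLocal_flat (AlgSp.IsAlgSpace.yon_obj _) Z.property hr hpf
  obtain ⟨P, fst, snd, sq⟩ := AlgSpB.exists_pullback_yon hr b
  have : Flat snd.left := hf.2 _ _ _ sq
  have : Surjective snd.left := (repWith_surjective_fieldPt Z p hps).2 _ _ _ sq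
  have : Etale fst.left := hb.2 _ _ _ sq.flip
  exact redZeroDim_of_flat_surjective snd.left
    (RedZeroDim.etale (V := (Over.mk str).left) (redZeroDim_spec_field k) fst.left)

theorem redZeroDimSp_of_isReduced (hr : AlgSp.EtaleLocally (fun U => AlgebraicGeometry.IsReduced U) Z.obj)
    [Subsingleton (AlgSp.Points Z.obj)] : RedZeroDimSp Z := by
  obtain ⟨U₀, p, hp, hps, hU⟩ := hr
  intro V b hb
  obtain ⟨W, f₁, f₂, sq⟩ := AlgSpB.exists_pullback_yon hp.1 b
  have : Etale f₁.left := hb.2 _ _ _ sq.flip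
  have : Etale f₂.left := hp.2 _ _ _ sq
  have : Surjective f₂.left := hps.2 _ _ _ sq
  have : AlgebraicGeometry.IsReduced W.left := AlgSpB.isReduced_of_etale f₁.left
  refine ⟨AlgSp.SchImageRep.isReduced_of_flat_surjective f₂.left,
    fun v w hvw => eq_of_specializes_of_dim_zero (fun z => ?_) hvw⟩
  obtain ⟨η, hη, -⟩ := Groth.Agent.FlatMor.GenericPts.exists_generic_specializes z
  obtain ⟨R, q₁, q₂, r, -, hq₁, hq₂, e₁, e₂⟩ := exists_common_chart hb hb
    (Subsingleton.elim (AlgSp.Points.ofPt b z) (AlgSp.Points.ofPt b η))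
  rw [← e₁, ringKrullDim_stalk_eq q₁.left r, ← ringKrullDim_stalk_eq q₂.left r, e₂]
  exact (AlgSp.stalkDim_zero_iff η).2 hη

variable {Z}

theorem RedZeroDimSp.locP_flat (h : RedZeroDimSp Z) {F : AlgSp.Sp S} (q : F ⟶ Z.obj) :
    AlgSp.LocP @Flat q :=
  fun _ V _ b k _ hb _ => (h V b hb).flat k.left

theorem isSurjectiveMor_of_subsingleton [Subsingleton (AlgSp.Points Z.obj)] {k : Type u} [Field k]
    {str : Spec (CommRingCat.of k) ⟶ S} (q : (AlgSp.yon S).obj (Over.mk str) ⟶ Z.obj) :
    AlgSp.IsSurjectiveMor q :=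
  fun _ => ⟨AlgSp.Points.ofScheme (Over.mk str) (IsLocalRing.closedPoint k), Subsingleton.elim _ _⟩

/-- A field point of finite type through a closed point of a chart. -/
theorem RedZeroDimSp.exists_lft_point (h : RedZeroDimSp Z) [Nonempty (AlgSp.Points Z.obj)]
    [Subsingleton (AlgSp.Points Z.obj)] :
    ∃ (k : Type u) (_ : Field k) (str : Spec (CommRingCat.of k) ⟶ S)
      (q : (AlgSp.yon S).obj (Over.mk str) ⟶ Z.obj),
      (AlgSp.LocP @LocallyOfFiniteType q ∧ AlgSp.LocP @Flat q ∧ AlgSp.IsSurjectiveMor q) ∧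
      (AlgSp.IsLocNoethSp Z.obj → AlgSp.LocP @LocallyOfFinitePresentation q) := by
  obtain ⟨U, a, ha, has⟩ := Z.property.atlas
  obtain ⟨u, -⟩ := AlgSpB.surjective_ofPt has (Classical.arbitrary (AlgSp.Points Z.obj))
  let c : Over.mk (U.left.fromSpecResidueField u ≫ U.hom) ⟶ U :=
    Over.homMk (U.left.fromSpecResidueField u) rfl
  have hc : IsClosedImmersion c.left := by
    refine IsClosedImmersion.of_isPreimmersion (U.left.fromSpecResidueField u) ?_
    rw [Scheme.range_fromSpecResidueField]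
    exact (h U a ha).isClosed u
  refine ⟨U.left.residueField u, inferInstance, U.left.fromSpecResidueField u ≫ U.hom,
    (AlgSp.yon S).map c ≫ a, ⟨?_, h.locP_flat _,
      isSurjectiveMor_of_subsingleton (k := U.left.residueField u) _⟩, fun hN => ?_⟩
  · exact AlgSpCov.locP_of_repWith AlgSpCov.etaleLocal_locallyOfFiniteType
      ((AlgSp.RepWith _).comp_mem _ _ ((AlgSp.repWith_yon_map_iff _ _).2 (inferInstance : LocallyOfFiniteType c.left))
        (AlgSp.repWith_mono (Q := @LocallyOfFiniteType) (fun g (hg : Etale g) => inferInstance) ha))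
  · obtain ⟨U₀, p, hp, hps, hN₀⟩ := hN
    obtain ⟨W, f₁, f₂, sq⟩ := AlgSpB.exists_pullback_yon hp.1 a
    have : Etale f₁.left := ha.2 _ _ _ sq.flip
    have : Etale f₂.left := hp.2 _ _ _ sq
    have : Surjective f₂.left := hps.2 _ _ _ sq
    have : IsLocallyNoetherian W.left := LocallyOfFiniteType.isLocallyNoetherian f₁.left
    have : IsLocallyNoetherian U.left := isLocallyNoetherian_of_etale_surjective f₂.left
    exact AlgSpCov.locP_of_repWith AlgSpCov.etaleLocal_locallyOfFinitePresentation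
      ((AlgSp.RepWith _).comp_mem _ _ ((AlgSp.repWith_yon_map_iff _ _).2
        (LocallyOfFinitePresentation.iff_locallyOfFiniteType.2 (inferInstance : LocallyOfFiniteType c.left)))
        (AlgSp.repWith_mono (Q := @LocallyOfFinitePresentation) (fun g (hg : Etale g) => inferInstance) ha))

theorem RedZeroDimSp.etaleLocally_reduced (h : RedZeroDimSp Z) :
    AlgSp.EtaleLocally (fun U => AlgebraicGeometry.IsReduced U) Z.obj := by
  obtain ⟨U, a, ha, has⟩ := Z.property.atlas
  exact ⟨U, a, ha, has, (h U a ha).1⟩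

/-- Local Noetherianity descends along flat surjective morphisms of finite presentation. -/
theorem isLocallyNoetherian_of_fppf {W U : Scheme.{u}} (f : W ⟶ U) [Flat f] [LocallyOfFinitePresentation f]
    [Surjective f] [IsLocallyNoetherian W] : IsLocallyNoetherian U := by
  refine (isLocallyNoetherian_iff_openCover U.affineCover).2 fun i => ?_
  let g := pullback.snd f (U.affineCover.f i)
  have : Surjective g := MorphismProperty.pullback_snd f _ inferInstance
  have : IsLocallyNoetherian (pullback f (U.affineCover.f i)) :=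
    LocallyOfFiniteType.isLocallyNoetherian (pullback.fst f (U.affineCover.f i))
  choose A hA hzA _ using fun z : ↥(pullback f (U.affineCover.f i)) =>
    exists_isAffineOpen_mem_and_subset (x := z) (U := ⊤) trivial
  obtain ⟨t, ht⟩ := isCompact_univ.elim_finite_subcover (fun z => g '' (A z : Set _))
    (fun z => g.isOpenMap _ (A z).2) fun u _ => by
      obtain ⟨z, rfl⟩ := g.surjective u
      exact Set.mem_iUnion.2 ⟨z, z, hzA z, rfl⟩
  let O : (pullback f (U.affineCover.f i)).Opens :=
    ⟨⋃ z ∈ t, (A z : Set _), isOpen_biUnion fun z _ => (A z).2⟩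
  have : CompactSpace ↥O.toScheme :=
    isCompact_iff_compactSpace.1 (t.finite_toSet.isCompact_biUnion fun z _ => (hA z).isCompact)
  have : Surjective (O.ι ≫ g) := ⟨fun u => by
    obtain ⟨z, hz, w, hw, rfl⟩ := Set.mem_iUnion₂.1 (ht (Set.mem_univ u))
    exact ⟨⟨w, Set.mem_iUnion₂.2 ⟨z, hz, hw⟩⟩, rfl⟩⟩
  have : IsLocallyNoetherian O.toScheme := LocallyOfFiniteType.isLocallyNoetherian O.ι
  have : QuasiCompact (O.ι ≫ g) := (quasiCompact_iff_compactSpace _).2 inferInstance
  exact S2492.result (O.ι ≫ g)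

theorem isLocNoethSp_of_fppf_point {k : Type u} [Field k] {str : Spec (CommRingCat.of k) ⟶ S}
    (p : (AlgSp.yon S).obj (Over.mk str) ⟶ Z.obj) (hpl : AlgSp.LocP @LocallyOfFinitePresentation p)
    (hpf : AlgSp.LocP @Flat p) (hps : AlgSp.IsSurjectiveMor p) : AlgSp.IsLocNoethSp Z.obj := by
  obtain ⟨U, a, ha, has⟩ := Z.property.atlas
  refine ⟨U, a, ha, has, ?_⟩
  have hr := Z.property.representable_from_yon p
  obtain ⟨P, fst, snd, sq⟩ := AlgSpB.exists_pullback_yon hr a
  have : Flat snd.left := (AlgSpCov.repWith_of_locP AlgSpCov.etaleLocal_flat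
    (AlgSp.IsAlgSpace.yon_obj _) Z.property hr hpf).2 _ _ _ sq
  have : LocallyOfFinitePresentation snd.left := (AlgSpCov.repWith_of_locP AlgSpCov.etaleLocal_locallyOfFinitePresentation
    (AlgSp.IsAlgSpace.yon_obj _) Z.property hr hpl).2 _ _ _ sq
  have : Surjective snd.left := (repWith_surjective_fieldPt Z p hps).2 _ _ _ sq
  have : Etale fst.left := ha.2 _ _ _ sq.flip
  have : IsLocallyNoetherian (Over.mk str).left :=
    inferInstanceAs (IsLocallyNoetherian (Spec (CommRingCat.of k)))
  have : IsLocallyNoetherian P.left := LocallyOfFiniteType.isLocallyNoetherian fst.left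
  exact isLocallyNoetherian_of_fppf snd.left

theorem RedZeroDimSp.regular (h : RedZeroDimSp Z) (hN : AlgSp.IsLocNoethSp Z.obj) :
    AlgSp.EtaleLocally (fun U => IsLocallyNoetherian U ∧
      ∀ u : ↥U, IsRegularLocalRing ↥(U.presheaf.stalk u)) Z.obj := by
  obtain ⟨U, p, hp, hps, hU⟩ := hN
  refine ⟨U, p, hp, hps, hU, fun u => ?_⟩
  let := ((h U p hp).isField u).toField
  exact inferInstance

/-- A monomorphism from a nonempty space to the spectrum of a field is an isomorphism. -/
theorem isIso_of_mono_to_field (P : AlgSp.Space S) [Nonempty (AlgSp.Points P.obj)] {k : Type u} [Field k]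
    {str : Spec (CommRingCat.of k) ⟶ S} (π : P.obj ⟶ (AlgSp.yon S).obj (Over.mk str)) [Mono π] : IsIso π := by
  obtain ⟨U, a, u, hU, ha, -⟩ := exists_affine_chart P (Classical.arbitrary _)
  obtain ⟨h, hh⟩ := (AlgSp.yon S).map_surjective (a ≫ π)
  have eQ := IsPullback.of_hasPullback h h
  have h0 := eQ.map (AlgSp.yon S)
  have w : (AlgSp.yon S).map (pullback.fst h h) ≫ a = (AlgSp.yon S).map (pullback.snd h h) ≫ a := by
    rw [← cancel_mono π, Category.assoc, Category.assoc, ← hh]
    exact h0.w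
  have sqa : IsPullback ((AlgSp.yon S).map (pullback.fst h h)) ((AlgSp.yon S).map (pullback.snd h h)) a a := by
    have hl : ∀ s : PullbackCone a a, s.fst ≫ (AlgSp.yon S).map h = s.snd ≫ (AlgSp.yon S).map h :=
      fun s => by rw [hh, ← Category.assoc, ← Category.assoc, s.condition]
    refine IsPullback.of_isLimit' ⟨w⟩ (PullbackCone.IsLimit.mk _ (fun s => h0.lift s.fst s.snd (hl s))
      (fun s => h0.lift_fst _ _ _) (fun s => h0.lift_snd _ _ _) (fun s m h1 h2 => h0.hom_ext ?_ ?_))
    · rw [h0.lift_fst]; exact h1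
    · rw [h0.lift_snd]; exact h2
  have : Etale (pullback.snd h h).left := ha.2 _ _ _ sqa
  have eL : IsPullback (pullback.fst h h).left (pullback.snd h h).left h.left h.left :=
    eQ.map (Over.forget S)
  have : Subsingleton ↥(Over.mk str).left := inferInstanceAs (Subsingleton (PrimeSpectrum k))
  have : Surjective h.left := ⟨fun _ => ⟨u, Subsingleton.elim _ _⟩⟩
  have : Flat h.left := RedZeroDim.flat (V := (Over.mk str).left) (redZeroDim_spec_field k) h.left
  have : IsAffine (Over.mk str).left := inferInstanceAs (IsAffine (Spec (CommRingCat.of k)))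
  have : QuasiCompact h.left := inferInstance
  have : Etale h.left := MorphismProperty.of_isPullback_of_descendsAlong
    (Q := @Surjective ⊓ @Flat ⊓ @QuasiCompact) eL.flip ⟨⟨‹Surjective h.left›, ‹Flat h.left›⟩, ‹QuasiCompact h.left›⟩
    ‹Etale (pullback.snd h h).left›
  have := AlgSpB.locSurj_yon h
  have he : Epi ((AlgSp.yon S).map h) := (Sheaf.isLocallySurjective_iff_epi _).1 inferInstance
  rw [hh] at he
  have : Epi π := epi_of_epi a π
  have : Sheaf.IsLocallySurjective π := (Sheaf.isLocallySurjective_iff_epi _).2 inferInstance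
  exact AlgSpB.isIso_of_mono_of_locSurj π

/-- A monomorphism from a nonempty space to a space with an fppf field point is an isomorphism. -/
theorem isIso_of_mono_to_fppf_point {Z' : AlgSp.Space S} (f : Z'.obj ⟶ Z.obj) [Mono f]
    [Nonempty (AlgSp.Points Z'.obj)] {k : Type u} [Field k] {str : Spec (CommRingCat.of k) ⟶ S}
    (p : (AlgSp.yon S).obj (Over.mk str) ⟶ Z.obj) (hpl : AlgSp.LocP @LocallyOfFinitePresentation p)
    (hpf : AlgSp.LocP @Flat p) (hps : AlgSp.IsSurjectiveMor p) : IsIso f := by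
  let P : AlgSp.Space S := ⟨pullback f p,
    AlgSp.isAlgSpace_pullback Z.property Z'.property (AlgSp.IsAlgSpace.yon_obj _) f p⟩
  have : Mono (pullback.snd f p) := inferInstance
  have : Nonempty (AlgSp.Points P.obj) := by
    obtain ⟨z, hz⟩ := hps (AlgSp.Points.map f (Classical.arbitrary _))
    obtain ⟨x, -, -⟩ := AlgSpB.exists_of_isPullback (IsPullback.of_hasPullback f p)
      (Classical.arbitrary (AlgSp.Points Z'.obj)) z hz.symm
    exact ⟨x⟩
  have hπ : IsIso (pullback.snd f p) := isIso_of_mono_to_field P (pullback.snd f p)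
  have hr := Z.property.representable_from_yon p
  have : Sheaf.IsLocallySurjective p := AlgSp.isLocallySurjective_of_repWith p
    (AlgSpCov.repWith_of_locP AlgSpCov.etaleLocal_flat (AlgSp.IsAlgSpace.yon_obj _) Z.property hr hpf)
    (AlgSpCov.repWith_of_locP AlgSpCov.etaleLocal_locallyOfFinitePresentation
      (AlgSp.IsAlgSpace.yon_obj _) Z.property hr hpl)
    (repWith_surjective_fieldPt Z p hps)
  have he : Epi p := (Sheaf.isLocallySurjective_iff_epi _).1 inferInstance
  have e : p = (inv (pullback.snd f p) ≫ pullback.fst f p) ≫ f := by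
    rw [Category.assoc, IsIso.eq_inv_comp, pullback.condition]
  rw [e] at he
  have : Epi f := epi_of_epi (inv (pullback.snd f p) ≫ pullback.fst f p) f
  have : Sheaf.IsLocallySurjective f := (Sheaf.isLocallySurjective_iff_epi _).2 inferInstance
  exact AlgSpB.isIso_of_mono_of_locSurj f

end Groth.Agent.AlgSpD
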