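import Groth.Agent.AlgSpD.DenseMain

/-!
# Decency from finiteness of geometric lifts
-/

universe u

open CategoryTheory CategoryTheory.Limits AlgebraicGeometry Opposite TopologicalSpace

set_option backward.isDefEq.respectTransparency false
set_option autoImplicit false

namespace Groth.Agent.AlgSpD

open Groth.Agent

variable {S : Scheme.{u}}

/-- Finitely many geometric lifts to affine charts imply decency. -/
theorem isDecent_of_finite_lifts (X : AlgSp.Space S)
    (hfl : ∀ (U : Over S) (a : (AlgSp.yon S).obj U ⟶ X.obj), IsAffine U.left → AlgSp.RepWith @Etale a →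
      ∀ q : AlgSp.FieldPt X.obj, q.IsGeometric → Finite {c : q.pt ⟶ U // (AlgSp.yon S).map c ≫ a = q.toHom}) :
    AlgSp.IsDecent X.obj := by
  intro x
  obtain ⟨U, a, u, hU, ha, hu⟩ := exists_affine_chart X x
  obtain ⟨q, hq, -, -, hqm⟩ := exists_geometric_lift X (AlgSp.EtOver.mk a ha) u
  have hqx : AlgSp.Points.mk q = x := hqm.trans hu
  have hfib : ∀ (V : Over S) (b : (AlgSp.yon S).obj V ⟶ X.obj), IsAffine V.left → AlgSp.RepWith @Etale b →
      (AlgSp.Points.ofPt b ⁻¹' {x}).Finite := by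
    intro V b hV hb
    have := hfl V b hV hb q hq
    refine (Set.finite_range fun c : {c : q.pt ⟶ V // (AlgSp.yon S).map c ≫ b = q.toHom} =>
      c.1.left (IsLocalRing.closedPoint q.K)).subset fun v hv => ?_
    obtain ⟨c, hc, hcv⟩ := AlgSpB.exists_lift_geometric hb q hq v (hv.trans hqx.symm)
    exact ⟨⟨c, hc⟩, hcv⟩
  obtain ⟨R, t, s, hR⟩ := AlgSpB.exists_pullback_yon (X.property.representable_from_yon a) a
  have hfin : {r : ↥R.left | s.left r = u ∧ t.left r = u}.Finite := by
    have := hfl U a hU ha q hq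
    have hs : Etale s.left := ha.2 _ _ _ hR
    have hta : AlgSp.RepWith @Etale ((AlgSp.yon S).map s ≫ a) := AlgSpB.repWith_etale_map_comp s ha
    let Φ := {c : q.pt ⟶ U // (AlgSp.yon S).map c ≫ a = q.toHom}
    let G : Φ × Φ → ↥R.left := fun cd => ((AlgSp.yon S).preimage (hR.lift ((AlgSp.yon S).map cd.1.1)
      ((AlgSp.yon S).map cd.2.1) (cd.1.2.trans cd.2.2.symm))).left (IsLocalRing.closedPoint q.K)
    refine (Set.finite_range G).subset fun r hr => ?_
    obtain ⟨c, hc, hcr⟩ := AlgSpB.exists_lift_geometric hta q hq r (by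
      rw [AlgSpB.ofPt_map_comp, hr.1, hu, hqx])
    rw [← Category.assoc, ← Functor.map_comp] at hc
    have hc' : (AlgSp.yon S).map (c ≫ t) ≫ a = q.toHom := by
      rw [← hc, Functor.map_comp, Functor.map_comp, Category.assoc, Category.assoc, hR.w]
    refine ⟨(⟨c ≫ t, hc'⟩, ⟨c ≫ s, hc⟩), ?_⟩
    rw [← hcr]
    refine congrArg (fun k : q.pt ⟶ R => k.left (IsLocalRing.closedPoint q.K)) ?_
    apply (AlgSp.yon S).map_injective
    rw [Functor.map_preimage]
    exact hR.hom_ext (by rw [hR.lift_fst, Functor.map_comp]) (by rw [hR.lift_snd, Functor.map_comp])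
  obtain ⟨p, hp, hm, -⟩ := exists_mono_of_chart X a ha s t hR u hfin
  refine ⟨p, hp.trans hu, hm, repWith_quasiCompact_of_finite' X p hm ?_⟩
  rw [hp, hu]
  exact hfib

end Groth.Agent.AlgSpD
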