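import Groth.Agent.AlgSpD.DenseScheme

/-!
# Dense open subschemes: the criterion and finiteness of lifts on decent spaces
-/

universe u

open CategoryTheory CategoryTheory.Limits AlgebraicGeometry Opposite TopologicalSpace
open AlgSp

set_option backward.isDefEq.respectTransparency false
set_option autoImplicit false

namespace Groth.Agent.AlgSpD

open Groth.Agent

variable {S : Scheme.{u}} (X : AlgSp.Space S)

/-- Affine charts with finitely many lifts inside every open give a dense open subscheme. -/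
theorem exists_dense_scheme
    (hfin : ∀ (Ω : Set (AlgSp.Points X.obj)), IsOpen Ω → Ω.Nonempty →
      ∃ (U : Over S) (_ : IsAffine U.left) (_ : Nonempty ↥U.left) (a : (AlgSp.yon S).obj U ⟶ X.obj),
        AlgSp.RepWith @Etale a ∧ Set.range (AlgSp.Points.ofPt a) ⊆ Ω ∧
          ∀ q : AlgSp.FieldPt X.obj, q.IsGeometric → Finite (Lifts X a q)) :
    ∃ (X' : AlgSp.Space S) (j : X' ⟶ X), AlgSp.RepWith @IsOpenImmersion j.hom ∧ X'.obj.obj.IsRepresentable ∧
      Dense (Set.range (AlgSp.Points.map j.hom)) := by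
  obtain ⟨X', j, hj, hrep, hmax⟩ := Groth.Agent.S10197.result X
  refine ⟨X', j, hj, hrep, dense_iff_inter_open.2 fun Ω hΩo hΩne => ?_⟩
  obtain ⟨U, _, _, a, ha, har, hf⟩ := hfin Ω hΩo hΩne
  obtain ⟨X₁, j₁, hj₁, hrep₁, x, hx₁, hxa⟩ := exists_scheme_meets X a ha hf
  obtain ⟨k, hk⟩ := hmax X₁ j₁ hj₁ hrep₁
  obtain ⟨z, rfl⟩ := hx₁
  refine ⟨AlgSp.Points.map j₁.hom z, har hxa, AlgSp.Points.map k.hom z, ?_⟩
  rw [← AlgSp.Points.map_comp, show k.hom ≫ j.hom = j₁.hom from congrArg (·.hom) hk]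

/-- An open piece of any chart inside a given open. -/
theorem exists_affine_restrict {U : Over S} (a : (AlgSp.yon S).obj U ⟶ X.obj) (ha : AlgSp.RepWith @Etale a)
    (Ω : Set (AlgSp.Points X.obj)) (hΩ : IsOpen Ω) (u : ↥U.left) (hu : AlgSp.Points.ofPt a u ∈ Ω) :
    ∃ (W : U.left.Opens), IsAffineOpen W ∧ u ∈ W ∧
      Set.range (AlgSp.Points.ofPt ((AlgSp.yon S).map (Over.homMk W.ι rfl : Over.mk (W.ι ≫ U.hom) ⟶ U) ≫ a)) ⊆ Ω := by
  obtain ⟨W, hW, huW, hWs⟩ := exists_isAffineOpen_mem_and_subset (x := u)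
    (U := ⟨AlgSp.Points.ofPt a ⁻¹' Ω, hΩ.preimage (AlgSp.Points.continuous_ofPt a)⟩) hu
  refine ⟨W, hW, huW, ?_⟩
  rintro _ ⟨w, rfl⟩
  have h : AlgSp.Points.ofPt a (W.ι w) ∈ Ω := hWs w.2
  exact (ofPt_restrict a W w).symm ▸ h

/-- A geometric point of a decent space has finitely many lifts to a quasi-compact chart. -/
theorem finite_lifts_of_qc {U : Over S} [CompactSpace ↥U.left] (a : (AlgSp.yon S).obj U ⟶ X.obj)
    (ha : AlgSp.RepWith @Etale a) (q : AlgSp.FieldPt X.obj) (hq : AlgSp.RepWith @QuasiCompact q.toHom) :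
    Finite (Lifts X a q) := by
  obtain ⟨P, fst, snd, sq⟩ := AlgSpB.exists_pullback_yon hq.1 a
  have : Etale fst.left := ha.2 _ _ _ sq.flip
  have : QuasiCompact snd.left := hq.2 _ _ _ sq
  have : CompactSpace ↥P.left := QuasiCompact.compactSpace_of_compactSpace snd.left
  have : IsAffine q.pt.left := inferInstanceAs (IsAffine (Spec (CommRingCat.of q.K)))
  have := subsingleton_pt q
  have : QuasiCompact fst.left := HasAffineProperty.iff_of_isAffine.2 (by infer_instance)
  have := locallyQuasiFinite_of_etale fst.left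
  have : Finite ↥P.left := by
    rw [← Set.finite_univ_iff]
    exact (fst.left.finite_preimage_singleton (IsLocalRing.closedPoint q.K)).subset fun z _ => Subsingleton.elim _ _
  have hl : ∀ c : Lifts X a q, ∃ e : q.pt ⟶ P, e ≫ fst = 𝟙 _ ∧ e ≫ snd = c.1 := fun c => by
    obtain ⟨e, he⟩ := (AlgSp.yon S).map_surjective (sq.lift (𝟙 _) ((AlgSp.yon S).map c.1)
      ((Category.id_comp _).trans c.2.symm))
    exact ⟨e, (AlgSp.yon S).map_injective (by rw [Functor.map_comp, he, sq.lift_fst, CategoryTheory.Functor.map_id]),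
      (AlgSp.yon S).map_injective (by rw [Functor.map_comp, he, sq.lift_snd])⟩
  choose e he1 he2 using hl
  refine Finite.of_injective (fun c => (e c).left (IsLocalRing.closedPoint q.K)) fun c d hcd => ?_
  have : e c = e d := Over.OverMorphism.ext
    (EtaleSite.section_ext fst.left (e c).left (e d).left (congrArg CommaMorphism.left (he1 c))
      (congrArg CommaMorphism.left (he1 d)) (IsLocalRing.closedPoint q.K) hcd)
  exact Subtype.ext (by rw [← he2 c, ← he2 d, this])

end Groth.Agent.AlgSpD
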