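import Groth.Agent.AlgSpD.DimTop
import Groth.Agent.AlgSpD.HasAt
import Groth.Agent.S10338
import Groth.Agent.S10339
import Groth.Agent.S10340
import Groth.Agent.S10343

/-!
# Dimension theory of decent algebraic spaces
-/

universe u

open CategoryTheory AlgebraicGeometry TopologicalSpace Order

namespace Groth.Agent.AlgSpD

open Groth.Agent

variable {S : Scheme.{u}} (X : AlgSp.Space S) (hX : AlgSp.IsDecent X.obj) {U : Over S}
  (a : (AlgSp.yon S).obj U ⟶ X.obj) (ha : AlgSp.RepWith @Etale a)

include hX ha in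
theorem exists_lift_of_specializes (u : ↥U.left) (ξ : AlgSp.Points X.obj) (h : ξ ⤳ AlgSp.Points.ofPt a u) :
    ∃ v, v ⤳ u ∧ AlgSp.Points.ofPt a v = ξ :=
  S10343.result X _ ξ h (hX ξ) a ha u rfl

include hX ha in
theorem coheight_pointClosure_ofPt (u : ↥U.left) :
    coheight (pointClosure (AlgSp.Points.ofPt a u)) = coheight u :=
  have := S10338.result X hX
  have := S10339.result X hX
  coheight_pointClosure _ (AlgSp.Points.continuous_ofPt a) (exists_lift_of_specializes X hX a ha)
    (S10340.result X hX a ha) u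

omit a ha hX in
theorem isGenericPoint_component_iff (x : AlgSp.Points X.obj) :
    (∃ T ∈ irreducibleComponents (AlgSp.Points X.obj), IsGenericPoint x T) ↔
      coheight (pointClosure x) = 0 := by
  rw [coheight_eq_zero]
  constructor
  · rintro ⟨T, hT, hx⟩ s hs
    have : T ⊆ (s : Set _) := hx.def ▸ hs
    exact (hT.2 s.2 this).trans hx.def.symm.le
  · intro h
    refine ⟨closure {x}, ⟨isIrreducible_singleton.closure, fun s hs hle => ?_⟩, isGenericPoint_closure⟩
    exact subset_closure.trans (h (b := ⟨closure s, hs.closure, isClosed_closure⟩) (hle.trans subset_closure))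

omit a ha in
include hX in
theorem topologicalKrullDim_points : topologicalKrullDim (AlgSp.Points X.obj) = AlgSp.dim X.obj := by
  have := S10338.result X hX
  have := S10339.result X hX
  refine le_antisymm ?_ (iSup_le fun V => iSup_le fun b => iSup_le fun hb => ?_)
  · obtain ⟨V, b, hb, hbs⟩ := X.property.atlas
    rw [topologicalKrullDim_eq_of_lift _ (AlgSp.Points.continuous_ofPt b) (exists_lift_of_specializes X hX b hb)
      (S10340.result X hX b hb) (AlgSpB.surjective_ofPt hbs)]
    exact le_iSup_of_le V (le_iSup_of_le b (le_iSup_of_le hb le_rfl))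
  · rw [topologicalKrullDim_eq_iSup, topologicalKrullDim, krullDim_eq_iSup_coheight]
    refine iSup_le fun u => ?_
    rw [← coheight_pointClosure_ofPt X hX b hb u]
    exact le_iSup (fun T : IrreducibleCloseds (AlgSp.Points X.obj) => (coheight T : WithBot ℕ∞))
      (pointClosure (AlgSp.Points.ofPt b u))

include hX ha in
theorem topologicalKrullDim_image_eq (W : U.left.Opens) :
    topologicalKrullDim ↥(AlgSp.Points.ofPt a '' (W : Set ↥U.left)) = topologicalKrullDim ↥(W : Set ↥U.left) := by
  have := S10338.result X hX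
  have := S10339.result X hX
  have hV : IsOpen (AlgSp.Points.ofPt a '' (W : Set ↥U.left)) := AlgSpB.isOpenMap_ofPt ha _ W.2
  have := hV.isOpenEmbedding_subtypeVal.quasiSober
  refine topologicalKrullDim_eq_of_lift (U := W.toScheme)
    (fun w => (⟨AlgSp.Points.ofPt a (W.ι w), W.ι w, w.2, rfl⟩ : ↥(AlgSp.Points.ofPt a '' (W : Set ↥U.left))))
    (((AlgSp.Points.continuous_ofPt a).comp W.ι.continuous).subtype_mk _) (fun w ξ h => ?_) (fun w w' h h' => ?_) ?_
  · obtain ⟨v, hv, hav⟩ := exists_lift_of_specializes X hX a ha (W.ι w) ξ.1 (h.map continuous_subtype_val)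
    exact ⟨⟨v, hv.mem_open W.2 w.2⟩, W.ι.isOpenEmbedding.isInducing.specializes_iff.1 hv, Subtype.ext hav⟩
  · exact W.ι.isOpenEmbedding.injective
      (S10340.result X hX a ha _ _ (congrArg Subtype.val h) (h'.map W.ι.continuous))
  · rintro ⟨_, v, hv, rfl⟩
    exact ⟨⟨v, hv⟩, rfl⟩

end Groth.Agent.AlgSpD
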