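import Groth.Agent.AlgSpD.HasAt
import Groth.Agent.CycLib.FibreDim
import Groth.Prelude.Def_Flat
import Groth.Prelude.Def_Dual3
import Mathlib.AlgebraicGeometry.Morphisms.QuasiFinite

/-!
# Transcendence degrees, fibre dimensions and chart independence for algebraic spaces
-/

universe u

open CategoryTheory CategoryTheory.Limits AlgebraicGeometry Opposite Topology

set_option backward.isDefEq.respectTransparency false
set_option linter.style.haveILetI false

namespace Groth.Agent.AlgSpD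

open Groth.Agent

/-- Predicates of morphisms at points invariant under etale change of source and target. -/
def MorEtaleInv (Q : ∀ (U V : Scheme.{u}), (U ⟶ V) → ↥U → Prop) : Prop :=
  ∀ ⦃U' U V' V : Scheme.{u}⦄ (p : U' ⟶ U) (q : V' ⟶ V) (h' : U' ⟶ V') (h : U ⟶ V), Etale p → Etale q →
    h' ≫ q = p ≫ h → ∀ u : ↥U', Q U' V' h' u ↔ Q U V h (p u)

/-- For an invariant predicate some diagram and every diagram agree. -/
theorem hasAtMor_iff_chart {S : Scheme.{u}} {Q : ∀ (U V : Scheme.{u}), (U ⟶ V) → ↥U → Prop}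
    (hQ : MorEtaleInv Q) {X Y : AlgSp.Space S} (f : X ⟶ Y) {U V : Over S}
    {a : (AlgSp.yon S).obj U ⟶ X.obj} {b : (AlgSp.yon S).obj V ⟶ Y.obj} {h : U ⟶ V}
    (ha : AlgSp.RepWith @Etale a) (hb : AlgSp.RepWith @Etale b)
    (w : a ≫ f.hom = (AlgSp.yon S).map h ≫ b) (u : ↥U.left) :
    AlgSp.HasAtMor Q f.hom (AlgSp.Points.ofPt a u) ↔ Q U.left V.left h.left u := by
  refine ⟨?_, fun hh => ⟨U, V, a, b, h, u, ha, hb, w, rfl, hh⟩⟩
  rintro ⟨U', V', a', b', h', u', ha', hb', w', e, hh⟩
  obtain ⟨R, p', p, r, sq, hp', hp, hr', hr⟩ := exists_common_chart ha' ha e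
  obtain ⟨W, q', q, sqW⟩ := AlgSpB.exists_pullback_yon hb'.1 b
  have hw : (AlgSp.yon S).map (p' ≫ h') ≫ b' = (AlgSp.yon S).map (p ≫ h) ≫ b := by
    rw [Functor.map_comp, Functor.map_comp, Category.assoc, Category.assoc, ← w, ← w', sq.w_assoc]
  obtain ⟨m, hm⟩ := (AlgSp.yon S).map_surjective (sqW.lift _ _ hw)
  have h1 : m ≫ q' = p' ≫ h' := (AlgSp.yon S).map_injective (by rw [Functor.map_comp, hm, sqW.lift_fst])
  have h2 : m ≫ q = p ≫ h := (AlgSp.yon S).map_injective (by rw [Functor.map_comp, hm, sqW.lift_snd])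
  have k1 := hQ p'.left q'.left m.left h'.left hp' (hb.2 _ _ _ sqW.flip)
    (by simpa using congrArg CommaMorphism.left h1) r
  have k2 := hQ p.left q.left m.left h.left hp (hb'.2 _ _ _ sqW)
    (by simpa using congrArg CommaMorphism.left h2) r
  rw [← hr'] at hh
  rw [← hr]
  exact k2.1 (k1.2 hh)

section Scheme

variable {U V W : Scheme.{u}}

theorem resTrdeg_comp (f : U ⟶ V) (g : V ⟶ W) (u : U) :
    Dual3.resTrdeg (f ≫ g) u = Dual3.resTrdeg f u + Dual3.resTrdeg g (f u) := by
  unfold Dual3.resTrdeg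
  letI a1 : Algebra (W.residueField (g (f u))) (V.residueField (f u)) :=
    (g.residueFieldMap (f u)).hom.toAlgebra
  letI a2 : Algebra (V.residueField (f u)) (U.residueField u) := (f.residueFieldMap u).hom.toAlgebra
  letI a3 : Algebra (W.residueField (g (f u))) (U.residueField u) := ((f ≫ g).residueFieldMap u).hom.toAlgebra
  haveI : IsScalarTower (W.residueField (g (f u))) (V.residueField (f u)) (U.residueField u) :=
    IsScalarTower.of_algebraMap_eq' (by
      show ((f ≫ g).residueFieldMap u).hom = (f.residueFieldMap u).hom.comp (g.residueFieldMap (f u)).hom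
      rw [Scheme.residueFieldMap_comp, CommRingCat.hom_comp])
  haveI : FaithfulSMul (W.residueField (g (f u))) (V.residueField (f u)) :=
    (faithfulSMul_iff_algebraMap_injective _ _).2 (RingHom.injective _)
  haveI : FaithfulSMul (V.residueField (f u)) (U.residueField u) :=
    (faithfulSMul_iff_algebraMap_injective _ _).2 (RingHom.injective _)
  exact ((_root_.trdeg_add_eq (W.residueField (g (f u))) (V.residueField (f u))
    (A := U.residueField u)).symm.trans (add_comm _ _))

/-- The transcendence degree is the height in the fibre; fibre dimension is the sum with the coheight. -/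
theorem exists_fibre_dims (f : U ⟶ V) [LocallyOfFiniteType f] (u : U) :
    ∃ n m : ℕ, Dual3.resTrdeg f u = m ∧ Order.height (f.asFiber u) = m ∧
      ringKrullDim ↥((f.fiber (f u)).presheaf.stalk (f.asFiber u)) = n ∧
      FlatMor.fibreDimAt f u = (n + m : ℕ) := by
  letI := f.fiberOverSpecResidueField (f u)
  haveI : LocallyOfFiniteType ((f.fiber (f u)) ↘ Spec (CommRingCat.of (V.residueField (f u)))) :=
    CycLib.locallyOfFiniteType_fiberToSpecResidueField f (f u)
  obtain ⟨n, hn, h⟩ := VarDim.localDim_eq_coheight_add (V.residueField (f u)) (f.asFiber u)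
  refine ⟨n, VarDim.dimPt (V.residueField (f u)) (f.fiber (f u)) (f.asFiber u), ?_,
    VarDim.height_eq_dimPt _ _, by rw [ringKrullDim_stalk_eq_coheight, hn]; rfl, h⟩
  have key : ∀ x, x = f.fiberι (f u) (f.asFiber u) → Dual3.resTrdeg f x =
      VarDim.dimPt (V.residueField (f u)) (f.fiber (f u)) (f.asFiber u) := by
    rintro x rfl
    exact CycLib.trdeg_fibre f (f u) (f.asFiber u)
  exact key u (f.fiberι_asFiber u).symm

/-- A point closed in its fibre has transcendence degree zero. -/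
theorem resTrdeg_eq_zero_of_isClosed (f : U ⟶ V) [LocallyOfFiniteType f] (u : U)
    (h : IsClosed ({f.asFiber u} : Set (f.fiber (f u)))) : Dual3.resTrdeg f u = 0 := by
  obtain ⟨n, m, hm, hh, -⟩ := exists_fibre_dims f u
  have : IsMin (f.asFiber u) := fun z (hz : z ≤ f.asFiber u) => by
    have := h.closure_eq ▸ specializes_iff_mem_closure.1 hz
    exact (Set.mem_singleton_iff.1 this).ge
  rw [Order.height_eq_zero.2 this] at hh
  rw [hm, show m = 0 by exact_mod_cast hh.symm, Nat.cast_zero]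

theorem resTrdeg_eq_zero_of_lqf (f : U ⟶ V) [LocallyOfFiniteType f] [LocallyQuasiFinite f] (u : U) :
    Dual3.resTrdeg f u = 0 :=
  resTrdeg_eq_zero_of_isClosed f u (isClosed_discrete _)

theorem resTrdeg_inv {U' V' : Scheme.{u}} (p : U' ⟶ U) (q : V' ⟶ V) (h' : U' ⟶ V') (h : U ⟶ V)
    [Etale p] [Etale q] (w : h' ≫ q = p ≫ h) (u : U') :
    Dual3.resTrdeg h' u = Dual3.resTrdeg h (p u) := by
  have e : Dual3.resTrdeg (h' ≫ q) u = Dual3.resTrdeg (p ≫ h) u := by rw [w]
  have := locallyQuasiFinite_of_etale q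
  have := locallyQuasiFinite_of_etale p
  rwa [resTrdeg_comp, resTrdeg_comp, resTrdeg_eq_zero_of_lqf q, resTrdeg_eq_zero_of_lqf p,
    add_zero, zero_add] at e

instance etale_residueFieldMap (q : U ⟶ V) [Etale q] (x : U) : Etale (Spec.map (q.residueFieldMap x)) := by
  have := locallyQuasiFinite_of_etale q
  have : IsClosedImmersion (q.asFiberHom x) := .of_isPreimmersion _ (isClosed_discrete _)
  have : LocallyOfFiniteType (q.fiberToSpecResidueField (q x)) :=
    MorphismProperty.pullback_snd _ _ inferInstance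
  have : FormallyUnramified (q.fiberToSpecResidueField (q x)) :=
    MorphismProperty.pullback_snd _ _ inferInstance
  have h1 : LocallyOfFiniteType (Spec.map (q.residueFieldMap x)) := by
    rw [← q.asFiberHom_fiberToSpecResidueField x]; infer_instance
  have h2 : FormallyUnramified (Spec.map (q.residueFieldMap x)) := by
    rw [← q.asFiberHom_fiberToSpecResidueField x]
    exact MorphismProperty.comp_mem @FormallyUnramified _ _ inferInstance inferInstance
  exact Etale.of_formallyUnramified_of_flat (f := Spec.map (q.residueFieldMap x))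

/-- An etale square induces etale maps of fibres. -/
theorem exists_etale_fiberMap {U' V' : Scheme.{u}} (p : U' ⟶ U) (q : V' ⟶ V) (h' : U' ⟶ V') (h : U ⟶ V)
    [Etale p] [Etale q] (e : h' ≫ q = p ≫ h) (u : U') :
    ∃ φ : h'.fiber (h' u) ⟶ h.fiber (h (p u)), Etale φ ∧ φ (h'.asFiber u) = h.asFiber (p u) := by
  obtain ⟨v, hv⟩ : ∃ v, v = q (h' u) := ⟨_, rfl⟩
  have hv' : h (p u) = v := by
    rw [hv, ← Scheme.Hom.comp_apply, ← Scheme.Hom.comp_apply, e]
  let l : U' ⟶ pullback h q := pullback.lift p h' e.symm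
  have : Etale (l ≫ pullback.fst h q) := by rw [pullback.lift_fst]; infer_instance
  have : Etale l := Etale.of_comp l (pullback.fst h q)
  let j := V'.fromSpecResidueField (h' u)
  obtain ⟨c, hc, hce⟩ : ∃ c : Spec (V'.residueField (h' u)) ⟶ Spec (V.residueField (h (p u))),
      c ≫ V.fromSpecResidueField (h (p u)) = j ≫ q ∧ Etale c := by
    have hvv : h (p u) = q (h' u) := hv'.trans hv
    rw [hvv]
    exact ⟨Spec.map (q.residueFieldMap (h' u)), by simp [j], inferInstance⟩
  let φ₁ : pullback h' j ⟶ pullback (pullback.snd h q) j :=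
    pullback.map h' j (pullback.snd h q) j l (𝟙 _) (𝟙 _) (by simp [l]) (by simp)
  let φ₃ : pullback h (j ≫ q) ⟶ pullback h (V.fromSpecResidueField (h (p u))) :=
    pullback.map h (j ≫ q) h (V.fromSpecResidueField (h (p u))) (𝟙 _) c (𝟙 _) (by simp) (by simp [hc])
  have : Etale φ₁ := MorphismProperty.pullbackMap (P := @Etale) ‹Etale l›
    (inferInstance : Etale (𝟙 _)) (by simp [l]) (by simp)
  have : Etale φ₃ := MorphismProperty.pullbackMap (P := @Etale) (inferInstance : Etale (𝟙 _)) hce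
    (by simp) hc.symm
  let φ : h'.fiber (h' u) ⟶ h.fiber (h (p u)) := φ₁ ≫ (pullbackLeftPullbackSndIso h q j).hom ≫ φ₃
  have hφ : φ ≫ h.fiberι (h (p u)) = h'.fiberι (h' u) ≫ p := by
    simp [φ, φ₁, φ₃, Scheme.Hom.fiberι, l]; rfl
  refine ⟨φ, ?_, (h.fiberι _).isEmbedding.injective ?_⟩
  · exact MorphismProperty.comp_mem @Etale _ _ ‹Etale φ₁›
      (MorphismProperty.comp_mem @Etale _ _ inferInstance ‹Etale φ₃›)
  · rw [← Scheme.Hom.comp_apply, hφ, Scheme.Hom.comp_apply, h'.fiberι_asFiber, h.fiberι_asFiber]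

theorem fibreDimAt_inv {U' V' : Scheme.{u}} (p : U' ⟶ U) (q : V' ⟶ V) (h' : U' ⟶ V') (h : U ⟶ V)
    [Etale p] [Etale q] (w : h' ≫ q = p ≫ h) (u : U') :
    FlatMor.fibreDimAt h' u = FlatMor.fibreDimAt h (p u) := by
  obtain ⟨φ, hφ, e⟩ := exists_etale_fiberMap p q h' h w u
  unfold FlatMor.fibreDimAt
  rw [← e]
  exact (localDim_invariant _ φ (h'.asFiber u)).2 rfl

theorem fibreStalkDim_inv {U' V' : Scheme.{u}} (p : U' ⟶ U) (q : V' ⟶ V) (h' : U' ⟶ V') (h : U ⟶ V)
    [Etale p] [Etale q] (w : h' ≫ q = p ≫ h) (u : U') :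
    ringKrullDim ↥((h'.fiber (h' u)).presheaf.stalk (h'.asFiber u)) =
      ringKrullDim ↥((h.fiber (h (p u))).presheaf.stalk (h.asFiber (p u))) := by
  obtain ⟨φ, hφ, e⟩ := exists_etale_fiberMap p q h' h w u
  rw [← e]
  exact (stalkDim_invariant _ φ (h'.asFiber u)).2 rfl

end Scheme

theorem morEtaleInv_resTrdeg (r : Cardinal.{u}) :
    MorEtaleInv.{u} (fun _ _ h u => Dual3.resTrdeg h u = r) :=
  fun _ _ _ _ p q h' h _ _ w u => by
    show Dual3.resTrdeg h' u = r ↔ Dual3.resTrdeg h (p u) = r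
    rw [resTrdeg_inv p q h' h w u]

theorem morEtaleInv_fibreDimAt (d : WithBot ℕ∞) :
    MorEtaleInv.{u} (fun _ _ h u => FlatMor.fibreDimAt h u = d) :=
  fun _ _ _ _ p q h' h _ _ w u => by
    show FlatMor.fibreDimAt h' u = d ↔ FlatMor.fibreDimAt h (p u) = d
    rw [fibreDimAt_inv p q h' h w u]

theorem morEtaleInv_fibreStalkDim (e : WithBot ℕ∞) :
    MorEtaleInv.{u} (fun _ _ h u => ringKrullDim ↥((h.fiber (h u)).presheaf.stalk (h.asFiber u)) = e) :=
  fun _ _ _ _ p q h' h _ _ w u => by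
    show ringKrullDim ↥((h'.fiber (h' u)).presheaf.stalk (h'.asFiber u)) = e ↔ _ = e
    rw [fibreStalkDim_inv p q h' h w u]

/-- Every point lies on a chart diagram. -/
theorem exists_diagram {S : Scheme.{u}} {X Y : AlgSp.Space S} (f : X ⟶ Y) (x : AlgSp.Points X.obj) :
    ∃ (U V : Over S) (a : (AlgSp.yon S).obj U ⟶ X.obj) (b : (AlgSp.yon S).obj V ⟶ Y.obj) (h : U ⟶ V)
      (u : ↥U.left), AlgSp.RepWith @Etale a ∧ AlgSp.RepWith @Etale b ∧
        a ≫ f.hom = (AlgSp.yon S).map h ≫ b ∧ AlgSp.Points.ofPt a u = x := by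
  obtain ⟨U, a, u, ha, rfl⟩ := exists_chart X x
  obtain ⟨V, b, v, hb, hv⟩ := exists_chart Y (AlgSp.Points.map f.hom (AlgSp.Points.ofPt a u))
  obtain ⟨R, p, h, r, hpa, -, hw, hr, -⟩ := exists_diagram_over f ha u hb hv
  exact ⟨R, V, _, b, h, r, hpa, hb, hw, by rw [AlgSpB.ofPt_map_comp, hr]⟩

end Groth.Agent.AlgSpD
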