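import Groth.Agent.AlgSpD.Decent
import Groth.Agent.AlgSp.Quot
import Groth.Agent.AlgSpB.KernelPairGrpd
import Groth.Agent.AlgSpB.Open
import Groth.Agent.AlgSpB.OpenGlue
import Groth.Agent.AlgSpB.LqfLocal
import Groth.Agent.GrpdLib.FppfQuot
import Groth.Agent.S5690
import Groth.Agent.S4086
import Groth.Agent.S10340
import Groth.Agent.RedSub.Basic
import Groth.Agent.AlgSpD.DecentCrit
import Mathlib.AlgebraicGeometry.ZariskisMainTheorem
import Mathlib.AlgebraicGeometry.Artinian

/-!
# Decent spaces with a single point
-/

universe u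

open CategoryTheory CategoryTheory.Limits AlgebraicGeometry Opposite

set_option backward.isDefEq.respectTransparency false

namespace Groth.Agent.AlgSpD

open Groth.Agent

variable {S : Scheme.{u}}

/-- A separated locally quasi-finite morphism between discrete schemes with finite source is finite. -/
theorem isFinite_of_discrete {X U : Scheme.{u}} (f : X ⟶ U) [Finite ↥X] [DiscreteTopology ↥U]
    [LocallyQuasiFinite f] [LocallyOfFiniteType f] [IsSeparated f] : IsFinite f := by
  have : QuasiCompact f := quasiCompact_of_finite f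
  have : IsReduced U.nilradical.subscheme := by
    rw [← Scheme.IdealSheafData.vanishingIdeal_top]
    exact Groth.Agent.RedSub.isReduced_vanishingIdeal _
  let ι := U.nilradical.subschemeι
  have : DiscreteTopology ↥U.nilradical.subscheme := ι.isEmbedding.discreteTopology
  have : IsFinite (pullback.snd f ι) := IsFinite.of_locallyQuasiFinite _
  have : Surjective ι := ⟨fun x => by
    have : x ∈ Set.range U.nilradical.subschemeι := by
      rw [Scheme.IdealSheafData.range_subschemeι, Scheme.support_nilradical]; trivial
    exact this⟩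
  have : UniversallyClosed (pullback.fst f ι ≫ f) := by
    rw [pullback.condition]; infer_instance
  have : UniversallyClosed f := UniversallyClosed.of_comp_surjective (pullback.fst f ι) f
  have : IsProper f := {}
  exact IsFinite.of_isProper_of_locallyQuasiFinite f

variable (X : AlgSp.Space S) (hX : AlgSp.IsDecent X.obj)

include hX in
/-- A finite etale chart over a decent single-point space is discrete. -/
theorem discreteTopology_of_chart [Subsingleton (AlgSp.Points X.obj)] {U : Over S} [Finite ↥U.left]
    (a : (AlgSp.yon S).obj U ⟶ X.obj) (ha : AlgSp.RepWith @Etale a) : DiscreteTopology ↥U.left :=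
  DiscreteTopology.of_finite_of_isClosed_singleton fun u => by
    refine closure_subset_iff_isClosed.1 fun v hv => ?_
    exact S10340.result X hX a ha v u (Subsingleton.elim _ _) (specializes_iff_mem_closure.2 hv)

/-- The self fibre product of a chart with finitely many points over quasi-compact points is finite. -/
theorem finite_of_isPullback {U R : Over S} [Finite ↥U.left] (a : (AlgSp.yon S).obj U ⟶ X.obj)
    (ha : AlgSp.RepWith @Etale a) (s t : R ⟶ U)
    (sq : IsPullback ((AlgSp.yon S).map t) ((AlgSp.yon S).map s) a a)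
    (hq : ∀ u, AlgSp.RepWith @QuasiCompact (AlgSp.FieldPt.ofPt a u).toHom) : Finite ↥R.left := by
  have hfib : ∀ u, (s.left ⁻¹' {u}).Finite := by
    intro u
    let c : Over.mk (U.left.fromSpecResidueField u ≫ U.hom) ⟶ U :=
      Over.homMk (U.left.fromSpecResidueField u) rfl
    have eQ := IsPullback.of_hasPullback s c
    have h0 := (eQ.map (AlgSp.yon S)).paste_horiz sq
    rw [← Functor.map_comp] at h0
    have hh := hq u
    rw [AlgSp.FieldPt.toHom_ofPt] at hh
    have h1 : AlgSp.RepWith @QuasiCompact ((AlgSp.yon S).map (pullback.fst s c ≫ t)) :=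
      MorphismProperty.of_isPullback h0.flip hh
    have : QuasiCompact (pullback.fst s c ≫ t).left := (AlgSp.repWith_yon_map_iff _ _).1 h1
    have : CompactSpace ↥(pullback s c).left :=
      QuasiCompact.compactSpace_of_compactSpace (pullback.fst s c ≫ t).left
    have hs : Etale s.left := ha.2 _ _ _ sq
    have eL : IsPullback (pullback.fst s c).left (pullback.snd s c).left s.left c.left :=
      eQ.map (Over.forget S)
    have : Etale (pullback.snd s c).left := MorphismProperty.of_isPullback eL hs
    have : Subsingleton ↥(Over.mk (U.left.fromSpecResidueField u ≫ U.hom) : Over S).left :=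
      inferInstanceAs (Subsingleton (PrimeSpectrum (U.left.residueField u)))
    have : QuasiCompact (pullback.snd s c).left := by
      have : IsAffine (Over.mk (U.left.fromSpecResidueField u ≫ U.hom) : Over S).left :=
        inferInstanceAs (IsAffine (Spec (U.left.residueField u)))
      exact HasAffineProperty.iff_of_isAffine.2 (by infer_instance)
    have := locallyQuasiFinite_of_etale (pullback.snd s c).left
    have : Finite ↥(pullback s c).left := by
      rw [← Set.finite_univ_iff]
      exact ((pullback.snd s c).left.finite_preimage_singleton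
        (IsLocalRing.closedPoint (U.left.residueField u))).subset fun z _ => Subsingleton.elim _ _
    refine (Set.finite_range (pullback.fst s c).left).subset fun r hr => ?_
    obtain ⟨z, hz, -⟩ := Scheme.Pullback.exists_preimage_pullback r
      (IsLocalRing.closedPoint (U.left.residueField u)) (f := s.left) (g := c.left)
      ((show s.left r = u from hr).trans (U.left.fromSpecResidueField_apply u _).symm)
    refine ⟨eL.isoPullback.inv z, ?_⟩
    rw [← Scheme.Hom.comp_apply, IsPullback.isoPullback_inv_fst]
    exact hz
  rw [← Set.finite_univ_iff]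
  exact (Set.finite_iUnion hfib).subset fun r _ => Set.mem_iUnion.2 ⟨s.left r, rfl⟩

include hX in
/-- A decent space with a single point is a scheme. -/
theorem isRepresentable_of_subsingleton [Nonempty (AlgSp.Points X.obj)]
    [Subsingleton (AlgSp.Points X.obj)] : X.obj.obj.IsRepresentable := by
  obtain ⟨x⟩ := ‹Nonempty (AlgSp.Points X.obj)›
  obtain ⟨U, a, u₀, hU, ha, -⟩ := exists_affine_chart X x
  obtain ⟨p, hp, hm, hq⟩ := hX x
  have : Finite ↥U.left := by
    rw [← Set.finite_univ_iff]
    exact (finite_preimage_of_qc_point p hq a ha).subset fun v _ => Subsingleton.elim _ _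
  have : DiscreteTopology ↥U.left := discreteTopology_of_chart X hX a ha
  have has : AlgSp.RepWith @Surjective a :=
    AlgSpB.repWith_surjective_of_surjective_ofPt ha.1 fun y => ⟨u₀, Subsingleton.elim _ _⟩
  obtain ⟨R, t, s, sq⟩ := AlgSpB.exists_pullback_yon ha.1 a
  have : Finite ↥R.left := finite_of_isPullback X a ha s t sq fun u =>
    repWith_quasiCompact_of_eq X p _ hm hq (Subsingleton.elim _ _)
  let Γ := AlgSpB.kpGrpd sq
  have : Mono Γ.j := AlgSpB.mono_kpGrpd_j sq
  have : IsSeparated U.hom := IsSeparated.of_comp U.hom (terminal.from S)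
  have hsep : IsSeparated Γ.s := by
    have e : Γ.s = Γ.j ≫ pullback.snd Γ.pU Γ.pU := by simp [Grpd.GroupoidScheme.j]
    rw [e]
    have : IsSeparated Γ.pU := ‹IsSeparated U.hom›
    infer_instance
  have : IsSeparated s.left := hsep
  have het : Etale s.left := ha.2 _ _ _ sq
  have := locallyQuasiFinite_of_etale s.left
  have h1 : IsFinite Γ.s := isFinite_of_discrete s.left
  have h2 : Flat Γ.s := (inferInstance : Flat s.left)
  have h3 : LocallyOfFinitePresentation Γ.s := (inferInstance : LocallyOfFinitePresentation s.left)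
  have haff : ∀ x : ↥Γ.U, ∃ V : Γ.U.Opens, IsAffineOpen V ∧
      Γ.t.base '' (Γ.s.base ⁻¹' {x}) ⊆ (V : Set ↥Γ.U) :=
    fun _ => ⟨⊤, (isAffineOpen_top U.left : IsAffineOpen (⊤ : U.left.Opens)), fun _ _ => trivial⟩
  obtain ⟨Y, q, w, ⟨hc⟩, -, -, hsurj, -, -⟩ := S5690.result Γ haff
  obtain ⟨hpb, hq₀⟩ := S4086.result S Γ ⟨h1, h2, h3⟩ haff Y q w.symm
    (IsColimit.ofIsoColimit (Cofork.IsColimit.mk _ (fun c => hc.desc (Cofork.ofπ c.π c.condition.symm))
      (fun c => hc.fac (Cofork.ofπ c.π c.condition.symm) WalkingParallelPair.one)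
      (fun c m hm => hc.hom_ext (Cofork.coequalizer_ext _ (hm.trans
        (hc.fac (Cofork.ofπ c.π c.condition.symm) WalkingParallelPair.one).symm)))) (Iso.refl _))
  obtain ⟨m₀, hm₀⟩ := Cofork.IsColimit.desc' hc Γ.pU (Γ.s_over.trans Γ.t_over.symm)
  let M : Over S := Over.mk m₀
  let m : U ⟶ M := Over.homMk q hm₀
  obtain ⟨hq1, hq2, hq3⟩ := hq₀
  have : Flat m.left := hq2
  have : LocallyOfFinitePresentation m.left := hq3
  have : Surjective m.left := hsurj
  have sqM : IsPullback ((AlgSp.yon S).map t) ((AlgSp.yon S).map s) ((AlgSp.yon S).map m)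
      ((AlgSp.yon S).map m) :=
    (IsPullback.of_map (Over.forget S) (Over.OverMorphism.ext hpb.w : t ≫ m = s ≫ m) hpb).map (AlgSp.yon S)
  have := AlgSpB.locSurj_yon m
  have := Groth.Agent.AlgSp.isLocallySurjective_of_etale_surjective a ha has
  obtain ⟨h⟩ := Groth.Agent.AlgSp.isColimit_of_isPullback _ sqM
  obtain ⟨h'⟩ := Groth.Agent.AlgSp.isColimit_of_isPullback _ sq
  exact AlgSpB.isRepresentable_of_iso (h.coconePointUniqueUpToIso h')

end Groth.Agent.AlgSpD
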