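import Mathlib.RingTheory.Valuation.ValuationSubring
import Mathlib.RingTheory.Valuation.LocalSubring
import Mathlib.RingTheory.LocalRing.ResidueField.Basic
import Mathlib.RingTheory.Localization.AtPrime.Basic
import Mathlib.RingTheory.MvPolynomial.Basic
import Mathlib.Algebra.MvPolynomial.CommRing
import Mathlib.Algebra.MvPolynomial.Eval
import Mathlib.Algebra.MvPolynomial.Equiv
import Mathlib.RingTheory.Polynomial.Basic

/-!
# Composite valuation rings
-/

universe u

set_option backward.isDefEq.respectTransparency false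

namespace Groth.Agent.AlgSpD

open IsLocalRing

/-- A valuation ring can be enlarged so that its residue field contains a given extension. -/
theorem exists_valuation_enlargement {M : Type u} [Field M] (B : ValuationSubring M) {Ω : Type u} [Field Ω]
    (g : B →+* Ω) (hg : RingHom.ker g = maximalIdeal B) :
    ∃ (F : Type u) (_ : Field F) (ι : M →+* F) (B' : ValuationSubring F) (i : B →+* B'),
      IsLocalHom i ∧ (∀ b, (i b : F) = ι b) ∧ ∃ j : Ω →+* ResidueField B', j.comp g = (residue B').comp i := by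
  let P := MvPolynomial Ω B
  let ev : P →+* Ω := MvPolynomial.eval₂Hom g id
  have hev : Function.Surjective ev := fun ω => ⟨MvPolynomial.X ω, MvPolynomial.eval₂_X g id ω⟩
  let 𝔓 : Ideal P := RingHom.ker ev
  have : 𝔓.IsPrime := RingHom.ker_isPrime ev
  let F := FractionRing P
  have hu : ∀ y : 𝔓.primeCompl, IsUnit (algebraMap P F y) := fun y =>
    isUnit_iff_ne_zero.2 fun h => y.2 (by rw [IsFractionRing.injective P F (h.trans (map_zero _).symm)]; exact 𝔓.zero_mem)
  let φ₀ : Localization.AtPrime 𝔓 →+* F := IsLocalization.lift hu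
  obtain ⟨B', hB, hBl⟩ := IsLocalRing.exists_factor_valuationRing (R := Localization.AtPrime 𝔓) (K := F) φ₀
  let φ : Localization.AtPrime 𝔓 →+* B' := φ₀.codRestrict B'.toSubring hB
  have hφ : IsLocalHom φ := hBl
  let i : B →+* B' := (φ.comp (algebraMap P _)).comp MvPolynomial.C
  have hiF : ∀ b, (i b : F) = algebraMap P F (MvPolynomial.C b) := fun b =>
    IsLocalization.lift_eq hu (MvPolynomial.C b)
  have hinj : Function.Injective ((algebraMap P F).comp MvPolynomial.C) :=
    (IsFractionRing.injective P F).comp (MvPolynomial.C_injective _ _)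
  refine ⟨F, inferInstance, IsFractionRing.lift hinj, B', i, ⟨fun b hb => ?_⟩, fun b => ?_, ?_⟩
  · have h1 : IsUnit (algebraMap P (Localization.AtPrime 𝔓) (MvPolynomial.C b)) := IsUnit.of_map φ _ hb
    rw [IsLocalization.AtPrime.isUnit_to_map_iff _ 𝔓] at h1
    by_contra hnu
    have : g b = 0 := by
      rw [← RingHom.mem_ker, hg]
      exact hnu
    exact h1 (RingHom.mem_ker.2 ((MvPolynomial.eval₂_C g id b).trans this))
  · rw [hiF]
    exact (IsFractionRing.lift_algebraMap hinj b).symm
  · let ρ : P →+* ResidueField B' := (residue B').comp (φ.comp (algebraMap P _))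
    have hker : RingHom.ker ev ≤ RingHom.ker ρ := by
      intro p hp
      rw [RingHom.mem_ker, RingHom.comp_apply, residue_eq_zero_iff]
      intro hu'
      have h1 : IsUnit (algebraMap P (Localization.AtPrime 𝔓) p) := IsUnit.of_map φ _ hu'
      rw [IsLocalization.AtPrime.isUnit_to_map_iff _ 𝔓] at h1
      exact h1 hp
    refine ⟨ev.liftOfSurjective hev ⟨ρ, hker⟩, RingHom.ext fun b => ?_⟩
    have h := ev.liftOfRightInverse_comp_apply _ (Function.rightInverse_surjInv hev) ⟨ρ, hker⟩ (MvPolynomial.C b)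
    rw [show ev (MvPolynomial.C b) = g b from MvPolynomial.eval₂_C g id b] at h
    exact h

variable {F : Type u} [Field F] (B : ValuationSubring F) (A : ValuationSubring (ResidueField B))

/-- The composite of a valuation ring with a valuation ring of its residue field. -/
noncomputable def compVal : ValuationSubring F where
  toSubring := (A.toSubring.comap (residue B)).map B.subtype
  mem_or_inv_mem' x := by
    have key : ∀ (y : F) (hy : y ∈ B), y ≠ 0 → ¬ IsUnit (⟨y, hy⟩ : B) →
        y ∈ (A.toSubring.comap (residue B)).map B.subtype := fun y hy _ hnu =>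
      ⟨⟨y, hy⟩, by
        change residue B ⟨y, hy⟩ ∈ A
        rw [(residue_eq_zero_iff _).2 hnu]
        exact A.zero_mem, rfl⟩
    by_cases hx0 : x = 0
    · left; rw [hx0]; exact Subring.zero_mem _
    rcases B.mem_or_inv_mem x with hx | hx
    · by_cases hu : IsUnit (⟨x, hx⟩ : B)
      · rcases A.mem_or_inv_mem (residue B ⟨x, hx⟩) with hA | hA
        · exact Or.inl ⟨⟨x, hx⟩, hA, rfl⟩
        · right
          refine ⟨(hu.unit⁻¹ : Bˣ), ?_, ?_⟩
          · change residue B ((hu.unit⁻¹ : Bˣ) : B) ∈ A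
            rw [map_units_inv]
            exact hA
          · change ((hu.unit⁻¹ : Bˣ) : B).1 = x⁻¹
            exact map_units_inv B.subtype hu.unit
      · exact Or.inl (key x hx hx0 hu)
    · by_cases hu : IsUnit (⟨x⁻¹, hx⟩ : B)
      · rcases A.mem_or_inv_mem (residue B ⟨x⁻¹, hx⟩) with hA | hA
        · exact Or.inr ⟨⟨x⁻¹, hx⟩, hA, rfl⟩
        · left
          refine ⟨(hu.unit⁻¹ : Bˣ), ?_, ?_⟩
          · change residue B ((hu.unit⁻¹ : Bˣ) : B) ∈ A
            rw [map_units_inv]
            exact hA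
          · change ((hu.unit⁻¹ : Bˣ) : B).1 = x
            exact (map_units_inv B.subtype hu.unit).trans (inv_inv x)
      · exact Or.inr (key x⁻¹ hx (inv_ne_zero hx0) hu)

theorem mem_compVal {x : F} : x ∈ compVal B A ↔ ∃ h : x ∈ B, residue B ⟨x, h⟩ ∈ A :=
  ⟨fun ⟨b, hb, e⟩ => e ▸ ⟨b.2, hb⟩, fun ⟨h, hA⟩ => ⟨⟨x, h⟩, hA, rfl⟩⟩

theorem compVal_le : compVal B A ≤ B := fun _ hx => ((mem_compVal B A).1 hx).1

/-- The residue map of the composite. -/
noncomputable def compValResidue : compVal B A →+* A where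
  toFun x := ⟨residue B ⟨x.1, compVal_le B A x.2⟩, ((mem_compVal B A).1 x.2).2⟩
  map_one' := Subtype.ext (map_one (residue B))
  map_mul' x y := Subtype.ext (map_mul (residue B) ⟨x.1, compVal_le B A x.2⟩ ⟨y.1, compVal_le B A y.2⟩)
  map_zero' := Subtype.ext (map_zero (residue B))
  map_add' x y := Subtype.ext (map_add (residue B) ⟨x.1, compVal_le B A x.2⟩ ⟨y.1, compVal_le B A y.2⟩)

theorem compValResidue_surjective : Function.Surjective (compValResidue B A) := by
  rintro ⟨a, ha⟩
  obtain ⟨b, rfl⟩ := residue_surjective a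
  exact ⟨⟨b.1, (mem_compVal B A).2 ⟨b.2, ha⟩⟩, rfl⟩

/-- An extension of a composite valuation ring is a composite. -/
theorem exists_split_extension {C' K' : Type u} [CommRing C'] [IsDomain C'] [ValuationRing C'] [Field K']
    [Algebra C' K'] [IsFractionRing C' K'] (ψ : F →+* K') (φ : compVal B A →+* C') [IsLocalHom φ]
    (comm : ∀ x, algebraMap C' K' (φ x) = ψ x) :
    ∃ (B'' : ValuationSubring K') (iB : B →+* B'') (_ : IsLocalHom iB) (iC : C' →+* B'')
      (A'' : ValuationSubring (ResidueField B'')) (iA : A →+* A'') (rC : C' →+* A''),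
      IsLocalHom iA ∧ (∀ b, (iB b : K') = ψ b) ∧ (∀ c, (iC c : K') = algebraMap C' K' c) ∧
      (∀ a, (iA a : ResidueField B'') = ResidueField.map iB a) ∧
      (∀ c, (rC c : ResidueField B'') = residue B'' (iC c)) ∧
      (∀ c, rC (φ c) = iA (compValResidue B A c)) := by
  let R : Subring K' := (algebraMap C' K').range
  let Sset : Subring K' :=
    { carrier := {x | ∃ s : B, ∃ hs : s.1 ∈ compVal B A, IsUnit s ∧ ψ s * x ∈ R}
      one_mem' := ⟨1, one_mem _, isUnit_one, by simpa using one_mem R⟩
      zero_mem' := ⟨1, one_mem _, isUnit_one, by simpa using zero_mem R⟩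
      neg_mem' := fun {x} ⟨s, hs, hu, hx⟩ => ⟨s, hs, hu, by simpa using neg_mem hx⟩
      mul_mem' := fun {x y} ⟨s, hs, hu, hx⟩ ⟨t, ht, hv, hy⟩ => ⟨s * t, mul_mem hs ht, hu.mul hv, by
        have : ψ ((s * t : B) : F) * (x * y) = (ψ s * x) * (ψ t * y) := by push_cast; rw [map_mul]; ring
        rw [this]; exact mul_mem hx hy⟩
      add_mem' := fun {x y} ⟨s, hs, hu, hx⟩ ⟨t, ht, hv, hy⟩ => ⟨s * t, mul_mem hs ht, hu.mul hv, by
        have : ψ ((s * t : B) : F) * (x + y) = ψ t * (ψ s * x) + ψ s * (ψ t * y) := by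
          push_cast; rw [map_mul]; ring
        rw [this]
        exact add_mem (mul_mem ⟨φ ⟨t, ht⟩, comm _⟩ hx) (mul_mem ⟨φ ⟨s, hs⟩, comm _⟩ hy)⟩ }
  let B'' : ValuationSubring K' :=
    { toSubring := Sset
      mem_or_inv_mem' := fun x => by
        rcases ValuationRing.isInteger_or_isInteger C' x with ⟨c, hc⟩ | ⟨c, hc⟩
        · exact Or.inl ⟨1, one_mem _, isUnit_one, c, by simpa using hc⟩
        · exact Or.inr ⟨1, one_mem _, isUnit_one, c, by simpa using hc⟩ }
  have hBmem : ∀ b : B, ψ b ∈ B'' := by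
    intro b
    rcases (compVal B A).mem_or_inv_mem b.1 with hb | hb
    · exact ⟨1, one_mem _, isUnit_one, φ ⟨b.1, hb⟩, by simpa using comm _⟩
    · by_cases h0 : b.1 = 0
      · rw [h0, map_zero]; exact zero_mem _
      · refine ⟨⟨b.1⁻¹, compVal_le B A hb⟩, hb, ?_, 1, ?_⟩
        · exact IsUnit.of_mul_eq_one b (Subtype.ext (inv_mul_cancel₀ h0))
        · change algebraMap C' K' 1 = ψ b.1⁻¹ * ψ b.1
          rw [map_one, ← map_mul, inv_mul_cancel₀ h0, map_one]
  let iB : B →+* B'' := (ψ.comp B.subtype).codRestrict B''.toSubring hBmem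
  let iC : C' →+* B'' :=
    (algebraMap C' K').codRestrict B''.toSubring fun c => ⟨1, one_mem _, isUnit_one, c, by simp⟩
  have hiB : IsLocalHom iB := ⟨fun b hb => by
    by_contra hnu
    obtain ⟨w, hw⟩ := hb.exists_right_inv
    obtain ⟨s, hs, hsu, c, hc⟩ := w.2
    have hw' : ψ b.1 * w.1 = 1 := congrArg Subtype.val hw
    obtain ⟨t, ht⟩ : ∃ t : B, t * s = b := ⟨b * (hsu.unit⁻¹ : Bˣ), by rw [mul_assoc, hsu.val_inv_mul, mul_one]⟩
    have htnu : ¬ IsUnit t := fun h => hnu (ht ▸ h.mul hsu)
    have htC : t.1 ∈ compVal B A := (mem_compVal B A).2 ⟨t.2, by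
      rw [show (⟨t.1, t.2⟩ : B) = t from rfl, (residue_eq_zero_iff t).2 htnu]; exact A.zero_mem⟩
    have h1 : φ ⟨t.1, htC⟩ * c = 1 := IsFractionRing.injective C' K' (by
      rw [map_mul, comm, hc, map_one, ← mul_assoc, ← map_mul]
      rw [show t.1 * s.1 = b.1 from congrArg Subtype.val ht]
      exact hw')
    have h2 : IsUnit (⟨t.1, htC⟩ : compVal B A) := isUnit_of_map_unit φ _ (IsUnit.of_mul_eq_one _ h1)
    obtain ⟨v, hv⟩ := h2.exists_right_inv
    exact htnu (IsUnit.of_mul_eq_one (⟨v.1, compVal_le B A v.2⟩ : B) (Subtype.ext (congrArg (fun z => z.1) hv)))⟩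
  let rC₀ : C' →+* ResidueField B'' := (residue B'').comp iC
  let A'' : ValuationSubring (ResidueField B'') :=
    { toSubring := rC₀.range
      mem_or_inv_mem' := fun x => by
        obtain ⟨y, rfl⟩ := residue_surjective x
        by_cases hy : IsUnit y
        · rcases ValuationRing.isInteger_or_isInteger C' y.1 with ⟨c, hc⟩ | ⟨c, hc⟩
          · exact Or.inl ⟨c, congrArg (residue B'') (Subtype.ext hc)⟩
          · right
            refine ⟨c, ?_⟩
            have : iC c = ((hy.unit⁻¹ : B''ˣ) : B'') :=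
              Subtype.ext (hc.trans (map_units_inv B''.subtype hy.unit).symm)
            change residue B'' (iC c) = _
            rw [this, map_units_inv]
            rfl
        · left
          rw [(residue_eq_zero_iff y).2 hy]
          exact rC₀.range.zero_mem }
  let rC : C' →+* A'' := rC₀.codRestrict A''.toSubring fun c => ⟨c, rfl⟩
  have hcompat : ∀ c, rC₀ (φ c) = ResidueField.map iB (compValResidue B A c : ResidueField B) := by
    intro c
    change residue B'' (iC (φ c)) = ResidueField.map iB (residue B ⟨c.1, compVal_le B A c.2⟩)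
    rw [ResidueField.map_residue]
    congr 1
    exact Subtype.ext (comm c)
  let iA : A →+* A'' := ((ResidueField.map iB).comp A.subtype).codRestrict A''.toSubring fun a => by
    obtain ⟨c, rfl⟩ := compValResidue_surjective B A a
    exact ⟨φ c, hcompat c⟩
  have hrφ : ∀ c, rC (φ c) = iA (compValResidue B A c) := fun c => Subtype.ext (hcompat c)
  have hrCs : Function.Surjective rC := by
    rintro ⟨_, c, rfl⟩
    exact ⟨c, rfl⟩
  have : IsLocalHom rC := .of_surjective rC hrCs
  refine ⟨B'', iB, hiB, iC, A'', iA, rC, ⟨fun a ha => ?_⟩, fun _ => rfl, fun _ => rfl, fun _ => rfl, fun _ => rfl,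
    hrφ⟩
  obtain ⟨c, rfl⟩ := compValResidue_surjective B A a
  rw [← hrφ] at ha
  exact (isUnit_of_map_unit φ _ (isUnit_of_map_unit rC _ ha)).map (compValResidue B A)

end Groth.Agent.AlgSpD
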