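import Groth.Agent.AlgSpD.DecentCrit
import Groth.Agent.AlgSp.QCMor
import Groth.Agent.AlgSp.PointsMor
import Groth.Agent.AlgSp.Space

/-!
# Descent of monomorphic points and decency along quasi-compact etale surjections
-/

universe u

open CategoryTheory CategoryTheory.Limits AlgebraicGeometry Opposite

set_option backward.isDefEq.respectTransparency false

namespace Groth.Agent.AlgSpD

open Groth.Agent

variable {S : Scheme.{u}}

/-- The pullback of any field point over a monomorphic point has finite fibres over points of a chart. -/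
theorem finite_fibre_of_mono (X : AlgSp.Space S) (p : AlgSp.FieldPt X.obj) (hm : Mono p.toHom)
    (q : AlgSp.FieldPt X.obj) (hq : AlgSp.Points.mk q = AlgSp.Points.mk p)
    {U P : Over S} (a : (AlgSp.yon S).obj U ⟶ X.obj) (ha : AlgSp.RepWith @Etale a)
    (fst : P ⟶ q.pt) (snd : P ⟶ U)
    (sq : IsPullback ((AlgSp.yon S).map fst) ((AlgSp.yon S).map snd) q.toHom a) (u : ↥U.left) :
    {z : ↥P.left | snd.left z = u}.Finite := by
  obtain ⟨c, hc⟩ := exists_factor_of_mono X p q hm hq
  obtain ⟨P₀, fst₀, snd₀, sq₀⟩ := AlgSpB.exists_pullback_yon (X.property.representable_from_yon p.toHom) a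
  obtain ⟨k, hk⟩ := (AlgSp.yon S).map_surjective (sq₀.lift ((AlgSp.yon S).map fst ≫ (AlgSp.yon S).map c)
    ((AlgSp.yon S).map snd) (by rw [Category.assoc, hc, sq.w]))
  have hk2 : k ≫ snd₀ = snd := (AlgSp.yon S).map_injective (by rw [Functor.map_comp, hk, sq₀.lift_snd])
  have sqk : IsPullback fst k c fst₀ := by
    refine IsPullback.of_map (AlgSp.yon S) ?_ ?_
    · exact (AlgSp.yon S).map_injective (by rw [Functor.map_comp, Functor.map_comp, hk, sq₀.lift_fst])
    · refine IsPullback.of_bot ?_ ?_ sq₀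
      · rw [← Functor.map_comp, hk2, hc]; exact sq
      · rw [hk, sq₀.lift_fst]
  have := hm
  have : Mono ((AlgSp.yon S).map snd₀) := MorphismProperty.of_isPullback
    (P := MorphismProperty.monomorphisms _) sq₀ ‹Mono p.toHom›
  have : Mono snd₀ := Functor.mono_of_mono_map (AlgSp.yon S) this
  have key : ∀ z : ↥P.left, snd₀.left (k.left z) = snd.left z := fun z =>
    congrArg (fun m : P ⟶ U => m.left z) hk2
  rcases Set.eq_empty_or_nonempty {z : ↥P.left | snd.left z = u} with e | ⟨z₁, hz₁⟩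
  · rw [e]; exact Set.finite_empty
  let z₀ := k.left z₁
  let g := P₀.left.fromSpecResidueField z₀
  have : Etale fst₀.left := ha.2 _ _ _ sq₀.flip
  have : LocallyQuasiFinite fst₀.left := locallyQuasiFinite_of_etale _
  have : Finite ↥(Spec (P₀.left.residueField z₀)) :=
    inferInstanceAs (Finite (PrimeSpectrum (P₀.left.residueField z₀)))
  have : QuasiCompact (g ≫ fst₀.left) := quasiCompact_of_finite _
  have sqk' := sqk.map (Over.forget S)
  have sqZ := (IsPullback.of_hasPullback k.left g).paste_horiz sqk'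
  have : LocallyQuasiFinite (pullback.fst k.left g ≫ fst.left) := MorphismProperty.of_isPullback sqZ.flip
    (inferInstanceAs (LocallyQuasiFinite (g ≫ fst₀.left)))
  have : QuasiCompact (pullback.fst k.left g ≫ fst.left) :=
    MorphismProperty.of_isPullback sqZ.flip ‹QuasiCompact (g ≫ fst₀.left)›
  have hfin : (Set.univ : Set ↥(pullback k.left g)).Finite := by
    refine ((pullback.fst k.left g ≫ fst.left).finite_preimage_singleton
      (IsLocalRing.closedPoint q.K)).subset fun z _ => ?_
    exact @Subsingleton.elim _ (inferInstanceAs (Subsingleton (PrimeSpectrum q.K))) _ _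
  refine (hfin.image (pullback.fst k.left g)).subset fun z hz => ?_
  have hzk : k.left z = z₀ := snd₀.left.injective (by rw [key, key]; exact hz.trans hz₁.symm)
  obtain ⟨z', hz', -⟩ := Scheme.exists_preimage_of_isPullback (IsPullback.of_hasPullback k.left g) z
    (IsLocalRing.closedPoint _) (hzk.trans (Scheme.fromSpecResidueField_apply _ _).symm)
  exact ⟨z', trivial, hz'⟩

/-- A quasi-compact etale morphism has finitely many points over a field point. -/
theorem finite_points_fibre {X Y : AlgSp.Space S} (f : X ⟶ Y) (hq : AlgSp.IsQuasiCompactMor f.hom)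
    (he : AlgSp.IsEtaleMor f.hom) (q : AlgSp.FieldPt Y.obj) {P : AlgSp.Sp S}
    {fst : P ⟶ (AlgSp.yon S).obj q.pt} {snd : P ⟶ X.obj} (sq : IsPullback fst snd q.toHom f.hom) :
    Finite (AlgSp.Points P) := by
  have : Finite ↥q.pt.left := inferInstanceAs (Finite (PrimeSpectrum q.K))
  have : CompactSpace (AlgSp.Points P) := AlgSp.compactSpace_points
    (hq (AlgSp.IsAlgSpace.yon_obj q.pt) (AlgSp.isQuasiCompactSp_yon q.pt) q.toHom snd fst sq.flip)
  obtain ⟨A, α, hα, hαs⟩ := X.property.atlas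
  obtain ⟨Q, qf, qs, sqQ⟩ := AlgSpB.exists_pullback_yon (Y.property.representable_from_yon q.toHom)
    (α ≫ f.hom)
  let π : (AlgSp.yon S).obj Q ⟶ P := sq.lift ((AlgSp.yon S).map qf) ((AlgSp.yon S).map qs ≫ α)
    (by rw [Category.assoc, sqQ.w])
  have sqπ : IsPullback ((AlgSp.yon S).map qs) π α snd :=
    (IsPullback.of_right (h₁₁ := π) (h₁₂ := fst) (v₁₁ := (AlgSp.yon S).map qs) (v₁₂ := snd) (v₁₃ := q.toHom)
      (h₂₁ := α) (h₂₂ := f.hom) (by rw [sq.lift_fst]; exact sqQ) (by rw [sq.lift_snd]) sq).flip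
  have hπ : AlgSp.RepWith @Etale π := MorphismProperty.of_isPullback sqπ hα
  have hπs : AlgSp.RepWith @Surjective π := MorphismProperty.of_isPullback sqπ hαs
  have hopen : IsOpenMap (AlgSp.Points.map π) := AlgSp.isOpenMap_map_of_repWith
    ⟨hπ.1, fun _ _ g fst snd h => by
      have : Etale snd.left := hπ.2 g fst snd h
      change UniversallyOpen snd.left
      infer_instance⟩
  have : Etale qf.left := (he α hα).2 _ _ _ sqQ.flip
  have : LocallyQuasiFinite qf.left := locallyQuasiFinite_of_etale _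
  have hdisc : DiscreteTopology ↥Q.left := discreteTopology_iff_isOpen_singleton.2 fun z => by
    have h := qf.left.isDiscrete_preimage_singleton (IsLocalRing.closedPoint q.K)
    rw [Set.eq_univ_of_forall (s := qf.left ⁻¹' {IsLocalRing.closedPoint q.K})
      fun _ => @Subsingleton.elim _ (inferInstanceAs (Subsingleton (PrimeSpectrum q.K))) _ _,
      isDiscrete_univ_iff] at h
    exact discreteTopology_iff_isOpen_singleton.1 h z
  have : DiscreteTopology (AlgSp.Points P) := discreteTopology_iff_isOpen_singleton.2 fun x => by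
    obtain ⟨z, hz⟩ := AlgSpB.surjective_ofPt hπs x
    have : IsOpen (AlgSp.Points.map π '' {AlgSp.Points.ofScheme Q z}) := by
      refine hopen _ ?_
      rw [← (AlgSp.Points.schemeHomeo Q).isOpen_preimage]
      exact isOpen_discrete _
    rwa [Set.image_singleton, ← AlgSp.Points.ofPt_eq_map_ofScheme, hz] at this
  exact finite_of_compact_of_discrete

/-- Monomorphic points descend along quasi-compact etale surjections. -/
theorem exists_mono_descend {X Y : AlgSp.Space S} (f : X ⟶ Y) (hq : AlgSp.IsQuasiCompactMor f.hom)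
    (he : AlgSp.IsEtaleMor f.hom)
    (hX : ∀ x : AlgSp.Points X.obj, ∃ p : AlgSp.FieldPt X.obj, AlgSp.Points.mk p = x ∧ Mono p.toHom)
    (x : AlgSp.Points X.obj) :
    ∃ q : AlgSp.FieldPt Y.obj, AlgSp.Points.mk q = AlgSp.Points.map f.hom x ∧ Mono q.toHom := by
  obtain ⟨U, a, u, ha, rfl⟩ := exists_chart X x
  obtain ⟨R, t, s, hR⟩ := AlgSpB.exists_pullback_yon (Y.property.representable_from_yon (a ≫ f.hom)) (a ≫ f.hom)
  let q := AlgSp.FieldPt.ofPt (a ≫ f.hom) u
  let j : q.pt ⟶ U := Over.homMk (U.left.fromSpecResidueField u) rfl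
  have hj : (AlgSp.yon S).map j ≫ a ≫ f.hom = q.toHom := (AlgSp.FieldPt.toHom_ofPt (a ≫ f.hom) u).symm
  let P := pullback q.toHom f.hom
  have hP : IsPullback (pullback.fst q.toHom f.hom) (pullback.snd q.toHom f.hom) q.toHom f.hom :=
    IsPullback.of_hasPullback _ _
  have : Finite (AlgSp.Points P) := finite_points_fibre f hq he q hP
  let A := pullback t j
  let sA : A ⟶ U := pullback.fst t j ≫ s
  have sqA := ((IsPullback.of_hasPullback t j).map (AlgSp.yon S)).flip.paste_vert hR
  rw [← Functor.map_comp, hj] at sqA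
  let π : (AlgSp.yon S).obj A ⟶ P := hP.lift ((AlgSp.yon S).map (pullback.snd t j))
    ((AlgSp.yon S).map sA ≫ a) (by rw [Category.assoc]; exact sqA.w)
  have sqπ : IsPullback π ((AlgSp.yon S).map sA) (pullback.snd q.toHom f.hom) a :=
    IsPullback.of_right (h₁₁ := π) (h₁₂ := pullback.fst q.toHom f.hom) (v₁₁ := (AlgSp.yon S).map sA)
      (v₁₂ := pullback.snd q.toHom f.hom) (v₁₃ := q.toHom) (h₂₁ := a) (h₂₂ := f.hom)
      (by rw [hP.lift_fst]; exact sqA) (by rw [hP.lift_snd]) hP
  have hfinA : {z : ↥A.left | sA.left z = u}.Finite := by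
    suffices H : ∀ pp : AlgSp.Points P,
        {z : ↥A.left | sA.left z = u ∧ AlgSp.Points.ofPt π z = pp}.Finite from
      (Set.finite_iUnion H).subset fun z hz => Set.mem_iUnion.2 ⟨AlgSp.Points.ofPt π z, hz, rfl⟩
    intro pp
    obtain ⟨w, rfl⟩ := AlgSp.Points.mk_surjective pp
    rcases Set.eq_empty_or_nonempty {z : ↥A.left | sA.left z = u ∧ AlgSp.Points.ofPt π z = AlgSp.Points.mk w} with e | ⟨z₁, hz₁, hz₁'⟩
    · rw [e]; exact Set.finite_empty
    let qX : AlgSp.FieldPt X.obj := { K := w.K, str := w.str, val := (pullback.snd q.toHom f.hom).hom.app _ w.val }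
    have hqX : qX.toHom = w.toHom ≫ pullback.snd q.toHom f.hom :=
      (AlgSp.J S).uliftYonedaEquiv_symm_naturality_right _ _ _ |>.symm
    obtain ⟨Z, zf, zs, sqZ⟩ := AlgSpB.exists_pullback_yon (X.property.representable_from_yon qX.toHom) a
    have hx : AlgSp.Points.mk qX = AlgSp.Points.ofPt a u := by
      change AlgSp.Points.map (pullback.snd q.toHom f.hom) (AlgSp.Points.mk w) = _
      rw [← hz₁', AlgSp.Points.map_ofPt, sqπ.w, AlgSpB.ofPt_map_comp, hz₁]
    obtain ⟨p, hp, hm⟩ := hX (AlgSp.Points.ofPt a u)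
    have hZ := finite_fibre_of_mono X p hm qX (hx.trans hp.symm) a ha zf zs sqZ u
    obtain ⟨ζ, hζ⟩ := (AlgSp.yon S).map_surjective (sqπ.lift ((AlgSp.yon S).map zf ≫ w.toHom)
      ((AlgSp.yon S).map zs) (by rw [Category.assoc, ← hqX, sqZ.w]))
    have hζs : ζ ≫ sA = zs := (AlgSp.yon S).map_injective (by rw [Functor.map_comp, hζ, sqπ.lift_snd])
    have sqζ : IsPullback ((AlgSp.yon S).map zf) ((AlgSp.yon S).map ζ) w.toHom π := by
      refine IsPullback.of_bot ?_ (by rw [hζ, sqπ.lift_fst]) sqπ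
      rw [← Functor.map_comp, hζs, ← hqX]; exact sqZ
    refine (hZ.image ζ.left).subset ?_
    rintro z ⟨hz, hz'⟩
    obtain ⟨v, -, hv⟩ := (AlgSpB.ofPt_eq_ofPt_iff sqζ (IsLocalRing.closedPoint w.K) z).1
      ((AlgSp.Points.ofPt_toHom w _).trans hz'.symm)
    refine ⟨v, ?_, hv⟩
    change zs.left v = u
    rw [← hζs]
    exact (congrArg sA.left hv).trans hz
  have hfin : {r : ↥R.left | s.left r = u ∧ t.left r = u}.Finite := by
    refine (hfinA.image (pullback.fst t j).left).subset ?_
    rintro r ⟨h1, h2⟩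
    have sqA' := (IsPullback.of_hasPullback t j).map (Over.forget S)
    obtain ⟨z, hz, -⟩ := Scheme.exists_preimage_of_isPullback sqA' r (IsLocalRing.closedPoint q.K)
      (h2.trans (Scheme.fromSpecResidueField_apply _ _).symm)
    exact ⟨z, (congrArg s.left hz).trans h1, hz⟩
  obtain ⟨p, hp, hm, -⟩ := exists_mono_of_chart Y (a ≫ f.hom) (he a ha) s t hR u hfin
  refine ⟨p, hp.trans ?_, hm⟩
  rw [AlgSp.Points.map_ofPt]

end Groth.Agent.AlgSpD

namespace Groth.Agent.AlgSpD

open Groth.Agent

/-- A quasi-compact etale morphism has finite fibres on points. -/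
theorem finite_fibre_points {S : Scheme.{u}} {X Y : AlgSp.Space S} (f : X ⟶ Y)
    (hq : AlgSp.IsQuasiCompactMor f.hom) (he : AlgSp.IsEtaleMor f.hom) (y : AlgSp.Points Y.obj) :
    (AlgSp.Points.map f.hom ⁻¹' {y}).Finite := by
  obtain ⟨q, rfl⟩ := AlgSp.Points.mk_surjective y
  have sq := IsPullback.of_hasPullback q.toHom f.hom
  have := finite_points_fibre f hq he q sq
  refine (Set.finite_range (AlgSp.Points.map (pullback.snd q.toHom f.hom))).subset fun x hx => ?_
  obtain ⟨z, -, hz⟩ := AlgSpB.exists_of_isPullback sq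
    (AlgSp.Points.ofScheme q.pt (IsLocalRing.closedPoint q.K)) x
    (by rw [← AlgSp.Points.ofPt_eq_map_ofScheme, AlgSp.Points.ofPt_toHom]; exact hx.symm)
  exact ⟨z, hz⟩

/-- Decency descends along quasi-compact etale surjections. -/
theorem isDecent_descend {S : Scheme.{u}} {X Y : AlgSp.Space S} (f : X ⟶ Y)
    (hq : AlgSp.IsQuasiCompactMor f.hom) (he : AlgSp.IsEtaleMor f.hom) (hs : AlgSp.IsSurjectiveMor f.hom)
    (hX : AlgSp.IsDecent X.obj) : AlgSp.IsDecent Y.obj := by
  intro y
  obtain ⟨x, rfl⟩ := hs y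
  obtain ⟨p, hp, hm⟩ := exists_mono_descend f hq he (fun x => (hX x).imp fun p h => ⟨h.1, h.2.1⟩) x
  obtain ⟨A, α, hα, hαs⟩ := X.property.atlas
  refine ⟨p, hp, hm, repWith_quasiCompact_of_finite' Y p hm fun V b hV hb => ?_⟩
  have : CompactSpace ↥V.left := inferInstance
  rw [hp]
  refine finite_preimage_of_cover Y _ (fun _ : Unit => A) (fun _ => α ≫ f.hom) (fun _ => he α hα)
    (fun z => ?_) (fun _ W hW => ?_) b hb
  · obtain ⟨x', rfl⟩ := hs z
    obtain ⟨v, rfl⟩ := AlgSpB.surjective_ofPt hαs x'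
    exact ⟨(), v, (AlgSp.Points.map_ofPt α f.hom v).symm⟩
  · refine ((finite_fibre_points f hq he (AlgSp.Points.map f.hom x)).biUnion fun x' _ =>
      finite_preimage_inter α hα x' (fun V' b' hV' hb' => ?_) W hW).subset fun v hv => ?_
    · obtain ⟨p', hp', -, hqp'⟩ := hX x'
      have : CompactSpace ↥V'.left := inferInstance
      rw [← hp']
      exact finite_preimage_of_qc_point p' hqp' b' hb'
    · refine Set.mem_iUnion₂.2 ⟨AlgSp.Points.ofPt α v, ?_, rfl, hv.2⟩
      exact (AlgSp.Points.map_ofPt α f.hom v).trans hv.1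

end Groth.Agent.AlgSpD
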