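import Groth.Agent.AlgSpD.HasAt
import Groth.Agent.AlgSpD.DecentCrit
import Groth.Agent.S10340
import Groth.Agent.S10343
import Mathlib.AlgebraicGeometry.Morphisms.Finite

/-!
# Closed points and Jacobson decent algebraic spaces
-/

universe u

open CategoryTheory AlgebraicGeometry TopologicalSpace Topology

namespace Groth.Agent.AlgSpD

open Groth.Agent

variable {S : Scheme.{u}} (X : AlgSp.Space S) (hX : AlgSp.IsDecent X.obj) {U : Over S}
  (a : (AlgSp.yon S).obj U ⟶ X.obj) (ha : AlgSp.RepWith @Etale a)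

/-- Points over closed points of etale maps are closed. -/
theorem isClosed_singleton_of_etale {R V : Scheme.{u}} (p : R ⟶ V) [Etale p] {r : R}
    (h : IsClosed ({p r} : Set V)) : IsClosed ({r} : Set R) := by
  have := locallyQuasiFinite_of_etale p
  have hF : IsClosed (p ⁻¹' {p r}) := h.preimage p.continuous
  have hd : _root_.IsDiscrete (p ⁻¹' {p r}) := p.isDiscrete_preimage_singleton _
  have := hd.to_subtype
  have h0 : IsClosed ({⟨r, rfl⟩} : Set ↥(p ⁻¹' {p r})) := isClosed_discrete _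
  simpa using hF.isClosedEmbedding_subtypeVal.isClosedMap _ h0

include hX ha in
theorem isClosed_singleton_of_isClosed (u : ↥U.left) (h : IsClosed {AlgSp.Points.ofPt a u}) :
    IsClosed ({u} : Set ↥U.left) := by
  obtain ⟨W, hW, huW, -⟩ := exists_isAffineOpen_mem_and_subset (x := u) (U := ⊤) trivial
  rw [← closure_subset_iff_isClosed]
  intro v hv
  have hs : u ⤳ v := specializes_iff_mem_closure.2 hv
  have he : AlgSp.Points.ofPt a v = AlgSp.Points.ofPt a u :=
    (h.preimage (AlgSp.Points.continuous_ofPt a)).closure_subset_iff.2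
      (Set.singleton_subset_iff.2 rfl) hv
  exact Set.mem_singleton_iff.2 (S10340.result X hX a ha v u he hs)

include hX in
theorem isClosed_of_hasAt (U₀ : Over S) (p₀ : (AlgSp.yon S).obj U₀ ⟶ X.obj) (hp₀ : AlgSp.RepWith @Etale p₀)
    (hs₀ : AlgSp.RepWith @Surjective p₀) [JacobsonSpace ↥U₀.left] {x : AlgSp.Points X.obj}
    (h : AlgSp.HasAt (fun U u => IsClosed ({u} : Set ↥U)) X.obj x) : IsClosed {x} := by
  obtain ⟨U, a, u, ha, hu, hcl⟩ := h
  rw [← closure_subset_iff_isClosed]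
  intro y hy
  obtain ⟨v, rfl⟩ := AlgSpB.surjective_ofPt hs₀ y
  obtain ⟨w, hw, hwx⟩ := S10343.result X _ x (specializes_iff_mem_closure.2 hy) (hX x) p₀ hp₀ v rfl
  obtain ⟨R, p, q, r, -, hp, hq, hr, hr'⟩ := exists_common_chart ha hp₀ (hu.trans hwx.symm)
  rw [← hr] at hcl
  have h1 := isClosed_singleton_of_etale p.left hcl
  have h2 := q.left.closePoints_subset_preimage_closedPoints h1
  rw [Set.mem_preimage, hr', mem_closedPoints_iff] at h2
  have hvw : v ∈ ({w} : Set ↥U₀.left) := by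
    rw [← h2.closure_eq]; exact specializes_iff_mem_closure.1 hw
  have : v = w := Set.mem_singleton_iff.1 hvw
  rw [this, hwx]
  rfl

include hX ha in
theorem jacobsonSpace_chart [JacobsonSpace (AlgSp.Points X.obj)] : JacobsonSpace ↥U.left := by
  rw [jacobsonSpace_iff_locallyClosed]
  rintro Z ⟨z₀, hz₀⟩ ⟨O, C, hO, hC, rfl⟩
  obtain ⟨A, hA, hz₀A, hAO⟩ := exists_isAffineOpen_mem_and_subset (x := z₀) (U := ⟨O, hO⟩) hz₀.1
  have : CompactSpace ↥(A : Set ↥U.left) := isCompact_iff_compactSpace.1 hA.isCompact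
  obtain ⟨z, hz, hzcl⟩ := (hC.preimage (continuous_subtype_val (p := (· ∈ (A : Set ↥U.left))))).exists_closed_singleton
    ⟨⟨z₀, hz₀A⟩, hz₀.2⟩
  have hfin : (AlgSp.Points.ofPt a ⁻¹' {AlgSp.Points.ofPt a z.1} ∩ (A : Set ↥U.left)).Finite := by
    refine finite_preimage_inter a ha _ (fun V b hV hb => ?_) A hA
    obtain ⟨p, hp, -, hq⟩ := hX (AlgSp.Points.ofPt a z.1)
    rw [← hp]
    exact finite_preimage_of_qc_point p hq b hb
  -- exclude the other points of the fibre
  have hex : ∀ t ∈ AlgSp.Points.ofPt a ⁻¹' {AlgSp.Points.ofPt a z.1} ∩ (A : Set ↥U.left), t ≠ z.1 →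
      ∃ O' : Set ↥U.left, IsOpen O' ∧ z.1 ∈ O' ∧ t ∉ O' := by
    intro t ht hne
    by_contra hh
    push Not at hh
    exact hne (S10340.result X hX a ha _ _ ht.1.symm (specializes_iff_forall_open.2 hh)).symm
  choose! O' hO1 hO2 hO3 using hex
  let B : Set ↥U.left := (A : Set ↥U.left) ∩ ⋂ t ∈ (AlgSp.Points.ofPt a ⁻¹' {AlgSp.Points.ofPt a z.1} ∩
    (A : Set ↥U.left)) \ {z.1}, O' t
  have hB : IsOpen B := A.2.inter ((hfin.subset Set.sdiff_subset).isOpen_biInter fun t ht => hO1 t ht.1 ht.2)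
  have hzB : z.1 ∈ B := ⟨z.2, Set.mem_iInter₂.2 fun t ht => hO2 t ht.1 ht.2⟩
  have honly : ∀ t ∈ B, AlgSp.Points.ofPt a t = AlgSp.Points.ofPt a z.1 → t = z.1 := by
    intro t ht e
    by_contra hne
    exact hO3 t ⟨e, ht.1⟩ hne (Set.mem_iInter₂.1 ht.2 t ⟨⟨e, ht.1⟩, hne⟩)
  have hlc : IsLocallyClosed ({AlgSp.Points.ofPt a z.1} : Set (AlgSp.Points X.obj)) := by
    refine ⟨AlgSp.Points.ofPt a '' B, closure {AlgSp.Points.ofPt a z.1}, AlgSpB.isOpenMap_ofPt ha _ hB,
      isClosed_closure, subset_antisymm (Set.singleton_subset_iff.2 ⟨⟨z.1, hzB, rfl⟩, subset_closure rfl⟩) ?_⟩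
    rintro _ ⟨⟨w, hw, rfl⟩, hwx⟩
    obtain ⟨w', hw', hw'x⟩ := S10343.result X _ _ (specializes_iff_mem_closure.2 hwx) (hX _) a ha w rfl
    have hwB := hw'.mem_open hB hw
    rw [honly w' hwB hw'x] at hw'
    have : (⟨w, hw.1⟩ : ↥(A : Set ↥U.left)) ∈ closure {z} :=
      specializes_iff_mem_closure.1 ((subtype_specializes_iff _ _).2 hw')
    rw [hzcl.closure_eq, Set.mem_singleton_iff] at this
    rw [Set.mem_singleton_iff]
    exact congrArg (AlgSp.Points.ofPt a) (congrArg Subtype.val this)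
  exact ⟨z.1, ⟨hAO z.2, hz⟩, isClosed_singleton_of_isClosed X hX a ha _
    (isClosed_singleton_of_isLocallyClosed_singleton hlc)⟩

end Groth.Agent.AlgSpD
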