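import Groth.Agent.AlgSpD.DecentDescent
import Groth.Agent.S10364
import Groth.Agent.S10380

/-!
# Decent morphisms
-/

universe u

open CategoryTheory CategoryTheory.Limits AlgebraicGeometry Opposite

set_option backward.isDefEq.respectTransparency false

namespace Groth.Agent.AlgSpD

open Groth.Agent

variable {S : Scheme.{u}}

/-- The source of a decent morphism to a decent sheaf is decent. -/
theorem isDecent_of_decentMor {F G : AlgSp.Sp S} (f : F ⟶ G) (hf : AlgSp.IsDecentMor f)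
    (hG : AlgSp.IsDecent G) : AlgSp.IsDecent F := by
  intro x
  obtain ⟨p, hp, hm, hq⟩ := hG (AlgSp.Points.map f x)
  have sq := IsPullback.of_hasPullback f p.toHom
  obtain ⟨z, hz, -⟩ := AlgSpB.exists_of_isPullback sq x
    (AlgSp.Points.ofScheme p.pt (IsLocalRing.closedPoint p.K))
    (by rw [← AlgSp.Points.ofPt_eq_map_ofScheme, AlgSp.Points.ofPt_toHom, hp])
  obtain ⟨q, hq', hmq, hqq⟩ := hf p.toHom _ _ sq z
  refine ⟨q.map (pullback.fst f p.toHom), ?_, ?_, ?_⟩
  · rw [← AlgSp.Points.map_mk, hq']; exact hz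
  · rw [AlgSp.FieldPt.toHom_map]
    have : Mono (pullback.fst f p.toHom) := MorphismProperty.of_isPullback
      (P := MorphismProperty.monomorphisms _) sq.flip hm
    have := hmq
    exact mono_comp _ _
  · rw [AlgSp.FieldPt.toHom_map]
    exact (AlgSp.RepWith _).comp_mem _ _ hqq (MorphismProperty.of_isPullback sq.flip hq)

/-- Base change of a decent morphism. -/
theorem isDecentMor_baseChange {F G F' G' : AlgSp.Sp S} {f : F ⟶ G} {g : G' ⟶ G} {fst : F' ⟶ F}
    {f' : F' ⟶ G'} (sq : IsPullback fst f' f g) (hf : AlgSp.IsDecentMor f) : AlgSp.IsDecentMor f' :=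
  fun _ _ h _ _ sq' => hf (h ≫ g) _ _ (sq'.paste_horiz sq)

/-- Composition of decent morphisms. -/
theorem isDecentMor_comp {F G H : AlgSp.Sp S} (f : F ⟶ G) (g : G ⟶ H) (hf : AlgSp.IsDecentMor f)
    (hg : AlgSp.IsDecentMor g) : AlgSp.IsDecentMor (f ≫ g) := by
  intro T F' h fst snd sq
  have sqG := IsPullback.of_hasPullback g h
  let l : F' ⟶ pullback g h := pullback.lift (fst ≫ f) snd (by rw [Category.assoc]; exact sq.w)
  have sql : IsPullback fst l f (pullback.fst g h) :=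
    IsPullback.of_bot (v₁₁ := l) (v₁₂ := f) (v₂₁ := pullback.snd g h) (v₂₂ := g)
      (by rw [pullback.lift_snd]; exact sq) (by rw [pullback.lift_fst]) sqG
  exact isDecent_of_decentMor l (isDecentMor_baseChange sql hf) (hg h _ _ sqG)

/-- Decency of a morphism may be checked over affine schemes. -/
theorem isDecentMor_of_affine {X Y : AlgSp.Space S} (f : X.obj ⟶ Y.obj)
    (h : ∀ (Z : Over S) (g : (AlgSp.yon S).obj Z ⟶ Y.obj) (P : AlgSp.Sp S) (fst : P ⟶ X.obj)
      (snd : P ⟶ (AlgSp.yon S).obj Z), IsAffine Z.left → IsPullback fst snd f g → AlgSp.IsDecent P) :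
    AlgSp.IsDecentMor f := by
  intro T F' g fst snd sq
  let O : ↥T.left.affineOpens → Over S := fun W => Over.mk (W.1.ι ≫ T.hom)
  let j : ∀ W, O W ⟶ T := fun W => Over.homMk W.1.ι rfl
  have hsp : AlgSp.IsAlgSpace F' :=
    AlgSp.isAlgSpace_of_isPullback' Y.property X.property (AlgSp.IsAlgSpace.yon_obj T) sq
  have hsp' : ∀ W, AlgSp.IsAlgSpace (pullback snd ((AlgSp.yon S).map (j W))) := fun W =>
    AlgSp.isAlgSpace_of_isPullback' (AlgSp.IsAlgSpace.yon_obj T) hsp (AlgSp.IsAlgSpace.yon_obj _)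
      (IsPullback.of_hasPullback _ _)
  refine S10364.result ⟨F', hsp⟩ (fun W => ⟨_, hsp' W⟩)
    (fun W => ObjectProperty.homMk (pullback.fst snd ((AlgSp.yon S).map (j W)))) ⟨fun W => ?_, fun x => ?_⟩
    fun W => ?_
  · exact MorphismProperty.of_isPullback (IsPullback.of_hasPullback snd ((AlgSp.yon S).map (j W))).flip
      ((AlgSp.repWith_yon_map_iff _ _).2 (inferInstanceAs (IsOpenImmersion W.1.ι)))
  · let t := AlgSp.Points.toScheme T (AlgSp.Points.map snd x)
    obtain ⟨W, hW, htW, -⟩ := exists_isAffineOpen_mem_and_subset (x := t) (U := ⊤) trivial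
    obtain ⟨z, hz, -⟩ := AlgSpB.exists_of_isPullback
      (IsPullback.of_hasPullback snd ((AlgSp.yon S).map (j ⟨W, hW⟩))) x
      (AlgSp.Points.ofScheme (O ⟨W, hW⟩) (⟨t, htW⟩ : ↥W)) (by
        rw [← AlgSp.Points.ofScheme_toScheme T (AlgSp.Points.map snd x),
          ← AlgSp.Points.ofPt_eq_map_ofScheme, ← Category.comp_id ((AlgSp.yon S).map (j ⟨W, hW⟩)),
          AlgSpB.ofPt_map_comp]
        rfl)
    exact ⟨⟨W, hW⟩, z, hz⟩
  · exact h (O W) ((AlgSp.yon S).map (j W) ≫ g) _ (pullback.fst _ _ ≫ fst) _ W.2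
      ((IsPullback.of_hasPullback snd ((AlgSp.yon S).map (j W))).paste_horiz sq)

/-- Decency of a morphism is local on the target for the etale topology. -/
theorem isDecentMor_of_cover {X Y : AlgSp.Space S} (f : X.obj ⟶ Y.obj) {V : Over S}
    (p : (AlgSp.yon S).obj V ⟶ Y.obj) (hp : AlgSp.RepWith @Etale p) (hps : AlgSp.RepWith @Surjective p)
    {X' : AlgSp.Sp S} (fst : X' ⟶ X.obj) (snd : X' ⟶ (AlgSp.yon S).obj V) (hsq : IsPullback fst snd f p)
    (h : AlgSp.IsDecentMor snd) : AlgSp.IsDecentMor f := by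
  refine isDecentMor_of_affine f fun Z g P pf ps hZ sq => ?_
  obtain ⟨T', tv, tz, sqT⟩ := AlgSpB.exists_pullback_yon hp.1 g
  have htz : AlgSp.RepWith @Etale ((AlgSp.yon S).map tz) := MorphismProperty.of_isPullback sqT hp
  have htzs : AlgSp.RepWith @Surjective ((AlgSp.yon S).map tz) := MorphismProperty.of_isPullback sqT hps
  have : CompactSpace ↥Z.left := inferInstance
  have := AlgSp.compactSpace_yon Z
  obtain ⟨T, c, hT, hce, hcs⟩ := AlgSpB.exists_affine_chart_of_compactSpace htz htzs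
  rw [← Functor.map_comp] at hce hcs
  have sqP := IsPullback.of_hasPullback ps ((AlgSp.yon S).map (c ≫ tz))
  have hP : AlgSp.IsAlgSpace P :=
    AlgSp.isAlgSpace_of_isPullback' Y.property X.property (AlgSp.IsAlgSpace.yon_obj Z) sq
  have hP' : AlgSp.IsAlgSpace (pullback ps ((AlgSp.yon S).map (c ≫ tz))) :=
    AlgSp.isAlgSpace_of_isPullback' (AlgSp.IsAlgSpace.yon_obj Z) hP (AlgSp.IsAlgSpace.yon_obj T) sqP
  have hct : QuasiCompact (c ≫ tz).left := by
    have : CompactSpace ↥T.left := inferInstance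
    exact HasAffineProperty.iff_of_isAffine.2 ‹_›
  refine isDecent_descend (X := ⟨_, hP'⟩) (Y := ⟨P, hP⟩)
    (ObjectProperty.homMk (pullback.fst ps ((AlgSp.yon S).map (c ≫ tz)))) ?_ ?_ ?_ ?_
  · exact AlgSp.isQuasiCompactMor_baseChange sqP.flip (AlgSp.isQuasiCompactMor_of_repWith
      (AlgSp.IsAlgSpace.yon_obj Z) ((AlgSp.repWith_yon_map_iff _ _).2 hct))
  · intro U φ hφ
    exact (AlgSp.RepWith _).comp_mem _ _ hφ (MorphismProperty.of_isPullback sqP.flip hce)
  · exact AlgSp.surjective_map_of_isPullback sqP.flip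
      ((AlgSp.repWith_surjective_iff _ hcs.1).1 hcs)
  · have sq2 := sqP.paste_horiz sq
    have e : (AlgSp.yon S).map (c ≫ tz) ≫ g = (AlgSp.yon S).map (c ≫ tv) ≫ p := by
      rw [Functor.map_comp, Functor.map_comp, Category.assoc, Category.assoc, sqT.w]
    rw [e] at sq2
    let l : pullback ps ((AlgSp.yon S).map (c ≫ tz)) ⟶ X' := hsq.lift (pullback.fst _ _ ≫ pf)
      (pullback.snd _ _ ≫ (AlgSp.yon S).map (c ≫ tv)) (by rw [Category.assoc (pullback.snd _ _)]; exact sq2.w)
    refine h ((AlgSp.yon S).map (c ≫ tv)) l (pullback.snd _ _) ?_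
    exact IsPullback.of_right (h₁₁ := l) (h₁₂ := fst) (v₁₂ := snd) (v₁₃ := f) (h₂₂ := p)
      (by rw [hsq.lift_fst]; exact sq2) (by rw [hsq.lift_snd]) hsq

end Groth.Agent.AlgSpD
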