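import Groth.Agent.AlgSpD.FactorPoint
import Groth.Agent.AlgSp.FppfLocal
import Groth.Agent.AlgSp.PointsMor

/-!
# Closed points of decent spaces
-/

universe u

open CategoryTheory CategoryTheory.Limits AlgebraicGeometry Opposite

set_option backward.isDefEq.respectTransparency false

namespace Groth.Agent.AlgSpD

open Groth.Agent

variable {S : Scheme.{u}}

/-- The residue field of a chart over a monomorphic point is finite over the field of the point. -/
theorem exists_finite_factor_of_chart (X : AlgSp.Space S) (p : AlgSp.FieldPt X.obj) (hm : Mono p.toHom)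
    {U : Over S} (a : (AlgSp.yon S).obj U ⟶ X.obj) (ha : AlgSp.RepWith @Etale a) (u : ↥U.left)
    (hu : AlgSp.Points.ofPt a u = AlgSp.Points.mk p) :
    ∃ c : (AlgSp.FieldPt.ofPt a u).pt ⟶ p.pt, IsFinite c.left ∧
      (AlgSp.yon S).map c ≫ p.toHom = (AlgSp.FieldPt.ofPt a u).toHom := by
  let q := AlgSp.FieldPt.ofPt a u
  let j : q.pt ⟶ U := Over.homMk (U.left.fromSpecResidueField u) rfl
  have : IsPreimmersion j.left := inferInstanceAs (IsPreimmersion (U.left.fromSpecResidueField u))
  obtain ⟨c, hc⟩ := exists_factor_of_mono X p q hm hu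
  obtain ⟨P, fst, snd, sq⟩ := AlgSpB.exists_pullback_yon (X.property.representable_from_yon p.toHom) a
  have hj : (AlgSp.yon S).map j ≫ a = q.toHom := (AlgSp.FieldPt.toHom_ofPt a u).symm
  obtain ⟨l, hl⟩ := (AlgSp.yon S).map_surjective (sq.lift ((AlgSp.yon S).map c) ((AlgSp.yon S).map j) (hc.trans hj.symm))
  have hl1 : l ≫ fst = c := (AlgSp.yon S).map_injective (by rw [Functor.map_comp, hl, sq.lift_fst])
  have hl2 : l ≫ snd = j := (AlgSp.yon S).map_injective (by rw [Functor.map_comp, hl, sq.lift_snd])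
  have : Etale fst.left := ha.2 _ _ _ sq.flip
  have : LocallyQuasiFinite fst.left := locallyQuasiFinite_of_etale _
  have hll : LocallyQuasiFinite (l.left ≫ snd.left) := by
    rw [← Over.comp_left, hl2]; infer_instance
  have : LocallyQuasiFinite l.left := LocallyQuasiFinite.of_comp l.left snd.left
  have : LocallyQuasiFinite c.left := by rw [← hl1, Over.comp_left]; infer_instance
  have : Finite ↥q.pt.left := inferInstanceAs (Finite (PrimeSpectrum q.K))
  have : QuasiCompact c.left := quasiCompact_of_finite _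
  have : IsLocallyArtinian p.pt.left := Scheme.isLocallyArtinianScheme_Spec.2
    (inferInstanceAs (IsArtinianRing p.K))
  exact ⟨c, IsFinite.of_locallyQuasiFinite _, hc⟩

/-- Closedness is tested on an atlas. -/
theorem isClosed_iff_chart {F : AlgSp.Sp S} {U : Over S} {a : (AlgSp.yon S).obj U ⟶ F}
    (ha : AlgSp.RepWith @Etale a) (has : AlgSp.RepWith @Surjective a) {W : Set (AlgSp.Points F)} :
    IsClosed W ↔ IsClosed (AlgSp.Points.ofPt a ⁻¹' W) := by
  have h := AlgSp.isOpenQuotientMap_map ha has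
  rw [← h.isQuotientMap.isClosed_preimage, AlgSp.ofPt_preimage_eq]
  exact (AlgSp.Points.schemeHomeo U).isClosed_preimage.symm

/-- A point with algebraic residue field over a closed point is closed in affine schemes. -/
theorem isClosed_singleton_of_fields {V Q R E : Scheme.{u}} [IsAffine V] (r : ↥R) (cR : R ⟶ Q) (cE : E ⟶ Q)
    [IsFinite cE] [Surjective cE] (h : E ⟶ V) (v : ↥V) (hh : ∀ z, h z = v) (sQ : Q ⟶ S) (sV : V ⟶ S)
    (w : h ≫ sV = cE ≫ sQ) (hR : IsIntegralHom (cR ≫ sQ)) : IsClosed ({v} : Set ↥V) := by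
  have : IsSeparated sV := IsSeparated.of_comp sV (terminal.from S)
  have : IsIntegralHom ((pullback.snd cR cE ≫ h) ≫ sV) := by
    rw [Category.assoc, w, ← pullback.condition_assoc]; infer_instance
  have := IsIntegralHom.of_comp (pullback.snd cR cE ≫ h) sV
  obtain ⟨z, -⟩ := (pullback.fst cR cE).surjective r
  have hrange : Set.range (pullback.snd cR cE ≫ h) = {v} :=
    Set.Subset.antisymm (by rintro _ ⟨y, rfl⟩; exact hh _) (Set.singleton_subset_iff.2 ⟨z, hh _⟩)
  rw [← hrange]
  exact (pullback.snd cR cE ≫ h).isClosedMap.isClosed_range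

/-- A point of a decent space which is algebraic over a closed point of the base is closed. -/
theorem isClosed_singleton_of_integral (X : AlgSp.Space S) (hX : AlgSp.IsDecent X.obj)
    (r : AlgSp.FieldPt X.obj) (hr : IsIntegralHom r.str) :
    IsClosed ({AlgSp.Points.mk r} : Set (AlgSp.Points X.obj)) := by
  obtain ⟨q, hq, hm, hqc⟩ := hX (AlgSp.Points.mk r)
  obtain ⟨c, -⟩ := exists_factor_of_mono X q r hm hq.symm
  have hfin : ∀ (V : Over S) (b : (AlgSp.yon S).obj V ⟶ X.obj), IsAffine V.left →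
      AlgSp.RepWith @Etale b → (AlgSp.Points.ofPt b ⁻¹' {AlgSp.Points.mk q}).Finite := fun V b _ hb => by
    have : CompactSpace ↥V.left := inferInstance
    exact finite_preimage_of_qc_point q hqc b hb
  have hclosed : ∀ (V : Over S) (b : (AlgSp.yon S).obj V ⟶ X.obj), IsAffine V.left →
      AlgSp.RepWith @Etale b → ∀ v, AlgSp.Points.ofPt b v = AlgSp.Points.mk q → IsClosed ({v} : Set ↥V.left) := by
    intro V b hV hb v hv
    obtain ⟨c', hc', -⟩ := exists_finite_factor_of_chart X q hm b hb v hv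
    have : Surjective c'.left := ⟨fun y => ⟨IsLocalRing.closedPoint _,
      @Subsingleton.elim _ (inferInstanceAs (Subsingleton (PrimeSpectrum q.K))) _ _⟩⟩
    exact isClosed_singleton_of_fields (IsLocalRing.closedPoint r.K) c.left c'.left
      (V.left.fromSpecResidueField v) v (fun _ => Scheme.fromSpecResidueField_apply _ _) q.str V.hom
      (Over.w c').symm (by rw [show c.left ≫ q.str = r.str from Over.w c]; exact hr)
  obtain ⟨U, a, ha, has⟩ := X.property.atlas
  rw [← hq]
  refine (isClosed_iff_chart ha has).2 ?_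
  rw [← isOpen_compl_iff, isOpen_iff_forall_mem_open]
  intro y hy
  obtain ⟨A, hA, hyA, -⟩ := exists_isAffineOpen_mem_and_subset (x := y) (U := ⊤) trivial
  let F : Set ↥U.left := AlgSp.Points.ofPt a ⁻¹' {AlgSp.Points.mk q} ∩ (A : Set ↥U.left)
  have hF : F.Finite := finite_preimage_inter a ha _ hfin A hA
  refine ⟨(A : Set ↥U.left) ∩ (⋃ v ∈ F, closure {v})ᶜ, ?_,
    A.isOpen.inter (hF.isClosed_biUnion fun _ _ => isClosed_closure).isOpen_compl, hyA, ?_⟩
  · rintro z ⟨hzA, hz⟩ hzq
    exact hz (Set.mem_iUnion₂.2 ⟨z, ⟨hzq, hzA⟩, subset_closure rfl⟩)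
  · intro h
    obtain ⟨v, hv, hyv⟩ := Set.mem_iUnion₂.1 h
    have hc := hclosed (Over.mk (A.ι ≫ U.hom)) _ (show IsAffine A.toScheme from hA)
      (repWith_etale_restrict a ha A) (⟨v, hv.2⟩ : ↥A) ((ofPt_restrict a A _).trans hv.1)
    have hsp : (⟨v, hv.2⟩ : ↥A) ⤳ (⟨y, hyA⟩ : ↥A) :=
      (subtype_specializes_iff _ _).2 (specializes_iff_mem_closure.2 hyv)
    have := hsp.mem_closed hc (Set.mem_singleton _)
    exact hy (by rw [show y = v from congrArg Subtype.val this]; exact hv.1)

/-- A monomorphic point of a decent space with closed image is a closed immersion. -/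
theorem isClosedImmersion_of_isClosed (X : AlgSp.Space S) (p : AlgSp.FieldPt X.obj) (hm : Mono p.toHom)
    (hq : AlgSp.RepWith @QuasiCompact p.toHom)
    (hx : IsClosed ({AlgSp.Points.mk p} : Set (AlgSp.Points X.obj))) :
    AlgSp.RepWith @IsClosedImmersion p.toHom := by
  obtain ⟨U, a, ha, has⟩ := X.property.atlas
  obtain ⟨P, fst, snd, sq⟩ := AlgSpB.exists_pullback_yon (X.property.representable_from_yon p.toHom) a
  have := hm
  have : Mono ((AlgSp.yon S).map snd) := MorphismProperty.of_isPullback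
    (P := MorphismProperty.monomorphisms _) sq ‹Mono p.toHom›
  have : Mono snd := Functor.mono_of_mono_map (AlgSp.yon S) this
  have : QuasiCompact snd.left := hq.2 _ _ _ sq
  have : Etale fst.left := ha.2 _ _ _ sq.flip
  have : LocallyQuasiFinite fst.left := locallyQuasiFinite_of_etale _
  have := AlgSp.isLocallySurjective_of_etale_surjective a ha has
  refine AlgSp.repWith_of_isPullback_of_isLocallySurjective p.toHom
    (X.property.representable_from_yon p.toHom) a _ _ sq @IsClosedImmersion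
    ((AlgSp.repWith_yon_map_iff _ _).2 ?_)
  have hfin : ∀ (V : Over S) (b : (AlgSp.yon S).obj V ⟶ X.obj), IsAffine V.left →
      AlgSp.RepWith @Etale b → (AlgSp.Points.ofPt b ⁻¹' {AlgSp.Points.mk p}).Finite := fun V b _ hb => by
    have : CompactSpace ↥V.left := inferInstance
    exact finite_preimage_of_qc_point p hq b hb
  have hrange : Set.range snd.left = AlgSp.Points.ofPt a ⁻¹' {AlgSp.Points.mk p} := by
    ext v
    constructor
    · rintro ⟨z, rfl⟩
      exact ((AlgSpB.ofPt_eq_ofPt_iff sq (fst.left z) _).2 ⟨z, rfl, rfl⟩).symm.trans (AlgSp.Points.ofPt_toHom p _)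
    · intro hv
      obtain ⟨z, -, hz⟩ := (AlgSpB.ofPt_eq_ofPt_iff sq (IsLocalRing.closedPoint p.K) v).1
        ((AlgSp.Points.ofPt_toHom p _).trans hv.symm)
      exact ⟨z, hz⟩
  have hxU : IsClosed (AlgSp.Points.ofPt a ⁻¹' {AlgSp.Points.mk p}) :=
    hx.preimage (AlgSp.Points.continuous_ofPt a)
  have hinj : Function.Injective snd.left := snd.left.injective
  have hPred : IsReduced P.left := by
    have : IsReduced p.pt.left := inferInstanceAs (IsReduced (Spec (CommRingCat.of p.K)))
    have : ∀ z : ↥P.left, _root_.IsReduced ↥(P.left.presheaf.stalk z) := fun z =>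
      (isReduced_stalk_iff fst.left z).2 inferInstance
    exact isReduced_of_isReduced_stalk P.left
  have hcover : ∀ y : ↥U.left, ∃ W : U.left.Opens, IsAffineOpen W ∧ y ∈ W ∧
      ((AlgSp.Points.ofPt a ⁻¹' {AlgSp.Points.mk p}) ∩ (W : Set ↥U.left)).Subsingleton := by
    intro y
    obtain ⟨W₀, hW₀, hyW₀, -⟩ := exists_isAffineOpen_mem_and_subset (x := y) (U := ⊤) trivial
    let E : Set ↥U.left := (AlgSp.Points.ofPt a ⁻¹' {AlgSp.Points.mk p} ∩ (W₀ : Set ↥U.left)) \ {y}
    have hE : E.Finite := (finite_preimage_inter a ha _ hfin W₀ hW₀).sdiff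
    have hcl : y ∉ ⋃ w ∈ E, closure {w} := fun h => by
      obtain ⟨w, hw, hyw⟩ := Set.mem_iUnion₂.1 h
      have hy : y ∈ AlgSp.Points.ofPt a ⁻¹' {AlgSp.Points.mk p} :=
        (hxU.closure_subset_iff.2 (Set.singleton_subset_iff.2 hw.1.1)) hyw
      exact hw.2 (S10341.result X _ hfin a ha y w hy hw.1.1 (specializes_iff_mem_closure.2 hyw)).symm
    obtain ⟨W, hW, hyW, hWsub⟩ := exists_isAffineOpen_mem_and_subset (x := y)
      (U := W₀ ⊓ ⟨(⋃ w ∈ E, closure {w})ᶜ, (hE.isClosed_biUnion fun _ _ => isClosed_closure).isOpen_compl⟩)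
      ⟨hyW₀, hcl⟩
    refine ⟨W, hW, hyW, Set.Subsingleton.anti (Set.subsingleton_singleton (a := y)) fun w hw => ?_⟩
    by_contra hne
    exact (hWsub hw.2).2 (Set.mem_iUnion₂.2 ⟨w, ⟨⟨hw.1, (hWsub hw.2).1⟩, hne⟩, subset_closure rfl⟩)
  choose W hW hyW hsub using hcover
  refine IsZariskiLocalAtTarget.of_iSup_eq_top (P := @IsClosedImmersion) W
    (top_le_iff.1 fun y _ => TopologicalSpace.Opens.mem_iSup.2 ⟨y, hyW y⟩) fun y => ?_
  have hss : Subsingleton ↥(snd.left ⁻¹ᵁ W y).toScheme := ⟨fun z z' => Subtype.ext (hinj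
    (hsub y ⟨hrange.le ⟨_, rfl⟩, z.2⟩ ⟨hrange.le ⟨_, rfl⟩, z'.2⟩))⟩
  rcases isEmpty_or_nonempty ↥(snd.left ⁻¹ᵁ W y).toScheme with hE | ⟨⟨z⟩⟩
  · exact inferInstance
  obtain ⟨O, hO, hzO, -⟩ := exists_isAffineOpen_mem_and_subset (X := (snd.left ⁻¹ᵁ W y).toScheme) (x := z) (U := ⊤) trivial
  have : IsAffine (snd.left ⁻¹ᵁ W y).toScheme := by
    have e : O = ⊤ := top_le_iff.1 fun z' _ => by rwa [Subsingleton.elim z' z]
    subst e
    have : IsAffine (Scheme.Opens.toScheme (⊤ : (snd.left ⁻¹ᵁ W y).toScheme.Opens)) := hO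
    exact .of_isIso (Scheme.topIso _).inv
  have : IsAffine (W y).toScheme := hW y
  let v : ↥(W y).toScheme := (snd.left ∣_ W y) z
  obtain ⟨g', hg'⟩ := exists_factor_fromSpecResidueField (snd.left ∣_ W y) v fun o => by
    rw [Subsingleton.elim o z]
  have hcl : IsClosed (Set.range ((W y).toScheme.fromSpecResidueField v)) := by
    rw [Scheme.range_fromSpecResidueField]
    have e : (W y).ι ⁻¹' (AlgSp.Points.ofPt a ⁻¹' {AlgSp.Points.mk p}) = {v} := by
      ext w
      constructor
      · intro hw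
        refine Subtype.ext (hsub y ⟨hw, w.2⟩ ⟨?_, v.2⟩)
        exact hrange.le ⟨z.1, (congrArg (fun m : (snd.left ⁻¹ᵁ W y).toScheme ⟶ _ => m z) (morphismRestrict_ι snd.left (W y))).symm⟩
      · rintro rfl
        exact hrange.le ⟨z.1, (congrArg (fun m : (snd.left ⁻¹ᵁ W y).toScheme ⟶ _ => m z) (morphismRestrict_ι snd.left (W y))).symm⟩
    rw [← e]
    exact hxU.preimage (W y).ι.continuous
  have : IsClosedImmersion ((W y).toScheme.fromSpecResidueField v) := IsClosedImmersion.of_isPreimmersion _ hcl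
  have : Mono (snd.left ∣_ W y) := MorphismProperty.of_isPullback (P := MorphismProperty.monomorphisms _)
    (isPullback_morphismRestrict snd.left (W y)).flip (inferInstanceAs (Mono snd.left))
  have : Mono g' := mono_of_mono_fac hg'
  have : Nonempty ↥(snd.left ⁻¹ᵁ W y).toScheme := ⟨z⟩
  obtain ⟨s', hs'⟩ := AlgSpB.exists_section_of_mono (K := (W y).toScheme.residueField v) g'
  have : IsIso g' := ⟨s', (cancel_mono g').1 (by rw [Category.assoc, hs']; exact (Category.comp_id g').trans (Category.id_comp g').symm), hs'⟩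
  rw [← hg']
  infer_instance

end Groth.Agent.AlgSpD
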