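import Groth.Agent.AlgSpD.QcEtaleFinFib
import Groth.Agent.AlgSpD.Decent
import Groth.Agent.AlgSpD.DecentCrit
import Groth.Agent.AlgSpB.Diag
import Groth.Agent.S2492

/-!
# Locally Noetherian decent spaces are quasi-separated
-/

universe u

open CategoryTheory CategoryTheory.Limits AlgebraicGeometry Opposite Topology TopologicalSpace

set_option backward.isDefEq.respectTransparency false

namespace Groth.Agent.AlgSpD

open Groth.Agent

/-- Local Noetherianity descends along etale surjective morphisms. -/
theorem isLocallyNoetherian_of_etale_surjective {W U : Scheme.{u}} (f : W ⟶ U) [Etale f] [Surjective f]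
    [IsLocallyNoetherian W] : IsLocallyNoetherian U := by
  refine (isLocallyNoetherian_iff_openCover U.affineCover).2 fun i => ?_
  let g := pullback.snd f (U.affineCover.f i)
  have : Surjective g := MorphismProperty.pullback_snd f _ inferInstance
  have : IsLocallyNoetherian (pullback f (U.affineCover.f i)) :=
    LocallyOfFiniteType.isLocallyNoetherian (pullback.fst f (U.affineCover.f i))
  choose A hA hzA _ using fun z : ↥(pullback f (U.affineCover.f i)) =>
    exists_isAffineOpen_mem_and_subset (x := z) (U := ⊤) trivial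
  obtain ⟨t, ht⟩ := isCompact_univ.elim_finite_subcover (fun z => g '' (A z : Set _))
    (fun z => g.isOpenMap _ (A z).2) fun u _ => by
      obtain ⟨z, rfl⟩ := g.surjective u
      exact Set.mem_iUnion.2 ⟨z, z, hzA z, rfl⟩
  let O : (pullback f (U.affineCover.f i)).Opens :=
    ⟨⋃ z ∈ t, (A z : Set _), isOpen_biUnion fun z _ => (A z).2⟩
  have : CompactSpace ↥O.toScheme :=
    isCompact_iff_compactSpace.1 (t.finite_toSet.isCompact_biUnion fun z _ => (hA z).isCompact)
  have : Surjective (O.ι ≫ g) := ⟨fun u => by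
    obtain ⟨z, hz, w, hw, rfl⟩ := Set.mem_iUnion₂.1 (ht (Set.mem_univ u))
    exact ⟨⟨w, Set.mem_iUnion₂.2 ⟨z, hz, hw⟩⟩, rfl⟩⟩
  have : IsLocallyNoetherian O.toScheme := LocallyOfFiniteType.isLocallyNoetherian O.ι
  have : QuasiCompact (O.ι ≫ g) := (quasiCompact_iff_compactSpace _).2 inferInstance
  exact S2492.result (O.ι ≫ g)

variable {S : Scheme.{u}}

/-- The fibres of a fibre product of charts are finite when the source chart is compact. -/
theorem finite_fibre_snd {F : AlgSp.Sp S} {U V P : Over S} [CompactSpace ↥U.left]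
    (a : (AlgSp.yon S).obj U ⟶ F) (ha : AlgSp.RepWith @Etale a) (b : (AlgSp.yon S).obj V ⟶ F)
    (fst : P ⟶ U) (snd : P ⟶ V) (sq : IsPullback ((AlgSp.yon S).map fst) ((AlgSp.yon S).map snd) a b)
    (v : ↥V.left) (hq : AlgSp.RepWith @QuasiCompact (AlgSp.FieldPt.ofPt b v).toHom) :
    (snd.left ⁻¹' {v}).Finite := by
  let c : Over.mk (V.left.fromSpecResidueField v ≫ V.hom) ⟶ V :=
    Over.homMk (V.left.fromSpecResidueField v) rfl
  have eQ := IsPullback.of_hasPullback snd c
  have h0 := (eQ.map (AlgSp.yon S)).paste_horiz sq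
  rw [← Functor.map_comp] at h0
  rw [AlgSp.FieldPt.toHom_ofPt] at hq
  have h1 : AlgSp.RepWith @QuasiCompact ((AlgSp.yon S).map (pullback.fst snd c ≫ fst)) :=
    MorphismProperty.of_isPullback h0.flip hq
  have : QuasiCompact (pullback.fst snd c ≫ fst).left := (AlgSp.repWith_yon_map_iff _ _).1 h1
  have : CompactSpace ↥(pullback snd c).left :=
    QuasiCompact.compactSpace_of_compactSpace (pullback.fst snd c ≫ fst).left
  have hs : Etale snd.left := ha.2 _ _ _ sq
  have eL : IsPullback (pullback.fst snd c).left (pullback.snd snd c).left snd.left c.left :=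
    eQ.map (Over.forget S)
  have : Etale (pullback.snd snd c).left := MorphismProperty.of_isPullback eL hs
  have : IsAffine (Over.mk (V.left.fromSpecResidueField v ≫ V.hom) : Over S).left :=
    inferInstanceAs (IsAffine (Spec (V.left.residueField v)))
  have : Subsingleton ↥(Over.mk (V.left.fromSpecResidueField v ≫ V.hom) : Over S).left :=
    inferInstanceAs (Subsingleton (PrimeSpectrum (V.left.residueField v)))
  have : QuasiCompact (pullback.snd snd c).left := HasAffineProperty.iff_of_isAffine.2 (by infer_instance)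
  have := locallyQuasiFinite_of_etale (pullback.snd snd c).left
  have : Finite ↥(pullback snd c).left := by
    rw [← Set.finite_univ_iff]
    exact ((pullback.snd snd c).left.finite_preimage_singleton
      (IsLocalRing.closedPoint (V.left.residueField v))).subset fun z _ => Subsingleton.elim _ _
  refine (Set.finite_range (pullback.fst snd c).left).subset fun r hr => ?_
  obtain ⟨z, hz, -⟩ := Scheme.Pullback.exists_preimage_pullback r
    (IsLocalRing.closedPoint (V.left.residueField v)) (f := snd.left) (g := c.left)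
    ((show snd.left r = v from hr).trans (V.left.fromSpecResidueField_apply v _).symm)
  refine ⟨eL.isoPullback.inv z, ?_⟩
  rw [← Scheme.Hom.comp_apply, IsPullback.isoPullback_inv_fst]
  exact hz

/-- Fibre products of affine charts of a locally Noetherian decent space are quasi-compact. -/
theorem compactSpace_of_decent_charts (X : AlgSp.Space S) (hN : AlgSp.IsLocNoethSp X.obj)
    (hX : AlgSp.IsDecent X.obj) {U V P : Over S} [IsAffine U.left] [IsAffine V.left]
    (a : (AlgSp.yon S).obj U ⟶ X.obj) (ha : AlgSp.RepWith @Etale a)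
    (b : (AlgSp.yon S).obj V ⟶ X.obj) (hb : AlgSp.RepWith @Etale b)
    (fst : P ⟶ U) (snd : P ⟶ V) (sq : IsPullback ((AlgSp.yon S).map fst) ((AlgSp.yon S).map snd) a b) :
    CompactSpace ↥P.left := by
  obtain ⟨U₀, p, hp, hps, hN₀⟩ := hN
  obtain ⟨W, f₁, f₂, sqW⟩ := AlgSpB.exists_pullback_yon hp.1 b
  have : Etale f₁.left := hb.2 _ _ _ sqW.flip
  have : Etale f₂.left := hp.2 _ _ _ sqW
  have : Surjective f₂.left := hps.2 _ _ _ sqW
  have : IsLocallyNoetherian W.left := LocallyOfFiniteType.isLocallyNoetherian f₁.left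
  have : IsLocallyNoetherian V.left := isLocallyNoetherian_of_etale_surjective f₂.left
  have : AlgebraicGeometry.IsNoetherian V.left :=
    { toIsLocallyNoetherian := inferInstance, toCompactSpace := inferInstance }
  have : Etale snd.left := ha.2 _ _ _ sq
  have hm : Mono (AlgSpB.pairHom fst snd) := AlgSpB.prop_pairHom
    (P := MorphismProperty.monomorphisms Scheme.{u}) (AlgSpB.repWith_diag X fun _ _ _ _ _ _ _ h => by
      exact AlgSpB.mono_pairHom h) sq
  have : IsSeparated U.hom := IsSeparated.of_comp U.hom (terminal.from S)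
  have : IsSeparated (AlgSpB.pairHom fst snd) := inferInstance
  have : IsSeparated snd.left := by
    have e : AlgSpB.pairHom fst snd ≫ pullback.snd U.hom V.hom = snd.left := pullback.lift_snd _ _ _
    rw [← e]
    infer_instance
  refine compactSpace_of_finite_fibres snd.left fun v => finite_fibre_snd a ha b fst snd sq v ?_
  obtain ⟨q, hq, hm', hqc⟩ := hX (AlgSp.Points.mk (AlgSp.FieldPt.ofPt b v))
  exact repWith_quasiCompact_of_eq X q _ hm' hqc hq.symm

/-- A locally Noetherian decent space is quasi-separated. -/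
theorem isQuasiSeparatedSp_of_decent (X : AlgSp.Space S) (hN : AlgSp.IsLocNoethSp X.obj)
    (hX : AlgSp.IsDecent X.obj) : AlgSp.IsQuasiSeparatedSp X.obj := by
  obtain ⟨A, p, hp, hs⟩ := X.property.atlas
  obtain ⟨R, t, s, hR⟩ := AlgSpB.exists_pullback_yon hp.1 p
  have hj : QuasiCompact (AlgSpB.pairHom t s) := by
    refine IsZariskiLocalAtTarget.of_openCover
      (Scheme.Pullback.openCoverOfLeftRight A.left.affineCover A.left.affineCover A.hom A.hom) ?_
    rintro ⟨i, j⟩
    let φ : Over.mk (A.left.affineCover.f i ≫ A.hom) ⟶ A := Over.homMk (A.left.affineCover.f i) rfl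
    let ψ : Over.mk (A.left.affineCover.f j ≫ A.hom) ⟶ A := Over.homMk (A.left.affineCover.f j) rfl
    have hφ : AlgSp.RepWith @Etale ((AlgSp.yon S).map φ ≫ p) := (AlgSp.RepWith _).comp_mem _ _
      ((AlgSp.repWith_yon_map_iff _ _).2 (inferInstanceAs (Etale (A.left.affineCover.f i)))) hp
    have hψ : AlgSp.RepWith @Etale ((AlgSp.yon S).map ψ ≫ p) := (AlgSp.RepWith _).comp_mem _ _
      ((AlgSp.repWith_yon_map_iff _ _).2 (inferInstanceAs (Etale (A.left.affineCover.f j)))) hp
    obtain ⟨W', f', g', h'⟩ := AlgSpB.exists_pullback_yon hφ.1 ((AlgSp.yon S).map ψ ≫ p)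
    obtain ⟨q, hq⟩ := AlgSpB.isPullback_pairHom hR φ ψ h'
    have : IsAffine (Over.mk (A.left.affineCover.f i ≫ A.hom) : Over S).left :=
      inferInstanceAs (IsAffine (A.left.affineCover.X i))
    have : IsAffine (Over.mk (A.left.affineCover.f j ≫ A.hom) : Over S).left :=
      inferInstanceAs (IsAffine (A.left.affineCover.X j))
    have := compactSpace_of_decent_charts X hN hX _ hφ _ hψ f' g' h'
    have : IsSeparated (Over.mk (A.left.affineCover.f i ≫ A.hom) : Over S).hom :=
      IsSeparated.of_comp _ (terminal.from S)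
    have : QuasiSeparatedSpace ↥(pullback (Over.mk (A.left.affineCover.f i ≫ A.hom) : Over S).hom
        (Over.mk (A.left.affineCover.f j ≫ A.hom) : Over S).hom) :=
      quasiSeparatedSpace_of_quasiSeparated (pullback.snd _ _)
    have : QuasiCompact (AlgSpB.pairHom f' g') := quasiCompact_of_compactSpace _
    have e := IsPullback.isoPullback_hom_snd hq
    have : QuasiCompact (pullback.snd (AlgSpB.pairHom t s) (pullback.map
        (Over.mk (A.left.affineCover.f i ≫ A.hom) : Over S).hom
        (Over.mk (A.left.affineCover.f j ≫ A.hom) : Over S).hom A.hom A.hom φ.left ψ.left (𝟙 S)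
        (by simp) (by simp))) :=
      (MorphismProperty.cancel_left_of_respectsIso @QuasiCompact hq.isoPullback.hom _).1
        (by rw [e]; infer_instance)
    exact this
  refine AlgSpB.repWith_diag X fun V W a b fst snd _ h => ?_
  obtain ⟨Ta, ua, qa, ha⟩ := AlgSpB.exists_pullback_yon hp.1 a
  obtain ⟨Tb, ub, qb, hb⟩ := AlgSpB.exists_pullback_yon hp.1 b
  obtain ⟨W', f', g', h'⟩ := AlgSpB.exists_pullback_yon
    (X.property.representable_from_yon ((AlgSp.yon S).map qa ≫ a)) ((AlgSp.yon S).map qb ≫ b)
  have h'' := h'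
  rw [← ha.w, ← hb.w] at h''
  obtain ⟨q, hq⟩ := AlgSpB.isPullback_pairHom h qa qb h'
  obtain ⟨r, hr⟩ := AlgSpB.isPullback_pairHom hR ua ub h''
  have : QuasiCompact (AlgSpB.pairHom f' g') :=
    MorphismProperty.of_isPullback (P := @QuasiCompact) hr inferInstance
  have : Surjective qa.left := hs.2 _ _ _ ha
  have : Surjective qb.left := hs.2 _ _ _ hb
  have : Etale qa.left := hp.2 _ _ _ ha
  have : Etale qb.left := hp.2 _ _ _ hb
  have hs' : Surjective (pullback.map Ta.hom Tb.hom V.hom V.hom qa.left qb.left (𝟙 S)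
      (by simp) (by simp)) :=
    MorphismProperty.pullbackMap (P := @Surjective) ‹_› ‹_› (by simp) (by simp)
  have he : Etale (pullback.map Ta.hom Tb.hom V.hom V.hom qa.left qb.left (𝟙 S)
      (by simp) (by simp)) :=
    MorphismProperty.pullbackMap (P := @Etale) ‹_› ‹_› (by simp) (by simp)
  exact AlgSpB.quasiCompact_of_isPullback hq (Scheme.Hom.isOpenMap _)

end Groth.Agent.AlgSpD
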