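import Groth.Agent.AlgSpD.LiftCount
import Groth.Agent.AlgSpB.Art.GenericScheme
import Groth.Agent.S10197
import Groth.Agent.S10190
import Groth.Agent.S10398
import Groth.Agent.AlgSpD.IntegralMor
import Groth.Agent.AlgSp.NormQf
import Groth.Agent.AlgSp.QCMor
import Groth.Agent.AlgSp.GenFiniteSch

/-!
# Dense open subschemes from finite geometric fibres

If geometric points have finitely many lifts to affine charts then, by the Baire category argument in a
spectrum, the number of lifts is constant on a non-empty open, over which the chart is quasi-compact.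
-/

universe u

open CategoryTheory CategoryTheory.Limits AlgebraicGeometry Opposite TopologicalSpace
open AlgSp

set_option backward.isDefEq.respectTransparency false
set_option autoImplicit false

namespace Groth.Agent.AlgSpD

open Groth.Agent

theorem nhd_of_separated_chart {S : Scheme.{u}} (Y : AlgSp.Space S) {U : Over S} [U.left.IsSeparated]
    (p : (AlgSp.yon S).obj U ⟶ Y.obj) (hq : AlgSp.RepWith @QuasiCompact p) (he : AlgSp.RepWith @Etale p)
    (hs : AlgSp.RepWith @Surjective p) (y : AlgSp.Points Y.obj)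
    (hy : AlgSp.HasAt (fun U u => ringKrullDim ↥(U.presheaf.stalk u) = 0) Y.obj y) :
    ∃ (X' : AlgSp.Space S) (j : X' ⟶ Y), AlgSp.RepWith @IsOpenImmersion j.hom ∧ X'.obj.obj.IsRepresentable ∧
      y ∈ Set.range (AlgSp.Points.map j.hom) := by
  obtain ⟨R, t, s, hR⟩ := Groth.Agent.AlgSpB.exists_pullback_yon he.1 p
  have : IsSeparated s.left := (Groth.Agent.S10181.result Y p he).1.2 _ _ _ hR
  let δ : U ⟶ R := ((Groth.Agent.AlgSpB.isEqvRel_of_isPullback hR).2 U).refl (𝟙 U) |>.choose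
  have hδ : δ ≫ t = 𝟙 U ∧ δ ≫ s = 𝟙 U := (((Groth.Agent.AlgSpB.isEqvRel_of_isPullback hR).2 U).refl (𝟙 U)).choose_spec
  have hsep : AlgSp.IsSeparatedMor p := by
    have e : pullback.diagonal p = (AlgSp.yon S).map δ ≫ hR.isoPullback.hom := by
      apply pullback.hom_ext <;> simp [← Functor.map_comp, hδ]
    rw [AlgSp.IsSeparatedMor, e, MorphismProperty.cancel_right_of_respectsIso (AlgSp.RepWith _)]
    refine (AlgSp.repWith_yon_map_iff _ _).2 ?_
    have : IsClosedImmersion (δ.left ≫ s.left) := by rw [← Over.comp_left, hδ.2]; exact (inferInstance : IsClosedImmersion (𝟙 U.left))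
    exact IsClosedImmersion.of_comp δ.left s.left
  have hlft : AlgSp.LocP @LocallyOfFiniteType p := Groth.Agent.AlgSpCov.locP_of_repWith
    Groth.Agent.AlgSpCov.etaleLocal_locallyOfFiniteType
    (AlgSp.repWith_mono (Q := @LocallyOfFiniteType) (fun g (hg : Etale g) => (inferInstance : LocallyOfFiniteType g)) he)
  let p' : (AlgSp.ofScheme S).obj U ⟶ Y := ObjectProperty.homMk p
  obtain ⟨Y', X', j, fst, snd, hj, hyj, sq, hfin⟩ := Groth.Agent.S10398.result p'
    (Groth.Agent.AlgSp.isQuasiSeparatedMor_of_sep hsep) ⟨hlft, Groth.Agent.AlgSp.isQuasiCompactMor_of_repWith Y.property hq⟩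
    y hy (fun x _ => ⟨U, U, 𝟙 _, p, 𝟙 U, (AlgSp.Points.schemeHomeo U).symm x, AlgSp.repWith_id _ _, he,
      by rw [CategoryTheory.Functor.map_id]; rfl, (AlgSp.Points.schemeHomeo U).apply_symm_apply x,
      ⟨⊤, trivial, (inferInstance : LocallyQuasiFinite ((⊤ : U.left.Opens).ι ≫ 𝟙 _)),
        (inferInstance : LocallyOfFiniteType ((⊤ : U.left.Opens).ι ≫ 𝟙 _))⟩⟩)
  have := Groth.Agent.AlgSpB.mono_of_isOpenImmersion hj
  obtain ⟨UW, g, f', sqW⟩ := hj.1 p
  have : IsOpenImmersion g.left := hj.2 _ _ _ sqW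
  have : QuasiSeparatedSpace ↥U.left := inferInstance
  have : QuasiSeparatedSpace ↥UW.left := g.left.isOpenEmbedding.quasiSeparatedSpace
  have hef : f' = (sqW.isoIsPullback _ _ sq).hom ≫ fst.hom := (IsPullback.isoIsPullback_hom_fst _ _ _ _).symm
  have hf' : AlgSp.RepWith @IsFinite f' := by
    rw [hef, MorphismProperty.cancel_left_of_respectsIso (AlgSp.RepWith _)]
    exact (Groth.Agent.AlgSpD.isFiniteMor_iff _).1 hfin
  obtain ⟨y', rfl⟩ := hyj
  obtain ⟨u', rfl⟩ := Groth.Agent.AlgSpB.surjective_ofPt (MorphismProperty.of_isPullback sqW.flip hs) y'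
  have he' : AlgSp.RepWith @Etale f' := MorphismProperty.of_isPullback sqW.flip he
  have hcodim : AlgSp.HasAt (fun U u => ringKrullDim ↥(U.presheaf.stalk u) = 0) Y'.obj (AlgSp.Points.ofPt f' u') := by
    rw [Groth.Agent.AlgSp.codim0_iff_chart he', Groth.Agent.AlgSp.generic_open_iff g.left]
    rw [AlgSp.Points.map_ofPt, sqW.w, Groth.Agent.AlgSpB.ofPt_map_comp, Groth.Agent.AlgSp.codim0_iff_chart he] at hy
    exact hy
  obtain ⟨X'', k, hk, hrep, hmem⟩ := Groth.Agent.AlgSpB.Art.exists_scheme_nhd Y' f' hf' he'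
    (MorphismProperty.of_isPullback sqW.flip hs) _ hcodim
  refine ⟨X'', k ≫ j, (AlgSp.RepWith @IsOpenImmersion : MorphismProperty (AlgSp.Sp S)).comp_mem _ _ hk hj, hrep, ?_⟩
  obtain ⟨z, hz⟩ := hmem
  exact ⟨z, by
    show AlgSp.Points.map (k.hom ≫ j.hom) z = _
    rw [AlgSp.Points.map_comp, hz]⟩

/-- A spectrum is a Baire space. -/
theorem exists_forall_mem_of_dense {A : Type u} [CommRing A] [Nontrivial A]
    (O : ℕ → Set (PrimeSpectrum A)) (hO : ∀ n, IsOpen (O n)) (hd : ∀ n, Dense (O n)) :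
    ∃ p : PrimeSpectrum A, ∀ n, p ∈ O n := by
  have step : ∀ (n : ℕ) (f : A), ¬ IsNilpotent f → ∃ g : A, ¬ IsNilpotent g ∧
      (PrimeSpectrum.basicOpen g : Set (PrimeSpectrum A)) ⊆ O n ∩ PrimeSpectrum.basicOpen f := by
    intro n f hf
    have hne : (PrimeSpectrum.basicOpen f : Set (PrimeSpectrum A)).Nonempty := by
      rw [Set.nonempty_iff_ne_empty]
      intro h
      exact hf ((PrimeSpectrum.basicOpen_eq_bot_iff f).1 (TopologicalSpace.Opens.ext h))
    obtain ⟨x, hx⟩ := (hd n).inter_open_nonempty _ (PrimeSpectrum.basicOpen f).2 hne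
    obtain ⟨_, ⟨g, rfl⟩, hxg, hg⟩ := PrimeSpectrum.isTopologicalBasis_basic_opens.exists_subset_of_mem_open
      (show x ∈ O n ∩ PrimeSpectrum.basicOpen f from ⟨hx.2, hx.1⟩)
      ((hO n).inter (PrimeSpectrum.basicOpen f).2)
    refine ⟨g, fun hn => ?_, hg⟩
    have : PrimeSpectrum.basicOpen g = ⊥ := (PrimeSpectrum.basicOpen_eq_bot_iff g).2 hn
    exact (this ▸ hxg : x ∈ (⊥ : Opens (PrimeSpectrum A)))
  choose g hg hgs using step
  let F : ℕ → {f : A // ¬ IsNilpotent f} := Nat.rec ⟨1, fun ⟨k, hk⟩ => one_ne_zero ((one_pow k).symm.trans hk)⟩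
    fun n f => ⟨g n f.1 f.2, hg n f.1 f.2⟩
  let Z : ℕ → Set (PrimeSpectrum A) := fun n => (PrimeSpectrum.basicOpen (F n).1 : Set (PrimeSpectrum A))
  have hanti : ∀ n, Z (n + 1) ⊆ O n ∩ Z n := fun n => hgs n (F n).1 (F n).2
  let M : Submonoid A := Submonoid.closure (Set.range fun n => (F n).1)
  have hM : ∀ m ∈ M, ∃ N, Z N ⊆ (PrimeSpectrum.basicOpen m : Set (PrimeSpectrum A)) := by
    have hmono : ∀ i j, i ≤ j → Z j ⊆ Z i := fun i j hij => by
      induction hij with
      | refl => exact subset_rfl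
      | step _ ih => exact fun x hx => ih (hanti _ hx).2
    intro m hm
    induction hm using Submonoid.closure_induction with
    | mem x hx => obtain ⟨n, rfl⟩ := hx; exact ⟨n, subset_rfl⟩
    | one => exact ⟨0, fun x _ => by simp [PrimeSpectrum.basicOpen_one]⟩
    | mul x y _ _ hx hy =>
      obtain ⟨i, hi⟩ := hx
      obtain ⟨j, hj⟩ := hy
      refine ⟨max i j, fun z hz => ?_⟩
      rw [SetLike.mem_coe, PrimeSpectrum.basicOpen_mul]
      exact ⟨hi (hmono i _ (le_max_left i j) hz), hj (hmono j _ (le_max_right i j) hz)⟩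
  have hdisj : Disjoint ((⊥ : Ideal A) : Set A) (M : Set A) := by
    rw [Set.disjoint_left]
    rintro m hm0 hmM
    obtain ⟨N, hN⟩ := hM m hmM
    rw [SetLike.mem_coe, Ideal.mem_bot] at hm0
    subst hm0
    refine (F N).2 ((PrimeSpectrum.basicOpen_eq_bot_iff _).1 (le_bot_iff.1 fun x hx => ?_))
    have := hN hx
    rw [SetLike.mem_coe, PrimeSpectrum.basicOpen_zero] at this
    exact this
  obtain ⟨P, hP, -, hPM⟩ := Ideal.exists_le_prime_disjoint ⊥ M hdisj
  refine ⟨⟨P, hP⟩, fun n => (hanti n ?_).1⟩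
  show (F (n + 1)).1 ∉ P
  exact fun h => Set.disjoint_left.1 hPM h (Submonoid.subset_closure ⟨n + 1, rfl⟩)

theorem exists_forall_mem_of_dense_affine {U : Scheme.{u}} [IsAffine U] [Nonempty ↥U]
    (O : ℕ → Set ↥U) (hO : ∀ n, IsOpen (O n)) (hd : ∀ n, Dense (O n)) : ∃ p : ↥U, ∀ n, p ∈ O n := by
  let e : ↥U ≃ₜ ↥(Spec Γ(U, ⊤)) := Scheme.homeoOfIso U.isoSpec
  have : Nontrivial Γ(U, ⊤) :=
    (PrimeSpectrum.nonempty_iff_nontrivial).1 ⟨e (Classical.arbitrary _)⟩
  obtain ⟨p, hp⟩ := exists_forall_mem_of_dense (fun n => e '' O n) (fun n => e.isOpen_image.2 (hO n))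
    (fun n => e.surjective.denseRange.dense_image e.continuous (hd n))
  refine ⟨e.symm p, fun n => ?_⟩
  obtain ⟨x, hx, rfl⟩ := hp n
  rwa [e.symm_apply_apply]

/-- An affine chart with finitely many lifts meets an open subscheme. -/
theorem exists_scheme_meets {S : Scheme.{u}} (X : AlgSp.Space S) {U : Over S} [IsAffine U.left] [Nonempty ↥U.left]
    (a : (AlgSp.yon S).obj U ⟶ X.obj) (ha : AlgSp.RepWith @Etale a)
    (hfin : ∀ q : AlgSp.FieldPt X.obj, q.IsGeometric → Finite (Lifts X a q)) :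
    ∃ (X' : AlgSp.Space S) (j : X' ⟶ X), AlgSp.RepWith @IsOpenImmersion j.hom ∧ X'.obj.obj.IsRepresentable ∧
      (Set.range (AlgSp.Points.map j.hom) ∩ Set.range (AlgSp.Points.ofPt a)).Nonempty := by
  classical
  have hgeo : ∀ u : ↥U.left, ∃ q : AlgSp.FieldPt X.obj, q.IsGeometric ∧ AlgSp.Points.mk q = AlgSp.Points.ofPt a u :=
    fun u => by
      obtain ⟨q, hq, l, -, hqm⟩ := exists_geometric_lift X (AlgSp.EtOver.mk a ha) u
      exact ⟨q, hq, hqm⟩
  let G : ℕ → Set ↥U.left := fun n => AlgSp.Points.ofPt a ⁻¹' liftLocus X a (n + 1)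
  have hG : ∀ n, IsOpen (G n) := fun n => (isOpen_liftLocus X a ha _).preimage (AlgSp.Points.continuous_ofPt a)
  -- Baire
  have hnd : ∃ n, ¬ Dense (G n) := by
    by_contra hcon
    push Not at hcon
    obtain ⟨p, hp⟩ := exists_forall_mem_of_dense_affine G hG hcon
    obtain ⟨q, hq, hqp⟩ := hgeo p
    have := hfin q hq
    have h := hp (Nat.card (Lifts X a q)) q hq hqp
    rw [ENat.card_eq_coe_natCard] at h
    have : Nat.card (Lifts X a q) + 1 ≤ Nat.card (Lifts X a q) := by exact_mod_cast h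
    omega
  obtain ⟨n, hn⟩ := hnd
  rw [dense_iff_inter_open] at hn
  push Not at hn
  obtain ⟨O, hOo, hOne, hOn⟩ := hn
  -- the maximal number of lifts on `O`
  let P : ℕ → Prop := fun k => ∃ u ∈ O, AlgSp.Points.ofPt a u ∈ liftLocus X a k
  obtain ⟨u₁, hu₁⟩ := hOne
  have hP0 : P 0 := ⟨u₁, hu₁, fun q _ _ => by simp⟩
  let k := Nat.findGreatest P n
  have hk : P k := Nat.findGreatest_spec (Nat.zero_le n) hP0
  have hmax : ∀ u ∈ O, AlgSp.Points.ofPt a u ∉ liftLocus X a (k + 1) := by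
    intro u hu hmem
    by_cases hkn : k + 1 ≤ n
    · exact Nat.findGreatest_is_greatest (Nat.lt_succ_self k) hkn ⟨u, hu, hmem⟩
    · have : k = n := le_antisymm (Nat.findGreatest_le n) (by omega)
      rw [this] at hmem
      exact Set.eq_empty_iff_forall_notMem.1 hOn u ⟨hu, hmem⟩
  let Ω : Set (AlgSp.Points X.obj) := (AlgSp.Points.ofPt a '' O) ∩ liftLocus X a k
  have hΩo : IsOpen Ω := ((AlgSpB.isOpenMap_ofPt ha) O hOo).inter (isOpen_liftLocus X a ha k)
  obtain ⟨u₀, hu₀, hu₀k⟩ := hk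
  have hΩne : Ω.Nonempty := ⟨_, ⟨u₀, hu₀, rfl⟩, hu₀k⟩
  have hconst : ∀ q : AlgSp.FieldPt X.obj, q.IsGeometric → AlgSp.Points.mk q ∈ Ω →
      ENat.card (Lifts X a q) = k := by
    rintro q hq ⟨⟨u, hu, hue⟩, hqk⟩
    refine le_antisymm ?_ (hqk q hq rfl)
    by_contra hlt
    refine hmax u hu fun q' hq' hq'u => ?_
    rw [card_lifts_eq X a ha q' q hq' hq (hq'u.trans hue), Nat.cast_add, Nat.cast_one]
    exact Order.add_one_le_of_lt (not_le.1 hlt)
  -- the open subspace
  obtain ⟨Y, jY, hjY, hjYr⟩ := AlgSpB.exists_openSubspace X hΩo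
  have := AlgSpB.mono_of_isOpenImmersion hjY
  obtain ⟨V, g, p, sq⟩ := hjY.1 a
  have hgi : IsOpenImmersion g.left := hjY.2 _ _ _ sq
  have hgr : Set.range g.left = AlgSp.Points.ofPt a ⁻¹' Ω := by rw [AlgSpB.range_snd_eq sq, hjYr]
  have : V.left.IsSeparated := by
    constructor
    rw [terminal.hom_ext (terminal.from V.left) (g.left ≫ terminal.from U.left)]
    infer_instance
  have hpe : AlgSp.RepWith @Etale p := MorphismProperty.of_isPullback sq.flip ha
  have hps : AlgSp.RepWith @Surjective p := by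
    refine AlgSpB.repWith_surjective_of_surjective_ofPt hpe.1 fun y => ?_
    have hy' : AlgSp.Points.map jY.hom y ∈ Ω := hjYr.le ⟨y, rfl⟩
    obtain ⟨⟨u, -, hu⟩, -⟩ := hy' 
    obtain ⟨v, hv, -⟩ := (AlgSpB.exists_of_isPullback sq y (AlgSp.Points.ofScheme U u) (by
      rw [← AlgSp.Points.ofPt_eq_map_ofScheme, hu]))
    rw [← AlgSp.Points.ofScheme_toScheme V v, ← AlgSp.Points.ofPt_eq_map_ofScheme] at hv
    exact ⟨_, hv⟩
  have hpq : AlgSp.RepWith @QuasiCompact p := by
    obtain ⟨R, t, s, h⟩ := AlgSpB.exists_pullback_yon (X.property.representable_from_yon a) a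
    obtain ⟨R', t', s', h'⟩ := AlgSpB.exists_pullback_yon hpe.1 p
    have hbig : IsPullback ((AlgSp.yon S).map t') ((AlgSp.yon S).map s' ≫ (AlgSp.yon S).map g)
        ((AlgSp.yon S).map g ≫ a) a := by
      have e := h'.paste_vert sq
      rw [sq.w] at e
      exact e
    obtain ⟨i, hi⟩ := (AlgSp.yon S).map_surjective (h.flip.lift ((AlgSp.yon S).map s' ≫ (AlgSp.yon S).map g)
      ((AlgSp.yon S).map t' ≫ (AlgSp.yon S).map g) (by rw [Category.assoc, Category.assoc]; exact hbig.w.symm))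
    have his : (AlgSp.yon S).map i ≫ (AlgSp.yon S).map s = (AlgSp.yon S).map s' ≫ (AlgSp.yon S).map g := by
      rw [hi, h.flip.lift_fst]
    have hit : (AlgSp.yon S).map i ≫ (AlgSp.yon S).map t = (AlgSp.yon S).map t' ≫ (AlgSp.yon S).map g := by
      rw [hi, h.flip.lift_snd]
    have sqt : IsPullback ((AlgSp.yon S).map i) ((AlgSp.yon S).map t') ((AlgSp.yon S).map t) ((AlgSp.yon S).map g) := by
      refine IsPullback.of_right ?_ hit h.flip
      rw [his]
      exact hbig.flip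
    have eF : IsPullback i.left t'.left t.left g.left :=
      (sqt.of_map_of_faithful (AlgSp.yon S)).map (Over.forget S)
    have : IsOpenImmersion i.left := MorphismProperty.of_isPullback eF.flip hgi
    have hRsep : R.left.IsSeparated := (Groth.Agent.S10181.result X a ha).2 _ _ _ h
    have hqc : QuasiCompact t'.left := by
      refine quasiCompact_iff_forall_isAffineOpen.2 fun W hW => ?_
      let C : U.left.Opens := g.left ''ᵁ W
      have hC : IsAffineOpen C := hW.image_of_isOpenImmersion g.left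
      have hCsub : (C : Set ↥U.left) ⊆ AlgSp.Points.ofPt a ⁻¹' Ω := by
        rw [← hgr]; rintro _ ⟨w, -, rfl⟩; exact ⟨w, rfl⟩
      have hcov : ∀ v : ↥(C : Set ↥U.left), ∃ B : U.left.Opens, IsAffineOpen B ∧ v.1 ∈ B ∧
          IsCompact (t.left ⁻¹' (B : Set ↥U.left)) :=
        fun v => exists_compact_nbhd X a ha h Ω hΩo k hconst v.1 (hCsub v.2)
      choose B hB hvB hBc using hcov
      have hcov2 : ∀ v : ↥(C : Set ↥U.left), ∃ D : U.left.Opens, IsAffineOpen D ∧ v.1 ∈ D ∧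
          (D : Set ↥U.left) ⊆ (C : Set ↥U.left) ∧ IsCompact (t.left ⁻¹' (D : Set ↥U.left)) := fun v => by
        obtain ⟨D, hD, hvD, hDs⟩ := exists_isAffineOpen_mem_and_subset (x := v.1) (U := C ⊓ B v) ⟨v.2, hvB v⟩
        refine ⟨D, hD, hvD, fun z hz => (hDs hz).1, ?_⟩
        let O₁ : R.left.Opens := t.left ⁻¹ᵁ B v
        have : CompactSpace ↥O₁.toScheme := isCompact_iff_compactSpace.1 (hBc v)
        have : QuasiCompact (O₁.ι ≫ t.left) := quasiCompact_of_compactSpace _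
        convert ((O₁.ι ≫ t.left).isCompact_preimage hD.isCompact).image O₁.ι.continuous using 1
        ext r
        exact ⟨fun hr => ⟨⟨r, (hDs hr).2⟩, hr, rfl⟩, fun ⟨z, hz, hzr⟩ => hzr ▸ hz⟩
      choose D hD hvD hDC hDc using hcov2
      obtain ⟨T, hT⟩ := hC.isCompact.elim_finite_subcover (fun v => (D v : Set ↥U.left)) (fun v => (D v).2)
        (fun v hv => Set.mem_iUnion.2 ⟨⟨v, hv⟩, hvD ⟨v, hv⟩⟩)
      have hCeq : t.left ⁻¹' (C : Set ↥U.left) = ⋃ v ∈ T, t.left ⁻¹' (D v : Set ↥U.left) := by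
        ext r
        simp only [Set.mem_iUnion, Set.mem_preimage]
        refine ⟨fun hr => ?_, fun ⟨v, _, hr⟩ => hDC v hr⟩
        obtain ⟨v, hvT, hr'⟩ := Set.mem_iUnion₂.1 (hT hr)
        exact ⟨v, hvT, hr'⟩
      have hCc : IsCompact (t.left ⁻¹' (C : Set ↥U.left)) := by
        rw [hCeq]
        exact T.finite_toSet.isCompact_biUnion fun v _ => hDc v
      have hrange : t.left ⁻¹' (C : Set ↥U.left) ⊆ Set.range i.left := by
        rintro r ⟨w, -, hw⟩
        obtain ⟨z, hz, -⟩ := Scheme.Pullback.exists_preimage_pullback r w (f := t.left) (g := g.left) hw.symm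
        refine ⟨eF.isoPullback.inv z, ?_⟩
        rw [← Scheme.Hom.comp_apply, IsPullback.isoPullback_inv_fst]
        exact hz
      convert i.left.isOpenEmbedding.isInducing.isCompact_preimage' hCc hrange using 1
      ext r
      have e := congrArg (fun m : R'.left ⟶ U.left => m r) eF.w
      simp only [Scheme.Hom.comp_apply] at e
      show t'.left r ∈ W ↔ t.left (i.left r) ∈ g.left ''ᵁ W
      rw [e]
      exact ⟨fun hh => ⟨_, hh, rfl⟩, fun ⟨w, hw, hwe⟩ => g.left.isOpenEmbedding.injective hwe ▸ hw⟩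
    have := Groth.Agent.AlgSp.isLocallySurjective_of_etale_surjective p hpe hps
    exact Groth.Agent.AlgSp.repWith_of_isPullback_of_isLocallySurjective p hpe.1 p _ _ h'.flip
      @QuasiCompact ((AlgSp.repWith_yon_map_iff _ _).2 hqc)
  obtain ⟨x, ⟨u, hu', hu⟩, hxk⟩ := hΩne
  obtain ⟨y₀, hy₀⟩ := hjYr.ge (⟨⟨u, hu', hu⟩, hxk⟩ : x ∈ Ω)
  obtain ⟨y, hy⟩ := (Groth.Agent.S10190.result Y).nonempty (h := ⟨y₀⟩)
  obtain ⟨X', j, hj, hrep, hyj⟩ := nhd_of_separated_chart Y p hpq hpe hps y hy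
  refine ⟨X', j ≫ jY, (AlgSp.RepWith @IsOpenImmersion).comp_mem _ _ hj hjY, hrep, ?_⟩
  obtain ⟨z, hz⟩ := hyj
  refine Set.nonempty_of_mem (x := AlgSp.Points.map jY.hom y) (Set.mem_inter ?_ ?_)
  · refine ⟨z, ?_⟩
    show AlgSp.Points.map (j.hom ≫ jY.hom) z = _
    rw [AlgSp.Points.map_comp, hz]
  · have hy2 : AlgSp.Points.map jY.hom y ∈ Ω := hjYr.le ⟨y, rfl⟩
    obtain ⟨⟨w, -, hw⟩, -⟩ := hy2
    exact ⟨w, hw⟩

end Groth.Agent.AlgSpD
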