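import Groth.Agent.AlgSpD.RelDim
import Groth.Agent.AlgSp.NoethFib
import Groth.Agent.S9687
import Groth.Prelude.Def_AlgSpDec

/-!
# The dimension formula for algebraic spaces
-/

universe u

open CategoryTheory CategoryTheory.Limits AlgebraicGeometry Opposite Topology Order

set_option backward.isDefEq.respectTransparency false

namespace Groth.Agent.AlgSpD

open Groth.Agent

/-- A generic point of an irreducible component has a stalk of dimension zero. -/
theorem ringKrullDim_stalk_eq_zero_of_irredComp {X : Scheme.{u}} (ξ : ↥X)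
    (h : closure {ξ} ∈ irreducibleComponents ↥X) : ringKrullDim ↥(X.presheaf.stalk ξ) = 0 := by
  rw [ringKrullDim_stalk_eq_coheight]
  have : IsMax ξ := by
    intro z (hz : ξ ≤ z)
    have h2 := h.2 (isIrreducible_singleton.closure)
      (closure_minimal (Set.singleton_subset_iff.2 (specializes_iff_mem_closure.1 hz)) isClosed_closure)
    exact specializes_iff_mem_closure.2 (h2 (subset_closure rfl))
  rw [Order.coheight_eq_zero.2 this]
  rfl

/-- The dimension formula at a point of a scheme, with cardinal bound. -/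
theorem dim_stalk_add_resTrdeg_le {U V : Scheme.{u}} [IsLocallyNoetherian V] (h : U ⟶ V) [LocallyOfFiniteType h]
    (u : ↥U) (E : Cardinal.{u})
    (hE : ∀ ξ : ↥U, ξ ⤳ u → ringKrullDim ↥(U.presheaf.stalk ξ) = 0 → Dual3.resTrdeg h ξ ≤ E) :
    ringKrullDim ↥(U.presheaf.stalk u) + ((Cardinal.toENat (Dual3.resTrdeg h u) : ℕ∞) : WithBot ℕ∞) ≤
      ringKrullDim ↥(V.presheaf.stalk (h u)) + ((Cardinal.toENat E : ℕ∞) : WithBot ℕ∞) := by
  obtain ⟨n, m, hm, -, -, -⟩ := exists_fibre_dims h u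
  rw [hm, map_natCast]
  rcases lt_or_ge E Cardinal.aleph0 with hfin | hinf
  · obtain ⟨k, rfl⟩ := Cardinal.lt_aleph0.1 hfin
    rw [map_natCast]
    exact Groth.Agent.S9687.result h u m k hm fun ξ hξ hξu =>
      hE ξ hξu (ringKrullDim_stalk_eq_zero_of_irredComp ξ hξ)
  · rw [Cardinal.toENat_eq_top.2 hinf, ringKrullDim_stalk_eq_coheight (X := V) (h u),
      ← WithBot.coe_add, add_top]
    exact le_top

variable {S : Scheme.{u}} {X Y : AlgSp.Space S}

/-- The dimension formula read on one chart diagram. -/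
theorem dim_stalk_add_resTrdeg_le_chart (f : X ⟶ Y) (hY : AlgSp.IsLocNoethSp Y.obj)
    (hf : AlgSp.LocP @LocallyOfFiniteType f.hom) {U V : Over S} {a : (AlgSp.yon S).obj U ⟶ X.obj}
    {b : (AlgSp.yon S).obj V ⟶ Y.obj} {h : U ⟶ V} (ha : AlgSp.RepWith @Etale a) (hb : AlgSp.RepWith @Etale b)
    (w : a ≫ f.hom = (AlgSp.yon S).map h ≫ b) (u : ↥U.left) (E : Cardinal.{u})
    (hE : ∀ ξ : AlgSp.Points X.obj, ξ ⤳ AlgSp.Points.ofPt a u →
      AlgSp.HasAt (fun U u => ringKrullDim ↥(U.presheaf.stalk u) = 0) X.obj ξ →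
      ∀ s : Cardinal.{u}, AlgSp.HasAtMor (fun _ _ h u => Dual3.resTrdeg h u = s) f.hom ξ → s ≤ E) :
    ringKrullDim ↥(U.left.presheaf.stalk u) + ((Cardinal.toENat (Dual3.resTrdeg h.left u) : ℕ∞) : WithBot ℕ∞) ≤
      ringKrullDim ↥(V.left.presheaf.stalk (h.left u)) + ((Cardinal.toENat E : ℕ∞) : WithBot ℕ∞) := by
  have := hf a b h ha hb w
  have := AlgSp.isLocallyNoetherian_of_etale_chart b hb hY
  refine dim_stalk_add_resTrdeg_le h.left u E fun ξ hξ h0 => ?_
  exact hE _ (hξ.map (AlgSp.Points.continuous_ofPt a))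
    ((hasAt_iff_chart (Q := fun U u => ringKrullDim ↥(U.presheaf.stalk u) = 0) (stalkDim_invariant 0) ha ξ).2 h0) _
    ((hasAtMor_iff_chart (morEtaleInv_resTrdeg _) f ha hb w ξ).2 rfl)

/-- The dimension of a space is bounded by that of the base plus the transcendence bound. -/
theorem dim_le_dim_add (f : X ⟶ Y) (hY : AlgSp.IsLocNoethSp Y.obj)
    (hf : AlgSp.LocP @LocallyOfFiniteType f.hom) (E : Cardinal.{u})
    (hE : ∀ ξ : AlgSp.Points X.obj, AlgSp.HasAt (fun U u => ringKrullDim ↥(U.presheaf.stalk u) = 0) X.obj ξ →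
      ∀ s : Cardinal.{u}, AlgSp.HasAtMor (fun _ _ h u => Dual3.resTrdeg h u = s) f.hom ξ → s ≤ E) :
    AlgSp.dim X.obj ≤ AlgSp.dim Y.obj + ((Cardinal.toENat E : ℕ∞) : WithBot ℕ∞) := by
  refine iSup_le fun U => iSup_le fun a => iSup_le fun ha => ?_
  rw [topologicalKrullDim_eq_iSup]
  refine iSup_le fun u => ?_
  obtain ⟨V, b, v, hb, hv⟩ := exists_chart Y (AlgSp.Points.map f.hom (AlgSp.Points.ofPt a u))
  obtain ⟨R, p, h, r, hpa, hp, hw, hr, hr'⟩ := exists_diagram_over f ha u hb hv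
  have key := dim_stalk_add_resTrdeg_le_chart f hY hf hpa hb hw r E (fun ξ _ => hE ξ)
  rw [← hr, ← ringKrullDim_stalk_eq_coheight, ringKrullDim_stalk_eq p.left r]
  refine (le_trans (le_add_of_nonneg_right ?_) key).trans ?_
  · exact WithBot.coe_le_coe.2 bot_le
  · gcongr
    refine le_trans ?_ (le_iSup_of_le V (le_iSup_of_le b (le_iSup_of_le hb le_rfl)))
    rw [topologicalKrullDim_eq_iSup, ringKrullDim_stalk_eq_coheight]
    exact le_iSup (fun x : ↥V.left => (coheight x : WithBot ℕ∞)) (h.left r)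

end Groth.Agent.AlgSpD
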