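import Groth.Agent.AlgSpD.EtaleTop
import Mathlib.Topology.Sober

/-!
# Dimension along maps lifting generizations without specializations in fibres
-/

universe u v

open AlgebraicGeometry TopologicalSpace Order Topology

namespace Groth.Agent.AlgSpD

/-- The closure of a point as an irreducible closed set. -/
def pointClosure {P : Type*} [TopologicalSpace P] (x : P) : IrreducibleCloseds P :=
  ⟨closure {x}, isIrreducible_singleton.closure, isClosed_closure⟩

variable {U : Scheme.{u}} {P : Type v} [TopologicalSpace P] [T0Space P] [QuasiSober P] (a : ↥U → P)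
  (hc : Continuous a) (hlift : ∀ (u : ↥U) (ξ : P), ξ ⤳ a u → ∃ v, v ⤳ u ∧ a v = ξ)
  (hspec : ∀ u v : ↥U, a u = a v → v ⤳ u → u = v)

include hc hspec in
omit [QuasiSober P] in
theorem strictMono_pointClosure : StrictMono fun u => pointClosure (a u) := by
  intro u v huv
  have h : v ⤳ u := huv.le
  have hm : a v ⤳ a u := h.map hc
  refine lt_iff_le_not_ge.2 ⟨specializes_iff_closure_subset.1 hm, fun h2 => huv.not_ge ?_⟩
  have h2' : a u ⤳ a v := specializes_iff_closure_subset.2 h2
  rw [hspec u v (h2'.antisymm hm).eq h]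

include hc hlift hspec in
theorem coheight_pointClosure (u : ↥U) : coheight (pointClosure (a u)) = coheight u := by
  refine le_antisymm ?_ (coheight_le_coheight_apply_of_strictMono _ (strictMono_pointClosure a hc hspec) u)
  have key : ∀ (n : ℕ) (u : ↥U) (q : LTSeries (IrreducibleCloseds P)), q.length = n →
      q.head = pointClosure (a u) → (n : ℕ∞) ≤ coheight u := by
    intro n
    induction n with
    | zero => intros; simp
    | succ n ih =>
      intro u q hn hq
      have h0 : q.length ≠ 0 := by omega
      let q' := q.tail h0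
      have hlt : pointClosure (a u) < q'.head := by
        rw [← hq, RelSeries.head_tail]
        exact q.strictMono (by
          rw [Fin.lt_def]
          simp only [Fin.val_zero, Fin.val_one', Nat.mod_eq_of_lt (show 1 < q.length + 1 by omega)]
          omega)
      obtain ⟨ξ, hξ⟩ := QuasiSober.sober q'.head.2 q'.head.3
      obtain ⟨v, hv, hav⟩ := hlift u ξ (hξ.specializes (hlt.le (subset_closure rfl)))
      have he : pointClosure (a v) = q'.head := IrreducibleCloseds.ext (by rw [hav]; exact hξ.def)
      have hlt' : u < v := lt_iff_le_not_ge.2 ⟨hv, fun h => hlt.not_ge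
        (he ▸ specializes_iff_closure_subset.1 ((show u ⤳ v from h).map hc))⟩
      have := ih v q' (by simp [q', hn]) he.symm
      push_cast
      exact le_trans (by gcongr) (coheight_add_one_le hlt')
  exact coheight_le fun q hq => key _ u q rfl hq

include hc hlift hspec in
theorem topologicalKrullDim_eq_of_lift (hs : Function.Surjective a) :
    topologicalKrullDim P = topologicalKrullDim ↥U := by
  rw [topologicalKrullDim_eq_iSup, topologicalKrullDim, krullDim_eq_iSup_coheight]
  refine le_antisymm (iSup_le fun T => ?_) (iSup_le fun u => ?_)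
  · obtain ⟨ξ, hξ⟩ := QuasiSober.sober T.2 T.3
    obtain ⟨u, rfl⟩ := hs ξ
    rw [show T = pointClosure (a u) from IrreducibleCloseds.ext hξ.def.symm,
      coheight_pointClosure a hc hlift hspec]
    exact le_iSup (fun u : ↥U => (coheight u : WithBot ℕ∞)) u
  · rw [← coheight_pointClosure a hc hlift hspec u]
    exact le_iSup (fun T : IrreducibleCloseds P => (coheight T : WithBot ℕ∞)) (pointClosure (a u))

/-- A finite fibre meeting every neighbourhood contains a generization. -/
theorem exists_specializes_of_isOpenMap {Z Q : Type*} [TopologicalSpace Z] [TopologicalSpace Q] (a : Z → Q)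
    (ho : IsOpenMap a) (u : Z) (ξ : Q) (hfin : (a ⁻¹' {ξ}).Finite) (h : ξ ⤳ a u) :
    ∃ v, v ⤳ u ∧ a v = ξ := by
  by_contra hno
  push Not at hno
  have hO : ∀ v ∈ a ⁻¹' {ξ}, ∃ O : Set Z, IsOpen O ∧ u ∈ O ∧ v ∉ O := fun v hv => by
    by_contra hh
    push Not at hh
    exact hno v (specializes_iff_forall_open.2 hh) hv
  choose O hO1 hO2 hO3 using hO
  have hopen : IsOpen (⋂ v : a ⁻¹' {ξ}, O v.1 v.2) :=
    have := hfin.to_subtype; isOpen_iInter_of_finite fun v => hO1 v.1 v.2
  obtain ⟨v, hv, hva⟩ : ξ ∈ a '' ⋂ v : a ⁻¹' {ξ}, O v.1 v.2 :=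
    specializes_iff_forall_open.1 h _ (ho _ hopen) ⟨u, Set.mem_iInter.2 fun v => hO2 v.1 v.2, rfl⟩
  exact hO3 v hva (Set.mem_iInter.1 hv ⟨v, hva⟩)

end Groth.Agent.AlgSpD
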