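import Groth.Agent.AlgSpD.StalkPoint
import Groth.Agent.AlgSpCov.LocP
import Groth.Agent.EtaleSite.PointClassify
import Mathlib.CategoryTheory.Sites.Point.OfIsCofiltered
import Mathlib.CategoryTheory.Functor.TypeValuedFlat
import Mathlib.CategoryTheory.Sites.Point.Over

/-!
# The points of the small etale site of an algebraic space are geometric
-/

universe u

open CategoryTheory CategoryTheory.Limits AlgebraicGeometry Opposite

set_option backward.isDefEq.respectTransparency false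
set_option autoImplicit false

namespace Groth.Agent.AlgSpD.EtPointClassify

open Groth.Agent CategoryTheory.GrothendieckTopology.Point

variable {S : Scheme.{u}} {X : AlgSp.Space S} (P : GrothendieckTopology.Point.{u} (AlgSp.etTop X.obj))
  (e₀ : P.fiber.Elements)

/-- The scheme of an object of the site. -/
abbrev sch (E : AlgSp.EtOver X.obj) : Scheme.{u} := E.obj.left.left

/-- A morphism of the site as an etale scheme over the target. -/
abbrev etaleOf {E M : AlgSp.EtOver X.obj} (g : M ⟶ E) : (sch E).Etale :=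
  have := AlgSp.EtOver.etale_left g
  Scheme.Etale.mk g.hom.left.left

/-- An etale scheme over an object as an object of the site. -/
noncomputable abbrev toEt (E : AlgSp.EtOver X.obj) : (sch E).Etale ⥤ AlgSp.EtOver X.obj :=
  AlgSp.EtOver.ofChart E.obj.hom E.property

/-- Its projection. -/
noncomputable abbrev projE (E : AlgSp.EtOver X.obj) (V : (sch E).Etale) : (toEt E).obj V ⟶ E :=
  AlgSp.EtOver.homMk (AlgSp.EtOver.homOfEtale V) rfl

/-- The elements over `e₀` read in the small etale site of its scheme. -/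
def sliceFun : Over e₀ ⥤ (sch e₀.1).Etale where
  obj u := etaleOf u.hom.1
  map k := MorphismProperty.Over.homMk k.left.1.hom.left.left
    (congrArg (fun r => r.1.hom.left.left) (Over.w k)) trivial
  map_id u := MorphismProperty.Over.Hom.ext rfl
  map_comp f g := MorphismProperty.Over.Hom.ext rfl

instance : IsCofiltered (Over e₀) :=
  IsCofiltered.of_equivalence (FunctorToTypes.fromOverFunctorElementsEquivalence P.fiber e₀.2)

instance : InitiallySmall.{u} (Over e₀) :=
  have : InitiallySmall.{u} (FunctorToTypes.fromOverFunctor P.fiber e₀.2).Elements :=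
    (P.over e₀.2).initiallySmall
  initiallySmall_of_initial_of_initiallySmall
    (FunctorToTypes.fromOverFunctorElementsEquivalence P.fiber e₀.2).functor

/-- Covering sieves of the small etale site are jointly surjective. -/
theorem exists_of_mem {U : Scheme.{u}} {V : U.Etale} (R : Sieve V) (hR : R ∈ U.smallEtaleTopology V) (v : ↥V.left) :
    ∃ (V' : U.Etale) (g : V' ⟶ V) (v' : ↥V'.left), R g ∧ g.left v' = v := by
  obtain ⟨ι, Z, f, rfl⟩ := R.exists_eq_ofArrows
  rw [Scheme.ofArrows_mem_smallEtaleTopology_iff] at hR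
  obtain ⟨i, v', hv'⟩ : ∃ i, v ∈ Set.range (f i).left := Set.mem_iUnion.1 (hR ▸ Set.mem_univ v)
  exact ⟨Z i, f i, v', Sieve.ofArrows_mk _ _ i, hv'⟩

/-- The point of the scheme of `e₀` induced by `P`. -/
noncomputable def slicePoint : GrothendieckTopology.Point.{u} (sch e₀.1).smallEtaleTopology :=
  GrothendieckTopology.Point.ofIsCofiltered.{u} (sliceFun P e₀) (J := (sch e₀.1).smallEtaleTopology) (by
    intro V R hR u f
    let T : AlgSp.EtOver X.obj := u.left.1
    let g₀ : T ⟶ e₀.1 := u.hom.1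
    have hR' := ((sch e₀.1).smallEtaleTopology).pullback_stable f hR
    let R' : Sieve T :=
      { arrows := fun T' k => (R.pullback f) (MorphismProperty.Over.homMk k.hom.left.left rfl trivial :
          etaleOf (k ≫ g₀) ⟶ etaleOf g₀)
        downward_closed := by
          intro T' T'' k hk l
          have := Sieve.downward_closed _ hk (MorphismProperty.Over.homMk l.hom.left.left rfl trivial :
            etaleOf ((l ≫ k) ≫ g₀) ⟶ etaleOf (k ≫ g₀))
          exact this }
    have hR'' : R' ∈ AlgSp.etTop X.obj T := by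
      rw [mem_etTop_iff]
      intro t
      obtain ⟨V', g, v', hg, hv'⟩ := exists_of_mem _ hR' t
      have hw : g.left ≫ g₀.hom.left.left = V'.hom := MorphismProperty.Over.w g
      let gO : Over.mk (g.left ≫ T.obj.left.hom) ⟶ T.obj.left := Over.homMk g.left rfl
      have : Etale g.left := by
        have : Etale (g.left ≫ g₀.hom.left.left) := by rw [hw]; exact V'.prop
        have : Etale g₀.hom.left.left := AlgSp.EtOver.etale_left g₀
        exact Etale.of_comp g.left g₀.hom.left.left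
      let T' : AlgSp.EtOver X.obj := AlgSp.EtOver.mk ((AlgSp.yon S).map gO ≫ T.obj.hom)
        (AlgSpCov.repWith_comp ((AlgSp.repWith_yon_map_iff _ gO).2 ‹Etale g.left›) T.property)
      let k : T' ⟶ T := AlgSp.EtOver.homMk gO rfl
      refine ⟨T', k, ?_, v', hv'⟩
      let m : etaleOf (k ≫ g₀) ⟶ V' := MorphismProperty.Over.homMk (𝟙 _) (by
        change 𝟙 _ ≫ V'.hom = g.left ≫ g₀.hom.left.left
        rw [hw, Category.id_comp]) trivial
      show (R.pullback f) _
      have e : (MorphismProperty.Over.homMk k.hom.left.left rfl trivial : etaleOf (k ≫ g₀) ⟶ etaleOf g₀) = m ≫ g :=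
        MorphismProperty.Over.Hom.ext (Category.id_comp _).symm
      rw [e]
      exact Sieve.downward_closed _ hg m
    obtain ⟨T', k, hk, y, hy⟩ := P.jointly_surjective R' hR'' u.left.2
    let kE : (P.fiber.elementsMk T' y) ⟶ u.left := CategoryOfElements.homMk _ _ k hy
    let q : Over.mk (kE ≫ u.hom) ⟶ u := Over.homMk kE rfl
    exact ⟨_, _, hk, Over.mk (kE ≫ u.hom), q, 𝟙 _, Category.id_comp _⟩)

/-- Lifts from an algebraically closed field over a separably closed one come from the smaller field. -/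
theorem exists_descend {W U : Scheme.{u}} (f : W ⟶ U) [Etale f] {Ω K : Type u} [Field Ω] [IsSepClosed Ω]
    [Field K] (c : Spec (CommRingCat.of K) ⟶ Spec (CommRingCat.of Ω)) (ξ : Spec (CommRingCat.of Ω) ⟶ U)
    (l : Spec (CommRingCat.of K) ⟶ W) (h : l ≫ f = c ≫ ξ) :
    ∃ l₀ : Spec (CommRingCat.of Ω) ⟶ W, l₀ ≫ f = ξ ∧ c ≫ l₀ = l := by
  let z : Spec (CommRingCat.of K) ⟶ pullback f ξ := pullback.lift l c h
  let o : ↥(Spec (CommRingCat.of K)) := IsLocalRing.closedPoint K
  obtain ⟨σ, hσ, hσw⟩ := Scheme.exists_fac_of_etale_of_isSepClosed (pullback.snd f ξ) (𝟙 _) (z o)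
    (Subsingleton.elim (α := ↥(Spec (CommRingCat.of Ω))) _ _)
  have := EtaleSite.isOpenImmersion_of_section _ σ hσ
  have hr : Set.range z ⊆ Set.range σ := by
    rintro _ ⟨a, rfl⟩
    exact ⟨default, by rw [hσw, Subsingleton.elim (α := ↥(Spec (CommRingCat.of K))) a o]⟩
  have hz := IsOpenImmersion.lift_fac σ z hr
  have hc : IsOpenImmersion.lift σ z hr = c := by
    have h1 := congrArg (· ≫ pullback.snd f ξ) hz
    simp only [Category.assoc, hσ, z, pullback.lift_snd] at h1
    exact (Category.comp_id _).symm.trans h1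
  refine ⟨σ ≫ pullback.fst f ξ, ?_, ?_⟩
  · rw [Category.assoc, pullback.condition, reassoc_of% hσ]
  · rw [← Category.assoc, ← hc, hz, pullback.lift_fst]

/-- The tautological element over an element above `e₀`. -/
noncomputable def el (u : Over e₀) : (slicePoint P e₀).fiber.obj ((sliceFun P e₀).obj u) :=
  ofIsCofiltered.fiberMk.{u} (p := sliceFun P e₀) (U := u) (𝟙 _)

theorem map_el {u : Over e₀} {V : (sch e₀.1).Etale} (a : (sliceFun P e₀).obj u ⟶ V) :
    (slicePoint P e₀).fiber.map a (el P e₀ u) = ofIsCofiltered.fiberMk.{u} (p := sliceFun P e₀) a := by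
  show (ofIsCofiltered.fiber.{u} (sliceFun P e₀)).map _ (ofIsCofiltered.fiberMk.{u} _) = _
  rw [ofIsCofiltered.fiber_map_fiberMk, Category.id_comp]

theorem map_map_el {u' u : Over e₀} (k : u' ⟶ u) :
    (slicePoint P e₀).fiber.map ((sliceFun P e₀).map k) (el P e₀ u') = el P e₀ u := by
  rw [map_el]
  exact ofIsCofiltered.fiberMk_map.{u} (sliceFun P e₀) k

theorem exists_el_map {V : (sch e₀.1).Etale} (q : (slicePoint P e₀).fiber.obj V) :
    ∃ (u : Over e₀) (a : (sliceFun P e₀).obj u ⟶ V), (slicePoint P e₀).fiber.map a (el P e₀ u) = q := by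
  obtain ⟨u, a, rfl⟩ := ofIsCofiltered.fiberMk_jointly_surjective.{u} (p := sliceFun P e₀) q
  exact ⟨u, a, map_el P e₀ a⟩

theorem exists_of_map_el_eq {u u' : Over e₀} {V : (sch e₀.1).Etale} (a : (sliceFun P e₀).obj u ⟶ V)
    (a' : (sliceFun P e₀).obj u' ⟶ V)
    (h : (slicePoint P e₀).fiber.map a (el P e₀ u) = (slicePoint P e₀).fiber.map a' (el P e₀ u')) :
    ∃ (v : Over e₀) (r : v ⟶ u) (r' : v ⟶ u'),
      (sliceFun P e₀).map r ≫ a = (sliceFun P e₀).map r' ≫ a' := by
  rw [map_el, map_el, ← ofIsCofiltered.fiberMk_map_comp.{u} (p := sliceFun P e₀) (IsCofiltered.minToLeft u u'),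
    ← ofIsCofiltered.fiberMk_map_comp.{u} (p := sliceFun P e₀) (IsCofiltered.minToRight u u')] at h
  obtain ⟨v, g, hg⟩ := ofIsCofiltered.exists_of_fiberMk_eq_fiberMk.{u} h
  exact ⟨v, g ≫ IsCofiltered.minToLeft u u', g ≫ IsCofiltered.minToRight u u',
    by rw [Functor.map_comp, Functor.map_comp, Category.assoc, Category.assoc, hg]⟩

variable {Ω K : Type u} [Field Ω] [IsSepClosed Ω] [Field K] {ξ : Spec (CommRingCat.of Ω) ⟶ sch e₀.1}
  (η : (slicePoint P e₀).fiber ≅ (Scheme.pointSmallEtale ξ).fiber)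
  (c : Spec (CommRingCat.of K) ⟶ Spec (CommRingCat.of Ω))

/-- The geometric lift to an element above `e₀`. -/
noncomputable def lift (u : Over e₀) : Over.mk ξ ⟶ (Scheme.Etale.forget (sch e₀.1)).obj ((sliceFun P e₀).obj u) :=
  η.hom.app _ (el P e₀ u)

theorem lift_w (u : Over e₀) : (lift P e₀ η u).left ≫ u.hom.1.hom.left.left = ξ :=
  Over.w (lift P e₀ η u)

theorem lift_comp {u : Over e₀} {V : (sch e₀.1).Etale} (a : (sliceFun P e₀).obj u ⟶ V)
    {q : (slicePoint P e₀).fiber.obj V} (h : (slicePoint P e₀).fiber.map a (el P e₀ u) = q) :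
    (lift P e₀ η u).left ≫ a.left = (η.hom.app V q : Over.mk ξ ⟶ _).left := by
  subst h
  exact (congrArg (fun r => r.left) (ConcreteCategory.congr_hom (η.hom.naturality a) (el P e₀ u))).symm

theorem lift_natural {u' u : Over e₀} (k : u' ⟶ u) :
    (lift P e₀ η u').left ≫ k.left.1.hom.left.left = (lift P e₀ η u).left :=
  lift_comp P e₀ η ((sliceFun P e₀).map k) (map_map_el P e₀ k)

/-- The geometric point over `e₀`. -/
noncomputable abbrev baseHom (_η : (slicePoint P e₀).fiber ≅ (Scheme.pointSmallEtale ξ).fiber) :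
    Over.mk ((c ≫ ξ) ≫ e₀.1.obj.left.hom) ⟶ e₀.1.obj.left := Over.homMk (c ≫ ξ) rfl

/-- The field-valued point. -/
noncomputable def geomPt : AlgSp.FieldPt X.obj :=
  { K := K, str := (c ≫ ξ) ≫ e₀.1.obj.left.hom,
    val := (AlgSp.J S).uliftYonedaEquiv ((AlgSp.yon S).map (baseHom P e₀ c η) ≫ e₀.1.obj.hom) }

theorem geomPt_toHom : (geomPt P e₀ η c).toHom = (AlgSp.yon S).map (baseHom P e₀ c η) ≫ e₀.1.obj.hom :=
  (AlgSp.J S).uliftYonedaEquiv.symm_apply_apply _

/-- The lifted point at an element above `e₀`. -/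
noncomputable def sO (u : Over e₀) : (geomPt P e₀ η c).pt ⟶ u.left.1.obj.left :=
  Over.homMk (c ≫ (lift P e₀ η u).left) (by
    change (c ≫ (lift P e₀ η u).left) ≫ u.left.1.obj.left.hom = (c ≫ ξ) ≫ e₀.1.obj.left.hom
    rw [Category.assoc, Category.assoc]
    refine congrArg (c ≫ ·) ?_
    refine ((congrArg (_ ≫ ·) (Over.w u.hom.1.hom.left).symm).trans (Category.assoc _ _ _).symm).trans ?_
    exact congrArg (· ≫ e₀.1.obj.left.hom) (lift_w P e₀ η u))

theorem sO_comp (u : Over e₀) : sO P e₀ η c u ≫ u.hom.1.hom.left = baseHom P e₀ c η :=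
  Over.OverMorphism.ext ((Category.assoc _ _ _).trans (congrArg (c ≫ ·) (lift_w P e₀ η u)))

/-- The lift as an element of the fibre functor of the geometric point. -/
noncomputable def L (u : Over e₀) : (AlgSp.FieldPt.liftsTo (geomPt P e₀ η c)).obj u.left.1 :=
  ⟨sO P e₀ η c u, by rw [geomPt_toHom, ← sO_comp P e₀ η c u, Functor.map_comp, Category.assoc, AlgSp.EtOver.w]⟩

theorem L_natural {u' u : Over e₀} (k : u' ⟶ u) {F : AlgSp.EtOver X.obj} (g : u.left.1 ⟶ F) :
    (AlgSp.FieldPt.liftsTo (geomPt P e₀ η c)).map (k.left.1 ≫ g) (L P e₀ η c u') =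
      (AlgSp.FieldPt.liftsTo (geomPt P e₀ η c)).map g (L P e₀ η c u) := by
  refine Subtype.ext (Over.OverMorphism.ext ?_)
  show (c ≫ (lift P e₀ η u').left) ≫ k.left.1.hom.left.left ≫ g.hom.left.left =
    (c ≫ (lift P e₀ η u).left) ≫ g.hom.left.left
  rw [← lift_natural P e₀ η k]
  simp only [Category.assoc]

theorem exists_above (z : P.fiber.Elements) : ∃ u : Over e₀, Nonempty (u.left ⟶ z) :=
  ⟨Over.mk (IsCofiltered.minToLeft e₀ z), ⟨IsCofiltered.minToRight e₀ z⟩⟩

/-- Any two ways of computing the comparison map agree. -/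
theorem L_map_eq (z : P.fiber.Elements) {u u' : Over e₀} (k : u.left ⟶ z) (k' : u'.left ⟶ z) :
    (AlgSp.FieldPt.liftsTo (geomPt P e₀ η c)).map k.1 (L P e₀ η c u) =
      (AlgSp.FieldPt.liftsTo (geomPt P e₀ η c)).map k'.1 (L P e₀ η c u') := by
  let u₃ := IsCofiltered.min u u'
  let r₁ : u₃ ⟶ u := IsCofiltered.minToLeft _ _
  let r₂ : u₃ ⟶ u' := IsCofiltered.minToRight _ _
  let hh := IsCofiltered.eqHom (r₁.left ≫ k) (r₂.left ≫ k')
  let u₄ : Over e₀ := Over.mk (hh ≫ u₃.hom)
  let r₃ : u₄ ⟶ u₃ := Over.homMk hh rfl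
  have he : (r₃ ≫ r₁).left ≫ k = (r₃ ≫ r₂).left ≫ k' := by
    show (hh ≫ r₁.left) ≫ k = (hh ≫ r₂.left) ≫ k'
    rw [Category.assoc, Category.assoc]
    exact IsCofiltered.eq_condition _ _
  have h₁ := L_natural P e₀ η c (r₃ ≫ r₁) k.1
  have h₂ := L_natural P e₀ η c (r₃ ≫ r₂) k'.1
  have he' : (r₃ ≫ r₁).left.1 ≫ k.1 = (r₃ ≫ r₂).left.1 ≫ k'.1 := congrArg Subtype.val he
  rw [he'] at h₁
  exact h₁.symm.trans h₂

/-- The comparison map. -/
noncomputable def θ (F : AlgSp.EtOver X.obj) (y : P.fiber.obj F) :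
    (AlgSp.FieldPt.liftsTo (geomPt P e₀ η c)).obj F :=
  (AlgSp.FieldPt.liftsTo (geomPt P e₀ η c)).map (exists_above P e₀ (P.fiber.elementsMk F y)).choose_spec.some.1
    (L P e₀ η c (exists_above P e₀ (P.fiber.elementsMk F y)).choose)

theorem θ_eq {F : AlgSp.EtOver X.obj} {y : P.fiber.obj F} {u : Over e₀}
    (k : u.left ⟶ P.fiber.elementsMk F y) :
    θ P e₀ η c F y = (AlgSp.FieldPt.liftsTo (geomPt P e₀ η c)).map k.1 (L P e₀ η c u) :=
  L_map_eq P e₀ η c _ _ k

theorem θ_natural {F G : AlgSp.EtOver X.obj} (f : F ⟶ G) (y : P.fiber.obj F) :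
    (AlgSp.FieldPt.liftsTo (geomPt P e₀ η c)).map f (θ P e₀ η c F y) = θ P e₀ η c G (P.fiber.map f y) := by
  obtain ⟨u, ⟨k⟩⟩ := exists_above P e₀ (P.fiber.elementsMk F y)
  let mf : P.fiber.elementsMk F y ⟶ P.fiber.elementsMk G (P.fiber.map f y) := CategoryOfElements.homMk _ _ f rfl
  rw [θ_eq P e₀ η c k, θ_eq P e₀ η c (k ≫ mf)]
  exact (ConcreteCategory.congr_hom ((AlgSp.FieldPt.liftsTo (geomPt P e₀ η c)).map_comp k.1 f) _).symm

/-- Morphisms agreeing at a geometric point agree near it. -/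
theorem exists_equalizer_open {M F : AlgSp.EtOver X.obj} (k₁ k₂ : M ⟶ F) {T : Over S}
    (s : T ⟶ M.obj.left) (hs : s ≫ k₁.hom.left = s ≫ k₂.hom.left) (t : ↥T.left) :
    ∃ O : (sch M).Opens, s.left t ∈ O ∧ ∀ {N : AlgSp.EtOver X.obj} (m : N ⟶ M),
      (∀ x, m.hom.left.left x ∈ O) → m ≫ k₁ = m ≫ k₂ := by
  obtain ⟨R, f, g, sq⟩ := AlgSpB.exists_pullback_yon (X.property.representable_from_yon F.obj.hom) F.obj.hom
  have hf : Etale f.left := F.property.2 _ _ _ sq.flip
  obtain ⟨Λ, hΛ⟩ := (AlgSp.yon S).map_surjective (sq.lift ((AlgSp.yon S).map k₁.hom.left)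
    ((AlgSp.yon S).map k₂.hom.left) ((AlgSp.EtOver.w k₁).trans (AlgSp.EtOver.w k₂).symm))
  obtain ⟨δ, hδ⟩ := (AlgSp.yon S).map_surjective (sq.lift (𝟙 _) (𝟙 _) rfl)
  have hΛ1 : Λ ≫ f = k₁.hom.left := (AlgSp.yon S).map_injective (by rw [Functor.map_comp, hΛ, sq.lift_fst])
  have hΛ2 : Λ ≫ g = k₂.hom.left := (AlgSp.yon S).map_injective (by rw [Functor.map_comp, hΛ, sq.lift_snd])
  have hδ1 : δ ≫ f = 𝟙 _ := (AlgSp.yon S).map_injective (by
    rw [Functor.map_comp, hδ, sq.lift_fst, CategoryTheory.Functor.map_id])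
  have hδ2 : δ ≫ g = 𝟙 _ := (AlgSp.yon S).map_injective (by
    rw [Functor.map_comp, hδ, sq.lift_snd, CategoryTheory.Functor.map_id])
  have hopen : IsOpenImmersion δ.left :=
    EtaleSite.isOpenImmersion_of_section f.left δ.left (congrArg (fun r => r.left) hδ1)
  have hs' : s ≫ Λ = (s ≫ k₁.hom.left) ≫ δ := (AlgSp.yon S).map_injective (sq.hom_ext
    (by rw [← Functor.map_comp, ← Functor.map_comp, Category.assoc, Category.assoc, hΛ1, hδ1, Category.comp_id])
    (by rw [← Functor.map_comp, ← Functor.map_comp, Category.assoc, Category.assoc, hΛ2, hδ2, Category.comp_id, hs]))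
  refine ⟨Λ.left ⁻¹ᵁ δ.left.opensRange, ⟨(s ≫ k₁.hom.left).left t,
    (congrArg (fun r : T ⟶ R => r.left t) hs').symm⟩, fun {N} m hm => ?_⟩
  have hr : Set.range (m.hom.left ≫ Λ).left ⊆ Set.range δ.left := by
    rintro _ ⟨x, rfl⟩
    exact hm x
  let l : N.obj.left ⟶ F.obj.left := Over.homMk (IsOpenImmersion.lift δ.left _ hr) (by
    rw [← Over.w δ, ← Category.assoc, IsOpenImmersion.lift_fac, Over.w])
  have hl : m.hom.left ≫ Λ = l ≫ δ := Over.OverMorphism.ext (IsOpenImmersion.lift_fac _ _ _).symm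
  apply AlgSp.EtOver.hom_ext
  show m.hom.left ≫ k₁.hom.left = m.hom.left ≫ k₂.hom.left
  rw [← hΛ1, ← hΛ2, ← Category.assoc, ← Category.assoc, hl, Category.assoc, Category.assoc, hδ1, hδ2]

/-- An element lifts to any open around its geometric point. -/
theorem exists_piece {U : (sch e₀.1).Etale} (O : U.left.Opens) (q : (slicePoint P e₀).fiber.obj U)
    (ho : ∀ o, (η.hom.app U q : Over.mk ξ ⟶ _).left o ∈ O) :
    ∃ (v : Over e₀) (a : (sliceFun P e₀).obj v ⟶ U), (slicePoint P e₀).fiber.map a (el P e₀ v) = q ∧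
      ∀ x, a.left x ∈ O := by
  let φ : Over.mk ξ ⟶ (Scheme.Etale.forget (sch e₀.1)).obj U := η.hom.app U q
  have hr : Set.range φ.left ⊆ Set.range O.ι := by
    rintro _ ⟨o, rfl⟩
    erw [Scheme.Opens.range_ι]
    exact ho o
  let ψ : Over.mk ξ ⟶ (Scheme.Etale.forget (sch e₀.1)).obj (EtaleSite.piece U O) := Over.homMk
    (IsOpenImmersion.lift (X := (O : Scheme.{u})) (Z := U.left) O.ι φ.left hr)
    ((Category.assoc _ _ _).symm.trans ((congrArg (· ≫ U.hom)
      (IsOpenImmersion.lift_fac (X := (O : Scheme.{u})) (Z := U.left) O.ι φ.left hr)).trans (Over.w φ)))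
  obtain ⟨v, a, ha⟩ := exists_el_map P e₀ (η.inv.app _ ψ)
  refine ⟨v, a ≫ EtaleSite.pieceHom U O, ?_, fun x => (a.left x).2⟩
  rw [Functor.map_comp, types_comp_apply, ha]
  apply (η.app _).toEquiv.injective
  show η.hom.app _ _ = φ
  refine (ConcreteCategory.congr_hom (η.hom.naturality (EtaleSite.pieceHom U O)) (η.inv.app _ ψ)).trans ?_
  show (Scheme.pointSmallEtale ξ).fiber.map _ (η.hom.app _ (η.inv.app _ ψ)) = _
  rw [show η.hom.app _ (η.inv.app _ ψ) = ψ from ConcreteCategory.congr_hom (η.inv_hom_id_app _) ψ]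
  exact Over.OverMorphism.ext (IsOpenImmersion.lift_fac (X := (O : Scheme.{u})) (Z := U.left) O.ι φ.left hr)

theorem θ_injective (F : AlgSp.EtOver X.obj) : Function.Injective (θ P e₀ η c F) := by
  intro y₁ y₂ he
  obtain ⟨u, ⟨k⟩⟩ := exists_above P e₀ (IsCofiltered.min (P.fiber.elementsMk F y₁) (P.fiber.elementsMk F y₂))
  let k₁ : u.left ⟶ P.fiber.elementsMk F y₁ := k ≫ IsCofiltered.minToLeft _ _
  let k₂ : u.left ⟶ P.fiber.elementsMk F y₂ := k ≫ IsCofiltered.minToRight _ _
  have he' : sO P e₀ η c u ≫ k₁.1.hom.left = sO P e₀ η c u ≫ k₂.1.hom.left :=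
    congrArg Subtype.val ((θ_eq P e₀ η c k₁).symm.trans (he.trans (θ_eq P e₀ η c k₂)))
  obtain ⟨O, ho, hO⟩ := exists_equalizer_open k₁.1 k₂.1 (sO P e₀ η c u) he' (IsLocalRing.closedPoint K)
  obtain ⟨v₀, a, ha, haO⟩ := exists_piece P e₀ η (U := (sliceFun P e₀).obj u) O (el P e₀ u) (fun o => by
    have : o = c (IsLocalRing.closedPoint K) := Subsingleton.elim (α := ↥(Spec (CommRingCat.of Ω))) _ _
    rw [this]
    exact ho)
  have hid : (slicePoint P e₀).fiber.map (𝟙 _) (el P e₀ u) = el P e₀ u :=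
    ConcreteCategory.congr_hom ((slicePoint P e₀).fiber.map_id _) _
  obtain ⟨v, r, r', hv⟩ := exists_of_map_el_eq P e₀ a (𝟙 _) (ha.trans hid.symm)
  have hv' : r.left.1.hom.left.left ≫ a.left = r'.left.1.hom.left.left :=
    (congrArg (fun r => r.left) hv).trans (Category.comp_id _)
  have hmk := hO r'.left.1 fun x => by
    rw [← hv', Scheme.Hom.comp_apply]
    exact haO _
  have e1 : P.fiber.map (r'.left.1 ≫ k₁.1) v.left.2 = y₁ := (r'.left ≫ k₁).2
  have e2 : P.fiber.map (r'.left.1 ≫ k₂.1) v.left.2 = y₂ := (r'.left ≫ k₂).2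
  rw [← e1, ← e2, hmk]

theorem θ_surjective (F : AlgSp.EtOver X.obj) : Function.Surjective (θ P e₀ η c F) := by
  intro t
  obtain ⟨R, f, g, sq⟩ := AlgSpB.exists_pullback_yon (X.property.representable_from_yon e₀.1.obj.hom) F.obj.hom
  have hf : Etale f.left := F.property.2 _ _ _ sq.flip
  obtain ⟨l, hl⟩ := (AlgSp.yon S).map_surjective (sq.lift ((AlgSp.yon S).map (baseHom P e₀ c η))
    ((AlgSp.yon S).map t.1) ((geomPt_toHom P e₀ η c).symm.trans t.2.symm))
  have hl1 : l ≫ f = baseHom P e₀ c η := (AlgSp.yon S).map_injective (by rw [Functor.map_comp, hl, sq.lift_fst])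
  have hl2 : l ≫ g = t.1 := (AlgSp.yon S).map_injective (by rw [Functor.map_comp, hl, sq.lift_snd])
  obtain ⟨l₀, hl₀, hcl⟩ := exists_descend f.left c ξ l.left (congrArg (fun r => r.left) hl1)
  let V : (sch e₀.1).Etale := Scheme.Etale.mk f.left
  let ψ : Over.mk ξ ⟶ (Scheme.Etale.forget (sch e₀.1)).obj V := Over.homMk l₀ hl₀
  obtain ⟨u, a, ha⟩ := exists_el_map P e₀ (η.inv.app V ψ)
  have hla : (lift P e₀ η u).left ≫ a.left = l₀ := by
    rw [lift_comp P e₀ η a ha, show η.hom.app V (η.inv.app V ψ) = ψ from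
      ConcreteCategory.congr_hom (η.inv_hom_id_app V) ψ]
    rfl
  have haw : a.left ≫ f.left = u.hom.1.hom.left.left := MorphismProperty.Over.w a
  let aO : u.left.1.obj.left ⟶ R := Over.homMk a.left (by
    rw [← Over.w f, ← Category.assoc, haw, Over.w u.hom.1.hom.left])
  have haO : aO ≫ f = u.hom.1.hom.left := Over.OverMorphism.ext haw
  let k : u.left.1 ⟶ F := AlgSp.EtOver.homMk (aO ≫ g) (by
    rw [Functor.map_comp, Category.assoc, ← sq.w, ← Category.assoc, ← Functor.map_comp, haO, AlgSp.EtOver.w])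
  refine ⟨P.fiber.map k u.left.2, ?_⟩
  rw [θ_eq P e₀ η c (CategoryOfElements.homMk u.left _ k rfl : u.left ⟶ P.fiber.elementsMk F (P.fiber.map k u.left.2))]
  apply Subtype.ext
  show sO P e₀ η c u ≫ aO ≫ g = t.1
  rw [← hl2, ← Category.assoc]
  congr 1
  ext1
  show (c ≫ (lift P e₀ η u).left) ≫ a.left = l.left
  rw [Category.assoc, hla, hcl]

omit e₀ in
/-- The points of the small etale site are geometric points. -/
theorem exists_geometric :
    ∃ p : AlgSp.FieldPt X.obj, p.IsGeometric ∧ Nonempty (P.fiber ≅ AlgSp.FieldPt.liftsTo p) := by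
  have : Nonempty P.fiber.Elements := IsCofiltered.nonempty
  obtain ⟨e₀⟩ := this
  obtain ⟨Ω, _, _, ξ, ⟨η⟩⟩ := EtaleSite.PointClassify.exists_geometric_point (p := slicePoint P e₀)
  let c : Spec (CommRingCat.of (AlgebraicClosure Ω)) ⟶ Spec (CommRingCat.of Ω) :=
    Spec.map (CommRingCat.ofHom (algebraMap Ω (AlgebraicClosure Ω)))
  exact ⟨geomPt P e₀ η c, AlgebraicClosure.isAlgClosed Ω,
    ⟨NatIso.ofComponents
      (fun F => (Equiv.ofBijective (θ P e₀ η c F) ⟨θ_injective P e₀ η c F, θ_surjective P e₀ η c F⟩).toIso)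
      fun {F G} f => by ext y; exact (θ_natural P e₀ η c f y).symm⟩⟩

end Groth.Agent.AlgSpD.EtPointClassify
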