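import Groth.Agent.AlgSpD.Decent
import Groth.Agent.S10343
import Groth.Agent.AlgSp.Space
import Groth.Prelude.Def_AlgSpMor5
import Groth.Prelude.Def_AlgSpDec
import Mathlib.AlgebraicGeometry.ValuativeCriterion

/-!
# Universally closed morphisms with decent fibre products satisfy the existence criterion
-/

universe u

open CategoryTheory CategoryTheory.Limits AlgebraicGeometry Opposite

set_option backward.isDefEq.respectTransparency false
set_option autoImplicit false

namespace Groth.Agent.AlgSpD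

open Groth.Agent

variable {S : Scheme.{u}}

/-- A point `r : Spec L ⟶ U` specialising to `u'` extends over a valuation ring of `L` centred at `u'`. -/
theorem exists_valuation_extension {U : Scheme.{u}} {L : Type u} [Field L] (r : Spec (CommRingCat.of L) ⟶ U)
    (u' : ↥U) (h : r (IsLocalRing.closedPoint L) ⤳ u') :
    ∃ (B : ValuationSubring L) (m : Spec (CommRingCat.of B) ⟶ U),
      Spec.map (CommRingCat.ofHom (algebraMap B L)) ≫ m = r ∧ m (IsLocalRing.closedPoint B) = u' := by
  let φ₀ : U.presheaf.stalk u' ⟶ CommRingCat.of L :=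
    U.presheaf.stalkSpecializes h ≫ Scheme.stalkClosedPointTo r
  obtain ⟨B, hB, hBl⟩ := IsLocalRing.exists_factor_valuationRing φ₀.hom
  let φ : U.presheaf.stalk u' ⟶ CommRingCat.of B := CommRingCat.ofHom (φ₀.hom.codRestrict _ hB)
  refine ⟨B, Spec.map φ ≫ U.fromSpecStalk u', ?_, ?_⟩
  · rw [← Spec.map_comp_assoc]
    have e : φ ≫ CommRingCat.ofHom (algebraMap B L) = φ₀ := rfl
    rw [e, Spec.map_comp, Category.assoc, Scheme.SpecMap_stalkSpecializes_fromSpecStalk,
      Scheme.Spec_stalkClosedPointTo_fromSpecStalk]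
  · rw [Scheme.Hom.comp_apply]
    have : Spec.map φ (IsLocalRing.closedPoint B) = IsLocalRing.closedPoint (U.presheaf.stalk u') :=
      IsLocalRing.comap_closedPoint (S := B) (φ₀.hom.codRestrict B.toSubring hB)
    rw [this, U.fromSpecStalk_closedPoint]

/-- The existence criterion for one square of a universally closed morphism with decent fibre product. -/
theorem existVC_square {X Y : AlgSp.Space S} (f : X ⟶ Y) (hc : AlgSp.IsUnivClosedMor f.hom)
    (sq : AlgSp.ValSq f.hom) (hd : AlgSp.IsDecent (pullback f.hom sq.bot)) : sq.HasLiftExt := by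
  have hT : AlgSp.IsAlgSpace ((AlgSp.yon S).obj sq.ptA) := AlgSp.IsAlgSpace.yon_obj _
  let Z : AlgSp.Space S := ⟨pullback f.hom sq.bot, AlgSp.isAlgSpace_pullback Y.property X.property hT _ _⟩
  let π : Z.obj ⟶ (AlgSp.yon S).obj sq.ptA := pullback.snd f.hom sq.bot
  let η : (AlgSp.yon S).obj sq.ptK ⟶ Z.obj := pullback.lift sq.top ((AlgSp.yon S).map sq.j) sq.comm
  let o : ↥sq.ptK.left := IsLocalRing.closedPoint sq.K
  let ξ := AlgSp.Points.ofPt η o
  have hclosed : IsClosed (AlgSp.Points.map π '' closure {ξ}) :=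
    hc hT sq.bot _ π (IsPullback.of_hasPullback _ _) _ isClosed_closure
  have hπξ : AlgSp.Points.map π ξ = AlgSp.Points.ofScheme sq.ptA (sq.j.left o) := by
    rw [AlgSp.Points.map_ofPt, pullback.lift_snd, AlgSp.Points.ofPt_eq_map_ofScheme]
    rw [← AlgSp.Points.ofPt_eq_map_ofScheme, ← Category.comp_id ((AlgSp.yon S).map sq.j), AlgSpB.ofPt_map_comp,
      AlgSp.Points.ofPt_eq_map_ofScheme, AlgSp.Points.map_id]
  -- the closed point is in the image
  let c₀ : ↥sq.ptA.left := IsLocalRing.closedPoint sq.A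
  have hmem : AlgSp.Points.ofScheme sq.ptA c₀ ∈ AlgSp.Points.map π '' closure {ξ} := by
    have h1 : AlgSp.Points.ofScheme sq.ptA (sq.j.left o) ∈ AlgSp.Points.map π '' closure {ξ} :=
      ⟨ξ, subset_closure rfl, hπξ⟩
    have h2 : sq.j.left o ⤳ c₀ := IsLocalRing.specializes_closedPoint (R := sq.A) _
    exact (h2.map (AlgSp.Points.schemeHomeo sq.ptA).continuous).mem_closed hclosed h1
  obtain ⟨x', hx', hπx'⟩ := hmem
  obtain ⟨U, a, ha, has⟩ := Z.property.atlas
  obtain ⟨u', hu'⟩ := AlgSpB.surjective_ofPt has x'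
  obtain ⟨v, hv, hav⟩ := Groth.Agent.S10343.result Z x' ξ (specializes_iff_mem_closure.2 hx')
    (hd ξ) a ha u' hu'
  -- a point of the fibre over the generic point
  obtain ⟨P, fst, snd, sqP⟩ := AlgSpB.exists_pullback_yon (Z.property.representable_from_yon a) η
  obtain ⟨z, hz1, hz2⟩ := (AlgSpB.ofPt_eq_ofPt_iff sqP v o).1 hav
  let L : Type u := P.left.residueField z
  let p : Spec (CommRingCat.of L) ⟶ P.left := P.left.fromSpecResidueField z
  have hp : p (IsLocalRing.closedPoint L) = z := Scheme.fromSpecResidueField_apply _ _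
  let r : Spec (CommRingCat.of L) ⟶ U.left := p ≫ fst.left
  obtain ⟨B, m, hm, hmu⟩ := exists_valuation_extension r u' (by
    rw [Scheme.Hom.comp_apply, hp, hz1]; exact hv)
  let g : U ⟶ sq.ptA := (AlgSp.yon S).preimage (a ≫ π)
  have hg : (AlgSp.yon S).map g = a ≫ π := Functor.map_preimage _ _
  have hgj : fst ≫ g = snd ≫ sq.j := (AlgSp.yon S).map_injective (by
    rw [Functor.map_comp, Functor.map_comp, hg, ← Category.assoc, sqP.w, Category.assoc, pullback.lift_snd])
  let φ : CommRingCat.of sq.A ⟶ CommRingCat.of B := Spec.preimage (m ≫ g.left)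
  have hφ : Spec.map φ = m ≫ g.left := Spec.map_preimage _
  let ψ : CommRingCat.of sq.K ⟶ CommRingCat.of L := Spec.preimage (p ≫ snd.left)
  have hψ : Spec.map ψ = p ≫ snd.left := Spec.map_preimage _
  have hcomm : φ ≫ CommRingCat.ofHom (algebraMap B L) = CommRingCat.ofHom (algebraMap sq.A sq.K) ≫ ψ :=
    Spec.map_injective (by
      rw [Spec.map_comp, Spec.map_comp, hφ, hψ, ← Category.assoc, hm]
      change (p ≫ fst.left) ≫ g.left = (p ≫ snd.left) ≫ sq.j.left
      rw [Category.assoc, Category.assoc, ← Over.comp_left, hgj, Over.comp_left])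
  have hloc : IsLocalHom φ.hom := by
    rw [IsLocalRing.isLocalHom_iff_comap_closedPoint]
    change Spec.map φ (IsLocalRing.closedPoint B) = c₀
    rw [hφ, Scheme.Hom.comp_apply, hmu]
    have h3 : AlgSp.Points.ofPt (a ≫ π) u' = AlgSp.Points.ofScheme sq.ptA c₀ := by
      rw [← hπx', ← hu', AlgSp.Points.map_ofPt]
    rw [← hg, ← Category.comp_id ((AlgSp.yon S).map g), AlgSpB.ofPt_map_comp,
      AlgSp.Points.ofPt_eq_map_ofScheme, AlgSp.Points.map_id] at h3
    exact (AlgSp.Points.schemeHomeo sq.ptA).injective h3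
  let e : sq.DomExt := { A' := B, K' := L, φ := φ.hom, ψ := ψ.hom,
                         comm := congrArg CommRingCat.Hom.hom hcomm, isLocalHom := hloc }
  refine ⟨e, ?_⟩
  let mO : e.ptA' ⟶ U := Over.homMk m (by
    show m ≫ U.hom = Spec.map (CommRingCat.ofHom φ.hom) ≫ sq.str
    change m ≫ U.hom = Spec.map φ ≫ sq.str
    rw [hφ, Category.assoc, ← Over.w g]; rfl)
  refine ⟨(AlgSp.yon S).map mO ≫ a ≫ pullback.fst f.hom sq.bot, ?_, ?_⟩
  · let pO : e.ptK' ⟶ P := Over.homMk p (by
      change p ≫ P.hom = Spec.map (CommRingCat.ofHom (algebraMap B L)) ≫ Spec.map φ ≫ sq.str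
      rw [← Spec.map_comp_assoc, hcomm, Spec.map_comp, Category.assoc, hψ, Category.assoc]
      show p ≫ P.hom = p ≫ snd.left ≫ sq.ptK.hom
      rw [Over.w snd])
    rw [← Functor.map_comp_assoc]
    refine Eq.trans (b := (AlgSp.yon S).map (pO ≫ fst) ≫ a ≫ pullback.fst f.hom sq.bot) ?_ ?_
    · congr 2
      ext1
      exact hm
    · rw [Functor.map_comp, Category.assoc, ← Category.assoc ((AlgSp.yon S).map fst), sqP.w, Category.assoc,
        pullback.lift_fst, ← Functor.map_comp_assoc]
      congr 2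
      ext1
      exact hψ.symm
  · rw [Category.assoc, Category.assoc, pullback.condition, ← Category.assoc a, ← hg, ← Functor.map_comp_assoc]
    congr 2
    ext1
    exact hφ.symm

/-- The existence criterion for a universally closed morphism whose pullbacks to schemes are decent. -/
theorem existVC_of_univClosed {X Y : AlgSp.Space S} (f : X ⟶ Y) (hc : AlgSp.IsUnivClosedMor f.hom)
    (hd : ∀ (T : Over S) (g : (AlgSp.yon S).obj T ⟶ Y.obj), AlgSp.IsDecent (pullback f.hom g)) :
    AlgSp.ExistVC f.hom :=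
  fun sq => existVC_square f hc sq (hd _ sq.bot)

end Groth.Agent.AlgSpD
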