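import Groth.Agent.AlgSpD.ExistVC
import Groth.Agent.AlgSp.GaloisData

/-!
# Finite separable extensions suffice in the existence criterion
-/

universe u

open CategoryTheory CategoryTheory.Limits AlgebraicGeometry Opposite

set_option backward.isDefEq.respectTransparency false
set_option autoImplicit false

namespace Groth.Agent.AlgSpD

open Groth.Agent

variable {S : Scheme.{u}}

/-- A square with a lift after some extension has one after a finite separable extension. -/
theorem exists_finite_separable_lift {X Y : AlgSp.Space S} (f : X ⟶ Y) (sq : AlgSp.ValSq f.hom) (e : sq.DomExt)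
    (he : e.HasLift) :
    ∃ e : sq.DomExt, (letI := e.ψ.toAlgebra; Module.Finite sq.K e.K' ∧ Algebra.IsSeparable sq.K e.K') ∧
      e.HasLift := by
  obtain ⟨l₀, hl₁, hl₂⟩ := he
  have hT : AlgSp.IsAlgSpace ((AlgSp.yon S).obj sq.ptA) := AlgSp.IsAlgSpace.yon_obj _
  let Z : AlgSp.Space S := ⟨pullback f.hom sq.bot, AlgSp.isAlgSpace_pullback Y.property X.property hT _ _⟩
  let π : Z.obj ⟶ (AlgSp.yon S).obj sq.ptA := pullback.snd f.hom sq.bot
  let η : (AlgSp.yon S).obj sq.ptK ⟶ Z.obj := pullback.lift sq.top ((AlgSp.yon S).map sq.j) sq.comm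
  let φO : e.ptA' ⟶ sq.ptA := Over.homMk (Spec.map (CommRingCat.ofHom e.φ)) rfl
  let l : (AlgSp.yon S).obj e.ptA' ⟶ Z.obj := pullback.lift l₀ ((AlgSp.yon S).map φO) hl₂
  let c' : ↥e.ptA'.left := IsLocalRing.closedPoint e.A'
  let k' : ↥e.ptK'.left := IsLocalRing.closedPoint e.K'
  let η' : ↥e.ptA'.left := Spec.map (CommRingCat.ofHom (algebraMap e.A' e.K')) k'
  let o : ↥sq.ptK.left := IsLocalRing.closedPoint sq.K
  have hlη : AlgSp.Points.ofPt l η' = AlgSp.Points.ofPt η o := by
    let jO : e.ptK' ⟶ e.ptA' := Over.homMk (Spec.map (CommRingCat.ofHom (algebraMap e.A' e.K'))) rfl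
    let ψO : e.ptK' ⟶ sq.ptK := Over.homMk (Spec.map (CommRingCat.ofHom e.ψ)) (by
      change Spec.map _ ≫ Spec.map _ ≫ _ = Spec.map _ ≫ Spec.map _ ≫ _
      rw [← Spec.map_comp_assoc, ← Spec.map_comp_assoc, ← CommRingCat.ofHom_comp, ← CommRingCat.ofHom_comp, e.comm])
    have hlη' : (AlgSp.yon S).map jO ≫ l = (AlgSp.yon S).map ψO ≫ η := by
      apply pullback.hom_ext
      · rw [Category.assoc, Category.assoc, pullback.lift_fst, pullback.lift_fst]
        exact hl₁
      · rw [Category.assoc, Category.assoc, pullback.lift_snd, pullback.lift_snd, ← Functor.map_comp,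
          ← Functor.map_comp]
        congr 1
        ext1
        change Spec.map _ ≫ Spec.map _ = Spec.map _ ≫ Spec.map _
        rw [← Spec.map_comp, ← Spec.map_comp, ← CommRingCat.ofHom_comp, ← CommRingCat.ofHom_comp, e.comm]
    have h1 := congrArg (fun x => AlgSp.Points.ofPt x k') hlη'
    simp only [AlgSpB.ofPt_map_comp] at h1
    refine h1.trans ?_
    congr 1
    exact Subsingleton.elim (α := PrimeSpectrum sq.K) _ _
  obtain ⟨U, a, ha, has⟩ := Z.property.atlas
  obtain ⟨u', hu'⟩ := AlgSpB.surjective_ofPt has (AlgSp.Points.ofPt l c')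
  obtain ⟨V, qV, pV, sV⟩ := AlgSpB.exists_pullback_yon ha.1 l
  have : Etale pV.left := ha.2 _ _ _ sV
  obtain ⟨v, hv1, hv2⟩ := (AlgSpB.ofPt_eq_ofPt_iff sV u' c').1 hu'
  obtain ⟨v₀, hv₀, hv₀2⟩ := Flat.generalizingMap pV.left (show η' ⤳ pV.left v by
    rw [hv2]; exact IsLocalRing.specializes_closedPoint (R := e.A') η')
  have hv : qV.left v₀ ⤳ u' := hv1 ▸ hv₀.map qV.left.continuous
  have hav : AlgSp.Points.ofPt a (qV.left v₀) = AlgSp.Points.ofPt η o := by
    rw [← hlη, ← hv₀2, ← AlgSpB.ofPt_map_comp, sV.w, AlgSpB.ofPt_map_comp]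
  obtain ⟨P, fst, snd, sqP⟩ := AlgSpB.exists_pullback_yon ha.1 η
  have : Etale snd.left := ha.2 _ _ _ sqP
  obtain ⟨z, hz1, hz2⟩ := (AlgSpB.ofPt_eq_ofPt_iff sqP (qV.left v₀) o).1 hav
  let L : Type u := P.left.residueField z
  let p : Spec (CommRingCat.of L) ⟶ P.left := P.left.fromSpecResidueField z
  have hp : p (IsLocalRing.closedPoint L) = z := Scheme.fromSpecResidueField_apply _ _
  let r : Spec (CommRingCat.of L) ⟶ U.left := p ≫ fst.left
  obtain ⟨B, m, hm, hmu⟩ := exists_valuation_extension r u' (by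
    rw [Scheme.Hom.comp_apply, hp, hz1]; exact hv)
  let g : U ⟶ sq.ptA := (AlgSp.yon S).preimage (a ≫ π)
  have hg : (AlgSp.yon S).map g = a ≫ π := Functor.map_preimage _ _
  have hgj : fst ≫ g = snd ≫ sq.j := (AlgSp.yon S).map_injective (by
    rw [Functor.map_comp, Functor.map_comp, hg, ← Category.assoc, sqP.w, Category.assoc, pullback.lift_snd])
  let c₀ : ↥sq.ptA.left := IsLocalRing.closedPoint sq.A
  let φ : CommRingCat.of sq.A ⟶ CommRingCat.of B := Spec.preimage (m ≫ g.left)
  have hφ : Spec.map φ = m ≫ g.left := Spec.map_preimage _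
  let ψ : CommRingCat.of sq.K ⟶ CommRingCat.of L := Spec.preimage (p ≫ snd.left)
  have hψ : Spec.map ψ = p ≫ snd.left := Spec.map_preimage _
  have hcomm : φ ≫ CommRingCat.ofHom (algebraMap B L) = CommRingCat.ofHom (algebraMap sq.A sq.K) ≫ ψ :=
    Spec.map_injective (by
      rw [Spec.map_comp, Spec.map_comp, hφ, hψ, ← Category.assoc, hm]
      change (p ≫ fst.left) ≫ g.left = (p ≫ snd.left) ≫ sq.j.left
      rw [Category.assoc, Category.assoc, ← Over.comp_left, hgj, Over.comp_left])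
  have hloc : IsLocalHom φ.hom := by
    rw [IsLocalRing.isLocalHom_iff_comap_closedPoint]
    change Spec.map φ (IsLocalRing.closedPoint B) = c₀
    rw [hφ, Scheme.Hom.comp_apply, hmu]
    have h3 : AlgSp.Points.ofPt (a ≫ π) u' = AlgSp.Points.ofScheme sq.ptA c₀ := by
      rw [← AlgSp.Points.map_ofPt, hu', AlgSp.Points.map_ofPt, pullback.lift_snd, ← Category.comp_id ((AlgSp.yon S).map φO),
        AlgSpB.ofPt_map_comp, AlgSp.Points.ofPt_eq_map_ofScheme, AlgSp.Points.map_id]
      congr 1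
      exact (IsLocalRing.isLocalHom_iff_comap_closedPoint e.φ).1 e.isLocalHom
    rw [← hg, ← Category.comp_id ((AlgSp.yon S).map g), AlgSpB.ofPt_map_comp,
      AlgSp.Points.ofPt_eq_map_ofScheme, AlgSp.Points.map_id] at h3
    exact (AlgSp.Points.schemeHomeo sq.ptA).injective h3
  let e₁ : sq.DomExt := { A' := B, K' := L, φ := φ.hom, ψ := ψ.hom, comm := congrArg CommRingCat.Hom.hom hcomm, isLocalHom := hloc }
  refine ⟨e₁, ?_, ?_⟩
  · letI := e₁.ψ.toAlgebra
    obtain ⟨hft, hun⟩ := AlgSp.finite_separable_of_etale snd.left z (Iso.refl _) ψ (hψ.trans (Category.id_comp _).symm)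
    change Module.Finite sq.K L ∧ Algebra.IsSeparable sq.K L
    have : Algebra.FiniteType sq.K L := hft
    have : Algebra.FormallyUnramified sq.K L := hun
    exact ⟨finite_of_finite_type_of_isJacobsonRing _ _, Algebra.FormallyUnramified.isSeparable _ _⟩
  let mO : e₁.ptA' ⟶ U := Over.homMk m (by
    show m ≫ U.hom = Spec.map (CommRingCat.ofHom φ.hom) ≫ sq.str
    change m ≫ U.hom = Spec.map φ ≫ sq.str
    rw [hφ, Category.assoc, ← Over.w g]; rfl)
  refine ⟨(AlgSp.yon S).map mO ≫ a ≫ pullback.fst f.hom sq.bot, ?_, ?_⟩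
  · let pO : e₁.ptK' ⟶ P := Over.homMk p (by
      change p ≫ P.hom = Spec.map (CommRingCat.ofHom (algebraMap B L)) ≫ Spec.map φ ≫ sq.str
      rw [← Spec.map_comp_assoc, hcomm, Spec.map_comp, Category.assoc, hψ, Category.assoc]
      show p ≫ P.hom = p ≫ snd.left ≫ sq.ptK.hom
      rw [Over.w snd])
    rw [← Functor.map_comp_assoc]
    refine Eq.trans (b := (AlgSp.yon S).map (pO ≫ fst) ≫ a ≫ pullback.fst f.hom sq.bot) ?_ ?_
    · congr 2
      ext1
      exact hm
    · rw [Functor.map_comp, Category.assoc, ← Category.assoc ((AlgSp.yon S).map fst), sqP.w, Category.assoc,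
        pullback.lift_fst, ← Functor.map_comp_assoc]
      congr 2
      ext1
      exact hψ.symm
  · rw [Category.assoc, Category.assoc, pullback.condition, ← Category.assoc a, ← hg, ← Functor.map_comp_assoc]
    congr 2
    ext1
    exact hφ.symm

end Groth.Agent.AlgSpD
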