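import Groth.Agent.AlgSpD.RelDim
import Groth.Agent.AlgSpD.FibreDimBC
import Groth.Agent.AlgSpD.BaseChangeChart
import Groth.Agent.S9180
import Mathlib.FieldTheory.FinTrdeg
import Mathlib.RingTheory.EssentialFiniteness

/-!
# Local rings of fibres under base change
-/

universe u

open CategoryTheory CategoryTheory.Limits AlgebraicGeometry Opposite Topology TensorProduct

set_option backward.isDefEq.respectTransparency false

namespace Groth.Agent.AlgSpD

open Groth.Agent

theorem ringKrullDim_stalk_Spec (R : CommRingCat.{u}) (x : ↥(Spec R)) :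
    ringKrullDim ↥((Spec R).presheaf.stalk x) =
      ringKrullDim (Localization.AtPrime (x : PrimeSpectrum R).asIdeal) := by
  let _ : Algebra ↑R ↑((Spec R).presheaf.stalk x) := StructureSheaf.stalkAlgebra (↑R) x
  have : IsLocalization.AtPrime (↑((Spec R).presheaf.stalk x)) (x : PrimeSpectrum R).asIdeal :=
    StructureSheaf.IsLocalization.to_stalk R x
  rw [IsLocalization.AtPrime.ringKrullDim_eq_height (x : PrimeSpectrum R).asIdeal ((Spec R).presheaf.stalk x),
    IsLocalization.AtPrime.ringKrullDim_eq_height (x : PrimeSpectrum R).asIdeal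
      (Localization.AtPrime (x : PrimeSpectrum R).asIdeal)]

/-- Dimensions of local rings of algebras of finite type under field extensions. -/
theorem dim_atPrime_field_extension (k R K : Type u) [Field k] [CommRing R] [Algebra k R]
    [Algebra.FiniteType k R] [Field K] [Algebra k K] :
    (∀ (q : Ideal R) [q.IsPrime] (qK : Ideal (R ⊗[k] K)) [qK.IsPrime], qK.LiesOver q →
      ringKrullDim (Localization.AtPrime q) ≤ ringKrullDim (Localization.AtPrime qK)) ∧
    (∀ (q : Ideal R) [q.IsPrime], ∃ (qK : Ideal (R ⊗[k] K)) (_ : qK.IsPrime), qK.LiesOver q ∧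
      ringKrullDim (Localization.AtPrime qK) = ringKrullDim (Localization.AtPrime q)) := by
  letI : Algebra K (R ⊗[k] K) := Algebra.TensorProduct.rightAlgebra
  have : Algebra.FiniteType K (R ⊗[k] K) :=
    Algebra.FiniteType.equiv (inferInstance : Algebra.FiniteType K (K ⊗[k] R))
      { (Algebra.TensorProduct.comm k K R).toRingEquiv with
        commutes' := fun x => by simp [Algebra.TensorProduct.rightAlgebra, RingHom.algebraMap_toAlgebra] }
  have hfin : ∀ (q : Ideal R) [q.IsPrime], ∃ r : ℕ, Algebra.trdeg k q.ResidueField = r := fun q _ => by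
    have : Algebra.EssFiniteType k q.ResidueField := Algebra.EssFiniteType.comp k R q.ResidueField
    exact Cardinal.lt_aleph0.1 (trdeg_lt_aleph0 k q.ResidueField)
  have hfinK : ∀ (q : Ideal (R ⊗[k] K)) [q.IsPrime], ∃ r : ℕ, Algebra.trdeg K q.ResidueField = r := fun q _ => by
    have : Algebra.EssFiniteType K q.ResidueField := Algebra.EssFiniteType.comp K (R ⊗[k] K) q.ResidueField
    exact Cardinal.lt_aleph0.1 (trdeg_lt_aleph0 K q.ResidueField)
  refine ⟨fun q _ qK _ hlie => ?_, fun q _ => ?_⟩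
  · obtain ⟨r, hr⟩ := hfin q
    obtain ⟨rK, hrK⟩ := hfinK qK
    obtain ⟨h1, h2, -⟩ := Groth.Agent.S9180.result k R K q r hr qK rK hrK
    rw [← h1]
    refine le_add_of_nonneg_left ?_
    by_contra hneg
    have hbot : ringKrullDim (EGA4.FibLocRing R (R ⊗[k] K) qK) = ⊥ := by
      revert hneg
      rcases ringKrullDim (EGA4.FibLocRing R (R ⊗[k] K) qK) with _ | a
      · exact fun _ => rfl
      · exact fun h => absurd (WithBot.coe_le_coe.2 bot_le) h
    rw [hbot, WithBot.bot_add] at h2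
    exact WithBot.bot_ne_natCast r h2
  · obtain ⟨r, hr⟩ := hfin q
    have hsur : Function.Surjective (PrimeSpectrum.comap (algebraMap R (R ⊗[k] K))) :=
      PrimeSpectrum.comap_surjective_of_faithfullyFlat
    obtain ⟨qK₀, hqK₀⟩ := hsur ⟨q, inferInstance⟩
    have : qK₀.asIdeal.LiesOver q := ⟨(congrArg PrimeSpectrum.asIdeal hqK₀).symm⟩
    obtain ⟨rK₀, hrK₀⟩ := hfinK qK₀.asIdeal
    obtain ⟨-, -, q', hq', hlie, hzero⟩ := Groth.Agent.S9180.result k R K q r hr qK₀.asIdeal rK₀ hrK₀
    obtain ⟨rK, hrK⟩ := hfinK q'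
    obtain ⟨h1, -, -⟩ := Groth.Agent.S9180.result k R K q r hr q' rK hrK
    rw [hzero, zero_add] at h1
    exact ⟨q', hq', hlie, h1.symm⟩

/-- Local rings of schemes locally of finite type over a field under field extensions. -/
theorem dim_stalk_field_extension {k K : CommRingCat.{u}} (hk : IsField k) (hK : IsField K) (φ : k ⟶ K)
    {Z Z' : Scheme.{u}} {s : Z ⟶ Spec k} {s' : Z' ⟶ Spec K} {r : Z' ⟶ Z} [LocallyOfFiniteType s]
    (sq : IsPullback r s' s (Spec.map φ)) :
    (∀ z' : Z', ringKrullDim ↥(Z.presheaf.stalk (r z')) ≤ ringKrullDim ↥(Z'.presheaf.stalk z')) ∧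
    (∀ z : Z, ∃ z' : Z', r z' = z ∧ ringKrullDim ↥(Z'.presheaf.stalk z') = ringKrullDim ↥(Z.presheaf.stalk z)) := by
  suffices key : ∀ z : Z, (∀ z' : Z', r z' = z →
      ringKrullDim ↥(Z.presheaf.stalk (r z')) ≤ ringKrullDim ↥(Z'.presheaf.stalk z')) ∧
      ∃ z' : Z', r z' = z ∧ ringKrullDim ↥(Z'.presheaf.stalk z') = ringKrullDim ↥(Z.presheaf.stalk z) from
    ⟨fun z' => (key _).1 z' rfl, fun z => (key z).2⟩
  intro z
  obtain ⟨W, hW, hz, -⟩ := exists_isAffineOpen_mem_and_subset (x := z) (U := ⊤) trivial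
  obtain ⟨p, hp⟩ : z ∈ Set.range hW.fromSpec := by rw [hW.range_fromSpec]; exact hz
  let R := Γ(Z, W)
  let i : Spec R ⟶ Z := hW.fromSpec
  let ψ : k ⟶ R := Spec.preimage (i ≫ s)
  have hψ : Spec.map ψ = i ≫ s := Spec.map_preimage _
  have hft : ψ.hom.FiniteType := by
    rw [← HasRingHomProperty.Spec_iff (P := @LocallyOfFiniteType), hψ]; infer_instance
  let := hk.toField
  let := hK.toField
  algebraize [φ.hom, ψ.hom]
  let inl := CommRingCat.ofHom (Algebra.TensorProduct.includeLeftRingHom : R →+* R ⊗[k] K)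
  let inr := CommRingCat.ofHom ((Algebra.TensorProduct.includeRight : K →ₐ[k] R ⊗[k] K) : K →+* R ⊗[k] K)
  have sqA : IsPullback (Spec.map inl) (Spec.map inr) (Spec.map ψ) (Spec.map φ) :=
    isPullback_SpecMap_of_isPushout _ _ _ _ (CommRingCat.isPushout_tensorProduct k R K)
  let j : Spec (CommRingCat.of (R ⊗[k] K)) ⟶ Z' := sq.lift (Spec.map inl ≫ i) (Spec.map inr)
    (by rw [Category.assoc, ← hψ, sqA.w])
  have sqj : IsPullback j (Spec.map inl) r i := by
    refine (IsPullback.of_bot ?_ (sq.lift_fst _ _ _).symm sq).flip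
    rw [sq.lift_snd, ← hψ]
    exact sqA
  have : IsOpenImmersion j := MorphismProperty.of_isPullback sqj.flip (inferInstanceAs (IsOpenImmersion i))
  obtain ⟨hle, hex⟩ := dim_atPrime_field_extension k R K
  have hdimZ : ∀ q : ↥(Spec R), ringKrullDim ↥(Z.presheaf.stalk (i q)) =
      ringKrullDim (Localization.AtPrime (q : PrimeSpectrum R).asIdeal) := fun q => by
    rw [ringKrullDim_stalk_eq i q, ringKrullDim_stalk_Spec]
  have hdimZ' : ∀ q : ↥(Spec (CommRingCat.of (R ⊗[k] K))), ringKrullDim ↥(Z'.presheaf.stalk (j q)) =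
      ringKrullDim (Localization.AtPrime (q : PrimeSpectrum (R ⊗[k] K)).asIdeal) := fun q => by
    rw [ringKrullDim_stalk_eq j q, ringKrullDim_stalk_Spec]
  refine ⟨fun z' hz' => ?_, ?_⟩
  · obtain ⟨q, rfl, hq⟩ := Scheme.exists_preimage_of_isPullback sqj z' p (by rw [hz']; exact hp.symm)
    rw [hz', ← hp, hdimZ, hdimZ']
    exact hle _ _ ⟨(congrArg PrimeSpectrum.asIdeal hq).symm⟩
  · obtain ⟨qK, hqK, hlie, hdim⟩ := hex (p : PrimeSpectrum R).asIdeal
    let q : ↥(Spec (CommRingCat.of (R ⊗[k] K))) := (⟨qK, hqK⟩ : PrimeSpectrum (R ⊗[k] K))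
    have hq : Spec.map inl q = p := PrimeSpectrum.ext hlie.over.symm
    refine ⟨j q, ?_, ?_⟩
    · rw [← hp, ← hq, ← Scheme.Hom.comp_apply, sq.lift_fst, Scheme.Hom.comp_apply]; rfl
    · rw [hdimZ', ← hp, hdimZ]; exact hdim

/-- Local rings of fibres of schemes under base change. -/
theorem fibreStalkDim_baseChange {X S X' S' : Scheme.{u}} (f : X ⟶ S) [LocallyOfFiniteType f] {g : S' ⟶ S}
    {g' : X' ⟶ X} {f' : X' ⟶ S'} (sq : IsPullback g' f' f g) :
    (∀ x' : X', ringKrullDim ↥((f.fiber (f (g' x'))).presheaf.stalk (f.asFiber (g' x'))) ≤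
      ringKrullDim ↥((f'.fiber (f' x')).presheaf.stalk (f'.asFiber x'))) ∧
    (∀ (x : X) (s' : S'), f x = g s' → ∃ x' : X', g' x' = x ∧ f' x' = s' ∧
      ringKrullDim ↥((f'.fiber (f' x')).presheaf.stalk (f'.asFiber x')) =
        ringKrullDim ↥((f.fiber (f x)).presheaf.stalk (f.asFiber x))) := by
  have key : ∀ y (z : f.fiber y) (x : X), f x = y → f.fiberι y z = x →
      ringKrullDim ↥((f.fiber y).presheaf.stalk z) =
        ringKrullDim ↥((f.fiber (f x)).presheaf.stalk (f.asFiber x)) := by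
    rintro y z x rfl hz
    rw [show z = f.asFiber x from (f.fiberι _).isEmbedding.injective (hz.trans (f.fiberι_asFiber _).symm)]
  have key' : ∀ y (z : f'.fiber y) (x : X'), f' x = y → f'.fiberι y z = x →
      ringKrullDim ↥((f'.fiber y).presheaf.stalk z) =
        ringKrullDim ↥((f'.fiber (f' x)).presheaf.stalk (f'.asFiber x)) := by
    rintro y z x rfl hz
    rw [show z = f'.asFiber x from (f'.fiberι _).isEmbedding.injective (hz.trans (f'.fiberι_asFiber _).symm)]
  have hlft : ∀ y, LocallyOfFiniteType (f.fiberToSpecResidueField y) :=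
    fun y => MorphismProperty.pullback_snd _ _ inferInstance
  refine ⟨fun x' => ?_, fun x s' hx => ?_⟩
  · have := hlft (g (f' x'))
    obtain ⟨hle, -⟩ := dim_stalk_field_extension (Field.toIsField _) (Field.toIsField _)
      (g.residueFieldMap (f' x')) (isPullback_fiberToSpecResidueField_of_isPullback sq (f' x'))
    refine le_of_eq_of_le (key _ _ (g' x') ?_ ?_).symm (hle (f'.asFiber x'))
    · rw [← Scheme.Hom.comp_apply, ← Scheme.Hom.comp_apply, sq.w]
    · exact EtStruct.fiberMap_asFiber f sq x'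
  · have := hlft (g s')
    obtain ⟨-, hex⟩ := dim_stalk_field_extension (Field.toIsField _) (Field.toIsField _)
      (g.residueFieldMap s') (isPullback_fiberToSpecResidueField_of_isPullback sq s')
    obtain ⟨z, hz⟩ : x ∈ Set.range (f.fiberι (g s')) := by rw [f.range_fiberι]; exact hx
    obtain ⟨z', hz'1, hz'2⟩ := hex z
    have hfs : f' (f'.fiberι s' z') = s' := by
      have : f'.fiberι s' z' ∈ Set.range (f'.fiberι s') := ⟨z', rfl⟩
      rwa [f'.range_fiberι] at this
    refine ⟨f'.fiberι s' z', ?_, hfs, ?_⟩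
    · have h : EtStruct.fiberMap f sq s' ≫ f.fiberι (g s') = f'.fiberι s' ≫ g' := pullback.lift_fst ..
      rw [← Scheme.Hom.comp_apply, ← h, Scheme.Hom.comp_apply, ← hz]
      exact congrArg _ hz'1
    · exact (key' _ z' _ hfs rfl).symm.trans (hz'2.trans (key _ z x hx hz))

end Groth.Agent.AlgSpD
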