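import Groth.Agent.AlgSpD.FieldBase
import Groth.Agent.AlgSpD.LqfLocus
import Groth.Agent.AlgSpD.BaseChangeChart
import Groth.Agent.AlgSpD.DecentCrit
import Groth.Agent.AlgSpD.FibreDimBC
import Groth.Agent.AlgSp.SplitOff
import Groth.Agent.S9381
import Groth.Agent.S10338
import Groth.Agent.S10340
import Groth.Agent.S10346

/-!
# Isolated points in fibres of morphisms of algebraic spaces

* `qf_iff_isOpen_fibre_point`: quasi-finiteness at a point is isolatedness in the fibre over a field point.
* `qfAt_of_isolated_nbhd`: a point of the image fibre comparable with no other nearby one is quasi-finite.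
* `isOpen_fibre_of_qfAt`, `eq_of_specializes_of_qfAt`: over a decent space quasi-finite points are
  isolated and closed in their fibres.
-/

set_option autoImplicit false

universe u

open CategoryTheory CategoryTheory.Limits AlgebraicGeometry TopologicalSpace Topology

set_option backward.isDefEq.respectTransparency false

namespace Groth.Agent.AlgSpD

open _root_.AlgSp
open Groth.Agent

variable {S : Scheme.{u}}

/-- In a locally Noetherian space a set of open and closed points is closed. -/
theorem isClosed_of_isolated {V : Scheme.{u}} [IsLocallyNoetherian V] (D : Set ↥V)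
    (hsing : ∀ w ∈ D, IsOpen ({w} : Set ↥V) ∧ IsClosed ({w} : Set ↥V)) : IsClosed D := by
  rw [← isOpen_compl_iff, isOpen_iff_forall_mem_open]
  intro v hv
  obtain ⟨W, hW, hvW, -⟩ := exists_isAffineOpen_mem_and_subset (x := v) (U := ⊤) trivial
  have : IsNoetherian W.toScheme := { toCompactSpace := isCompact_iff_compactSpace.mp hW.isCompact }
  have hfin : (D ∩ W : Set ↥V).Finite := by
    have hc : IsCompact (W.ι ⁻¹' (D ∩ W)) := NoetherianSpace.isCompact _
    obtain ⟨t, ht⟩ := hc.elim_finite_subcover (fun w : ↥W.toScheme => ({w} ∩ W.ι ⁻¹' (D ∩ W) : Set _))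
      (fun w => by
        by_cases hw : W.ι w ∈ D ∩ W
        · rw [Set.inter_eq_left.2 (Set.singleton_subset_iff.2 (show w ∈ W.ι ⁻¹' (D ∩ W) from hw))]
          convert (hsing _ hw.1).1.preimage W.ι.continuous
          ext z
          exact W.ι.isOpenEmbedding.injective.eq_iff.symm
        · rw [Set.inter_comm, Set.inter_singleton_eq_empty.2 (show w ∉ W.ι ⁻¹' (D ∩ W) from hw)]
          exact isOpen_empty)
      (fun w hw => Set.mem_iUnion.2 ⟨w, rfl, hw⟩)
    refine (t.finite_toSet.image W.ι).subset fun z hz => ?_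
    obtain ⟨w, hwt, hwz⟩ := Set.mem_iUnion₂.1 (ht (show (⟨z, hz.2⟩ : ↥W) ∈ W.ι ⁻¹' (D ∩ W) from hz))
    exact ⟨w, hwt, congrArg W.ι hwz.1.symm⟩
  refine ⟨(W : Set _) ∩ (D ∩ W)ᶜ, fun z hz hzD => hz.2 ⟨hzD, hz.1⟩, W.2.inter ?_, hvW, fun hh => hv hh.1⟩
  rw [isOpen_compl_iff, ← Set.biUnion_of_singleton (D ∩ (W : Set ↥V))]
  exact hfin.isClosed_biUnion fun w hw => (hsing w hw.1).2

/-- The open singletons of a scheme locally of finite type over a field are closed. -/
theorem isClosed_singleton_of_isOpen {V : Scheme.{u}} [JacobsonSpace ↥V] {v : ↥V}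
    (h : IsOpen ({v} : Set ↥V)) : IsClosed ({v} : Set ↥V) :=
  isClosed_singleton_of_isLocallyClosed_singleton
    ⟨{v}, closure {v}, h, isClosed_closure,
      (Set.inter_eq_left.2 subset_closure).symm⟩

section Field

variable {k : Type u} [Field k] {str : Spec (CommRingCat.of k) ⟶ S} {X : Space S}
  (p : X.obj ⟶ (yon S).obj (Over.mk str)) (hp : LocP @LocallyOfFiniteType p)
  {U : Over S} {a : (yon S).obj U ⟶ X.obj} (ha : RepWith @Etale a)

include p hp ha in
theorem chart_over_field : IsLocallyNoetherian U.left ∧ JacobsonSpace ↥U.left := by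
  obtain ⟨g, hg⟩ := (yon S).map_surjective (a ≫ p)
  have : LocallyOfFiniteType g.left :=
    hp a (𝟙 _) g ha (repWith_id _ _) (by rw [Category.comp_id, hg])
  have : IsLocallyNoetherian (Over.mk str).left := inferInstanceAs (IsLocallyNoetherian (Spec (CommRingCat.of k)))
  have : JacobsonSpace ↥(Over.mk str).left := inferInstanceAs (JacobsonSpace ↥(Spec (CommRingCat.of k)))
  exact ⟨LocallyOfFiniteType.isLocallyNoetherian g.left, LocallyOfFiniteType.jacobsonSpace g.left⟩

include p hp in
theorem isLocNoethSp_over_field : IsLocNoethSp X.obj := by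
  obtain ⟨A, b, hb, hs⟩ := X.property.atlas
  exact ⟨A, b, hb, hs, (chart_over_field p hp hb).1⟩

include p hp ha in
theorem isOpen_chart_of_isolated {u : ↥U.left}
    (hgen : ∀ x', x' ⤳ Points.ofPt a u → x' = Points.ofPt a u)
    (hcl : IsClosed {Points.ofPt a u}) : IsOpen ({u} : Set ↥U.left) := by
  obtain ⟨_, _⟩ := chart_over_field p hp ha
  have hN := isLocNoethSp_over_field p hp
  refine EtStruct.isOpen_singleton_of_forall_specializes u (fun w hw => ?_)
    (closure_subset_iff_isClosed.1 fun w hw => ?_)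
  · have e := hgen _ (hw.map (Points.continuous_ofPt a))
    exact (S10342.result X hN a ha u w e.symm hw).symm
  · have hw' : u ⤳ w := specializes_iff_mem_closure.2 hw
    have e : Points.ofPt a w = Points.ofPt a u := by
      have h1 := specializes_iff_mem_closure.1 (hw'.map (Points.continuous_ofPt a))
      rw [hcl.closure_eq] at h1
      exact h1
    exact S10342.result X hN a ha w u e hw'

include p hp ha in
theorem isOpen_chart_of_isOpen {u : ↥U.left} (h : IsOpen {Points.ofPt a u}) :
    IsOpen ({u} : Set ↥U.left) ∧ IsClosed {Points.ofPt a u} := by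
  have hN := isLocNoethSp_over_field p hp
  have hpts : ∀ {W : Over S} (b : (yon S).obj W ⟶ X.obj), RepWith @Etale b →
      ∀ w, Points.ofPt b w = Points.ofPt a u → IsOpen ({w} : Set ↥W.left) ∧ IsClosed ({w} : Set ↥W.left) := by
    intro W b hb w hw
    obtain ⟨_, _⟩ := chart_over_field p hp hb
    let F := Points.ofPt b ⁻¹' {Points.ofPt a u}
    have hF : IsOpen F := h.preimage (Points.continuous_ofPt b)
    have hcl : IsClosed ({w} : Set ↥W.left) := by
      refine isClosed_singleton_of_isLocallyClosed_singleton ⟨F, closure {w}, hF, isClosed_closure, ?_⟩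
      refine subset_antisymm (Set.singleton_subset_iff.2 ⟨hw, subset_closure rfl⟩) ?_
      rintro v ⟨hv, hvw⟩
      exact S10342.result X hN b hb v w (hv.trans hw.symm) (specializes_iff_mem_closure.2 hvw)
    refine ⟨EtStruct.isOpen_singleton_of_forall_specializes w (fun y hy => ?_) hcl, hcl⟩
    have hyF : y ∈ F := hy.mem_open hF hw
    exact (S10342.result X hN b hb w y (hw.trans (Set.mem_singleton_iff.1 hyF).symm) hy).symm
  refine ⟨(hpts a ha u rfl).1, ?_⟩
  obtain ⟨V, b, hb, hbs⟩ := X.property.atlas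
  rw [← (AlgSpB.isOpenQuotientMap_ofPt hb hbs).isQuotientMap.isClosed_preimage]
  have := (chart_over_field p hp hb).1
  exact isClosed_of_isolated _ fun w hw => hpts b hb w hw

include p hp ha in
theorem isOpen_point_iff_chart {u : ↥U.left} :
    IsOpen {Points.ofPt a u} ↔ IsOpen ({u} : Set ↥U.left) :=
  ⟨fun h => (isOpen_chart_of_isOpen p hp ha h).1, fun h => by
    rw [← Set.image_singleton]
    exact AlgSpB.isOpenMap_ofPt ha _ h⟩

include p hp in
theorem isOpen_point_iff_closed_maximal (x : Points X.obj) :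
    IsOpen ({x} : Set (Points X.obj)) ↔ IsClosed ({x} : Set (Points X.obj)) ∧ ∀ x', x' ⤳ x → x' = x := by
  obtain ⟨U, a, u, ha, rfl⟩ := exists_chart X x
  refine ⟨fun h => ⟨(isOpen_chart_of_isOpen p hp ha h).2, fun x' hx' => Set.mem_singleton_iff.1 (hx'.mem_open h rfl)⟩,
    fun h => (isOpen_point_iff_chart p hp ha).2 (isOpen_chart_of_isolated p hp ha h.2 h.1)⟩

include p hp in
theorem isOpen_point_iff_hasAt (x : Points X.obj) :
    IsOpen ({x} : Set (Points X.obj)) ↔ HasAt (fun U u => FlatMor.localDim ↥U u = 0) X.obj x := by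
  constructor
  · intro h
    obtain ⟨U, a, u, ha, rfl⟩ := exists_chart X x
    have := (chart_over_field p hp ha).1
    exact ⟨U, a, u, ha, rfl, (S9798.result U.left u).2 ((isOpen_point_iff_chart p hp ha).1 h)⟩
  · rintro ⟨U, a, u, ha, rfl, h⟩
    have := (chart_over_field p hp ha).1
    exact (isOpen_point_iff_chart p hp ha).2 ((S9798.result U.left u).1 h)

include p hp in
theorem localDim_points_eq_zero_iff (hd : IsDecent X.obj) (x : Points X.obj) :
    FlatMor.localDim (Points X.obj) x = 0 ↔ IsOpen ({x} : Set (Points X.obj)) := by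
  obtain ⟨U, a, u, ha, rfl⟩ := exists_chart X x
  have := (chart_over_field p hp ha).1
  rw [← S10346.result X hd a ha u, S9798.result U.left u]
  exact (isOpen_point_iff_chart p hp ha).symm

end Field

/-- Open singletons and quasi-finiteness over a discrete base. -/
theorem quasiFiniteAt_iff_isOpen_singleton {W V : Scheme.{u}} (h : W ⟶ V) [LocallyOfFiniteType h]
    [DiscreteTopology ↥V] (r : ↥W) : h.QuasiFiniteAt r ↔ IsOpen ({r} : Set ↥W) := by
  rw [Scheme.Hom.quasiFiniteAt_iff_isOpen_singleton_asFiber]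
  have he := (h.fiberι (h r)).isEmbedding
  have ho : IsOpen (Set.range (h.fiberι (h r))) := by
    rw [Scheme.Hom.range_fiberι]
    exact (isOpen_discrete _).preimage h.continuous
  constructor
  · intro hr
    have := (Topology.IsOpenEmbedding.mk he ho).isOpenMap _ hr
    rwa [Set.image_singleton, h.fiberι_asFiber] at this
  · intro hr
    convert hr.preimage (h.fiberι (h r)).continuous
    ext z
    exact (he.injective.eq_iff' (h.fiberι_asFiber r)).symm

variable {X Y : Space S}

/-- Quasi-finite at a point, read in any chart. -/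
theorem hasAtMor_lqfNear_chart (f : X ⟶ Y) (hf : LocP @LocallyOfFiniteType f.hom) {U V : Over S}
    {a : (yon S).obj U ⟶ X.obj} {b : (yon S).obj V ⟶ Y.obj} {h : U ⟶ V}
    (ha : RepWith @Etale a) (hb : RepWith @Etale b) (w : a ≫ f.hom = (yon S).map h ≫ b) (u : ↥U.left) :
    HasAtMor LqfNear f.hom (Points.ofPt a u) ↔ h.left.QuasiFiniteAt u := by
  have := hf a b h ha hb w
  rw [hasAtMor_lqfNear_iff f.hom hf, quasiFiniteAt_iff_fibreDimAt_eq_zero]
  exact hasAtMor_iff_chart (morEtaleInv_fibreDimAt 0) f ha hb w u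

/-- Quasi-finiteness at a point is isolatedness of a point over it in the fibre over a field point. -/
theorem qf_iff_isOpen_fibre_point (f : X ⟶ Y) (hf : LocP @LocallyOfFiniteType f.hom) (r : FieldPt Y.obj)
    (Xk : Space S) (fst : Xk ⟶ X) (snd : Xk.obj ⟶ (yon S).obj r.pt)
    (hsq : IsPullback fst.hom snd f.hom r.toHom) (xt : Points Xk.obj) :
    HasAtMor LqfNear f.hom (Points.map fst.hom xt) ↔ IsOpen ({xt} : Set (Points Xk.obj)) := by
  let Y' : Space S := ⟨(yon S).obj r.pt, IsAlgSpace.yon_obj _⟩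
  let g : Y' ⟶ Y := ObjectProperty.homMk r.toHom
  let f' : Xk ⟶ Y' := ObjectProperty.homMk snd
  have hp : LocP @LocallyOfFiniteType snd :=
    AlgSpCov.locP_baseChange AlgSpCov.etaleLocal_locallyOfFiniteType X.property Y.property hsq hf
  obtain ⟨U, V, V', W, a, b, c, d, h, h', k, q, w₀, ha, hb, hc, hd, w, w', hpb, hr₁, hr₂⟩ :=
    exists_baseChange_diagram f g fst f' hsq xt
  have := hf a b h ha hb w
  have : LocallyOfFiniteType h'.left := hp d c h' hd hc w'
  obtain ⟨c', hc'⟩ := (yon S).map_surjective c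
  have : Etale c'.left := (repWith_yon_map_iff _ _).1 (by rw [hc']; exact hc)
  have : LocallyQuasiFinite c'.left := AlgSpCov.etale_le_locallyQuasiFinite _ _ c'.left ‹Etale c'.left›
  have : DiscreteTopology ↥V'.left := isDiscrete_univ_iff.1
    ((c'.left.isDiscrete_preimage_singleton (IsLocalRing.closedPoint r.K)).mono fun z _ =>
      @Subsingleton.elim _ (inferInstanceAs (Subsingleton (PrimeSpectrum r.K))) _ _)
  rw [← hr₂, hasAtMor_lqfNear_chart f hf ha hb w, ← hr₁, isOpen_point_iff_chart snd hp hd,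
    ← quasiFiniteAt_iff_isOpen_singleton h'.left, quasiFiniteAt_iff_fibreDimAt_eq_zero,
    quasiFiniteAt_iff_fibreDimAt_eq_zero, fibreDimAt_of_isPullback h.left hpb w₀]

/-- A point with a neighbourhood meeting its fibre in no other comparable point is quasi-finite. -/
theorem qfAt_of_isolated_nbhd (f : X ⟶ Y) (hf : LocP @LocallyOfFiniteType f.hom) (x : Points X.obj)
    (N : Set (Points X.obj)) (hN : IsOpen N) (hxN : x ∈ N)
    (h : ∀ z ∈ N, Points.map f.hom z = Points.map f.hom x → (z ⤳ x ∨ x ⤳ z) → z = x) :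
    HasAtMor LqfNear f.hom x := by
  obtain ⟨U, V, a, b, g, u, ha, hb, w, rfl⟩ := exists_diagram f x
  have := hf a b g ha hb w
  rw [hasAtMor_lqfNear_chart f hf ha hb w, Scheme.Hom.quasiFiniteAt_iff_isOpen_singleton_asFiber]
  let ι := g.left.fiberι (g.left u)
  have : LocallyOfFiniteType (g.left.fiberToSpecResidueField (g.left u)) :=
    MorphismProperty.pullback_snd _ _ inferInstance
  have := LocallyOfFiniteType.isLocallyNoetherian (g.left.fiberToSpecResidueField (g.left u))
  have : JacobsonSpace ↥(g.left.fiber (g.left u)) :=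
    LocallyOfFiniteType.jacobsonSpace (g.left.fiberToSpecResidueField (g.left u))
  let O : Set ↥(g.left.fiber (g.left u)) := ι ⁻¹' (Points.ofPt a ⁻¹' N)
  have hO : IsOpen O := (hN.preimage (Points.continuous_ofPt a)).preimage ι.continuous
  have hgι : ∀ t, g.left (ι t) = g.left u := fun t => by
    have := Set.mem_range_self (f := ι) t
    rwa [Scheme.Hom.range_fiberι] at this
  have hu : g.left.asFiber u ∈ O := by
    show Points.ofPt a (ι (g.left.asFiber u)) ∈ N
    rw [g.left.fiberι_asFiber]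
    exact hxN
  have key : ∀ t ∈ O, (t ⤳ g.left.asFiber u ∨ g.left.asFiber u ⤳ t) → t = g.left.asFiber u := by
    intro t ht hcomp
    apply ι.isEmbedding.injective
    rw [g.left.fiberι_asFiber]
    have hc' : ι t ⤳ u ∨ u ⤳ ι t := by
      rcases hcomp with hh | hh <;> have := hh.map ι.continuous <;> rw [g.left.fiberι_asFiber] at this
      exacts [Or.inl this, Or.inr this]
    have e : Points.ofPt a (ι t) = Points.ofPt a u := by
      refine h _ ht ?_ ?_
      · rw [Points.map_ofPt, Points.map_ofPt, w, AlgSpB.ofPt_map_comp, AlgSpB.ofPt_map_comp, hgι]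
      · rcases hc' with hh | hh
        exacts [Or.inl (hh.map (Points.continuous_ofPt a)), Or.inr (hh.map (Points.continuous_ofPt a))]
    have hdeg : Dual3.resTrdeg g.left (ι t) = Dual3.resTrdeg g.left u := by
      have h1 := (hasAtMor_iff_chart (morEtaleInv_resTrdeg (Dual3.resTrdeg g.left u)) f ha hb w u).2 rfl
      rw [← e] at h1
      exact (hasAtMor_iff_chart (morEtaleInv_resTrdeg _) f ha hb w (ι t)).1 h1
    by_contra hne
    rcases hc' with hh | hh
    · exact (S9381.result g.left (ι t) u hh hne (hgι t)).ne hdeg.symm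
    · exact (S9381.result g.left u (ι t) hh (Ne.symm hne) (hgι t).symm).ne hdeg
  have hcl : IsClosed ({g.left.asFiber u} : Set _) := by
    refine isClosed_singleton_of_isLocallyClosed_singleton ⟨O, closure {g.left.asFiber u}, hO, isClosed_closure, ?_⟩
    refine subset_antisymm (Set.singleton_subset_iff.2 ⟨hu, subset_closure rfl⟩) ?_
    rintro t ⟨ht, htc⟩
    exact key t ht (Or.inr (specializes_iff_mem_closure.2 htc))
  exact EtStruct.isOpen_singleton_of_forall_specializes _ (fun t ht => key t (ht.mem_open hO hu) (Or.inl ht)) hcl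

/-- A chart point over a point of a decent space is isolated in its fibre over that point. -/
theorem exists_open_inter_fibre (hY : IsDecent Y.obj) {V : Over S} [IsAffine V.left]
    {b : (yon S).obj V ⟶ Y.obj} (hb : RepWith @Etale b) (v : ↥V.left) :
    ∃ O : Set ↥V.left, IsOpen O ∧ v ∈ O ∧ ∀ v' ∈ O, Points.ofPt b v' = Points.ofPt b v → v' = v := by
  have hfin : (Points.ofPt b ⁻¹' {Points.ofPt b v}).Finite := by
    have h := Groth.Agent.AlgSp.finite_preimage_fst_of_decent (X := Y) hY (𝟙 Y.obj) hb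
      (fst := b) (snd := 𝟙 _) IsPullback.of_id_snd (Points.ofPt b v)
    refine (h.image (Points.toScheme V)).subset fun v' hv' => ⟨Points.ofScheme V v', ?_, Points.toScheme_ofScheme V v'⟩
    rw [Set.mem_preimage, ← Points.ofPt_eq_map_ofScheme]
    exact hv'
  let E := Points.ofPt b ⁻¹' {Points.ofPt b v} \ {v}
  refine ⟨(⋃ v' ∈ E, closure {v'})ᶜ, ((hfin.subset Set.diff_subset).isClosed_biUnion fun _ _ => isClosed_closure).isOpen_compl,
    fun hv => ?_, fun v' hv' he => ?_⟩
  · obtain ⟨v', hv', hv2⟩ := Set.mem_iUnion₂.1 hv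
    exact hv'.2 (S10340.result Y hY b hb v v' hv'.1.symm (specializes_iff_mem_closure.2 hv2)).symm
  · by_contra hne
    exact hv' (Set.mem_iUnion₂.2 ⟨v', ⟨he, hne⟩, subset_closure rfl⟩)

/-- A diagram over an affine chart of the target through a given point. -/
theorem exists_affine_diagram (f : X ⟶ Y) (x : Points X.obj) :
    ∃ (U V : Over S) (a : (yon S).obj U ⟶ X.obj) (b : (yon S).obj V ⟶ Y.obj) (g : U ⟶ V) (u : ↥U.left),
      IsAffine V.left ∧ RepWith @Etale a ∧ RepWith @Etale b ∧ a ≫ f.hom = (yon S).map g ≫ b ∧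
        Points.ofPt a u = x := by
  obtain ⟨U, a, u, ha, hu⟩ := exists_chart X x
  obtain ⟨V, b, v, hV, hb, hv⟩ := exists_affine_chart Y (Points.map f.hom (Points.ofPt a u))
  obtain ⟨R, p, g, t, hpa, hp, w, ht, htv⟩ := exists_diagram_over f ha u hb hv
  exact ⟨R, V, (yon S).map p ≫ a, b, g, t, hV, hpa, hb, w, by rw [AlgSpB.ofPt_map_comp, ht, hu]⟩

/-- Over a decent space a quasi-finite point is isolated in its fibre. -/
theorem isOpen_fibre_of_qfAt (hY : IsDecent Y.obj) (f : X ⟶ Y) (hf : LocP @LocallyOfFiniteType f.hom)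
    (x : Points X.obj) (hq : HasAtMor LqfNear f.hom x) :
    ∃ N : Set (Points X.obj), IsOpen N ∧ x ∈ N ∧
      ∀ z ∈ N, Points.map f.hom z = Points.map f.hom x → z = x := by
  obtain ⟨U, V, a, b, g, u, hV, ha, hb, w, rfl⟩ := exists_affine_diagram f x
  have := hf a b g ha hb w
  rw [hasAtMor_lqfNear_chart f hf ha hb w, Scheme.Hom.quasiFiniteAt_iff_isOpen_singleton_asFiber] at hq
  let ι := g.left.fiberι (g.left u)
  obtain ⟨O₁, hO₁, he⟩ := ι.isEmbedding.isInducing.isOpen_iff.1 hq
  obtain ⟨O, hO, hvO, hOv⟩ := exists_open_inter_fibre hY hb (g.left u)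
  refine ⟨Points.ofPt a '' (O₁ ∩ g.left ⁻¹' O),
    AlgSpB.isOpenMap_ofPt ha _ (hO₁.inter (hO.preimage g.left.continuous)), ⟨u, ⟨?_, hvO⟩, rfl⟩, ?_⟩
  · have : g.left.asFiber u ∈ ι ⁻¹' O₁ := he ▸ rfl
    rwa [Set.mem_preimage, g.left.fiberι_asFiber] at this
  · rintro z ⟨t, ⟨ht₁, ht⟩, rfl⟩ hz
    rw [Points.map_ofPt, Points.map_ofPt, w, AlgSpB.ofPt_map_comp, AlgSpB.ofPt_map_comp] at hz
    have hv := hOv _ ht hz
    obtain ⟨t', rfl⟩ : t ∈ Set.range ι := by
      rw [Scheme.Hom.range_fiberι]
      exact hv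
    have : t' ∈ ({g.left.asFiber u} : Set _) := he ▸ ht₁
    rw [Set.mem_singleton_iff.1 this, g.left.fiberι_asFiber]

/-- Over a decent space a quasi-finite point has no proper specialization in its fibre. -/
theorem eq_of_specializes_of_qfAt (hY : IsDecent Y.obj) (f : X ⟶ Y) (hf : LocP @LocallyOfFiniteType f.hom)
    (x z : Points X.obj) (hq : HasAtMor LqfNear f.hom x) (hxz : x ⤳ z)
    (hfz : Points.map f.hom z = Points.map f.hom x) : z = x := by
  obtain ⟨U, V, a, b, g, u, hV, ha, hb, w, rfl⟩ := exists_affine_diagram f z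
  have := hf a b g ha hb w
  obtain ⟨O, hO, hvO, hOv⟩ := exists_open_inter_fibre hY hb (g.left u)
  let ι := g.left.fiberι (g.left u)
  have : LocallyOfFiniteType (g.left.fiberToSpecResidueField (g.left u)) :=
    MorphismProperty.pullback_snd _ _ inferInstance
  have := LocallyOfFiniteType.isLocallyNoetherian (g.left.fiberToSpecResidueField (g.left u))
  have : JacobsonSpace ↥(g.left.fiber (g.left u)) :=
    LocallyOfFiniteType.jacobsonSpace (g.left.fiberToSpecResidueField (g.left u))
  have hD : IsClosed (ι ⁻¹' (Points.ofPt a ⁻¹' {x})) := by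
    refine isClosed_of_isolated _ fun t ht => ?_
    have hgt : g.left (ι t) = g.left u := by
      have := Set.mem_range_self (f := ι) t
      rwa [Scheme.Hom.range_fiberι] at this
    have hqt : g.left.QuasiFiniteAt (ι t) :=
      (hasAtMor_lqfNear_chart f hf ha hb w _).1 ((Set.mem_preimage.1 ht : Points.ofPt a (ι t) = x).symm ▸ hq)
    have ho : IsOpen ({t} : Set _) := by
      obtain ⟨W, hW, hqW, hlq⟩ := (show ∃ W : U.left.Opens, ι t ∈ W ∧ LocallyQuasiFinite (W.ι ≫ g.left) ∧ True from
        let ⟨W, h1, h2, _⟩ := (lqfNear_iff g.left (ι t)).2 ((quasiFiniteAt_iff_fibreDimAt_eq_zero g.left _).1 hqt)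
        ⟨W, h1, h2, trivial⟩)
      obtain ⟨O₂, hO₂, he₂⟩ := isOpen_induced_iff.1
        (discreteTopology_iff_isOpen_singleton.1
          ((W.ι ≫ g.left).isDiscrete_preimage_singleton (g.left u)).to_subtype ⟨⟨ι t, hW⟩, hgt⟩)
      obtain ⟨O₃, hO₃, rfl⟩ := W.ι.isEmbedding.isInducing.isOpen_iff.1 hO₂
      convert (hO₃.inter W.2).preimage ι.continuous
      ext t'
      constructor
      · rintro rfl
        exact ⟨(Set.ext_iff.1 he₂ ⟨⟨ι t', hW⟩, hgt⟩).2 rfl, hW⟩
      · rintro ⟨h3, h4⟩
        have hgt' : g.left (ι t') = g.left u := by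
          have := Set.mem_range_self (f := ι) t'
          rwa [Scheme.Hom.range_fiberι] at this
        have := (Set.ext_iff.1 he₂ ⟨⟨ι t', h4⟩, hgt'⟩).1 h3
        exact ι.isEmbedding.injective (congrArg (fun e => W.ι e.1) this)
    exact ⟨ho, isClosed_singleton_of_isOpen ho⟩
  by_contra hne
  obtain ⟨O₂, hO₂, he⟩ := ι.isEmbedding.isInducing.isOpen_iff.1 hD.isOpen_compl
  have hu : u ∈ O₂ := by
    have : g.left.asFiber u ∈ ι ⁻¹' O₂ := by
      rw [he]
      show ¬ Points.ofPt a (ι (g.left.asFiber u)) = x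
      rw [g.left.fiberι_asFiber]
      exact hne
    rwa [Set.mem_preimage, g.left.fiberι_asFiber] at this
  obtain ⟨t, ⟨ht₂, ht⟩, htx⟩ := hxz.mem_open (AlgSpB.isOpenMap_ofPt ha _ (hO₂.inter (hO.preimage g.left.continuous)))
    ⟨u, ⟨hu, hvO⟩, rfl⟩
  have hz : Points.ofPt b (g.left t) = Points.ofPt b (g.left u) := by
    rw [← AlgSpB.ofPt_map_comp, ← AlgSpB.ofPt_map_comp, ← w, ← Points.map_ofPt, ← Points.map_ofPt, htx, hfz]
  obtain ⟨t', rfl⟩ : t ∈ Set.range ι := by
    rw [Scheme.Hom.range_fiberι]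
    exact hOv _ ht hz
  have : t' ∈ (ι ⁻¹' (Points.ofPt a ⁻¹' {x}))ᶜ := he ▸ ht₂
  exact this htx

end Groth.Agent.AlgSpD
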