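import Groth.Agent.AlgSpD.FibrePoint
import Groth.Agent.AlgSpB.Points
import Mathlib.AlgebraicGeometry.Morphisms.QuasiFinite

/-!
# The topology of fibres of morphisms of algebraic spaces at isolated points
-/

set_option autoImplicit false

universe u

open CategoryTheory CategoryTheory.Limits AlgebraicGeometry TopologicalSpace Topology

set_option backward.isDefEq.respectTransparency false

namespace Groth.Agent.AlgSpD

open _root_.AlgSp
open Groth.Agent

variable {S : Scheme.{u}}

section Topology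

variable {T : Type*} [TopologicalSpace T]

theorem dim_nonneg [Nonempty T] : 0 ≤ topologicalKrullDim T :=
  have : Nonempty (IrreducibleCloseds T) :=
    ‹Nonempty T›.map fun x => ⟨closure {x}, isIrreducible_singleton.closure, isClosed_closure⟩
  Order.krullDim_nonneg

theorem localDim_eq_zero_of_isOpen {x : T} (h : IsOpen ({x} : Set T)) : FlatMor.localDim T x = 0 := by
  refine le_antisymm ((iInf_le _ ⟨⟨{x}, h⟩, rfl⟩).trans ?_) (le_iInf fun U => ?_)
  · have : Subsingleton ↥({x} : Set T) := ⟨fun a b => Subtype.ext ((a.2 : a.1 = x).trans (b.2 : b.1 = x).symm)⟩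
    exact topologicalKrullDim_zero_of_discreteTopology _
  · have : Nonempty ↥(U.1 : Set T) := ⟨⟨x, U.2⟩⟩
    exact dim_nonneg

theorem localDim_eq_zero_of_dim (h : topologicalKrullDim T = 0) (x : T) : FlatMor.localDim T x = 0 := by
  refine le_antisymm ((iInf_le _ (⟨⊤, trivial⟩ : {U : TopologicalSpace.Opens T // x ∈ U})).trans (h ▸ ?_)) (le_iInf fun U => ?_)
  · exact IsInducing.subtypeVal.topologicalKrullDim_le
  · have : Nonempty ↥(U.1 : Set T) := ⟨⟨x, U.2⟩⟩
    exact dim_nonneg

theorem eq_of_specializes_of_dim_le_zero [T0Space T] (h : topologicalKrullDim T ≤ 0) {a b : T}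
    (hab : a ⤳ b) : a = b := by
  let A : IrreducibleCloseds T := ⟨closure {a}, isIrreducible_singleton.closure, isClosed_closure⟩
  let B : IrreducibleCloseds T := ⟨closure {b}, isIrreducible_singleton.closure, isClosed_closure⟩
  have hBA : B ≤ A := closure_minimal (Set.singleton_subset_iff.2 (specializes_iff_mem_closure.1 hab)) isClosed_closure
  have hm : IsMax B := Order.krullDim_nonpos_iff_forall_isMax.1 h B
  have : a ∈ closure {b} := hm hBA (subset_closure rfl)
  exact (hab.antisymm (specializes_iff_mem_closure.2 this)).eq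

end Topology

variable {X Y : Space S}

theorem range_map_fst (f : X ⟶ Y) (r : FieldPt Y.obj) (Xk : Space S) (fst : Xk ⟶ X)
    (snd : Xk.obj ⟶ (yon S).obj r.pt) (hsq : IsPullback fst.hom snd f.hom r.toHom) :
    Set.range (Points.map fst.hom) = Points.map f.hom ⁻¹' {Points.mk r} := by
  have hr : ∀ q : Points ((yon S).obj r.pt), Points.map r.toHom q = Points.mk r := by
    intro q
    obtain ⟨t, rfl⟩ : ∃ t, Points.ofScheme r.pt t = q := (Points.schemeHomeo r.pt).surjective q
    rw [← Points.ofPt_eq_map_ofScheme]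
    exact Points.ofPt_toHom r t
  ext x
  constructor
  · rintro ⟨xt, rfl⟩
    show Points.map f.hom (Points.map fst.hom xt) = Points.mk r
    have e : Points.map (fst.hom ≫ f.hom) xt = Points.map (snd ≫ r.toHom) xt := by rw [hsq.w]
    rw [Points.map_comp, Points.map_comp] at e
    exact e.trans (hr _)
  · intro hx
    obtain ⟨q, hq, -⟩ := AlgSpB.exists_of_isPullback hsq x
      (Points.ofScheme r.pt (IsLocalRing.closedPoint r.K)) ((hx : _ = Points.mk r).trans (hr _).symm)
    exact ⟨q, hq⟩

theorem isOpen_fibre_iff_qf (hY : IsDecent Y.obj) (f : X ⟶ Y) (hf : LocP @LocallyOfFiniteType f.hom)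
    (y : Points Y.obj) (x : ↥(Points.map f.hom ⁻¹' {y})) :
    IsOpen ({x} : Set ↥(Points.map f.hom ⁻¹' {y})) ↔ HasAtMor LqfNear f.hom x.1 := by
  constructor
  · intro h
    obtain ⟨N, hN, he⟩ := isOpen_induced_iff.1 h
    refine qfAt_of_isolated_nbhd f hf x.1 N hN ((Set.ext_iff.1 he x).2 rfl) fun z hz hfz _ => ?_
    exact congrArg Subtype.val ((Set.ext_iff.1 he ⟨z, hfz.trans x.2⟩).1 hz : _ = x)
  · intro h
    obtain ⟨N, hN, hxN, hNx⟩ := isOpen_fibre_of_qfAt hY f hf x.1 h
    refine isOpen_induced_iff.2 ⟨N, hN, Set.ext fun z => ⟨fun hz => ?_, ?_⟩⟩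
    · exact Subtype.ext (hNx _ hz ((z.2 : _ = y).trans (x.2 : _ = y).symm))
    · rintro rfl
      exact hxN

theorem closed_maximal_fibre_iff_qf (hY : IsDecent Y.obj) (f : X ⟶ Y) (hf : LocP @LocallyOfFiniteType f.hom)
    (y : Points Y.obj) (x : ↥(Points.map f.hom ⁻¹' {y})) :
    (IsClosed ({x} : Set ↥(Points.map f.hom ⁻¹' {y})) ∧
      ∀ x' : ↥(Points.map f.hom ⁻¹' {y}), x' ⤳ x → x' = x) ↔ HasAtMor LqfNear f.hom x.1 := by
  constructor
  · rintro ⟨hcl, hgen⟩
    refine qfAt_of_isolated_nbhd f hf x.1 Set.univ isOpen_univ trivial fun z _ hfz hc => ?_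
    let z' : ↥(Points.map f.hom ⁻¹' {y}) := ⟨z, hfz.trans x.2⟩
    rcases hc with hc | hc
    · exact congrArg Subtype.val (hgen z' (subtype_specializes_iff z' x |>.2 hc))
    · have := specializes_iff_mem_closure.1 ((subtype_specializes_iff x z').2 hc)
      rw [hcl.closure_eq] at this
      exact congrArg Subtype.val (this : z' = x)
  · intro h
    refine ⟨closure_subset_iff_isClosed.1 fun z hz => ?_, fun x' hx' =>
      Set.mem_singleton_iff.1 (hx'.mem_open ((isOpen_fibre_iff_qf hY f hf y x).2 h) rfl)⟩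
    exact Subtype.ext (eq_of_specializes_of_qfAt hY f hf x.1 z.1 h
      ((subtype_specializes_iff x z).1 (specializes_iff_mem_closure.2 hz))
      ((z.2 : _ = y).trans (x.2 : _ = y).symm))

theorem localDim_fibre_eq_zero_iff (hY : IsDecent Y.obj) (hX : IsDecent X.obj) (f : X ⟶ Y)
    (hf : LocP @LocallyOfFiniteType f.hom) (y : Points Y.obj) (x : ↥(Points.map f.hom ⁻¹' {y})) :
    FlatMor.localDim ↥(Points.map f.hom ⁻¹' {y}) x = 0 ↔ IsOpen ({x} : Set ↥(Points.map f.hom ⁻¹' {y})) := by
  refine ⟨fun h => ?_, localDim_eq_zero_of_isOpen⟩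
  have := S10338.result X hX
  have h1 : (FlatMor.localDim ↥(Points.map f.hom ⁻¹' {y}) x) < 1 := by rw [h]; exact zero_lt_one
  obtain ⟨⟨U, hxU⟩, hU⟩ := iInf_lt_iff.1 h1
  obtain ⟨N, hN, he⟩ := isOpen_induced_iff.1 U.2
  refine (isOpen_fibre_iff_qf hY f hf y x).2 (qfAt_of_isolated_nbhd f hf x.1 N hN ?_ fun z hz hfz hc => ?_)
  · exact (Set.ext_iff.1 he x).2 hxU
  · let z' : ↥(U : Set ↥(Points.map f.hom ⁻¹' {y})) :=
      ⟨⟨z, hfz.trans x.2⟩, (Set.ext_iff.1 he ⟨z, hfz.trans x.2⟩).1 hz⟩
    let x' : ↥(U : Set ↥(Points.map f.hom ⁻¹' {y})) := ⟨x, hxU⟩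
    have hd : topologicalKrullDim ↥(U : Set ↥(Points.map f.hom ⁻¹' {y})) ≤ 0 := by
      rcases eq_or_ne (topologicalKrullDim ↥(U : Set ↥(Points.map f.hom ⁻¹' {y}))) ⊥ with e | e
      · rw [e]; exact bot_le
      · obtain ⟨d, hd⟩ := WithBot.ne_bot_iff_exists.1 e
        rw [← hd] at hU ⊢
        have : d < 1 := WithBot.coe_lt_coe.1 hU
        exact WithBot.coe_le_coe.2 (ENat.lt_one_iff_eq_zero.1 this).le
    have hh : z' = x' := by
      rcases hc with hc | hc
      · exact eq_of_specializes_of_dim_le_zero hd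
          ((subtype_specializes_iff z' x').2 ((subtype_specializes_iff z'.1 x'.1).2 hc))
      · exact (eq_of_specializes_of_dim_le_zero hd
          ((subtype_specializes_iff x' z').2 ((subtype_specializes_iff x'.1 z'.1).2 hc))).symm
    exact congrArg (fun e => e.1.1) hh

/-- Over a decent space an affine chart has finitely many points over each point. -/
theorem finite_preimage_ofPt (hX : IsDecent X.obj) {B : Over S} [IsAffine B.left]
    {b : (yon S).obj B ⟶ X.obj} (hb : RepWith @Etale b) (x : Points X.obj) :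
    (Points.ofPt b ⁻¹' {x}).Finite := by
  have h := Groth.Agent.AlgSp.finite_preimage_fst_of_decent (X := X) hX (𝟙 X.obj) hb
    (fst := b) (snd := 𝟙 _) IsPullback.of_id_snd x
  refine (h.image (Points.toScheme B)).subset fun v hv => ⟨Points.ofScheme B v, ?_, Points.toScheme_ofScheme B v⟩
  rw [Set.mem_preimage, ← Points.ofPt_eq_map_ofScheme]
  exact hv

/-- A point of a finite open set of a Jacobson space is open. -/
theorem isOpen_singleton_of_finite_open {T : Type*} [TopologicalSpace T] [JacobsonSpace T] {O : Set T}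
    (hO : IsOpen O) (hfin : O.Finite) {t : T} (ht : t ∈ O) : IsOpen ({t} : Set T) := by
  let C := O ∩ closedPoints T
  have hC : ∀ s : Set T, s ⊆ C → IsClosed s := fun s hs => by
    rw [← Set.biUnion_of_singleton s]
    exact (hfin.subset (hs.trans Set.inter_subset_left)).isClosed_biUnion fun w hw =>
      mem_closedPoints_iff.1 (hs hw).2
  have hsub : O ⊆ C := fun w hw => by
    by_contra hwC
    obtain ⟨c, hc, hcc⟩ := nonempty_inter_closedPoints (Z := O \ C) ⟨w, hw, hwC⟩
      (hO.sdiff (hC C subset_rfl)).isLocallyClosed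
    exact hc.2 ⟨hc.1, hcc⟩
  have e : ({t} : Set T) = O \ (O \ {t}) := by
    ext w
    simp only [Set.mem_diff, Set.mem_singleton_iff]
    exact ⟨fun hw => ⟨hw ▸ ht, fun h => h.2 hw⟩, fun h => by_contra fun hne => h.2 ⟨h.1, hne⟩⟩
  rw [e]
  exact hO.sdiff (hC _ (Set.diff_subset.trans hsub))

theorem qfAt_of_finite_fibre (hX : IsDecent X.obj) (f : X ⟶ Y) (hf : LocP @LocallyOfFiniteType f.hom)
    (x : Points X.obj) (hfin : (Points.map f.hom ⁻¹' {Points.map f.hom x}).Finite) :
    HasAtMor LqfNear f.hom x := by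
  obtain ⟨U, V, a, b, g, u, ha, hb, w, rfl⟩ := exists_diagram f x
  have := hf a b g ha hb w
  rw [hasAtMor_lqfNear_chart f hf ha hb w, Scheme.Hom.quasiFiniteAt_iff_isOpen_singleton_asFiber]
  let ι := g.left.fiberι (g.left u)
  have : LocallyOfFiniteType (g.left.fiberToSpecResidueField (g.left u)) :=
    MorphismProperty.pullback_snd _ _ inferInstance
  have : JacobsonSpace ↥(g.left.fiber (g.left u)) :=
    LocallyOfFiniteType.jacobsonSpace (g.left.fiberToSpecResidueField (g.left u))
  obtain ⟨W, hW, huW, -⟩ := exists_isAffineOpen_mem_and_subset (x := u) (U := (⊤ : U.left.Opens)) trivial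
  let B : Over S := Over.mk (W.ι ≫ U.hom)
  let i : B ⟶ U := Over.homMk W.ι rfl
  have : IsOpenImmersion i.left := inferInstanceAs (IsOpenImmersion W.ι)
  have : IsAffine B.left := hW
  have hb' : RepWith @Etale ((yon S).map i ≫ a) := AlgSpB.repWith_etale_map_comp i ha
  refine isOpen_singleton_of_finite_open (O := ι ⁻¹' W) (W.2.preimage ι.continuous) ?_ ?_
  · refine ((hfin.biUnion fun z _ => (finite_preimage_ofPt hX hb' z).image W.ι).preimage
      ι.isEmbedding.injective.injOn).subset fun t ht => ?_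
    have hgt : g.left (ι t) = g.left u := by
      have := Set.mem_range_self (f := ι) t
      rwa [Scheme.Hom.range_fiberι] at this
    refine Set.mem_iUnion₂.2 ⟨Points.ofPt a (ι t), ?_, (⟨ι t, ht⟩ : ↥W.toScheme), ?_, rfl⟩
    · show Points.map f.hom _ = Points.map f.hom _
      rw [Points.map_ofPt, Points.map_ofPt, w, AlgSpB.ofPt_map_comp, AlgSpB.ofPt_map_comp, hgt]
    · exact AlgSpB.ofPt_map_comp i a _
  · show ι (g.left.asFiber u) ∈ W
    rw [g.left.fiberι_asFiber]
    exact huW

section Field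

variable {k : Type u} [Field k] {str : Spec (CommRingCat.of k) ⟶ S} {X : Space S}
  (p : X.obj ⟶ (yon S).obj (Over.mk str)) (hp : LocP @LocallyOfFiniteType p)

include p hp in
theorem discrete_iff_dim_eq_zero [Nonempty (Points X.obj)] :
    DiscreteTopology (Points X.obj) ↔ dim X.obj = 0 := by
  obtain ⟨x₀⟩ := ‹Nonempty (Points X.obj)›
  constructor
  · intro h
    refine le_antisymm (iSup_le fun U => iSup_le fun a => iSup_le fun ha => ?_) ?_
    · have : DiscreteTopology ↥U.left := discreteTopology_iff_isOpen_singleton.2 fun u =>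
        (isOpen_point_iff_chart p hp ha).1 (isOpen_discrete _)
      exact topologicalKrullDim_zero_of_discreteTopology _
    · obtain ⟨U, a, u, ha, -⟩ := exists_chart X x₀
      have : Nonempty ↥U.left := ⟨u⟩
      exact le_iSup_of_le U (le_iSup_of_le a (le_iSup_of_le ha dim_nonneg))
  · intro h
    refine discreteTopology_iff_isOpen_singleton.2 fun x => ?_
    obtain ⟨U, a, u, ha, rfl⟩ := exists_chart X x
    have := (chart_over_field p hp ha).1
    have hd : topologicalKrullDim ↥U.left ≤ 0 := h ▸ le_iSup_of_le U (le_iSup_of_le a (le_iSup_of_le ha le_rfl))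
    have := IsLocallyArtinian.of_topologicalKrullDim_le_zero hd
    exact (isOpen_point_iff_chart p hp ha).2 (isOpen_discrete _)

include p hp in
theorem discrete_points_of_finite (hd : IsDecent X.obj) [Finite (Points X.obj)] :
    DiscreteTopology (Points X.obj) := by
  refine discreteTopology_iff_isOpen_singleton.2 fun x => ?_
  obtain ⟨U, a, u, hU, ha, rfl⟩ := exists_affine_chart X x
  have := (chart_over_field p hp ha).2
  refine (isOpen_point_iff_chart p hp ha).2 (isOpen_singleton_of_finite_open isOpen_univ ?_ trivial)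
  exact (Set.finite_iUnion fun z => finite_preimage_ofPt hd ha z).subset fun t _ => Set.mem_iUnion.2 ⟨_, rfl⟩

end Field

end Groth.Agent.AlgSpD
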