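import Groth.Agent.AlgSpD.HasAt
import Groth.Agent.AlgSpCov.Instances
import Groth.Agent.EtStruct.QFinPts
import Groth.Agent.S9798
import Groth.Agent.S10342

/-!
# Algebraic spaces locally of finite type over a field
-/

universe u

open CategoryTheory AlgebraicGeometry TopologicalSpace Topology

set_option backward.isDefEq.respectTransparency false

namespace Groth.Agent.AlgSpD

open Groth.Agent

variable {k : Type u} [Field k] {X : AlgSp.Space (Spec (CommRingCat.of k))}
  (p : X.obj ⟶ (AlgSp.yon (Spec (CommRingCat.of k))).obj (Over.mk (𝟙 _)))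
  (hp : AlgSp.LocP @LocallyOfFiniteType p)
  {U : Over (Spec (CommRingCat.of k))} {a : (AlgSp.yon (Spec (CommRingCat.of k))).obj U ⟶ X.obj}
  (ha : AlgSp.RepWith @Etale a)

include hp ha in
theorem locallyOfFiniteType_chart : LocallyOfFiniteType U.hom := by
  obtain ⟨h, hh⟩ := (AlgSp.yon (Spec (CommRingCat.of k))).map_surjective (a ≫ p)
  have hid : AlgSp.RepWith @Etale ((AlgSp.yon (Spec (CommRingCat.of k))).map (𝟙 (Over.mk (𝟙 (Spec (CommRingCat.of k)))))) :=
    (AlgSp.repWith_yon_map_iff _ _).2 (inferInstanceAs (Etale (𝟙 (Spec (CommRingCat.of k)))))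
  have := hp a _ h ha hid (by rw [CategoryTheory.Functor.map_id, Category.comp_id, hh])
  rwa [show h.left = U.hom by simpa using Over.w h] at this

include hp in
theorem isLocNoethSp_of_field : AlgSp.IsLocNoethSp X.obj := by
  obtain ⟨U, a, ha, hs⟩ := X.property.atlas
  have := locallyOfFiniteType_chart p hp ha
  exact ⟨U, a, ha, hs, LocallyOfFiniteType.isLocallyNoetherian U.hom⟩

include hp ha in
theorem isOpen_fibre_point_of_isOpen {u : ↥U.left} (h : IsOpen {AlgSp.Points.ofPt a u}) :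
    IsOpen ({u} : Set ↥U.left) ∧ IsClosed ({u} : Set ↥U.left) := by
  have := locallyOfFiniteType_chart p hp ha
  have := LocallyOfFiniteType.isLocallyNoetherian U.hom
  have : JacobsonSpace ↥U.left := LocallyOfFiniteType.jacobsonSpace U.hom
  have hN := isLocNoethSp_of_field p hp
  let F := AlgSp.Points.ofPt a ⁻¹' {AlgSp.Points.ofPt a u}
  have hF : IsOpen F := h.preimage (AlgSp.Points.continuous_ofPt a)
  have hcl : ∀ w ∈ F, IsClosed ({w} : Set ↥U.left) := fun w hw => by
    refine isClosed_singleton_of_isLocallyClosed_singleton ⟨F, closure {w}, hF, isClosed_closure, ?_⟩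
    refine subset_antisymm (Set.singleton_subset_iff.2 ⟨hw, subset_closure rfl⟩) ?_
    rintro v ⟨hv, hvw⟩
    exact S10342.result X hN a ha v w (hv.trans hw.symm) (specializes_iff_mem_closure.2 hvw)
  refine ⟨EtStruct.isOpen_singleton_of_forall_specializes u (fun y hy => ?_) (hcl u rfl), hcl u rfl⟩
  have hyF : y ∈ F := hy.mem_open hF rfl
  exact (S10342.result X hN a ha u y (Set.mem_singleton_iff.1 hyF).symm hy).symm

omit p hp in
include ha in
theorem isOpen_of_isOpen_fibre_point {u : ↥U.left} (h : IsOpen ({u} : Set ↥U.left)) :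
    IsOpen {AlgSp.Points.ofPt a u} := by
  rw [← Set.image_singleton]
  exact AlgSpB.isOpenMap_ofPt ha _ h

include hp ha in
theorem isClosed_of_isOpen_point {u : ↥U.left} (h : IsOpen {AlgSp.Points.ofPt a u}) :
    IsClosed {AlgSp.Points.ofPt a u} := by
  obtain ⟨V, b, hb, hbs⟩ := X.property.atlas
  rw [← (AlgSpB.isOpenQuotientMap_ofPt hb hbs).isQuotientMap.isClosed_preimage]
  have := locallyOfFiniteType_chart p hp hb
  have := LocallyOfFiniteType.isLocallyNoetherian V.hom
  let F := AlgSp.Points.ofPt b ⁻¹' {AlgSp.Points.ofPt a u}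
  have hsing : ∀ w ∈ F, IsOpen ({w} : Set ↥V.left) ∧ IsClosed ({w} : Set ↥V.left) := fun w hw =>
    isOpen_fibre_point_of_isOpen p hp hb (by rw [show AlgSp.Points.ofPt b w = AlgSp.Points.ofPt a u from hw]; exact h)
  rw [← isOpen_compl_iff, isOpen_iff_forall_mem_open]
  intro v hv
  obtain ⟨W, hW, hvW, -⟩ := exists_isAffineOpen_mem_and_subset (x := v) (U := ⊤) trivial
  have : IsNoetherian W.toScheme := { toCompactSpace := isCompact_iff_compactSpace.mp hW.isCompact }
  have hfin : (F ∩ W : Set ↥V.left).Finite := by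
    have hc : IsCompact (W.ι ⁻¹' (F ∩ W)) := TopologicalSpace.NoetherianSpace.isCompact _
    obtain ⟨t, ht⟩ := hc.elim_finite_subcover (fun w : ↥W.toScheme => ({w} ∩ W.ι ⁻¹' (F ∩ W) : Set _))
      (fun w => by
        by_cases hw : W.ι w ∈ F ∩ W
        · rw [Set.inter_eq_left.2 (Set.singleton_subset_iff.2 (show w ∈ W.ι ⁻¹' (F ∩ W) from hw))]
          convert (hsing _ hw.1).1.preimage W.ι.continuous
          ext z
          exact W.ι.isOpenEmbedding.injective.eq_iff.symm
        · rw [Set.inter_comm, Set.inter_singleton_eq_empty.2 (show w ∉ W.ι ⁻¹' (F ∩ W) from hw)]; exact isOpen_empty)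
      (fun w hw => Set.mem_iUnion.2 ⟨w, rfl, hw⟩)
    refine (t.finite_toSet.image W.ι).subset fun z hz => ?_
    obtain ⟨w, hwt, hwz⟩ := Set.mem_iUnion₂.1 (ht (show (⟨z, hz.2⟩ : ↥W) ∈ W.ι ⁻¹' (F ∩ W) from hz))
    exact ⟨w, hwt, congrArg W.ι hwz.1.symm⟩
  refine ⟨(W : Set _) ∩ (F ∩ W)ᶜ, fun z hz hzF => hz.2 ⟨hzF, hz.1⟩, W.2.inter ?_, hvW, fun hh => hv hh.1⟩
  rw [isOpen_compl_iff, ← Set.biUnion_of_singleton (F ∩ (W : Set ↥V.left))]
  exact hfin.isClosed_biUnion fun w hw => (hsing w hw.1).2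

end Groth.Agent.AlgSpD
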