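import Mathlib.RingTheory.TensorProduct.Finite
import Mathlib.FieldTheory.Separable
import Mathlib.LinearAlgebra.TensorProduct.Basis
import Mathlib.RingTheory.TensorProduct.Free

/-!
# The quotient of a finite equivalence relation on the spectrum of a field
-/

universe u

open TensorProduct

namespace Groth.Agent.AlgSpD

variable {K B : Type u} [Field K] [CommRing B]

/-- The field of invariants of two maps out of a field. -/
def invField [Nontrivial B] (σ τ : K →+* B) : Subfield K := RingHom.eqLocusField σ τ

variable (σ τ : K →+* B)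

/-- `B` as an algebra over `K` through the given map. -/
@[nolint unusedArguments]
def Twist (_φ : K →+* B) : Type u := B

instance (φ : K →+* B) : CommRing (Twist φ) := inferInstanceAs (CommRing B)

instance twistAlgebra (φ : K →+* B) : Algebra K (Twist φ) :=
  RingHom.toAlgebra (R := K) (S := Twist φ) φ

/-- The form of transitivity used: composition of arrows is a ring map into the tensor product of `B` with itself
formed with `τ` on the left factor and `σ` on the right factor. -/
def HasComp : Prop :=
  ∀ (L : Type u) (_ : CommRing L) (d e : B →+* L), (∀ k, d (τ k) = e (σ k)) →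
    ∃ g : B →+* L, (∀ k, g (σ k) = d (σ k)) ∧ ∀ k, g (τ k) = e (τ k)

theorem linearIndependent_image [Nontrivial B] (hcomp : HasComp σ τ) {n : ℕ} (x : Fin n → K)
    (hx : LinearIndependent (invField σ τ) x) (a : Fin n → K) (ha : ∑ i, σ (a i) * τ (x i) = 0) :
    a = 0 := by
  classical
  by_contra hne
  let N : Set (Fin n → K) := {b | b ≠ 0 ∧ ∑ i, σ (b i) * τ (x i) = 0}
  let supp : (Fin n → K) → ℕ := fun b => (Finset.univ.filter fun i => b i ≠ 0).card
  obtain ⟨b, ⟨hb0, hb⟩, hmin⟩ : ∃ b ∈ N, ∀ b' ∈ N, supp b ≤ supp b' := by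
    have h : ((fun b => supp b) '' N).Nonempty := ⟨_, a, ⟨hne, ha⟩, rfl⟩
    obtain ⟨b, hb, hbm⟩ := Nat.sInf_mem h
    exact ⟨b, hb, fun b' hb' => (le_of_eq hbm).trans (Nat.sInf_le ⟨b', hb', rfl⟩)⟩
  obtain ⟨j, hj⟩ : ∃ j, b j ≠ 0 := by by_contra! h; exact hb0 (funext h)
  let c : Fin n → K := fun i => b i / b j
  have hc : ∑ i, σ (c i) * τ (x i) = 0 := by
    have : ∑ i, σ (c i) * τ (x i) = σ (b j)⁻¹ * ∑ i, σ (b i) * τ (x i) := by
      rw [Finset.mul_sum]
      exact Finset.sum_congr rfl fun i _ => by simp only [c, div_eq_inv_mul, map_mul, mul_assoc]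
    rw [this, hb, mul_zero]
  let algσ : Algebra K B := σ.toAlgebra
  let il : B →+* Twist τ ⊗[K] B := (Algebra.TensorProduct.includeLeftRingHom : Twist τ →+* Twist τ ⊗[K] B)
  let ir : B →+* Twist τ ⊗[K] B := (Algebra.TensorProduct.includeRight : B →ₐ[K] Twist τ ⊗[K] B).toRingHom
  have hlr : ∀ k, il (τ k) = ir (σ k) := fun k => Algebra.TensorProduct.tmul_one_eq_one_tmul (A := Twist τ) (B := B) k
  obtain ⟨g, hgσ, hgτ⟩ := hcomp _ inferInstance il ir hlr
  have key : ∑ i, il (σ (c i) - τ (c i)) * ir (τ (x i)) = 0 := by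
    have h1 : ∑ i, il (σ (c i)) * ir (τ (x i)) = 0 := by
      have := congrArg g hc
      simpa [map_sum, hgσ, hgτ] using this
    have h2 : ∑ i, il (τ (c i)) * ir (τ (x i)) = 0 := by
      simp only [hlr, ← map_mul, ← map_sum, hc, map_zero]
    simp only [map_sub, sub_mul, Finset.sum_sub_distrib, h1, h2, sub_zero]
  have hcC : ∀ i, c i ∈ invField σ τ := by
    intro i
    by_contra hi
    change σ (c i) ≠ τ (c i) at hi
    obtain ⟨φ, hφ⟩ : ∃ φ : Twist τ →ₗ[K] K, φ (σ (c i) - τ (c i) : B) ≠ 0 := by
      by_contra! h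
      exact sub_ne_zero.2 hi ((Module.Free.chooseBasis K (Twist τ)).forall_coord_eq_zero_iff.1 fun k => h _)
    let m : Fin n → K := fun l => φ (σ (c l) - τ (c l))
    have hm : ∑ l, σ (m l) * τ (x l) = 0 := by
      let Φ : Twist τ ⊗[K] B →ₗ[K] B :=
        (TensorProduct.lid K B).toLinearMap ∘ₗ TensorProduct.map φ LinearMap.id
      have h0 := congrArg Φ key
      rw [map_sum, map_zero] at h0
      refine (Finset.sum_congr rfl fun l _ => ?_).trans h0
      change σ (m l) * τ (x l) =
        Φ ((show Twist τ from σ (c l) - τ (c l)) ⊗ₜ[K] (1 : B) * (1 : Twist τ) ⊗ₜ[K] τ (x l))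
      rw [Algebra.TensorProduct.tmul_mul_tmul, mul_one, one_mul]
      rfl
    have hmne : m ≠ 0 := fun h => hφ (congrFun h i)
    have h1 := hmin m ⟨hmne, hm⟩
    refine absurd h1 (not_le.2 ?_)
    have hmz : ∀ l, σ (c l) = τ (c l) → m l = 0 := fun l h => by
      change φ (σ (c l) - τ (c l) : B) = 0
      rw [sub_eq_zero.2 h]
      exact map_zero φ
    apply Finset.card_lt_card
    rw [Finset.ssubset_iff_of_subset]
    · exact ⟨j, by simp [hj], by simp [hmz j (by simp [c, hj])]⟩
    · intro l hl
      simp only [Finset.mem_filter, Finset.mem_univ, true_and] at hl ⊢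
      intro h
      exact hl (hmz l (by simp [c, h]))
  have hsum : ∑ i, c i * x i = 0 := by
    apply τ.injective
    rw [map_sum, map_zero, ← hc]
    exact Finset.sum_congr rfl fun i _ => by rw [map_mul, show σ (c i) = τ (c i) from hcC i]
  have := Fintype.linearIndependent_iff.1 hx (fun i => ⟨c i, hcC i⟩) hsum j
  simp [c, hj, Subtype.ext_iff] at this

theorem finite_over_invField [Nontrivial B] (hcomp : HasComp σ τ)
    (hfin : σ.Finite) : Module.Finite (invField σ τ) K := by
  let algσ : Algebra K B := σ.toAlgebra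
  have : Module.Finite K B := hfin
  refine Module.finite_of_rank_eq_nat (n := (Module.rank (invField σ τ) K).toNat) ?_
  have hb : Module.rank (invField σ τ) K ≤ (Module.finrank K B : Cardinal) := by
    refine rank_le fun s hs => ?_
    let x : Fin s.card → K := fun i => (s.equivFin.symm i : K)
    have hx : LinearIndependent (invField σ τ) x := hs.comp _ s.equivFin.symm.injective
    have : LinearIndependent K fun i => τ (x i) := Fintype.linearIndependent_iff.2 fun a ha i =>
      congrFun (linearIndependent_image σ τ hcomp x hx a (by simpa [Algebra.smul_def, algσ, RingHom.algebraMap_toAlgebra] using ha)) i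
    simpa using this.fintype_card_le_finrank
  exact (Cardinal.cast_toNat_of_lt_aleph0 (hb.trans_lt (Cardinal.natCast_lt_aleph0))).symm

/-- The map `K ⊗ K → B` given by the two maps. -/
noncomputable def pairMap [Nontrivial B] : K ⊗[invField σ τ] K →+* B :=
  letI : Algebra (invField σ τ) B := (σ.comp (invField σ τ).subtype).toAlgebra
  (Algebra.TensorProduct.productMap
    ({ toRingHom := σ, commutes' := fun _ => rfl } : K →ₐ[invField σ τ] B)
    ({ toRingHom := τ, commutes' := fun c => (show σ c = τ c from c.2).symm } : K →ₐ[invField σ τ] B)).toRingHom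

theorem pairMap_tmul [Nontrivial B] (a b : K) : pairMap σ τ (a ⊗ₜ b) = σ a * τ b := rfl

theorem pairMap_injective [Nontrivial B] (hcomp : HasComp σ τ) (hfin : σ.Finite) :
    Function.Injective (pairMap σ τ) := by
  have := finite_over_invField σ τ hcomp hfin
  let e := Module.finBasis (invField σ τ) K
  let E := Algebra.TensorProduct.basis K e
  rw [injective_iff_map_eq_zero]
  intro z hz
  rw [← E.sum_repr z] at hz ⊢
  simp only [E, Algebra.TensorProduct.basis_apply, TensorProduct.smul_tmul', smul_eq_mul, mul_one, map_sum,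
    pairMap_tmul] at hz ⊢
  have ha := linearIndependent_image σ τ hcomp (fun i => e i) e.linearIndependent _ hz
  refine Finset.sum_eq_zero fun i _ => ?_
  rw [congrFun ha i]
  simp

end Groth.Agent.AlgSpD
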