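import Groth.Agent.AlgSpD.IntegralMor
import Groth.Agent.AlgSp.Coprod
import Groth.Agent.AlgSp.CoprodCover
import Groth.Agent.AlgSp.GroupQuot
import Groth.Agent.AlgSpB.OpenGlue

/-!
# Finite disjoint unions of spaces finite over a space
-/

universe u

open CategoryTheory CategoryTheory.Limits AlgebraicGeometry Opposite

set_option backward.isDefEq.respectTransparency false

namespace Groth.Agent.AlgSpD

open Groth.Agent

variable {S : Scheme.{u}}

/-- A scheme which is a finite disjoint union of schemes finite over `Z` is finite over `Z`. -/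
theorem isFinite_of_disjoint_family {κ : Type u} [Finite κ] {X Z : Scheme.{u}} (f : X ⟶ Z)
    {W : κ → Scheme.{u}} (e : ∀ i, W i ⟶ X) [∀ i, IsOpenImmersion (e i)]
    (hcov : ∀ x : X, ∃ i, x ∈ Set.range (e i))
    (hdis : ∀ i j, i ≠ j → Disjoint (Set.range (e i)) (Set.range (e j)))
    (h : ∀ i, IsFinite (e i ≫ f)) : IsFinite f := by
  have : IsOpenImmersion (Sigma.desc e) := isOpenImmersion_sigmaDesc _ _ hdis
  have : Surjective (Sigma.desc e) := ⟨fun x => by
    obtain ⟨i, w, rfl⟩ := hcov x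
    exact ⟨Sigma.ι W i w, by rw [← Scheme.Hom.comp_apply, Sigma.ι_desc]⟩⟩
  have : IsIso (Sigma.desc e) := (isIso_iff_isOpenImmersion_and_surjective _).2 ⟨‹_›, ‹_›⟩
  rw [IsFinite.iff_isIntegralHom_and_locallyOfFiniteType]
  have hlft : LocallyOfFiniteType f := by
    rw [← MorphismProperty.cancel_left_of_respectsIso @LocallyOfFiniteType (Sigma.desc e)]
    have : Sigma.desc e ≫ f = Sigma.desc fun i => e i ≫ f := by
      apply Sigma.hom_ext; intro i; simp
    rw [this]
    exact IsZariskiLocalAtSource.sigmaDesc fun i => have := h i; inferInstance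
  refine ⟨IsIntegralHom.iff_universallyClosed_and_isAffineHom.2
    ⟨AlgSp.universallyClosed_of_finite_family f e hcov fun i => have := h i; inferInstance, ?_⟩, hlft⟩
  refine ⟨fun V hV => ?_⟩
  have : ∀ i, IsAffine ((e i ≫ f) ⁻¹ᵁ V).toScheme := fun i => have := h i; IsAffineHom.isAffine_preimage _ hV
  let k : ∀ i, ((e i ≫ f) ⁻¹ᵁ V).toScheme ⟶ (f ⁻¹ᵁ V).toScheme := fun i => (e i) ∣_ (f ⁻¹ᵁ V)
  have : ∀ i, IsOpenImmersion (k i) := fun i => inferInstanceAs (IsOpenImmersion ((e i) ∣_ (f ⁻¹ᵁ V)))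
  have hk : ∀ i z, (k i z).1 = e i z.1 := fun i z =>
    congrArg (fun m : ((e i ≫ f) ⁻¹ᵁ V).toScheme ⟶ X => m z) (morphismRestrict_ι (e i) (f ⁻¹ᵁ V))
  have : IsOpenImmersion (Sigma.desc k) := isOpenImmersion_sigmaDesc _ _ fun i j hij => by
    refine Set.disjoint_left.2 ?_
    rintro _ ⟨z, rfl⟩ ⟨z', hz'⟩
    exact Set.disjoint_left.1 (hdis i j hij) ⟨z.1, (hk i z).symm⟩
      ⟨z'.1, ((hk j z').symm.trans (congrArg Subtype.val hz'))⟩
  have : Surjective (Sigma.desc k) := ⟨fun x => by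
    obtain ⟨i, w, hw⟩ := hcov x.1
    have hwV : w ∈ (e i ≫ f) ⁻¹ᵁ V := by
      change f (e i w) ∈ V
      rw [hw]
      exact x.2
    refine ⟨Sigma.ι (fun i => ((e i ≫ f) ⁻¹ᵁ V).toScheme) i ⟨w, hwV⟩, ?_⟩
    rw [← Scheme.Hom.comp_apply, Sigma.ι_desc]
    exact Subtype.ext ((hk i ⟨w, hwV⟩).trans hw)⟩
  have : IsIso (Sigma.desc k) := (isIso_iff_isOpenImmersion_and_surjective _).2 ⟨‹_›, ‹_›⟩
  exact IsAffine.of_isIso (inv (Sigma.desc k))

/-- A finite disjoint union of spaces finite over `Y` is finite over `Y`. -/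
theorem isFiniteMor_of_cofan {ι : Type u} [Finite ι] (X : ι → AlgSp.Space S) (Y : AlgSp.Space S)
    (g : ∀ i, (X i).obj ⟶ Y.obj) (hg : ∀ i, AlgSp.IsFiniteMor (g i))
    (c : Cofan fun i => (X i).obj) (hc : IsColimit c) (d : c.pt ⟶ Y.obj) (hd : ∀ i, c.inj i ≫ d = g i) :
    AlgSp.IsFiniteMor d := by
  have hinj : ∀ i, AlgSp.RepWith @IsOpenImmersion (c.inj i) := fun i =>
    AlgSp.repWith_mono (fun _ h => h.1) (AlgSp.repWith_cofan_inj hc i)
  have hC : AlgSp.IsAlgSpace c.pt :=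
    AlgSp.isAlgSpace_of_etale_epi_family (fun i => c.inj i) (fun i => (X i).property)
      (fun i => AlgSp.repWith_mono (fun f (hf : IsOpenImmersion f) => (inferInstance : Etale f)) (hinj i))
      fun Q a b h => Cofan.IsColimit.hom_ext hc _ _ h
  refine (isFiniteMor_iff d).2 (MorphismProperty.relative.of_exists fun T t => ?_)
  have sQ := IsPullback.of_hasPullback d t
  have hQ : AlgSp.IsAlgSpace (pullback d t) :=
    AlgSp.isAlgSpace_of_isPullback' Y.property hC (AlgSp.IsAlgSpace.yon_obj T) sQ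
  have hg' := fun i => (isFiniteMor_iff (g i)).1 (hg i)
  let W : ι → Over S := fun i => (hg' i).1.pullback t
  let w : ∀ i, W i ⟶ T := fun i => (hg' i).1.snd t
  let v : ∀ i, (AlgSp.yon S).obj (W i) ⟶ (X i).obj := fun i => (hg' i).1.fst t
  have sW : ∀ i, IsPullback (v i) ((AlgSp.yon S).map (w i)) (g i) t := fun i => (hg' i).1.isPullback t
  let k : ∀ i, (AlgSp.yon S).obj (W i) ⟶ pullback d t := fun i =>
    pullback.lift (v i ≫ c.inj i) ((AlgSp.yon S).map (w i)) (by rw [Category.assoc, hd, (sW i).w])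
  have sk : ∀ i, IsPullback (v i) (k i) (c.inj i) (pullback.fst d t) := fun i =>
    IsPullback.of_bot (v₁₁ := k i) (v₁₂ := c.inj i) (v₂₁ := pullback.snd d t) (v₂₂ := d)
      (by rw [pullback.lift_snd, hd]; exact sW i) (pullback.lift_fst _ _ _).symm sQ
  have hk : ∀ i, AlgSp.RepWith @IsOpenImmersion (k i) := fun i => MorphismProperty.of_isPullback (sk i) (hinj i)
  obtain ⟨X', ⟨e⟩⟩ := AlgSpB.exists_iso_yon_of_openCover hQ W k hk fun q => by
    obtain ⟨r, hr⟩ := AlgSp.Points.mk_surjective (AlgSp.Points.map (pullback.fst d t) q)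
    obtain ⟨O, -, hcov, hpb⟩ := AlgSp.exists_open_decomp hc r.toHom
    obtain ⟨i, hi⟩ := hcov (IsLocalRing.closedPoint r.K)
    obtain ⟨l, hl⟩ := hpb i
    obtain ⟨z, -, hz⟩ := AlgSpB.exists_of_isPullback (sk i)
      (AlgSp.Points.ofPt l (⟨IsLocalRing.closedPoint r.K, hi⟩ : ↥(O i))) q (by
        rw [AlgSp.Points.map_ofPt, hl.w, AlgSpB.ofPt_map_comp, ← hr]
        exact AlgSp.Points.ofPt_toHom r _)
    exact ⟨i, z, hz⟩
  obtain ⟨x, hx⟩ := (AlgSp.yon S).map_surjective (e.hom ≫ pullback.snd d t)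
  refine ⟨X', e.hom ≫ pullback.fst d t, x, IsPullback.of_iso_pullback ⟨by rw [hx, Category.assoc, Category.assoc, pullback.condition]⟩ e (by simp) (by simp [hx]), ?_⟩
  choose kk hkk using fun i => (AlgSp.yon S).map_surjective (k i ≫ e.inv)
  have hopen : ∀ i, IsOpenImmersion (kk i).left := fun i => by
    refine (AlgSp.repWith_yon_map_iff _ _).1 ?_
    rw [hkk]
    exact (MorphismProperty.cancel_right_of_respectsIso _ _ _).2 (hk i)
  refine isFinite_of_disjoint_family x.left (fun i => (kk i).left) (fun z => ?_) (fun i j hij => ?_) fun i => ?_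
  · obtain ⟨r, hr⟩ := AlgSp.Points.mk_surjective (AlgSp.Points.ofPt (e.hom ≫ pullback.fst d t) z)
    obtain ⟨O, -, hcov, hpb⟩ := AlgSp.exists_open_decomp hc r.toHom
    obtain ⟨i, hi⟩ := hcov (IsLocalRing.closedPoint r.K)
    obtain ⟨l, hl⟩ := hpb i
    have sk' : IsPullback (v i) ((AlgSp.yon S).map (kk i)) (c.inj i) (e.hom ≫ pullback.fst d t) :=
      IsPullback.of_iso (sk i) (Iso.refl _) (Iso.refl _) e.symm (Iso.refl _) (by simp) (by simp [hkk]) (by simp)
        (by simp)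
    obtain ⟨p, -, hp⟩ := AlgSpB.exists_of_isPullback sk'
      (AlgSp.Points.ofPt l (⟨IsLocalRing.closedPoint r.K, hi⟩ : ↥(O i))) (AlgSp.Points.ofScheme X' z) (by
        rw [AlgSp.Points.map_ofPt, hl.w, AlgSpB.ofPt_map_comp, ← AlgSp.Points.ofPt_eq_map_ofScheme, ← hr]
        exact AlgSp.Points.ofPt_toHom r _)
    refine ⟨i, AlgSp.Points.toScheme (W i) p, ?_⟩
    rw [← AlgSp.Points.toScheme_ofPt (kk i), AlgSp.Points.ofPt_eq_map_ofScheme,
      AlgSp.Points.ofScheme_toScheme, hp, AlgSp.Points.toScheme_ofScheme]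
  · refine Set.disjoint_left.2 ?_
    rintro _ ⟨a, rfl⟩ ⟨b, hb⟩
    have sqab := (IsPullback.of_hasPullback (kk i) (kk j)).map (Over.forget S)
    obtain ⟨z, -, -⟩ := Scheme.exists_preimage_of_isPullback sqab a b hb.symm
    refine (AlgSp.isEmpty_of_cofan hc hij ((AlgSp.yon S).map (pullback.fst (kk i) (kk j)) ≫ v i)
      ((AlgSp.yon S).map (pullback.snd (kk i) (kk j)) ≫ v j) ?_).false z
    have e1 : ∀ m, v m ≫ c.inj m = (AlgSp.yon S).map (kk m) ≫ e.hom ≫ pullback.fst d t := fun m => by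
      rw [hkk, Category.assoc, e.inv_hom_id_assoc, pullback.lift_fst]
    rw [Category.assoc, Category.assoc, e1, e1, ← Functor.map_comp_assoc, pullback.condition, Functor.map_comp_assoc]
  · have e2 : kk i ≫ x = w i := (AlgSp.yon S).map_injective (by
      rw [Functor.map_comp, hkk, hx, Category.assoc, e.inv_hom_id_assoc, pullback.lift_snd])
    rw [← Over.comp_left, e2]
    exact (hg' i).2 _ _ _ (sW i)

end Groth.Agent.AlgSpD
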