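import Groth.Agent.AlgSpB.OpenGlue
import Groth.Agent.AlgSpB.Points
import Groth.Agent.AlgSp.Space

/-!
# Representability of a morphism is Zariski local on the target
-/

universe u

open CategoryTheory CategoryTheory.Limits AlgebraicGeometry Opposite

set_option backward.isDefEq.respectTransparency false

namespace Groth.Agent.AlgSpD

open Groth.Agent

variable {S : Scheme.{u}}

/-- A morphism of algebraic spaces which is representable with `P` over the members of a Zariski covering
of the target is representable with `P`, for `P` local on the target. -/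
theorem repWith_of_zarCover {P : MorphismProperty Scheme.{u}} [P.IsStableUnderBaseChange]
    [IsZariskiLocalAtTarget P] {X Y : AlgSp.Space S} (f : X.obj ⟶ Y.obj) {ι : Type u}
    (Yi : ι → AlgSp.Sp S) (j : ∀ i, Yi i ⟶ Y.obj) (hj : ∀ i, AlgSp.RepWith @IsOpenImmersion (j i))
    (hcov : ∀ y, ∃ i, y ∈ Set.range (AlgSp.Points.map (j i)))
    (Xi : ι → AlgSp.Sp S) (p : ∀ i, Xi i ⟶ X.obj) (q : ∀ i, Xi i ⟶ Yi i)
    (sq : ∀ i, IsPullback (p i) (q i) f (j i)) (hq : ∀ i, AlgSp.RepWith P (q i)) :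
    AlgSp.RepWith P f := by
  have : P.RespectsIso := MorphismProperty.IsStableUnderBaseChange.respectsIso
  refine MorphismProperty.relative.of_exists fun T g => ?_
  have sQ := IsPullback.of_hasPullback f g
  have hQ : AlgSp.IsAlgSpace (pullback f g) :=
    AlgSp.isAlgSpace_of_isPullback' Y.property X.property (AlgSp.IsAlgSpace.yon_obj T) sQ
  let Ti : ι → Over S := fun i => (hj i).1.pullback g
  let t : ∀ i, Ti i ⟶ T := fun i => (hj i).1.snd g
  let gi : ∀ i, (AlgSp.yon S).obj (Ti i) ⟶ Yi i := fun i => (hj i).1.fst g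
  have sT : ∀ i, IsPullback (gi i) ((AlgSp.yon S).map (t i)) (j i) g := fun i => (hj i).1.isPullback g
  let Wi : ι → Over S := fun i => (hq i).1.pullback (gi i)
  let w : ∀ i, Wi i ⟶ Ti i := fun i => (hq i).1.snd (gi i)
  let u : ∀ i, (AlgSp.yon S).obj (Wi i) ⟶ Xi i := fun i => (hq i).1.fst (gi i)
  have sW : ∀ i, IsPullback (u i) ((AlgSp.yon S).map (w i)) (q i) (gi i) := fun i => (hq i).1.isPullback (gi i)
  let k : ∀ i, (AlgSp.yon S).obj (Wi i) ⟶ pullback f g := fun i =>
    pullback.lift (u i ≫ p i) ((AlgSp.yon S).map (w i) ≫ (AlgSp.yon S).map (t i)) (by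
      rw [Category.assoc, (sq i).w, reassoc_of% (sW i).w, Category.assoc, (sT i).w])
  have sk : ∀ i, IsPullback (k i) ((AlgSp.yon S).map (w i)) (pullback.snd f g) ((AlgSp.yon S).map (t i)) := by
    intro i
    have h1 := (sW i).paste_horiz (sq i)
    rw [(sT i).w] at h1
    exact IsPullback.of_right (h₁₂ := pullback.fst f g) (v₁₂ := pullback.snd f g) (v₁₃ := f) (h₂₂ := g)
      (by rw [pullback.lift_fst]; exact h1) (pullback.lift_snd _ _ _) sQ
  have hti : ∀ i, IsOpenImmersion (t i).left := fun i => (hj i).2 _ _ _ (sT i)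
  have hk : ∀ i, AlgSp.RepWith @IsOpenImmersion (k i) := fun i =>
    MorphismProperty.of_isPullback (sk i).flip ((AlgSp.repWith_yon_map_iff _ _).2 (hti i))
  have hTcov : ∀ z : ↥T.left, ∃ i, z ∈ Set.range (t i).left := by
    intro z
    obtain ⟨i, y, hy⟩ := hcov (AlgSp.Points.ofPt g z)
    obtain ⟨v, -, hv⟩ := AlgSpB.exists_of_isPullback (sT i) y (AlgSp.Points.ofScheme T z)
      (hy.trans (AlgSp.Points.ofPt_eq_map_ofScheme g z))
    refine ⟨i, AlgSp.Points.toScheme (Ti i) v, ?_⟩
    rw [← AlgSp.Points.toScheme_ofPt (t i), AlgSp.Points.ofPt_eq_map_ofScheme,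
      AlgSp.Points.ofScheme_toScheme, hv, AlgSp.Points.toScheme_ofScheme]
  obtain ⟨X', ⟨e⟩⟩ := AlgSpB.exists_iso_yon_of_openCover hQ Wi k hk fun x => by
    obtain ⟨i, z, hz⟩ := hTcov (AlgSp.Points.toScheme T (AlgSp.Points.map (pullback.snd f g) x))
    obtain ⟨v, hv, -⟩ := AlgSpB.exists_of_isPullback (sk i) x (AlgSp.Points.ofScheme (Ti i) z) (by
      rw [← AlgSp.Points.ofPt_eq_map_ofScheme, ← Category.comp_id ((AlgSp.yon S).map (t i)), AlgSpB.ofPt_map_comp, hz]
      exact (AlgSp.Points.ofScheme_toScheme T _).symm)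
    exact ⟨i, v, hv⟩
  obtain ⟨x, hx⟩ := (AlgSp.yon S).map_surjective (e.hom ≫ pullback.snd f g)
  refine ⟨X', e.hom ≫ pullback.fst f g, x, IsPullback.of_iso_pullback ⟨by rw [hx, Category.assoc, Category.assoc, pullback.condition]⟩ e (by simp) (by simp [hx]), ?_⟩
  refine IsZariskiLocalAtTarget.of_forall_exists_morphismRestrict fun z => ?_
  obtain ⟨i, hi⟩ := hTcov z
  have := hti i
  refine ⟨(t i).left.opensRange, hi, ?_⟩
  obtain ⟨k', hk'⟩ := (AlgSp.yon S).map_surjective (k i ≫ e.inv)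
  have sx : IsPullback k' (w i) x (t i) := by
    have h2 : IsPullback ((AlgSp.yon S).map k') ((AlgSp.yon S).map (w i)) ((AlgSp.yon S).map x)
        ((AlgSp.yon S).map (t i)) :=
      IsPullback.of_iso (sk i) (Iso.refl _) e.symm (Iso.refl _) (Iso.refl _) (by simp [hk']) (by simp)
        (by simp [hx]) (by simp)
    exact IsPullback.of_map (AlgSp.yon S) ((AlgSp.yon S).map_injective (by
      rw [Functor.map_comp, Functor.map_comp]; exact h2.w)) h2
  change P (x.left ∣_ (t i).left.opensRange)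
  refine (P.arrow_mk_iso_iff (morphismRestrictOpensRange x.left (t i).left)).2 ?_
  exact (P.arrow_mk_iso_iff (Arrow.isoMk (sx.map (Over.forget S)).isoPullback (Iso.refl _) (by simp))).1
    ((hq i).2 _ _ _ (sW i))

end Groth.Agent.AlgSpD
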