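import Groth.Agent.AlgSpD.IntegralMor
import Groth.Agent.AlgSpD.ZarTarget
import Groth.Agent.AlgSp.LocPFin
import Groth.Agent.AlgSp.FppfLocal
import Groth.Prelude.Def_AlgSpMor5

/-!
# Finite locally free morphisms of algebraic spaces
-/

universe u

open CategoryTheory CategoryTheory.Limits AlgebraicGeometry Opposite

set_option backward.isDefEq.respectTransparency.types false

namespace Groth.Agent.AlgSpD

open Groth.Agent

variable {S : Scheme.{u}}

/-- Finite locally free morphisms are the finite, flat, locally finitely presented ones. -/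
theorem isFinLocFreeMor_iff {F G : AlgSp.Sp S} (f : F ⟶ G) :
    AlgSp.IsFinLocFreeMor f ↔ AlgSp.RepWith @IsFinite f ∧ AlgSp.RepWith @Flat f ∧
      AlgSp.RepWith @LocallyOfFinitePresentation f := by
  constructor
  · intro h
    exact ⟨⟨h.1, fun _ _ g fst snd sq => (h.2 g fst snd sq).1⟩, ⟨h.1, fun _ _ g fst snd sq => (h.2 g fst snd sq).2.1⟩,
      ⟨h.1, fun _ _ g fst snd sq => (h.2 g fst snd sq).2.2⟩⟩
  · rintro ⟨h1, h2, h3⟩
    exact ⟨h1.1, fun _ _ g fst snd sq => ⟨h1.2 g fst snd sq, h2.2 g fst snd sq, h3.2 g fst snd sq⟩⟩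

theorem isFinLocFreeMor_descend {X Y : AlgSp.Space S} (f : X.obj ⟶ Y.obj) {V : Over S}
    (p : (AlgSp.yon S).obj V ⟶ Y.obj) (hp : AlgSp.RepWith @Etale p) (hps : AlgSp.RepWith @Surjective p)
    {Q : AlgSp.Sp S} {fst : Q ⟶ X.obj} {snd : Q ⟶ (AlgSp.yon S).obj V} (sq : IsPullback fst snd f p)
    (h : AlgSp.IsFinLocFreeMor snd) : AlgSp.IsFinLocFreeMor f := by
  obtain ⟨h1, h2, h3⟩ := (isFinLocFreeMor_iff snd).1 h
  have hf := repWith_descend (P := @IsFinite) (fun g (hg : IsFinite g) => inferInstance) f p hp hps sq h1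
  have := AlgSp.isLocallySurjective_of_etale_surjective p hp hps
  exact (isFinLocFreeMor_iff f).2 ⟨hf,
    AlgSpCov.repWith_of_locP AlgSpCov.etaleLocal_flat X.property Y.property hf.1
      (AlgSp.locP_of_target_cover AlgSpCov.standard_flat X.property Y.property f p hp hps sq
        (AlgSpCov.locP_of_repWith AlgSpCov.etaleLocal_flat h2)),
    AlgSpCov.repWith_of_locP AlgSpCov.etaleLocal_locallyOfFinitePresentation X.property Y.property hf.1
      (AlgSp.locP_of_target_cover AlgSpCov.standard_locallyOfFinitePresentation X.property Y.property f p hp hps sq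
        (AlgSpCov.locP_of_repWith AlgSpCov.etaleLocal_locallyOfFinitePresentation h3))⟩

theorem isFinLocFreeMor_iff_locP {X Y : AlgSp.Space S} (f : X.obj ⟶ Y.obj) :
    AlgSp.IsFinLocFreeMor f ↔
      (AlgSp.IsFiniteMor f ∧ AlgSp.LocP @Flat f ∧ AlgSp.LocP @LocallyOfFinitePresentation f) := by
  rw [isFinLocFreeMor_iff, isFiniteMor_iff]
  exact ⟨fun ⟨h1, h2, h3⟩ => ⟨h1, AlgSpCov.locP_of_repWith AlgSpCov.etaleLocal_flat h2,
      AlgSpCov.locP_of_repWith AlgSpCov.etaleLocal_locallyOfFinitePresentation h3⟩,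
    fun ⟨h1, h2, h3⟩ => ⟨h1, AlgSpCov.repWith_of_locP AlgSpCov.etaleLocal_flat X.property Y.property h1.1 h2,
      AlgSpCov.repWith_of_locP AlgSpCov.etaleLocal_locallyOfFinitePresentation X.property Y.property h1.1 h3⟩⟩

theorem isFinLocFreeMor_iff_of_noeth {X Y : AlgSp.Space S} (f : X.obj ⟶ Y.obj)
    (hY : AlgSp.IsLocNoethSp Y.obj) :
    AlgSp.IsFinLocFreeMor f ↔ (AlgSp.IsFiniteMor f ∧ AlgSp.LocP @Flat f) := by
  rw [isFinLocFreeMor_iff_locP]
  exact ⟨fun h => ⟨h.1, h.2.1⟩, fun h => ⟨h.1, h.2, AlgSp.locP_lfp_of_lft X.property Y.property f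
    ((isFiniteMor_iff_integral f).1 h.1).2 hY⟩⟩

end Groth.Agent.AlgSpD
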