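import Groth.Agent.AlgSpD.ProjLocal
import Groth.Agent.AlgSpQC.Finite
import Groth.Agent.AlgSpQC.BasicOpenChart
import Mathlib.Algebra.Category.ModuleCat.Sheaf.LocallyFree
import Mathlib.RingTheory.Spectrum.Prime.FreeLocus

/-!
# Finite locally free modules on the small etale site
-/

universe u

open CategoryTheory CategoryTheory.Limits AlgebraicGeometry Opposite TensorProduct

set_option backward.isDefEq.respectTransparency false
set_option backward.isDefEq.respectTransparency.types false
set_option autoImplicit false

namespace Groth.Agent.AlgSpD.LocFreeData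

open _root_.AlgSp
open Groth.Agent.AlgSpQC

section Generic

universe w v' u'

variable {C : Type u'} [Category.{v'} C] {J : GrothendieckTopology C} {R : Sheaf J RingCat.{w}}
  [HasSheafify J AddCommGrpCat.{w}] [J.WEqualsLocallyBijective AddCommGrpCat.{w}]

theorem isIso_π_of_isEmpty {N : SheafOfModules.{w} R} (P : N.Presentation)
    (h : IsEmpty P.relations.I) : IsIso P.generators.π := by
  have : Epi P.generators.π := P.generators.epi
  have : Epi P.relations.π := P.relations.epi
  have h0 : kernel.ι P.generators.π = 0 := (cancel_epi P.relations.π).1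
    (Cofan.IsColimit.hom_ext (SheafOfModules.isColimitFreeCofan _) _ _ fun i => isEmptyElim i)
  have : Mono P.generators.π := Preadditive.mono_of_kernel_zero h0
  exact isIso_of_mono_of_epi _

end Generic

variable {S : Scheme.{u}} {X : Sp S} {M : ModEt X}

theorem free_id {R : Type u} [CommRing R] {L : Type (u + 1)} [AddCommGroup L] [Module R L] {I : Type (u + 1)}
    (s : I → L) (hinj : Function.Injective (Finsupp.linearCombination R s))
    (hspan : Submodule.span R (Set.range s) = ⊤) : Module.Free R L :=
  Module.Free.of_basis (Module.Basis.mk hinj hspan.ge)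

theorem map_lce_of_eq {E : EtOver X} {I : Type (u + 1)}
    (π : SheafOfModules.free (R := (OEtRing X).over E) I ⟶ M.over E) (σ : I → (M.over E).sections)
    (h : (M.over E).freeHomEquiv π = σ) (Y : Over E) (c : I →₀ gr Y.left) :
    ((π.val.app (op Y)).hom (lce I Y c) : sectModEt M Y.left) = lc (sr Y.hom fun i => topSec (σ i)) c := by
  subst h
  exact map_lce π Y c

theorem lc_injective_of_isIso {E : EtOver X} {I : Type (u + 1)}
    (π : SheafOfModules.free (R := (OEtRing X).over E) I ⟶ M.over E) [IsIso π] (σ : I → (M.over E).sections)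
    (h : (M.over E).freeHomEquiv π = σ) (Y : Over E) :
    Function.Injective (lc (sr Y.hom fun i => topSec (σ i))) := fun c d e => by
  apply lce_injective Y
  have hinv : Function.LeftInverse ((inv π).val.app (op Y)).hom (π.val.app (op Y)).hom := fun x =>
    LinearMap.congr_fun (congrArg (fun k : _ ⟶ _ => (k.val.app (op Y)).hom) (IsIso.hom_inv_id π)) x
  exact hinv.injective ((map_lce_of_eq π σ h Y c).trans (e.trans (map_lce_of_eq π σ h Y d).symm))

theorem span_of_generators [M.IsQuasicoherent] {E₀ V : EtOver X} [IsAffine V.obj.left.left] (φ : V ⟶ E₀)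
    {I : Type (u + 1)} (σ : I → (M.over E₀).sections) (hσ : Epi ((M.over E₀).freeHomEquiv.symm σ)) :
    Submodule.span (gr V) (Set.range (sr φ fun r => topSec (σ r))) = ⊤ := by
  rw [eq_top_iff]
  intro m _
  obtain ⟨T, hT, h⟩ := exists_sieve_generators σ hσ (Over.mk φ) m
  refine mem_of_local _ hT fun W g hg => Submodule.span_le.2 ?_ (h W g hg)
  rintro _ ⟨r, rfl⟩
  exact Submodule.subset_span ⟨_, Submodule.subset_span ⟨r, rfl⟩, (rs_comp φ g _).symm⟩

/-- Sections over affine objects above the data are free. -/
theorem free_of_data [M.IsQuasicoherent] (q : M.LocalGeneratorsData) [q.IsLocallyFreeData] [q.IsFiniteType]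
    (i : q.I) {V : EtOver X} [IsAffine V.obj.left.left] (φ : V ⟶ q.X i) :
    Module.Free (gr V) (sectModEt M V) ∧ Module.Finite (gr V) (sectModEt M V) := by
  have : Finite (q.generators i).I :=
    (SheafOfModules.LocalGeneratorsData.IsFiniteType.isFiniteType (p := q) i).finite
  have : IsIso (q.generators i).π := SheafOfModules.LocalGeneratorsData.IsLocallyFreeData.isIso i
  exact ⟨free_id (sr φ fun j => topSec ((q.generators i).s j))
      (lc_injective_of_isIso (q.generators i).π (q.generators i).s (Equiv.apply_symm_apply _ _) (Over.mk φ))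
      (span_of_generators φ (q.generators i).s (q.generators i).epi),
    fg_top_of_generators φ (q.generators i).s (q.generators i).epi⟩

/-- A module with finite locally free data has finite projective sections on affine objects. -/
theorem finite_projective_of_data [M.IsQuasicoherent] (q : M.LocalGeneratorsData) [q.IsLocallyFreeData]
    [q.IsFiniteType] (hsm : ∀ E : EtOver X, IsAffine E.obj.left.left → Small.{u} (sectModEt M E))
    (E : EtOver X) [IsAffine E.obj.left.left] :
    Module.Finite (gr E) (sectModEt M E) ∧ Module.Projective (gr E) (sectModEt M E) := by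
  obtain ⟨κ, _, V, f, hV, hTf, hf⟩ := exists_affine_family (q.coversTop E)
  have h : ∀ k, Module.Free (gr (V k)) (sectModEt M (V k)) ∧ Module.Finite (gr (V k)) (sectModEt M (V k)) := fun k => by
    have := hV k
    have h := (Sieve.mem_ofObjects_iff ..).1 (hTf k)
    revert h
    exact fun ⟨i, ⟨φ⟩⟩ => free_of_data q i φ
  exact ⟨finite_of_cover f hV hf fun k => (h k).2,
    ProjLocal.projective_of_cover f hV hf (fun k => hsm _ (hV k)) fun k => have := (h k).1; inferInstance⟩

theorem free_of_isLocalization {R A : Type u} [CommRing R] [CommRing A] [Algebra R A] (r : R)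
    [IsLocalization.Away r A] (N : Type u) [AddCommGroup N] [Module R N]
    [Module.Free (Localization (Submonoid.powers r)) (LocalizedModule.Away r N)] :
    Module.Free A (A ⊗[R] N) := by
  let B := Localization (Submonoid.powers r)
  let _ : Algebra B A := (IsLocalization.algEquiv (Submonoid.powers r) B A).toAlgHom.toRingHom.toAlgebra
  have : IsScalarTower R B A := .of_algebraMap_eq fun x =>
    ((IsLocalization.algEquiv (Submonoid.powers r) B A).commutes x).symm
  have : Module.Free B (B ⊗[R] N) := Module.Free.of_equiv
    (LocalizedModule.equivTensorProduct (Submonoid.powers r) N)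
  exact Module.Free.of_equiv (TensorProduct.AlgebraTensorModule.cancelBaseChange R B A A N)

/-- Near every point of an affine object finite projective sections are free. -/
theorem exists_free_nbhd [M.IsQuasicoherent] (E : EtOver X) [IsAffine E.obj.left.left]
    [Small.{u} (sectModEt M E)] [Module.Finite (gr E) (sectModEt M E)] [Module.Projective (gr E) (sectModEt M E)]
    (x : E.obj.left.left) :
    ∃ (D : EtOver X) (g : D ⟶ E), IsAffine D.obj.left.left ∧ x ∈ Set.range g.hom.left.left ∧
      Module.Free (gr D) (sectModEt M D) ∧ Module.Finite (gr D) (sectModEt M D) := by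
  let R := gr E
  let N := Shrink.{u} (sectModEt M E)
  let eN := Shrink.linearEquiv.{u} R (sectModEt M E)
  have : Module.Finite R N := Module.Finite.equiv eN.symm
  have : Module.Projective R N := Module.Projective.of_equiv' eN.symm
  have : Module.FinitePresentation R N := Module.finitePresentation_of_projective R N
  let p := primeAtPt E.obj.left.left x
  have : Module.Free (Localization.AtPrime p) (LocalizedModule p.primeCompl N) := Module.free_of_flat_of_isLocalRing
  obtain ⟨r, hr, hr', -⟩ := Module.FinitePresentation.exists_free_localizedModule_powers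
    p.primeCompl (LocalizedModule.mkLinearMap p.primeCompl N) (Localization.AtPrime p)
  obtain ⟨D, g, hD, hrange, hloc⟩ := exists_basic_subObj E r
  refine ⟨D, g, hD, ?_, ?_⟩
  · rw [hrange, SetLike.mem_coe, Scheme.mem_basicOpen_top]
    by_contra hu
    exact hr ((IsLocalRing.mem_maximalIdeal _).2 hu)
  · let _ := (gm g).toAlgebra
    have : Module.Free (gr D) (gr D ⊗[R] N) := free_of_isLocalization r N
    let e : gr D ⊗[R] N ≃ₗ[gr D] sectModEt M D :=
      (TensorProduct.AlgebraTensorModule.congr (LinearEquiv.refl _ _) eN).trans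
        (LinearEquiv.ofBijective (bc (rs M g) (rs_smul g))
          ((isBC_iff (A := gr E) (rs M g) (rs_smul g)).1 (bc_of_isQuasicoherent g)))
    exact ⟨Module.Free.of_equiv e, Module.Finite.equiv e⟩

theorem isIso_π_of_basis [M.IsQuasicoherent] (V : EtOver X) [IsAffine V.obj.left.left] {n : ℕ}
    (s : ULift.{u + 1} (Fin n) → sectModEt M V) (hspan : Submodule.span (gr V) (Set.range s) = ⊤)
    (hinj : LinearMap.ker (lc s) = ⊥) :
    IsIso ((M.over V).freeHomEquiv.symm fun j => secOf (s j)) := by
  exact isIso_π_of_isEmpty (presentationOfPres (pres_of_generators (M := M) hspan) (PEmpty.elim : PEmpty.{u + 2} → _)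
    (hinj.trans (by rw [Set.range_eq_empty, Submodule.span_empty]))) (inferInstance : IsEmpty PEmpty.{u + 2})

/-- Finite projective sections on affine objects give finite locally free data. -/
theorem exists_data_of_finite_projective [M.IsQuasicoherent]
    (h : ∀ E : EtOver X, IsAffine E.obj.left.left → Small.{u} (sectModEt M E) ∧
      Module.Finite (gr E) (sectModEt M E) ∧ Module.Projective (gr E) (sectModEt M E)) :
    ∃ q : SheafOfModules.LocalGeneratorsData.{u + 1} M, q.IsLocallyFreeData ∧ q.IsFiniteType := by
  let I := {V : EtOver X // IsAffine V.obj.left.left ∧ ∃ (n : ℕ) (s : ULift.{u + 1} (Fin n) → sectModEt M V),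
    Submodule.span (gr V) (Set.range s) = ⊤ ∧ LinearMap.ker (lc s) = ⊥}
  choose n s hs hk using fun i : I => i.2.2
  have hiso : ∀ i : I, IsIso ((M.over i.1).freeHomEquiv.symm fun j => secOf (s i j)) :=
    fun i => have := i.2.1; isIso_π_of_basis i.1 (s i) (hs i) (hk i)
  have hcov : (etTop X).CoversTop fun i : I => i.1 := fun E' => by
    obtain ⟨T, hT, hT'⟩ := exists_affine_sieve E'
    refine (Groth.Agent.AlgSpD.mem_etTop_iff _).2 fun x => ?_
    obtain ⟨V, k, hk', hx⟩ := (Groth.Agent.AlgSpD.mem_etTop_iff _).1 hT x
    obtain ⟨W, a, b, hW, rfl⟩ := hT' V k hk'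
    obtain ⟨y, rfl⟩ := hx
    obtain ⟨h₁, h₂, h₃⟩ := h W hW
    obtain ⟨D, g, hD, ⟨z, hz⟩, hfree, hfin⟩ := exists_free_nbhd W (M := M) (a.hom.left.left y)
    refine ⟨D, g ≫ b, (Sieve.mem_ofObjects_iff ..).2 ⟨⟨D, hD, ?_⟩, ⟨𝟙 D⟩⟩, ⟨z, ?_⟩⟩
    · rcases subsingleton_or_nontrivial (gr D) with hs' | hn
      · have := Module.subsingleton (gr D) (sectModEt M D)
        exact ⟨0, fun j => j.down.elim0, Subsingleton.elim _ _, LinearMap.ker_eq_bot.2 fun a b _ =>
          Finsupp.ext fun j => j.down.elim0⟩
      · let b' := (Module.finBasis (gr D) (sectModEt M D)).reindex (Equiv.ulift.{u + 1}).symm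
        exact ⟨_, b', b'.span_eq, LinearMap.ker_eq_bot.2 b'.linearIndependent⟩
    · change b.hom.left.left (g.hom.left.left z) = b.hom.left.left (a.hom.left.left y)
      rw [hz]
  let q : SheafOfModules.LocalGeneratorsData.{u + 1} M :=
    { I := I
      X := fun i => i.1
      coversTop := hcov
      generators := fun i => ⟨ULift.{u + 1} (Fin (n i)), fun j => secOf (s i j), have := hiso i; inferInstance⟩ }
  refine ⟨q, ?_, ?_⟩
  · constructor; exact hiso
  · constructor; intro i; constructor
    exact (inferInstance : Finite (ULift.{u + 1} (Fin (n i))))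

end Groth.Agent.AlgSpD.LocFreeData
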