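import Groth.Agent.AlgSpD.FinLocFree
import Groth.Agent.AlgSpD.QCExtension
import Groth.Agent.AlgSpD.LocFreeData
import Groth.Agent.AlgSpQC.Push
import Mathlib.RingTheory.Flat.EquationalCriterion

/-!
# Finite locally free morphisms and the direct image of the structure sheaf
-/

universe u

open CategoryTheory CategoryTheory.Limits AlgebraicGeometry Opposite TensorProduct

set_option backward.isDefEq.respectTransparency false
set_option backward.isDefEq.respectTransparency.types false
set_option autoImplicit false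

namespace Groth.Agent.AlgSpD.FinLocFreePush

open _root_.AlgSp
open Groth.Agent.AlgSpQC
open Groth.Agent.AlgSpD.ProjLocal (openE)

variable {S : Scheme.{u}} {X Y : Sp S} {f : X ⟶ Y} (hf : Representable f)

/-- The sections of the direct image of the structure sheaf. -/
noncomputable def pushUnitEquiv (E : EtOver Y) :
    sectModEt ((pushModEt hf).obj (unitModEt X)) E ≃+ gr (bcO hf E) :=
  (pushSect hf (unitModEt X) E).trans AddEquiv.ulift

theorem pushUnitEquiv_smul (E : EtOver Y) (a : gr E) (s : sectModEt ((pushModEt hf).obj (unitModEt X)) E) :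
    pushUnitEquiv hf E (a • s) = gπ hf E a * pushUnitEquiv hf E s :=
  rfl

theorem small_pushUnit (E : EtOver Y) : Small.{u} (sectModEt ((pushModEt hf).obj (unitModEt X)) E) :=
  ⟨⟨_, ⟨(pushUnitEquiv hf E).toEquiv⟩⟩⟩

/-- The sections as a linear equivalence. -/
noncomputable def pushUnitLinEquiv (E : EtOver Y) :
    letI := (gπ hf E).toAlgebra
    sectModEt ((pushModEt hf).obj (unitModEt X)) E ≃ₗ[gr E] gr (bcO hf E) :=
  letI := (gπ hf E).toAlgebra
  { pushUnitEquiv hf E with map_smul' := pushUnitEquiv_smul hf E }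

theorem finite_projective_of_finLocFree (E : EtOver Y) [IsAffine E.obj.left.left]
    (h : finLocFree (EtOver.bcπ hf E).left) :
    Module.Finite (gr E) (sectModEt ((pushModEt hf).obj (unitModEt X)) E) ∧
      Module.Projective (gr E) (sectModEt ((pushModEt hf).obj (unitModEt X)) E) := by
  obtain ⟨h₁, h₂, h₃⟩ := h
  have : IsAffine (bcO hf E).obj.left.left := isAffine_of_isAffineHom (EtOver.bcπ hf E).left
  let _ := (gπ hf E).toAlgebra
  have : Module.Finite (gr E) (gr (bcO hf E)) :=
    ((HasAffineProperty.iff_of_isAffine (P := @IsFinite)).1 h₁).2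
  have : Module.Flat (gr E) (gr (bcO hf E)) := (HasRingHomProperty.iff_of_isAffine (P := @Flat)).1 h₂
  have : Algebra.FinitePresentation (gr E) (gr (bcO hf E)) :=
    (HasRingHomProperty.iff_of_isAffine (P := @LocallyOfFinitePresentation)).1 h₃
  have := Module.FinitePresentation.of_finite_of_finitePresentation (gr E) (gr (bcO hf E))
  have : Module.Projective (gr E) (gr (bcO hf E)) := Module.Flat.projective_of_finitePresentation
  exact ⟨Module.Finite.equiv (pushUnitLinEquiv hf E).symm, Module.Projective.of_equiv' (pushUnitLinEquiv hf E).symm⟩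

theorem finLocFree_of_finite_projective (haff : IsAffineMor f) (E : EtOver Y) [IsAffine E.obj.left.left]
    [Module.Finite (gr E) (sectModEt ((pushModEt hf).obj (unitModEt X)) E)]
    [Module.Projective (gr E) (sectModEt ((pushModEt hf).obj (unitModEt X)) E)] :
    finLocFree (EtOver.bcπ hf E).left := by
  have hA : IsAffine (EtOver.bcObj hf E).obj.left.left := isAffine_bcO_and_map (hf := hf) haff E
  let _ := (gπ hf E).toAlgebra
  have : Module.Finite (gr E) (gr (bcO hf E)) := Module.Finite.equiv (pushUnitLinEquiv hf E)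
  have : Module.Projective (gr E) (gr (bcO hf E)) := Module.Projective.of_equiv' (pushUnitLinEquiv hf E)
  have hfp := Module.finitePresentation_of_projective (gr E) (gr (bcO hf E))
  have hfl : Module.Flat (gr E) (gr (bcO hf E)) := inferInstance
  have hfin : Module.Finite (gr E) (gr (bcO hf E)) := inferInstance
  refine ⟨(HasAffineProperty.iff_of_isAffine (P := @IsFinite)).2 ⟨hA, hfin⟩,
    (HasRingHomProperty.iff_of_isAffine (P := @Flat)).2 hfl,
    (HasRingHomProperty.iff_of_isAffine (P := @LocallyOfFinitePresentation)).2 ?_⟩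
  exact (Module.FinitePresentation.iff_finitePresentation_of_finite (gr E) (gr (bcO hf E))).1 hfp

theorem restrict_of_openE (P : MorphismProperty Scheme.{u}) [IsZariskiLocalAtTarget P]
    {V : Over S} {p : (yon S).obj V ⟶ Y} (hp : RepWith @Etale p)
    (h : ∀ W : V.left.affineOpens, P (EtOver.bcπ hf (openE hp W.1)).left) :
    P (EtOver.bcπ hf (EtOver.mk p hp)).left := by
  refine (IsZariskiLocalAtTarget.iff_of_iSup_eq_top (P := P) (fun W : V.left.affineOpens => W.1)
    (iSup_affineOpens_eq_top V.left)).2 fun W => ?_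
  let g : openE hp W.1 ⟶ EtOver.mk p hp := EtOver.homMk (EtOver.homOfEtale (etaleOfOpen V.left W.1)) (by
    change (yon S).map _ ≫ p = ((yon S).map _ ≫ 𝟙 _) ≫ p
    rw [Category.comp_id])
  have sq := (EtOver.isPullback_bcMap_left hf g).flip
  have sq' : IsPullback ((EtOver.bcπ hf (EtOver.mk p hp)).left ∣_ W.1)
      ((EtOver.bcπ hf (EtOver.mk p hp)).left ⁻¹ᵁ W.1).ι g.hom.left.left (EtOver.bcπ hf (EtOver.mk p hp)).left :=
    isPullback_morphismRestrict _ W.1
  rw [← sq.isoIsPullback_inv_fst _ _ sq']
  exact (MorphismProperty.cancel_left_of_respectsIso P _ _).2 (h W)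

theorem isFinLocFree_bcπ {V : Over S} {p : (yon S).obj V ⟶ Y} (hp : RepWith @Etale p)
    (h : ∀ W : V.left.affineOpens, finLocFree (EtOver.bcπ hf (openE hp W.1)).left) :
    finLocFree (EtOver.bcπ hf (EtOver.mk p hp)).left :=
  ⟨restrict_of_openE hf @IsFinite hp fun W => (h W).1, restrict_of_openE hf @Flat hp fun W => (h W).2.1,
    restrict_of_openE hf @LocallyOfFinitePresentation hp fun W => (h W).2.2⟩

theorem isFinLocFreeMor_iff_push {X Y : Space S} (f : X.obj ⟶ Y.obj) (hf : Representable f) :
    IsFinLocFreeMor f ↔ IsAffineMor f ∧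
      ∃ q : SheafOfModules.LocalGeneratorsData.{u + 1} ((pushModEt hf).obj (unitModEt X.obj)),
        q.IsLocallyFreeData ∧ q.IsFiniteType := by
  have := Groth.Agent.AlgSpD.QCExtension.isQuasicoherent_unit X.obj
  constructor
  · intro h
    have haff : IsAffineMor f := isAffineMor_of_isFiniteMor ((isFiniteMor_iff f).2 ((isFinLocFreeMor_iff f).1 h).1)
    have := isQuasicoherent_push_affine (hf := hf) haff (unitModEt X.obj)
    exact ⟨haff, LocFreeData.exists_data_of_finite_projective fun E hE => ⟨small_pushUnit hf E,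
      finite_projective_of_finLocFree hf E (h.2 E.obj.hom _ _ (EtOver.isPullback_bcObj hf E))⟩⟩
  · rintro ⟨haff, q, hq₁, hq₂⟩
    have := isQuasicoherent_push_affine (hf := hf) haff (unitModEt X.obj)
    obtain ⟨V, p, hp, hps⟩ := Y.property.atlas
    refine isFinLocFreeMor_descend f p hp hps (EtOver.isPullback_bcObj hf (EtOver.mk p hp)) ?_
    refine (repWith_yon_map_iff _ _).2 (isFinLocFree_bcπ hf hp fun W => ?_)
    have : IsAffine (openE hp W.1).obj.left.left := W.2
    obtain ⟨h₁, h₂⟩ := LocFreeData.finite_projective_of_data q (fun E _ => small_pushUnit hf E) (openE hp W.1)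
    exact finLocFree_of_finite_projective hf haff _

end Groth.Agent.AlgSpD.FinLocFreePush
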