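import Groth.Agent.AlgSpD.QCExtension
import Groth.Agent.AlgSpD.DecentPoint
import Groth.Agent.AlgSpEN.StrataSq
import Groth.Agent.AlgSp.PointsMor
import Groth.Prelude.Def_AlgSp4
import Mathlib.Algebra.Polynomial.Reverse

/-!
# Functions on a quasi-compact space universally closed over an affine scheme are integral
-/

universe u

open CategoryTheory CategoryTheory.Limits AlgebraicGeometry Opposite Polynomial

set_option backward.isDefEq.respectTransparency false
set_option backward.isDefEq.respectTransparency.types false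
set_option autoImplicit false

namespace Groth.Agent.AlgSpD.GsectIntegral

open _root_.AlgSp
open Groth.Agent.AlgSpQC

section Scheme

theorem mem_zeroLocus_iff_notMem_basicOpen {Q : Scheme.{u}} (g : Γ(Q, ⊤)) (c : Q) :
    c ∈ (Q.basicOpen g : Set Q)ᶜ ↔ c ∉ Q.basicOpen g := Iff.rfl

theorem mem_basicOpen_iff {Q W : Scheme.{u}} (v : W ⟶ Q) (g : Γ(Q, ⊤)) (w : W) :
    v w ∈ Q.basicOpen g ↔ w ∈ W.basicOpen (v.appTop g) := by
  rw [← Scheme.preimage_basicOpen_top]; rfl

theorem appTop_comp {Q W Z : Scheme.{u}} (v : W ⟶ Q) (q : Q ⟶ Z) (t : Γ(Z, ⊤)) :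
    (v ≫ q).appTop t = v.appTop (q.appTop t) := by
  rw [Scheme.Hom.comp_appTop]; rfl

theorem mem_basicOpen_Spec_field {K : Type u} [Field K] (x : K) (z : Spec (CommRingCat.of K)) :
    z ∈ (Spec (CommRingCat.of K)).basicOpen ((Scheme.ΓSpecIso (CommRingCat.of K)).inv x) ↔ x ≠ 0 := by
  rw [basicOpen_eq_of_affine]
  change x ∉ z.asIdeal ↔ _
  rw [Ideal.eq_bot_of_prime z.asIdeal, Ideal.mem_bot]

theorem notMem_basicOpen_of_eq_zero {K : Type u} [Field K] (x : Γ(Spec (CommRingCat.of K), ⊤))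
    (h : (Scheme.ΓSpecIso (CommRingCat.of K)).hom x = 0) (z : Spec (CommRingCat.of K)) :
    z ∉ (Spec (CommRingCat.of K)).basicOpen x := by
  have h' := mem_basicOpen_Spec_field ((Scheme.ΓSpecIso (CommRingCat.of K)).hom x) z
  rw [Iso.hom_inv_id_apply] at h'
  exact fun hz => h'.1 hz h

theorem monic_reverse {R : Type u} [CommRing R] (h : R[X]) (h0 : h.coeff 0 = 1) : h.reverse.Monic := by
  rcases subsingleton_or_nontrivial R with _ | _
  · exact Subsingleton.elim _ _
  · rw [Monic, reverse_leadingCoeff, trailingCoeff_eq_coeff_zero]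
    · exact h0
    · rw [h0]; exact one_ne_zero

theorem eval₂_reverse_eq_zero {R K : Type u} [CommRing R] [Field K] (i : R →+* K) {s : K} (hs : s ≠ 0) (h : R[X])
    (e : h.eval₂ i s⁻¹ = 0) : h.reverse.eval₂ i s = 0 := by
  let _ : Invertible s⁻¹ := invertibleOfNonzero (inv_ne_zero hs)
  have h' := eval₂_reverse_mul_pow i s⁻¹ h
  rw [invOf_eq_inv, inv_inv, e] at h'
  exact (mul_eq_zero.1 h').resolve_right (pow_ne_zero _ (inv_ne_zero hs))

end Scheme

variable {S : Scheme.{u}} {V : Over S} {X : Space S} (f : X.obj ⟶ (yon S).obj V)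

/-- Functions on the base pulled to a chart. -/
noncomputable def pre (E : EtOver X.obj) : Γ(V.left, ⊤) →+* gr E :=
  ((yon S).preimage (E.obj.hom ≫ f)).left.appTop.hom

theorem gm_comp_pre {E E' : EtOver X.obj} (g : E' ⟶ E) : (gm g).comp (pre f E) = pre f E' := by
  ext r
  change g.hom.left.left.appTop (((yon S).preimage (E.obj.hom ≫ f)).left.appTop r) = _
  rw [← appTop_comp, ← Over.comp_left]
  refine congrArg (fun φ : E'.obj.left ⟶ V => φ.left.appTop r) ((yon S).map_injective ?_)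
  rw [Functor.map_comp, Functor.map_preimage, Functor.map_preimage, EtOver.w_assoc]

variable (a : ∀ E : EtOver X.obj, gr E)

theorem gm_eval₂ (ha : ∀ {E E' : EtOver X.obj} (g : E' ⟶ E), gm g (a E) = a E') {E E' : EtOver X.obj} (g : E' ⟶ E)
    (p : Γ(V.left, ⊤)[X]) : gm g (p.eval₂ (pre f E) (a E)) = p.eval₂ (pre f E') (a E') := by
  rw [Polynomial.hom_eval₂, gm_comp_pre, ha]

variable (V) in
/-- The affine line over the base. -/
noncomputable def lineπ : Spec (CommRingCat.of Γ(V.left, ⊤)[X]) ⟶ Spec Γ(V.left, ⊤) :=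
  Spec.map (CommRingCat.ofHom (Polynomial.C : Γ(V.left, ⊤) →+* Γ(V.left, ⊤)[X]))

variable (V) in
/-- The affine line over the base, over `S`. -/
noncomputable def lineObj [IsAffine V.left] : Over S := Over.mk ((lineπ V ≫ V.left.isoSpec.inv) ≫ V.hom)

variable (V) in
/-- Its projection. -/
noncomputable def lineProj [IsAffine V.left] : lineObj V ⟶ V := Over.homMk (lineπ V ≫ V.left.isoSpec.inv) rfl

variable (V) in
/-- The coordinate. -/
noncomputable def lineT [IsAffine V.left] : Γ((lineObj V).left, ⊤) :=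
  (Scheme.ΓSpecIso (CommRingCat.of Γ(V.left, ⊤)[X])).inv Polynomial.X

/-- A closed subset of the affine line missing the origin is killed by a polynomial with constant term one. -/
theorem exists_coeff_zero_one {R : Type u} [CommRing R] (W : Set (PrimeSpectrum R[X])) (hW : IsClosed W)
    (h : ∀ w ∈ W, (Polynomial.X : R[X]) ∉ w.asIdeal) :
    ∃ p : R[X], p.coeff 0 = 1 ∧ ∀ w ∈ W, p ∈ w.asIdeal := by
  obtain ⟨J, hJ⟩ := (PrimeSpectrum.isClosed_iff_zeroLocus_ideal W).1 hW
  have htop : J ⊔ Ideal.span {(Polynomial.X : R[X])} = ⊤ := by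
    by_contra hne
    obtain ⟨M, hM, hle⟩ := Ideal.exists_le_maximal _ hne
    refine h ⟨M, hM.isPrime⟩ (hJ ▸ fun x hx => hle (Submodule.mem_sup_left hx)) ?_
    exact hle (Submodule.mem_sup_right (Ideal.mem_span_singleton_self _))
  obtain ⟨p, hp, q, hq, e⟩ := Submodule.mem_sup.1 ((Ideal.eq_top_iff_one _).1 htop)
  obtain ⟨r, rfl⟩ := Ideal.mem_span_singleton.1 hq
  refine ⟨p, ?_, fun w hw => ?_⟩
  · have := congrArg (fun t => Polynomial.coeff t 0) e
    simpa using this
  · rw [hJ] at hw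
    exact hw hp

theorem mem_basicOpen_lineT [IsAffine V.left] (z : (lineObj V).left) :
    z ∈ (lineObj V).left.basicOpen (lineT V) ↔ (Polynomial.X : Γ(V.left, ⊤)[X]) ∉ z.asIdeal := by
  change z ∈ (Spec (CommRingCat.of Γ(V.left, ⊤)[X])).basicOpen ((Scheme.ΓSpecIso (CommRingCat.of Γ(V.left, ⊤)[X])).inv Polynomial.X) ↔ _
  rw [basicOpen_eq_of_affine]
  rfl

section Chart

variable [IsAffine V.left] {E₀ : EtOver X.obj}

/-- The image, in the affine line, of the locus where the coordinate inverts the function is closed. -/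
theorem isClosed_image (huc : IsUnivClosedMor f) (ha : ∀ {E E' : EtOver X.obj} (g : E' ⟶ E), gm g (a E) = a E')
    (he : RepWith @Etale E₀.obj.hom) (hs : RepWith @Surjective E₀.obj.hom)
    {Q : Over S} (q₁ : Q ⟶ E₀.obj.left) (q₂ : Q ⟶ lineObj V)
    (sqQ : IsPullback ((yon S).map q₁) ((yon S).map q₂) ((yon S).map ((yon S).preimage (E₀.obj.hom ≫ f)))
      ((yon S).map (lineProj V))) :
    IsClosed (q₂.left '' (Q.left.basicOpen (q₂.left.appTop (lineT V) * q₁.left.appTop (a E₀) - 1) : Set Q.left)ᶜ) := by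
  let g := q₂.left.appTop (lineT V) * q₁.left.appTop (a E₀) - 1
  have sqP := IsPullback.of_hasPullback f ((yon S).map (lineProj V))
  have hw : ((yon S).map q₁ ≫ E₀.obj.hom) ≫ f = (yon S).map q₂ ≫ (yon S).map (lineProj V) := by
    rw [Category.assoc, ← (yon S).map_preimage (E₀.obj.hom ≫ f)]
    exact sqQ.w
  let m := sqP.lift _ _ hw
  have hm₁ : m ≫ pullback.fst _ _ = (yon S).map q₁ ≫ E₀.obj.hom := sqP.lift_fst _ _ _
  have hm₂ : m ≫ pullback.snd _ _ = (yon S).map q₂ := sqP.lift_snd _ _ _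
  have sqm : IsPullback m ((yon S).map q₁) (pullback.fst f ((yon S).map (lineProj V))) E₀.obj.hom := by
    refine IsPullback.of_right ?_ hm₁ sqP.flip
    rw [hm₂, ← (yon S).map_preimage (E₀.obj.hom ≫ f)]
    exact sqQ.flip
  have hme : RepWith @Etale m := MorphismProperty.of_isPullback sqm.flip he
  have hms : RepWith @Surjective m := MorphismProperty.of_isPullback sqm.flip hs
  obtain ⟨W, v₁, v₂, sqW⟩ := Groth.Agent.AlgSpB.exists_pullback_yon hme.1 m
  obtain ⟨R, r₁, r₂, sqR⟩ := Groth.Agent.AlgSpB.exists_pullback_yon he.1 E₀.obj.hom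
  have hr₁ : Etale r₁.left := he.2 _ _ _ sqR.flip
  let ER : EtOver X.obj := EtOver.mk ((yon S).map r₁ ≫ E₀.obj.hom)
    ((RepWith _).comp_mem _ _ ((repWith_yon_map_iff _ _).2 hr₁) he)
  have hR : r₁.left.appTop (a E₀) = r₂.left.appTop (a E₀) :=
    (ha (E := E₀) (E' := ER) (EtOver.homMk r₁ rfl)).trans (ha (E := E₀) (E' := ER) (EtOver.homMk r₂ sqR.w.symm)).symm
  obtain ⟨l, hl⟩ := (yon S).map_surjective (sqR.lift ((yon S).map (v₁ ≫ q₁)) ((yon S).map (v₂ ≫ q₁)) (by
    rw [Functor.map_comp, Functor.map_comp, Category.assoc, Category.assoc, ← hm₁, reassoc_of% sqW.w]))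
  have hl₁ : l ≫ r₁ = v₁ ≫ q₁ := (yon S).map_injective (by rw [Functor.map_comp, hl, sqR.lift_fst])
  have hl₂ : l ≫ r₂ = v₂ ≫ q₁ := (yon S).map_injective (by rw [Functor.map_comp, hl, sqR.lift_snd])
  have hv : v₁ ≫ q₂ = v₂ ≫ q₂ := (yon S).map_injective (by
    rw [Functor.map_comp, Functor.map_comp, ← hm₂, reassoc_of% sqW.w])
  have hg : v₁.left.appTop g = v₂.left.appTop g := by
    simp only [g, map_sub, map_mul, map_one, ← appTop_comp, ← Over.comp_left, hv, ← hl₁, ← hl₂]
    simp only [Over.comp_left, appTop_comp, hR]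
  have hsat : Points.ofPt m ⁻¹' (Points.ofPt m '' (Q.left.basicOpen g : Set Q.left)ᶜ) =
      (Q.left.basicOpen g : Set Q.left)ᶜ := by
    refine Set.Subset.antisymm (fun c hc => ?_) (Set.subset_preimage_image _ _)
    obtain ⟨c', hc', e⟩ := hc
    obtain ⟨w, rfl, rfl⟩ := (Groth.Agent.AlgSpB.ofPt_eq_ofPt_iff sqW c' c).1 e
    intro hmem
    refine hc' ?_
    rw [SetLike.mem_coe, mem_basicOpen_iff, hg, ← mem_basicOpen_iff]
    exact hmem
  have hC : IsClosed (Points.ofPt m '' (Q.left.basicOpen g : Set Q.left)ᶜ) := by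
    rw [isClosed_iff_chart hme hms, hsat]
    exact (Q.left.basicOpen g).2.isClosed_compl
  have hcl : IsClosedMap (Points.map (pullback.snd f ((yon S).map (lineProj V)))) :=
    huc (IsAlgSpace.yon_obj _) _ _ _ sqP
  have := hcl _ hC
  rw [← Set.image_comp] at this
  rw [show q₂.left '' (Q.left.basicOpen g : Set Q.left)ᶜ =
    Points.ofScheme (lineObj V) ⁻¹' ((Points.map (pullback.snd f ((yon S).map (lineProj V))) ∘ Points.ofPt m) ''
      (Q.left.basicOpen g : Set Q.left)ᶜ) from ?_]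
  · exact this.preimage (Points.continuous_ofPt _)
  · ext z
    constructor
    · rintro ⟨c, hc, rfl⟩
      refine ⟨c, hc, ?_⟩
      rw [Function.comp_apply, Points.map_ofPt, hm₂]
      exact ((Points.schemeEquiv _).apply_symm_apply _).symm.trans (congrArg (Points.ofScheme _) (Points.toScheme_ofPt q₂ c))
    · rintro ⟨c, hc, e⟩
      refine ⟨c, hc, ?_⟩
      rw [Function.comp_apply, Points.map_ofPt, hm₂] at e
      have := congrArg (Points.toScheme _) e
      rwa [Points.toScheme_ofPt, Points.toScheme_ofScheme] at this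

theorem exists_polynomial_vanishing (huc : IsUnivClosedMor f)
    (ha : ∀ {E E' : EtOver X.obj} (g : E' ⟶ E), gm g (a E) = a E')
    (he : RepWith @Etale E₀.obj.hom) (hs : RepWith @Surjective E₀.obj.hom) :
    ∃ p : Γ(V.left, ⊤)[X], p.Monic ∧ ∀ e : E₀.obj.left.left,
      e ∉ E₀.obj.left.left.basicOpen (p.eval₂ (pre f E₀) (a E₀)) := by
  let φ := (yon S).preimage (E₀.obj.hom ≫ f)
  let q₁ := pullback.fst φ (lineProj V)
  let q₂ := pullback.snd φ (lineProj V)
  have sqQ := (IsPullback.of_hasPullback φ (lineProj V)).map (yon S)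
  have hcl := isClosed_image f a huc ha he hs q₁ q₂ sqQ
  obtain ⟨h, h0, hW⟩ := exists_coeff_zero_one _ hcl (by
    rintro _ ⟨c, hc, rfl⟩
    rw [← mem_basicOpen_lineT]
    by_contra hT
    refine hc ?_
    rw [SetLike.mem_coe, Scheme.mem_basicOpen_top]
    have hT' : ¬ IsUnit ((pullback φ (lineProj V)).left.presheaf.germ ⊤ c trivial (q₂.left.appTop (lineT V))) := by
      rwa [← Scheme.mem_basicOpen_top, ← mem_basicOpen_iff]
    rw [map_sub, map_mul, map_one, ← neg_sub, IsUnit.neg_iff]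
    exact IsLocalRing.isUnit_one_sub_self_of_mem_nonunits _ fun hu => hT' (isUnit_of_mul_isUnit_left hu))
  refine ⟨h.reverse * Polynomial.X, (monic_reverse h h0).mul Polynomial.monic_X, fun e => ?_⟩
  let ε : Over.mk (E₀.obj.left.left.fromSpecResidueField e ≫ E₀.obj.left.hom) ⟶ E₀.obj.left :=
    Over.homMk (E₀.obj.left.left.fromSpecResidueField e) rfl
  let κ := E₀.obj.left.left.residueField e
  let ρ : gr E₀ →+* κ := ((E₀.obj.left.left.fromSpecResidueField e).appTop ≫ (Scheme.ΓSpecIso κ).hom).hom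
  have hmem : ∀ x : gr E₀, e ∈ E₀.obj.left.left.basicOpen x ↔ ρ x ≠ 0 := fun x => by
    have h₁ := mem_basicOpen_iff (E₀.obj.left.left.fromSpecResidueField e) x (IsLocalRing.closedPoint κ)
    rw [Scheme.fromSpecResidueField_apply] at h₁
    rw [h₁, ← mem_basicOpen_Spec_field (ρ x) (IsLocalRing.closedPoint κ)]
    change _ ↔ _ ∈ (Spec κ).basicOpen ((Scheme.ΓSpecIso κ).inv ((Scheme.ΓSpecIso κ).hom _))
    rw [Iso.hom_inv_id_apply]
    exact Iff.rfl
  rw [hmem, not_not, Polynomial.hom_eval₂, Polynomial.eval₂_mul, Polynomial.eval₂_X, mul_eq_zero]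
  rcases eq_or_ne (ρ (a E₀)) 0 with h₀ | h₀
  · exact Or.inr h₀
  refine Or.inl (eval₂_reverse_eq_zero _ h₀ h ?_)
  let lam := Polynomial.eval₂RingHom (ρ.comp (pre f E₀)) (ρ (a E₀))⁻¹
  let lamS : Spec κ ⟶ (lineObj V).left := Spec.map (CommRingCat.ofHom lam)
  have hlam : lamS ≫ lineπ V ≫ V.left.isoSpec.inv = E₀.obj.left.left.fromSpecResidueField e ≫ φ.left := by
    rw [← Category.assoc, Iso.comp_inv_eq, ← Scheme.isoSpec_hom_naturality
      (E₀.obj.left.left.fromSpecResidueField e ≫ φ.left), Scheme.isoSpec_Spec_hom, Scheme.Hom.comp_appTop,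
      ← Spec.map_comp]
    refine (Spec.map_comp _ _).symm.trans (congrArg Spec.map ?_)
    ext r
    exact Polynomial.eval₂_C _ _
  let l' : Over.mk (E₀.obj.left.left.fromSpecResidueField e ≫ E₀.obj.left.hom) ⟶ lineObj V :=
    Over.homMk lamS (by
      change lamS ≫ (lineπ V ≫ V.left.isoSpec.inv) ≫ V.hom = _
      rw [← Category.assoc, hlam, Category.assoc, Over.w φ]
      rfl)
  let c := pullback.lift ε l' (Over.OverMorphism.ext hlam.symm : ε ≫ φ = l' ≫ lineProj V)
  have hc₁ : c.left ≫ q₁.left = ε.left := by rw [← Over.comp_left, pullback.lift_fst]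
  have hc₂ : c.left ≫ q₂.left = lamS := by rw [← Over.comp_left, pullback.lift_snd]; rfl
  have hT : (Scheme.ΓSpecIso κ).hom (lamS.appTop (lineT V)) = (ρ (a E₀))⁻¹ := by
    change (lamS.appTop ≫ (Scheme.ΓSpecIso κ).hom) (lineT V) = _
    rw [Scheme.ΓSpecIso_naturality]
    change lam ((Scheme.ΓSpecIso (CommRingCat.of Γ(V.left, ⊤)[X])).hom (lineT V)) = _
    rw [lineT, Iso.inv_hom_id_apply]
    exact Polynomial.eval₂_X _ _
  have hcW : q₂.left (c.left (IsLocalRing.closedPoint κ)) ∈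
      q₂.left '' ((pullback φ (lineProj V)).left.basicOpen
        (q₂.left.appTop (lineT V) * q₁.left.appTop (a E₀) - 1) : Set (pullback φ (lineProj V)).left)ᶜ := by
    refine ⟨_, ?_, rfl⟩
    rw [Set.mem_compl_iff, SetLike.mem_coe, mem_basicOpen_iff, map_sub, map_mul, map_one, ← appTop_comp,
      ← appTop_comp, hc₁, hc₂]
    refine notMem_basicOpen_of_eq_zero (K := κ) (lamS.appTop (lineT V) * (show Γ(Spec κ, ⊤) from ε.left.appTop (a E₀)) - 1) ?_
      (IsLocalRing.closedPoint κ)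
    change (Scheme.ΓSpecIso κ).hom _ = 0
    rw [map_sub, map_mul, map_one, hT, sub_eq_zero]
    exact inv_mul_cancel₀ h₀
  have hz := hW _ hcW
  rw [← Scheme.Hom.comp_apply, hc₂] at hz
  change lam h ∈ (IsLocalRing.closedPoint κ : PrimeSpectrum κ).asIdeal at hz
  rwa [Ideal.eq_bot_of_prime (IsLocalRing.closedPoint κ : PrimeSpectrum κ).asIdeal, Ideal.mem_bot] at hz

end Chart

theorem exists_monic (huc : IsUnivClosedMor f) [IsAffine V.left] (hX : IsQuasiCompactSp X.obj)
    (ha : ∀ {E E' : EtOver X.obj} (g : E' ⟶ E), gm g (a E) = a E') :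
    ∃ p : Γ(V.left, ⊤)[X], p.Monic ∧ ∀ E : EtOver X.obj, p.eval₂ (pre f E) (a E) = 0 := by
  obtain ⟨U, q, hU, he, hs⟩ := Groth.Agent.AlgSpEN.exists_affine_atlas X hX
  let E₀ : EtOver X.obj := EtOver.mk q he
  obtain ⟨p, hp, hvan⟩ := exists_polynomial_vanishing f a (E₀ := E₀) huc ha he hs
  obtain ⟨N, hN⟩ : IsNilpotent (p.eval₂ (pre f E₀) (a E₀)) := by
    have : CompactSpace E₀.obj.left.left := inferInstanceAs (CompactSpace U.left)
    exact (Scheme.isNilpotent_iff_basicOpen_eq_bot _).2 (eq_bot_iff.2 fun e he' => (hvan e he').elim)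
  refine ⟨p ^ N, hp.pow N, fun E => ?_⟩
  obtain ⟨R, r₁, r₂, sq⟩ := Groth.Agent.AlgSpB.exists_pullback_yon E.property.1 q
  have hr₁ : Etale r₁.left := he.2 _ _ _ sq.flip
  have hr₁s : Surjective r₁.left := hs.2 _ _ _ sq.flip
  let ER : EtOver X.obj := EtOver.mk ((yon S).map r₁ ≫ E.obj.hom)
    ((RepWith _).comp_mem _ _ ((repWith_yon_map_iff _ _).2 hr₁) E.property)
  let g₁ : ER ⟶ E := EtOver.homMk r₁ rfl
  let g₂ : ER ⟶ E₀ := EtOver.homMk r₂ sq.w.symm
  have h0 : gm g₁ ((p ^ N).eval₂ (pre f E) (a E)) = 0 := by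
    rw [gm_eval₂ f a ha, ← gm_eval₂ f a ha g₂, Polynomial.eval₂_pow, hN, map_zero]
  have := eq_of_family (M := unitModEt X.obj) (V := fun _ : PUnit.{u + 1} => ER) (fun _ => g₁)
    (fun x => ⟨PUnit.unit, hr₁s.surj x⟩) (x := ULift.up ((p ^ N).eval₂ (pre f E) (a E))) (y := ULift.up 0)
    fun _ => congrArg ULift.up (h0.trans (map_zero _).symm)
  exact congrArg ULift.down this

end Groth.Agent.AlgSpD.GsectIntegral
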