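import Groth.Agent.AlgSpQC.Conv
import Groth.Agent.AlgSpQC.Finite
import Mathlib.RingTheory.Smooth.IntegralClosure
import Mathlib.RingTheory.Etale.Basic
import Mathlib.Algebra.Category.ModuleCat.Sheaf.ChangeOfRings

/-!
# Integral closure of the structure sheaf in a quasi-coherent algebra on the small etale site
-/

universe u v

open CategoryTheory CategoryTheory.Limits AlgebraicGeometry Opposite TensorProduct

set_option backward.isDefEq.respectTransparency false
set_option backward.isDefEq.respectTransparency.types false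
set_option autoImplicit false

namespace Groth.Agent.AlgSpD.IntClosureEt

open _root_.AlgSp
open Groth.Agent.AlgSpQC

section Algebra

variable {R T : Type u} [CommRing R] [CommRing T] [Algebra R T] {B B' : Type v} [CommRing B] [Algebra R B]
  [CommRing B'] [Algebra T B']

theorem isIntegral_iff_mem_range [Algebra.Smooth R T] (Θ : T ⊗[R] B →ₐ[T] B') (hΘ : Function.Bijective Θ) (y : B') :
    IsIntegral T y ↔ ∃ z : T ⊗[R] integralClosure R B,
      Θ (LinearMap.lTensor T (integralClosure R B).val.toLinearMap z) = y := by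
  constructor
  · intro hy
    obtain ⟨x, rfl⟩ := hΘ.2 y
    obtain ⟨z, hz⟩ := (TensorProduct.toIntegralClosure_bijective_of_smooth (R := R) (S := T) (B := B)).2
      ⟨x, (isIntegral_algHom_iff Θ hΘ.1).1 hy⟩
    refine ⟨z, congrArg Θ ?_⟩
    exact (congrArg Subtype.val hz)
  · rintro ⟨z, rfl⟩
    exact ((TensorProduct.toIntegralClosure R T B z).2).map Θ

theorem eq_zero_of_tmul_one [Algebra.Smooth R T] (Θ : T ⊗[R] B →ₐ[T] B') (hΘ : Function.Bijective Θ) (x : B)
    (hx : IsIntegral T (Θ (1 ⊗ₜ x))) :
    (1 : T) ⊗ₜ[R] (Subalgebra.toSubmodule (integralClosure R B)).mkQ x = 0 := by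
  obtain ⟨z, hz⟩ := (isIntegral_iff_mem_range Θ hΘ _).1 hx
  have h := congrArg (LinearMap.lTensor T (Subalgebra.toSubmodule (integralClosure R B)).mkQ) (hΘ.1 hz)
  rw [LinearMap.lTensor_tmul] at h
  rw [← h, ← LinearMap.comp_apply, ← LinearMap.lTensor_comp,
    show (Subalgebra.toSubmodule (integralClosure R B)).mkQ ∘ₗ (integralClosure R B).val.toLinearMap = 0 from
      LinearMap.ext fun c => (Submodule.Quotient.mk_eq_zero _).2 c.2]
  simp

end Algebra

variable {S : Scheme.{u}} {X : Sp S} (A : EtSh X CommRingCat.{u + 1}) (φ : OEt X ⟶ A)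

/-- The underlying module of an algebra. -/
noncomputable abbrev algMod : ModEt X :=
  (SheafOfModules.restrictScalars ((sheafCompose (etTop X) (forget₂ CommRingCat.{u + 1} RingCat.{u + 1})).map φ)).obj
    (SheafOfModules.unit ((sheafCompose (etTop X) (forget₂ CommRingCat.{u + 1} RingCat.{u + 1})).obj A))

/-- The sections of an algebra. -/
abbrev Sec (E : EtOver X) : Type (u + 1) := A.obj.obj (op E)

/-- The structure map on sections. -/
noncomputable def str (E : EtOver X) : gr E →+* Sec A E :=
  (φ.hom.app (op E)).hom.comp (upΓ E)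

/-- Restriction on sections. -/
noncomputable abbrev resA {E W : EtOver X} (g : W ⟶ E) : Sec A E →+* Sec A W := (A.obj.map g.op).hom

theorem resA_comp {E W Z : EtOver X} (g : W ⟶ E) (h : Z ⟶ W) (x : Sec A E) :
    resA A (h ≫ g) x = resA A h (resA A g x) :=
  ConcreteCategory.congr_hom (A.obj.map_comp g.op h.op) x

theorem resA_str {E W : EtOver X} (g : W ⟶ E) (r : gr E) : resA A g (str A φ E r) = str A φ W (gm g r) := by
  refine ((ConcreteCategory.congr_hom (φ.hom.naturality g.op) (ULift.up r)).symm).trans ?_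
  rfl

theorem isIntegralElem_resA {E W : EtOver X} (g : W ⟶ E) {x : Sec A E} (hx : (str A φ E).IsIntegralElem x) :
    (str A φ W).IsIntegralElem (resA A g x) := by
  obtain ⟨p, hp, hp0⟩ := hx
  refine ⟨p.map (gm g), hp.map _, ?_⟩
  rw [Polynomial.eval₂_map, show (str A φ W).comp (gm g) = (resA A g).comp (str A φ E) from
    RingHom.ext fun r => (resA_str A φ g r).symm, ← Polynomial.hom_eval₂, hp0, map_zero]

theorem smooth_gm {E W : EtOver X} [IsAffine E.obj.left.left] [IsAffine W.obj.left.left] (g : W ⟶ E) :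
    letI := (gm g).toAlgebra
    Algebra.Smooth (gr E) (gr W) := by
  let _ := (gm g).toAlgebra
  have := EtOver.etale_left g
  have : Algebra.Etale (gr E) (gr W) := (HasRingHomProperty.iff_of_isAffine (P := @Etale)).1 (EtOver.etale_left g)
  infer_instance

theorem exists_comparison [(algMod A φ).IsQuasicoherent] {E W : EtOver X} [IsAffine E.obj.left.left]
    [IsAffine W.obj.left.left] (g : W ⟶ E) :
    letI := (gm g).toAlgebra
    letI := (str A φ E).toAlgebra
    letI := (str A φ W).toAlgebra
    ∃ Θ : gr W ⊗[gr E] Sec A E →ₐ[gr W] Sec A W, Function.Bijective Θ ∧ ∀ x, Θ (1 ⊗ₜ x) = resA A g x := by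
  let _ := (gm g).toAlgebra
  let _ := (str A φ E).toAlgebra
  let _ := (str A φ W).toAlgebra
  let _ : Algebra (gr E) (Sec A W) := ((str A φ W).comp (gm g)).toAlgebra
  have : IsScalarTower (gr E) (gr W) (Sec A W) := .of_algebraMap_eq fun _ => rfl
  let ρ : Sec A E →ₐ[gr E] Sec A W := { resA A g with commutes' := resA_str A φ g }
  let Θ : gr W ⊗[gr E] Sec A E →ₐ[gr W] Sec A W :=
    Algebra.TensorProduct.lift (Algebra.ofId (gr W) (Sec A W)) ρ fun _ _ => Commute.all _ _
  refine ⟨Θ, ?_, fun x => by simp [Θ, ρ]⟩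
  have hb := (isBC_iff (A := gr E) (rs (algMod A φ) g) (rs_smul g)).1
    (bc_of_isQuasicoherent (M := algMod A φ) g)
  let e : gr W ⊗[gr E] Sec A E ≃ₗ[gr E] gr W ⊗[gr E] sectModEt (algMod A φ) E :=
    TensorProduct.congr (LinearEquiv.refl _ _)
      ({ Equiv.refl _ with map_add' := fun _ _ => rfl, map_smul' := fun _ _ => rfl } :
        Sec A E ≃ₗ[gr E] sectModEt (algMod A φ) E)
  have he : ∀ x, Θ x = bc (rs (algMod A φ) g) (rs_smul g) (e x) := fun x => by
    induction x using TensorProduct.induction_on with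
    | zero => simp only [map_zero]
    | add x y hx hy => simp only [map_add, hx, hy]
    | tmul r m => simp only [Θ, e, Algebra.TensorProduct.lift_tmul, TensorProduct.congr_tmul, bc_tmul]; rfl
  rw [show (Θ : gr W ⊗[gr E] Sec A E → Sec A W) = bc (rs (algMod A φ) g) (rs_smul g) ∘ e from funext he]
  exact hb.comp e.bijective

theorem isIntegralElem_of_cover [(algMod A φ).IsQuasicoherent] {E : EtOver X} [IsAffine E.obj.left.left]
    {κ : Type u} {V : κ → EtOver X} (f : ∀ k, V k ⟶ E) (hV : ∀ k, IsAffine (V k).obj.left.left)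
    (hf : ∀ x : E.obj.left.left, ∃ k, x ∈ Set.range (f k).hom.left.left) {x : Sec A E}
    (h : ∀ k, (str A φ (V k)).IsIntegralElem (resA A (f k) x)) : (str A φ E).IsIntegralElem x := by
  let _ := (str A φ E).toAlgebra
  let _ : ∀ k, Algebra (gr E) (gr (V k)) := fun k => (gm (f k)).toAlgebra
  have : ∀ k, Module.Flat (gr E) (gr (V k)) := fun k => have := hV k; flat_gm (f k)
  refine (Submodule.Quotient.mk_eq_zero (Subalgebra.toSubmodule (integralClosure (gr E) (Sec A E)))).1 ?_
  refine eq_zero_of_jointly (fun k => gr (V k)) (exists_prime_comap f hV hf) _ fun k => ?_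
  have := hV k
  have := smooth_gm (f k)
  let _ := (str A φ (V k)).toAlgebra
  obtain ⟨Θ, hΘ, hΘ'⟩ := exists_comparison A φ (f k)
  exact eq_zero_of_tmul_one Θ hΘ x (by rw [hΘ']; exact h k)

/-- Sections integral on all affine objects over a given one. -/
noncomputable def intSub (E : EtOver X) : Subring (Sec A E) :=
  ⨅ (W : EtOver X) (g : W ⟶ E) (_ : IsAffine W.obj.left.left),
    (letI := (str A φ W).toAlgebra; (integralClosure (gr W) (Sec A W)).toSubring).comap (resA A g)

theorem mem_intSub {E : EtOver X} {x : Sec A E} : x ∈ intSub A φ E ↔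
    ∀ (W : EtOver X) (g : W ⟶ E), IsAffine W.obj.left.left → (str A φ W).IsIntegralElem (resA A g x) := by
  simp only [intSub, Subring.mem_iInf, Subring.mem_comap]
  rfl

theorem mem_intSub_iff_affine {E : EtOver X} [IsAffine E.obj.left.left] {x : Sec A E} :
    x ∈ intSub A φ E ↔ (str A φ E).IsIntegralElem x := by
  rw [mem_intSub]
  refine ⟨fun h => ?_, fun h W g _ => isIntegralElem_resA A φ g h⟩
  have := h E (𝟙 E) ‹_›
  rwa [show resA A (𝟙 E) x = x from ConcreteCategory.congr_hom (A.obj.map_id (op E)) x] at this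

theorem resA_mem {E W : EtOver X} (g : W ⟶ E) {x : Sec A E} (hx : x ∈ intSub A φ E) :
    resA A g x ∈ intSub A φ W :=
  (mem_intSub A φ).2 fun Z h hZ => by
    rw [← resA_comp]
    exact (mem_intSub A φ).1 hx Z (h ≫ g) hZ

theorem str_mem {E : EtOver X} (r : gr E) : str A φ E r ∈ intSub A φ E :=
  (mem_intSub A φ).2 fun W g _ => by
    rw [resA_str]
    exact RingHom.isIntegralElem_map _

/-- The presheaf of integral sections. -/
noncomputable def intPre : (EtOver X)ᵒᵖ ⥤ CommRingCat.{u + 1} where
  obj E := CommRingCat.of (intSub A φ E.unop)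
  map {E E'} g := CommRingCat.ofHom ((resA A g.unop).restrict (intSub A φ E.unop) (intSub A φ E'.unop)
    fun _ hx => resA_mem A φ g.unop hx)
  map_id E := CommRingCat.hom_ext (RingHom.ext fun x => Subtype.ext (ConcreteCategory.congr_hom (A.obj.map_id E) x.1))
  map_comp {E E' E''} g h := CommRingCat.hom_ext (RingHom.ext fun x => Subtype.ext
    (ConcreteCategory.congr_hom (A.obj.map_comp g h) x.1))

theorem isSheaf_intPre [(algMod A φ).IsQuasicoherent] : Presheaf.IsSheaf (etTop X) (intPre A φ) := by
  rw [Presheaf.isSheaf_iff_isSheaf_forget (etTop X) _ (CategoryTheory.forget CommRingCat.{u + 1}),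
    isSheaf_iff_isSheaf_of_type]
  intro E T hT s hs
  have hA : Presieve.IsSheaf (etTop X) (A.obj ⋙ CategoryTheory.forget CommRingCat.{u + 1}) :=
    (isSheaf_iff_isSheaf_of_type _ _).1
      (Presheaf.isSheaf_comp_of_isSheaf (etTop X) A.obj (CategoryTheory.forget CommRingCat.{u + 1}) A.property)
  let s' : Presieve.FamilyOfElements (A.obj ⋙ CategoryTheory.forget CommRingCat.{u + 1}) T.arrows :=
    fun W g hg => (show intSub A φ W from s g hg).1
  have hs' : s'.Compatible := fun W₁ W₂ Z g₁ g₂ f₁ f₂ h₁ h₂ e => congrArg Subtype.val (hs g₁ g₂ h₁ h₂ e)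
  obtain ⟨t, ht, huniq⟩ := hA T hT s' hs'
  have htmem : (show Sec A E from t) ∈ intSub A φ E := (mem_intSub A φ).2 fun W g hW => by
    obtain ⟨κ, _, V, f, hV, hTf, hf⟩ := exists_affine_family ((etTop X).pullback_stable g hT)
    refine isIntegralElem_of_cover A φ f hV hf fun k => ?_
    rw [← resA_comp]
    have e : resA A (f k ≫ g) (show Sec A E from t) = (show intSub A φ (V k) from s (f k ≫ g) (hTf k)).1 :=
      ht (f k ≫ g) (hTf k)
    rw [e]
    have := hV k
    exact (mem_intSub_iff_affine A φ).1 (show intSub A φ (V k) from s (f k ≫ g) (hTf k)).2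
  refine ⟨(⟨t, htmem⟩ : intSub A φ E), fun W g hg => Subtype.ext (ht g hg), fun y hy => Subtype.ext ?_⟩
  exact huniq _ fun W g hg => congrArg Subtype.val (hy g hg)

variable [(algMod A φ).IsQuasicoherent]

/-- The sheaf of integral sections. -/
noncomputable def intSheaf : EtSh X CommRingCat.{u + 1} := ⟨intPre A φ, isSheaf_intPre A φ⟩

/-- Its inclusion. -/
noncomputable def incl : intSheaf A φ ⟶ A :=
  ObjectProperty.homMk { app := fun E => CommRingCat.ofHom (intSub A φ E.unop).subtype }

/-- Its structure map. -/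
noncomputable def strHom : OEt X ⟶ intSheaf A φ :=
  ObjectProperty.homMk
    { app := fun E => CommRingCat.ofHom ((φ.hom.app E).hom.codRestrict (intSub A φ E.unop) fun r =>
        str_mem A φ (E := E.unop) (ULift.down (α := gr E.unop) r))
      naturality := fun E E' g => CommRingCat.hom_ext (RingHom.ext fun r => Subtype.ext
        (ConcreteCategory.congr_hom (φ.hom.naturality g) r)) }

theorem strHom_incl : strHom A φ ≫ incl A φ = φ := rfl

theorem str_intSheaf (E : EtOver X) (r : gr E) :
    (show intSub A φ E from str (intSheaf A φ) (strHom A φ) E r).1 = str A φ E r := rfl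

theorem isQuasicoherent_intSheaf : (algMod (intSheaf A φ) (strHom A φ)).IsQuasicoherent := by
  refine isQuasicoherent_of_bc fun E W g hE hW => ?_
  let _ := (gm g).toAlgebra
  let _ := (str A φ E).toAlgebra
  let _ := (str A φ W).toAlgebra
  have := smooth_gm g
  have : Module.Flat (gr E) (gr W) := flat_gm g
  obtain ⟨Θ, hΘ, hΘ'⟩ := exists_comparison A φ g
  refine (isBC_iff (A := gr E) (rs (algMod (intSheaf A φ) (strHom A φ)) g) (rs_smul g)).2 ?_
  let e : sectModEt (algMod (intSheaf A φ) (strHom A φ)) E ≃ₗ[gr E] integralClosure (gr E) (Sec A E) :=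
    { toFun := fun x => ⟨(show intSub A φ E from x).1, (mem_intSub_iff_affine A φ).1 (show intSub A φ E from x).2⟩
      invFun := fun x => (show intSub A φ E from ⟨x.1, (mem_intSub_iff_affine A φ).2 x.2⟩)
      left_inv := fun _ => rfl
      right_inv := fun _ => rfl
      map_add' := fun _ _ => rfl
      map_smul' := fun _ _ => rfl }
  let i : sectModEt (algMod (intSheaf A φ) (strHom A φ)) W → Sec A W := fun y => (show intSub A φ W from y).1
  have hi : Function.Injective i := fun _ _ h => Subtype.ext h
  let F := TensorProduct.congr (LinearEquiv.refl (gr E) (gr W)) e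
  have key : ∀ z, i (bc (rs (algMod (intSheaf A φ) (strHom A φ)) g) (rs_smul g) z) =
      Θ (LinearMap.lTensor (gr W) (integralClosure (gr E) (Sec A E)).val.toLinearMap (F z)) := fun z => by
    induction z using TensorProduct.induction_on with
    | zero => simp only [map_zero]; rfl
    | add x y hx hy => simp only [map_add, ← hx, ← hy]; rfl
    | tmul r m =>
      rw [bc_tmul, TensorProduct.congr_tmul, LinearMap.lTensor_tmul, LinearEquiv.refl_apply,
        show r ⊗ₜ[gr E] (integralClosure (gr E) (Sec A E)).val.toLinearMap (e m) =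
          r • ((1 : gr W) ⊗ₜ[gr E] (integralClosure (gr E) (Sec A E)).val.toLinearMap (e m)) by
          rw [TensorProduct.smul_tmul', smul_eq_mul, mul_one], map_smul, hΘ']
      rfl
  have hinj : Function.Injective (LinearMap.lTensor (gr W) (integralClosure (gr E) (Sec A E)).val.toLinearMap) :=
    Module.Flat.lTensor_preserves_injective_linearMap _ Subtype.val_injective
  refine ⟨fun a b h => F.injective (hinj (hΘ.1 ((key a).symm.trans ((congrArg i h).trans (key b))))), fun y => ?_⟩
  obtain ⟨z, hz⟩ := (isIntegral_iff_mem_range Θ hΘ (i y)).1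
    ((mem_intSub_iff_affine A φ).1 (show intSub A φ W from y).2)
  obtain ⟨z', rfl⟩ := F.surjective z
  exact ⟨z', hi ((key z').trans hz)⟩

end Groth.Agent.AlgSpD.IntClosureEt
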