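import Groth.Agent.AlgSp.ClosedEt
import Groth.Agent.AlgSpCov.HomeoEt.Lift
import Groth.Agent.AlgSpEN.PushIntegral
import Mathlib.CategoryTheory.Sites.DenseSubsite.InducedTopology
import Mathlib.CategoryTheory.Sites.DenseSubsite.SheafEquiv

/-!
# Small etale sites under integral universally injective morphisms
-/

universe u

open CategoryTheory CategoryTheory.Limits AlgebraicGeometry Opposite

set_option backward.isDefEq.respectTransparency false
set_option autoImplicit false

namespace Groth.Agent.AlgSpD.IntegralUI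

open _root_.AlgSp

variable {S : Scheme.{u}} {Z X : Sp S} {f : Z ⟶ X}

/-- The projection of a base change is injective. -/
theorem injective_snd (hi : RepWith @IsIntegralHom f) (hu : IsUnivInjectiveMor f) {U : Over S}
    (g : (yon S).obj U ⟶ X) : Function.Injective (hi.1.snd g).left := fun p p' h => by
  apply (Points.schemeHomeo (hi.1.pullback g)).injective
  refine hu (IsAlgSpace.yon_obj U) g _ _ (hi.1.isPullback g) ?_
  exact (Points.map_yon_map_apply (hi.1.snd g) p).trans
    ((congrArg (Points.ofScheme U) h).trans (Points.map_yon_map_apply (hi.1.snd g) p').symm)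

/-- Base change along an integral universally injective morphism is cover dense. -/
theorem isCoverDense_bc (hX : IsAlgSpace X) (hi : RepWith @IsIntegralHom f) (hu : IsUnivInjectiveMor f) :
    (EtOver.bc hi.1).IsCoverDense (etTop Z) := by
  refine ⟨fun E => ?_⟩
  rw [Groth.Agent.AlgSpD.mem_etTop_iff]
  intro x
  obtain ⟨U₀, P, hPe, hPs⟩ := hX.atlas
  have sqP := hi.1.isPullback P
  have hfs : RepWith @Surjective (hi.1.fst P) := MorphismProperty.of_isPullback sqP.flip hPs
  obtain ⟨V, w, π, sqV⟩ := Groth.Agent.AlgSpB.exists_pullback_yon E.property.1 (hi.1.fst P)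
  have : Etale π.left := E.property.2 _ _ _ sqV
  obtain ⟨z, hz⟩ := Groth.Agent.AlgSpB.surjective_ofPt hfs (Points.ofPt E.obj.hom x)
  obtain ⟨v, hv, hvz⟩ := (Groth.Agent.AlgSpB.ofPt_eq_ofPt_iff sqV x z).1 hz.symm
  have : IsIntegralHom (hi.1.snd P).left := hi.2 _ _ _ sqP
  obtain ⟨V', k, hk, w₀, hw₀⟩ :=
    AlgSpCov.HomeoEt.exists_nbhd_over (hi.1.snd P).left (injective_snd hi hu P) π.left v
  let EP : EtOver X := EtOver.mk P hPe
  let B : Over S := Over.mk (V'.hom ≫ U₀.hom)
  let eB : B ⟶ U₀ := Over.homMk V'.hom rfl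
  let EB : EtOver X := EtOver.mk ((yon S).map eB ≫ P)
    ((RepWith _).comp_mem _ _ ((repWith_yon_map_iff _ eB).2 V'.prop) hPe)
  let fB : EB ⟶ EP := EtOver.homMk eB rfl
  let bO := (EtOver.bcMap hi.1 fB).hom.left
  have sqO : IsPullback (hi.1.snd EB.obj.hom).left bO.left V'.hom (hi.1.snd P).left :=
    (EtOver.isPullback_bcMap_left hi.1 fB).flip
  let lV : (hi.1.pullback EB.obj.hom).left ⟶ V.left := sqO.isoPullback.hom ≫ k
  have hlV : lV ≫ π.left = bO.left := by
    simp only [lV, Category.assoc, hk]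
    exact sqO.isoPullback_hom_snd
  let lO : hi.1.pullback EB.obj.hom ⟶ V := Over.homMk lV (by
    rw [← Over.w π, ← Category.assoc, hlV]
    exact Over.w bO)
  have hlO : lO ≫ π = bO := Over.OverMorphism.ext hlV
  have hwl : (yon S).map (lO ≫ w) ≫ E.obj.hom = hi.1.fst EB.obj.hom := by
    rw [Functor.map_comp, Category.assoc, sqV.w, ← Functor.map_comp_assoc, hlO]
    exact EtOver.map_bcMap_fst hi.1 fB
  refine ⟨(EtOver.bc hi.1).obj EB, EtOver.homMk (lO ≫ w) hwl,
    ⟨⟨EB, 𝟙 _, EtOver.homMk (lO ≫ w) hwl, Category.id_comp _⟩⟩, sqO.isoPullback.inv w₀, ?_⟩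
  change w.left (lV (sqO.isoPullback.inv w₀)) = x
  rw [← Scheme.Hom.comp_apply sqO.isoPullback.inv lV, Iso.inv_hom_id_assoc, hw₀, hv]

/-- Base change along an integral universally injective morphism is locally full. -/
theorem isLocallyFull_bc (hi : RepWith @IsIntegralHom f) (hu : IsUnivInjectiveMor f) :
    (EtOver.bc hi.1).IsLocallyFull (etTop Z) := by
  refine ⟨fun {E E'} g => ?_⟩
  rw [Groth.Agent.AlgSpD.mem_etTop_iff]
  intro y
  obtain ⟨P, q', q, sqP⟩ := Groth.Agent.AlgSpB.exists_pullback_yon E'.property.1 E.obj.hom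
  have : Etale q.left := E'.property.2 _ _ _ sqP
  have hPe : RepWith @Etale ((yon S).map q ≫ E.obj.hom) :=
    (RepWith _).comp_mem _ _ ((repWith_yon_map_iff _ q).2 ‹_›) E.property
  let EP : EtOver X := EtOver.mk _ hPe
  let fP : EP ⟶ E := EtOver.homMk q rfl
  let fP' : EP ⟶ E' := EtOver.homMk q' sqP.w
  let W := hi.1.pullback E.obj.hom
  let g' : W ⟶ E'.obj.left := g.hom.left ≫ hi.1.snd E'.obj.hom
  obtain ⟨m, hm⟩ := (yon S).map_surjective (sqP.lift ((yon S).map g') ((yon S).map (hi.1.snd E.obj.hom)) (by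
    simp only [g', Functor.map_comp, Category.assoc]
    rw [← hi.1.w, ← hi.1.w]
    exact (Category.assoc _ _ _).symm.trans (congrArg (fun k => k ≫ f) (EtOver.w g))))
  have hm1 : m ≫ q' = g' := (yon S).map_injective (by rw [Functor.map_comp, hm]; exact sqP.lift_fst _ _ _)
  have hm2 : m ≫ q = hi.1.snd E.obj.hom := (yon S).map_injective (by
    rw [Functor.map_comp, hm]; exact sqP.lift_snd _ _ _)
  let σ : (EtOver.bc hi.1).obj E ⟶ (EtOver.bc hi.1).obj EP :=
    EtOver.homMk (hi.1.lift (hi.1.fst E.obj.hom) m (by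
      change hi.1.fst E.obj.hom ≫ f = (yon S).map m ≫ (yon S).map q ≫ E.obj.hom
      rw [← Functor.map_comp_assoc, hm2, hi.1.w])) (hi.1.lift_fst _ _ _)
  have hσ : σ.hom.left ≫ hi.1.snd EP.obj.hom = m := hi.1.lift_snd _ _ _
  have hσ1 : σ ≫ (EtOver.bc hi.1).map fP = 𝟙 _ := by
    refine EtOver.hom_ext _ _ (hi.1.hom_ext ?_ ?_)
    · change (yon S).map (σ.hom.left ≫ (EtOver.bcMap hi.1 fP).hom.left) ≫ _ = (yon S).map (𝟙 _) ≫ _
      rw [CategoryTheory.Functor.map_comp, Category.assoc, EtOver.map_bcMap_fst, CategoryTheory.Functor.map_id, Category.id_comp]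
      exact hi.1.lift_fst _ _ _
    · change (σ.hom.left ≫ (EtOver.bcMap hi.1 fP).hom.left) ≫ _ = 𝟙 _ ≫ _
      rw [Category.assoc, EtOver.bcMap_snd, ← Category.assoc, hσ, Category.id_comp]
      exact hm2
  have hσ2 : σ ≫ (EtOver.bc hi.1).map fP' = g := by
    refine EtOver.hom_ext _ _ (hi.1.hom_ext ?_ ?_)
    · change (yon S).map (σ.hom.left ≫ (EtOver.bcMap hi.1 fP').hom.left) ≫ _ = _
      rw [Functor.map_comp, Category.assoc, EtOver.map_bcMap_fst]
      exact (hi.1.lift_fst _ _ _).trans (EtOver.w g).symm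
    · change (σ.hom.left ≫ (EtOver.bcMap hi.1 fP').hom.left) ≫ _ = _
      rw [Category.assoc, EtOver.bcMap_snd, ← Category.assoc, hσ]
      exact hm1
  have : Etale σ.hom.left.left := EtOver.etale_left σ
  have : Mono σ.hom.left.left := by
    have e : σ.hom.left.left ≫ (EtOver.bcMap hi.1 fP).hom.left.left = 𝟙 _ :=
      congrArg (fun k : (EtOver.bc hi.1).obj E ⟶ (EtOver.bc hi.1).obj E => k.hom.left.left) hσ1
    exact ⟨fun a b h => by
      have := h =≫ (EtOver.bcMap hi.1 fP).hom.left.left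
      simpa [e] using this⟩
  have : IsOpenImmersion σ.hom.left.left := IsOpenImmersion.of_flat_of_mono _
  -- the open part of the graph
  let cP := (hi.1.snd EP.obj.hom).left
  have : IsIntegralHom cP := hi.2 _ _ _ (hi.1.isPullback EP.obj.hom)
  have hcinj : Function.Injective cP := injective_snd hi hu EP.obj.hom
  have hccl : IsClosedMap cP := cP.isClosedMap
  let O : P.left.Opens := ⟨(cP '' (Set.range σ.hom.left.left)ᶜ)ᶜ,
    (hccl _ σ.hom.left.left.isOpenEmbedding.isOpen_range.isClosed_compl).isOpen_compl⟩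
  let PO : Over S := Over.mk (O.ι ≫ P.hom)
  let ιO : PO ⟶ P := Over.homMk O.ι rfl
  have hOe : RepWith @Etale ((yon S).map ιO ≫ EP.obj.hom) :=
    (RepWith _).comp_mem _ _ ((repWith_yon_map_iff _ ιO).2 (inferInstanceAs (Etale O.ι))) hPe
  let EO : EtOver X := EtOver.mk _ hOe
  let fO : EO ⟶ EP := EtOver.homMk ιO rfl
  let bO := (EtOver.bcMap hi.1 fO).hom.left.left
  have sqO : IsPullback bO (hi.1.snd EO.obj.hom).left cP O.ι := EtOver.isPullback_bcMap_left hi.1 fO
  have hrange : Set.range bO ⊆ Set.range σ.hom.left.left := by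
    rintro _ ⟨t, rfl⟩
    by_contra ht
    have h1 : cP (bO t) ∈ (O : Set P.left) := by
      have e0 := congr($(sqO.w) t)
      simp only [Scheme.Hom.comp_apply] at e0
      change cP (bO t) ∈ (O : Set P.left)
      exact e0.symm ▸ ((hi.1.snd EO.obj.hom).left t).2
    exact h1 ⟨_, ht, rfl⟩
  let r : ((EtOver.bcObj hi.1 EO).obj.left).left ⟶ W.left := IsOpenImmersion.lift σ.hom.left.left bO hrange
  have hr : r ≫ σ.hom.left.left = bO := IsOpenImmersion.lift_fac _ _ _
  let rO : (EtOver.bcObj hi.1 EO).obj.left ⟶ W := Over.homMk r (by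
    refine (congrArg (fun f => r ≫ f) (Over.w σ.hom.left).symm).trans ?_
    rw [← Category.assoc, hr]
    exact Over.w (EtOver.bcMap hi.1 fO).hom.left)
  have hrO : rO ≫ σ.hom.left = (EtOver.bcMap hi.1 fO).hom.left := Over.OverMorphism.ext hr
  let rE : (EtOver.bc hi.1).obj EO ⟶ (EtOver.bc hi.1).obj E :=
    EtOver.homMk rO (by
      rw [← EtOver.w σ, ← Functor.map_comp_assoc, hrO]
      exact EtOver.w _)
  have hrE : rE ≫ σ = (EtOver.bc hi.1).map fO := EtOver.hom_ext _ _ hrO
  have e1 : (EtOver.bc hi.1).map (fO ≫ fP) = rE := by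
    rw [Functor.map_comp, ← hrE, Category.assoc, hσ1, Category.comp_id]
  have e2 : (EtOver.bc hi.1).map (fO ≫ fP') = rE ≫ g := by
    rw [Functor.map_comp, ← hrE, Category.assoc, hσ2]
  refine ⟨_, (EtOver.bc hi.1).map (fO ≫ fP), Sieve.image_mem_functorPushforward _ _ ⟨fO ≫ fP', by rw [e2, e1]⟩, ?_⟩
  rw [e1]
  change y ∈ Set.range r
  have hy : σ.hom.left.left y ∈ Set.range bO := by
    have hO : cP (σ.hom.left.left y) ∈ O := by
      rintro ⟨t, ht, e⟩
      exact ht ⟨y, (hcinj e).symm⟩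
    obtain ⟨t, ht, -⟩ := Scheme.Pullback.exists_preimage_pullback (f := cP) (g := O.ι) (σ.hom.left.left y)
      ⟨_, hO⟩ rfl
    exact ⟨sqO.isoPullback.inv t, ((Scheme.Hom.comp_apply _ _ _).symm.trans congr($(sqO.isoPullback_inv_fst) t)).trans ht⟩
  obtain ⟨t, ht⟩ := hy
  exact ⟨t, σ.hom.left.left.isOpenEmbedding.injective (((Scheme.Hom.comp_apply r σ.hom.left.left t).symm.trans congr($hr t)).trans ht)⟩

end Groth.Agent.AlgSpD.IntegralUI

namespace Groth.Agent.AlgSpD.IntegralUI

open _root_.AlgSp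

set_option backward.isDefEq.respectTransparency.types false

variable {S : Scheme.{u}} {Z X : Sp S} {f : Z ⟶ X}

/-- Base change along an integral universally injective morphism is locally faithful. -/
theorem isLocallyFaithful_bc (hi : RepWith @IsIntegralHom f) :
    (EtOver.bc hi.1).IsLocallyFaithful (etTop Z) := by
  refine ⟨fun {E E'} a b h => ?_⟩
  rw [Groth.Agent.AlgSpD.mem_etTop_iff]
  intro y
  obtain ⟨P, p₁, p₂, sqP⟩ := Groth.Agent.AlgSpB.exists_pullback_yon E'.property.1 E'.obj.hom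
  obtain ⟨δ, hδ⟩ := (yon S).map_surjective (sqP.lift (𝟙 _) (𝟙 _) rfl)
  have : Etale p₂.left := E'.property.2 _ _ _ sqP
  have hδ1 : δ ≫ p₁ = 𝟙 _ := (yon S).map_injective (by
    rw [Functor.map_comp, hδ, sqP.lift_fst, CategoryTheory.Functor.map_id])
  have hδ2 : δ ≫ p₂ = 𝟙 _ := (yon S).map_injective (by
    rw [Functor.map_comp, hδ, sqP.lift_snd, CategoryTheory.Functor.map_id])
  have hδ2' : δ.left ≫ p₂.left = 𝟙 _ := congrArg CommaMorphism.left hδ2
  have : Etale δ.left := by
    have : Etale (δ.left ≫ p₂.left) := by rw [hδ2']; infer_instance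
    exact Etale.of_comp δ.left p₂.left
  have : Mono δ.left := ⟨fun u v h => by simpa [hδ2'] using h =≫ p₂.left⟩
  have : IsOpenImmersion δ.left := IsOpenImmersion.of_flat_of_mono _
  obtain ⟨ab, hab⟩ := (yon S).map_surjective (sqP.lift ((yon S).map a.hom.left) ((yon S).map b.hom.left)
    ((EtOver.w a).trans (EtOver.w b).symm))
  have hab1 : ab ≫ p₁ = a.hom.left := (yon S).map_injective (by rw [Functor.map_comp, hab, sqP.lift_fst])
  have hab2 : ab ≫ p₂ = b.hom.left := (yon S).map_injective (by rw [Functor.map_comp, hab, sqP.lift_snd])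
  let O : E.obj.left.left.Opens := ab.left ⁻¹ᵁ δ.left.opensRange
  let i : AlgSpEN.PushIntegral.piece E O ⟶ E := AlgSpEN.PushIntegral.pieceHom E O
  have hO : i ≫ a = i ≫ b := by
    have hr : Set.range (O.ι ≫ ab.left) ⊆ Set.range δ.left := by
      rintro _ ⟨t, rfl⟩
      rw [Scheme.Hom.comp_apply]
      exact t.2
    let l := IsOpenImmersion.lift δ.left (O.ι ≫ ab.left) hr
    have hl : l ≫ δ.left = O.ι ≫ ab.left := IsOpenImmersion.lift_fac _ _ _
    refine EtOver.hom_ext _ _ (Over.OverMorphism.ext ?_)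
    change O.ι ≫ a.hom.left.left = O.ι ≫ b.hom.left.left
    rw [← hab1, ← hab2, Over.comp_left, Over.comp_left, ← Category.assoc, ← Category.assoc, ← hl]
    simp only [Category.assoc]
    rw [← Over.comp_left, ← Over.comp_left, hδ1, hδ2]
  refine ⟨_, (EtOver.bc hi.1).map i, Sieve.image_mem_functorPushforward _ _ hO, ?_⟩
  let cE := hi.1.snd E.obj.hom
  have he : cE ≫ a.hom.left = cE ≫ b.hom.left :=
    (EtOver.bcMap_snd hi.1 a).symm.trans ((congrArg (fun k => k.hom.left ≫ _) h).trans (EtOver.bcMap_snd hi.1 b))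
  have hz : cE ≫ ab = (cE ≫ a.hom.left) ≫ δ := by
    refine (yon S).map_injective (sqP.hom_ext ?_ ?_)
    · rw [← Functor.map_comp, ← Functor.map_comp]
      simp only [Category.assoc, hab1, hδ1, Category.comp_id]
    · rw [← Functor.map_comp, ← Functor.map_comp]
      simp only [Category.assoc, hab2, hδ2, Category.comp_id, he]
  have hyO : cE.left y ∈ O :=
    ⟨(cE ≫ a.hom.left).left y, (congrArg (fun k : hi.1.pullback E.obj.hom ⟶ P => k.left y) hz).symm⟩
  have sqi := EtOver.isPullback_bcMap_left hi.1 i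
  obtain ⟨t, ht, -⟩ := Scheme.exists_preimage_of_isPullback sqi y ⟨cE.left y, hyO⟩ rfl
  exact ⟨t, ht⟩

/-- An etale scheme whose image misses the image of the morphism has empty base change. -/
theorem disjoint_iff_isEmpty (hi : RepWith @IsIntegralHom f) (E : EtOver X) :
    Disjoint (Set.range (Points.map E.obj.hom)) (Set.range (Points.map f)) ↔
      IsEmpty ((EtOver.bc hi.1).obj E).obj.left.left := by
  constructor
  · intro h
    refine ⟨fun t => ?_⟩
    let p := Points.ofScheme (hi.1.pullback E.obj.hom) t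
    refine Set.disjoint_left.1 h ⟨Points.map ((yon S).map (hi.1.snd E.obj.hom)) p, rfl⟩
      ⟨Points.map (hi.1.fst E.obj.hom) p, ?_⟩
    rw [← Points.map_comp, ← Points.map_comp, (hi.1.isPullback E.obj.hom).w]
  · intro h
    refine Set.disjoint_left.2 ?_
    rintro _ ⟨p, rfl⟩ ⟨q, hq⟩
    obtain ⟨r, -, -⟩ := AlgSpB.exists_of_isPullback (hi.1.isPullback E.obj.hom) q p hq
    exact h.elim ((Points.schemeHomeo (hi.1.pullback E.obj.hom)).symm r)

/-- A sheaf of sets with one-element values away from the image is a sheaf for the topology induced by base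
change. -/
theorem isSheaf_inducedTopology (hX : IsAlgSpace X) (hi : RepWith @IsIntegralHom f) (hu : IsUnivInjectiveMor f)
    (P : (EtOver X)ᵒᵖ ⥤ Type (u + 1)) (hP : Presieve.IsSheaf (etTop X) P)
    (h0 : ∀ E : EtOver X, IsEmpty ((EtOver.bc hi.1).obj E).obj.left.left → Nonempty (Unique (P.obj (op E)))) :
    Presieve.IsSheaf ((EtOver.bc hi.1).inducedTopology (etTop Z)) P := by
  have h1 := isCoverDense_bc hX hi hu
  have h2 := isLocallyFull_bc hi hu
  have h3 := isLocallyFaithful_bc hi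
  intro E T hT
  rw [Functor.mem_inducedTopology_iff_of_isCoverDense, Groth.Agent.AlgSpD.mem_etTop_iff] at hT
  let T' : Sieve E := ⟨fun e h => T h ∨ IsEmpty ((EtOver.bc hi.1).obj e).obj.left.left, by
    rintro e e' h (hh | hh) g
    · exact Or.inl (T.downward_closed hh g)
    · exact Or.inr (Function.isEmpty ((EtOver.bc hi.1).map g).hom.left.left)⟩
  have hT' : T' ∈ etTop X E := by
    rw [Groth.Agent.AlgSpD.mem_etTop_iff]
    intro x
    let c := (hi.1.snd E.obj.hom).left
    have : IsIntegralHom c := hi.2 _ _ _ (hi.1.isPullback E.obj.hom)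
    by_cases hx : x ∈ Set.range c
    · obtain ⟨y, rfl⟩ := hx
      obtain ⟨d, k, ⟨e, g, l, hg, rfl⟩, t, rfl⟩ := hT y
      refine ⟨e, g, Or.inl hg, (hi.1.snd e.obj.hom).left (l.hom.left.left t), ?_⟩
      exact (congrArg (fun q : hi.1.pullback e.obj.hom ⟶ E.obj.left => q.left (l.hom.left.left t))
        (EtOver.bcMap_snd hi.1 g)).symm
    · let W : E.obj.left.left.Opens := ⟨(Set.range c)ᶜ, c.isClosedMap.isClosed_range.isOpen_compl⟩
      refine ⟨_, AlgSpEN.PushIntegral.pieceHom E W, Or.inr ⟨fun t => ?_⟩, ⟨x, hx⟩, rfl⟩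
      have sq := EtOver.isPullback_bcMap_left hi.1 (AlgSpEN.PushIntegral.pieceHom E W)
      exact ((hi.1.snd (AlgSpEN.PushIntegral.piece E W).obj.hom).left t).2
        ⟨_, congr($(sq.w) t)⟩
  have hs := hP T' hT'
  have hsub : ∀ e : EtOver X, IsEmpty ((EtOver.bc hi.1).obj e).obj.left.left → Subsingleton (P.obj (op e)) :=
    fun e he => (h0 e he).some.instSubsingleton
  intro x hx
  classical
  let x' : Presieve.FamilyOfElements P (T' : Presieve E) := fun e g hg =>
    if h : T g then x g h else (h0 e (hg.resolve_left h)).some.default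
  have hx' : x'.Compatible := fun Y₁ Y₂ W g₁ g₂ f₁ f₂ hf₁ hf₂ w => by
    by_cases he : IsEmpty ((EtOver.bc hi.1).obj W).obj.left.left
    · exact @Subsingleton.elim _ (hsub W he) _ _
    have a₁ : T f₁ := hf₁.resolve_right fun h =>
      he (Function.isEmpty ((EtOver.bc hi.1).map g₁).hom.left.left)
    have a₂ : T f₂ := hf₂.resolve_right fun h =>
      he (Function.isEmpty ((EtOver.bc hi.1).map g₂).hom.left.left)
    simp only [x', dif_pos a₁, dif_pos a₂]
    exact hx g₁ g₂ a₁ a₂ w
  obtain ⟨t, ht, hu'⟩ := hs x' hx'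
  refine ⟨t, fun e g hg => (ht g (Or.inl hg)).trans (dif_pos hg), fun t' ht' => hu' t' fun e g hg => ?_⟩
  by_cases h : T g
  · exact (ht' g h).trans (dif_pos h).symm
  · exact @Subsingleton.elim _ (hsub e (hg.resolve_left h)) _ _

/-- A sheaf satisfying the sheaf condition of the induced topology is a direct image. -/
theorem mem_essImage_pushEt (hX : IsAlgSpace X) (hi : RepWith @IsIntegralHom f) (hu : IsUnivInjectiveMor f)
    {A : Type (u + 2)} [Category.{u + 1} A]
    [∀ E : (EtOver Z)ᵒᵖ, HasLimitsOfShape (StructuredArrow E (EtOver.bc hi.1).op) A] (G : EtSh X A)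
    (hG : Presheaf.IsSheaf ((EtOver.bc hi.1).inducedTopology (etTop Z)) G.obj) :
    (pushEt hi.1 A).essImage G := by
  have h1 := isCoverDense_bc hX hi hu
  have h2 := isLocallyFull_bc hi hu
  have h3 := isLocallyFaithful_bc hi
  let G' : Sheaf ((EtOver.bc hi.1).inducedTopology (etTop Z)) A := ⟨G.obj, hG⟩
  let P := (EtOver.bc hi.1).sheafPushforwardContinuous A ((EtOver.bc hi.1).inducedTopology (etTop Z)) (etTop Z)
  exact ⟨P.objPreimage G', ⟨(fullyFaithfulSheafToPresheaf _ _).preimageIso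
    ((sheafToPresheaf ((EtOver.bc hi.1).inducedTopology (etTop Z)) A).mapIso (P.objObjPreimageIso G'))⟩⟩

end Groth.Agent.AlgSpD.IntegralUI
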