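import Groth.Agent.AlgSpD.LocSep
import Groth.Agent.S10181
import Mathlib.AlgebraicGeometry.Morphisms.QuasiSeparated

/-!
# Counting geometric lifts to a separated chart

The number of lifts of a geometric point to a separated etale chart is lower semicontinuous; where
it is constant the relation of the chart is quasi-compact over the chart.
-/

universe u

open CategoryTheory CategoryTheory.Limits AlgebraicGeometry Opposite

set_option backward.isDefEq.respectTransparency false
set_option autoImplicit false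

namespace Groth.Agent.AlgSpD

open Groth.Agent

variable {S : Scheme.{u}} (X : AlgSp.Space S) {U : Over S} (a : (AlgSp.yon S).obj U ⟶ X.obj)

/-- The lifts of a field point to a chart. -/
abbrev Lifts (q : AlgSp.FieldPt X.obj) : Type u := {c : q.pt ⟶ U // (AlgSp.yon S).map c ≫ a = q.toHom}

theorem subsingleton_pt {F : AlgSp.Sp S} (q : AlgSp.FieldPt F) : Subsingleton ↥q.pt.left :=
  inferInstanceAs (Subsingleton (PrimeSpectrum q.K))

theorem ofPt_of_lift {F : AlgSp.Sp S} (q : AlgSp.FieldPt F) {V : Over S} (b : (AlgSp.yon S).obj V ⟶ F)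
    (c : q.pt ⟶ V) (hc : (AlgSp.yon S).map c ≫ b = q.toHom) :
    AlgSp.Points.ofPt b (c.left (IsLocalRing.closedPoint q.K)) = AlgSp.Points.mk q := by
  rw [← AlgSpB.ofPt_map_comp, hc, AlgSp.Points.ofPt_toHom]

variable (ha : AlgSp.RepWith @Etale a) [U.left.IsSeparated]
include ha

/-- Sections through finitely many lifts, pairwise different at every point. -/
theorem exists_witness (q : AlgSp.FieldPt X.obj) (T : Finset (Lifts X a q)) (hT : T.Nonempty) :
    ∃ (W : Over S) (b : (AlgSp.yon S).obj W ⟶ X.obj) (_ : AlgSp.RepWith @Etale b) (c : q.pt ⟶ W)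
      (σ : T → (W ⟶ U)), (AlgSp.yon S).map c ≫ b = q.toHom ∧
      (∀ i, (AlgSp.yon S).map (σ i) ≫ a = b) ∧ (∀ i, c ≫ σ i = i.1.1) ∧
      (∀ (q' : AlgSp.FieldPt X.obj) (c' : q'.pt ⟶ W) (i j : T), c' ≫ σ i = c' ≫ σ j → i = j) := by
  classical
  have key : ∀ T : Finset (Lifts X a q), T.Nonempty →
      ∃ (W : Over S) (b : (AlgSp.yon S).obj W ⟶ X.obj) (_ : AlgSp.RepWith @Etale b) (c : q.pt ⟶ W)
        (σ : T → (W ⟶ U)), (AlgSp.yon S).map c ≫ b = q.toHom ∧
        (∀ i, (AlgSp.yon S).map (σ i) ≫ a = b) ∧ (∀ i, c ≫ σ i = i.1.1) := by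
    intro T hT
    induction hT using Finset.Nonempty.cons_induction with
    | singleton i =>
      refine ⟨U, a, ha, i.1, fun _ => 𝟙 U, i.2, fun _ => by simp, fun j => ?_⟩
      rw [Category.comp_id, Finset.mem_singleton.1 j.2]
    | cons i T hi _ ih =>
      obtain ⟨W, b, hb, c, σ, hc, hσ, hcσ⟩ := ih
      obtain ⟨W', p, π, sq⟩ := AlgSpB.exists_pullback_yon (X.property.representable_from_yon b) a
      have : Etale p.left := ha.2 _ _ _ sq.flip
      obtain ⟨c', hc'⟩ := (AlgSp.yon S).map_surjective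
        (sq.lift ((AlgSp.yon S).map c) ((AlgSp.yon S).map i.1) (hc.trans i.2.symm))
      have h1 : c' ≫ p = c := (AlgSp.yon S).map_injective (by rw [Functor.map_comp, hc', sq.lift_fst])
      have h2 : c' ≫ π = i.1 := (AlgSp.yon S).map_injective (by rw [Functor.map_comp, hc', sq.lift_snd])
      refine ⟨W', (AlgSp.yon S).map p ≫ b, AlgSpB.repWith_etale_map_comp p hb, c',
        fun j => if hj : j.1 ∈ T then p ≫ σ ⟨j.1, hj⟩ else π, ?_, fun j => ?_, fun j => ?_⟩
      · rw [← Category.assoc, ← Functor.map_comp, h1, hc]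
      · dsimp only
        split_ifs with hj
        · rw [Functor.map_comp, Category.assoc, hσ]
        · exact sq.w.symm
      · dsimp only
        split_ifs with hj
        · rw [← Category.assoc, h1, hcσ]
        · rw [h2, (Finset.mem_cons.1 j.2).resolve_right hj]
  obtain ⟨W, b, hb, c, σ, hc, hσ, hcσ⟩ := key T hT
  obtain ⟨R, s, t, h⟩ := AlgSpB.exists_pullback_yon (X.property.representable_from_yon a) a
  obtain ⟨δ, hδ⟩ := (AlgSp.yon S).map_surjective (h.lift (𝟙 _) (𝟙 _) rfl)
  have hδs : δ ≫ s = 𝟙 U := (AlgSp.yon S).map_injective (by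
    rw [Functor.map_comp, hδ, h.lift_fst, CategoryTheory.Functor.map_id])
  have hδt : δ ≫ t = 𝟙 U := (AlgSp.yon S).map_injective (by
    rw [Functor.map_comp, hδ, h.lift_snd, CategoryTheory.Functor.map_id])
  have : IsSeparated s.left := (Groth.Agent.S10181.result X a ha).1.2 _ _ _ h.flip
  have : IsClosedImmersion (δ.left ≫ s.left) := by
    rw [← Over.comp_left, hδs]; exact (inferInstance : IsClosedImmersion (𝟙 U.left))
  have hδc : IsClosedImmersion δ.left := IsClosedImmersion.of_comp δ.left s.left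
  have hL : ∀ i j : T, ∃ L : W ⟶ R, L ≫ s = σ i ∧ L ≫ t = σ j := fun i j => by
    obtain ⟨L, hL⟩ := (AlgSp.yon S).map_surjective
      (h.lift ((AlgSp.yon S).map (σ i)) ((AlgSp.yon S).map (σ j)) ((hσ i).trans (hσ j).symm))
    exact ⟨L, (AlgSp.yon S).map_injective (by rw [Functor.map_comp, hL, h.lift_fst]),
      (AlgSp.yon S).map_injective (by rw [Functor.map_comp, hL, h.lift_snd])⟩
  choose L hLs hLt using hL
  let E : Set ↥W.left := ⋃ (i : T) (j : T) (_ : i ≠ j), (L i j).left ⁻¹' Set.range δ.left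
  have hE : IsClosed E := isClosed_iUnion_of_finite fun i => isClosed_iUnion_of_finite fun j =>
    isClosed_iUnion_of_finite fun _ => (δ.left.isClosedEmbedding.isClosed_range).preimage (L i j).left.continuous
  have hdist : ∀ (q' : AlgSp.FieldPt X.obj) (c' : q'.pt ⟶ W) (i j : T),
      c' ≫ σ i = c' ≫ σ j ↔ (i = j ∨ c'.left (IsLocalRing.closedPoint q'.K) ∈ (L i j).left ⁻¹' Set.range δ.left) := by
    intro q' c' i j
    constructor
    · intro e
      refine Or.inr ⟨(c' ≫ σ i).left (IsLocalRing.closedPoint q'.K), ?_⟩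
      have e' : c' ≫ L i j = (c' ≫ σ i) ≫ δ := (AlgSp.yon S).map_injective (h.hom_ext
        (by rw [← Functor.map_comp, ← Functor.map_comp, Category.assoc, Category.assoc, hLs, hδs, Category.comp_id])
        (by rw [← Functor.map_comp, ← Functor.map_comp, Category.assoc, Category.assoc, hLt, hδt, Category.comp_id, e]))
      exact (congrArg (fun k : q'.pt ⟶ R => k.left (IsLocalRing.closedPoint q'.K)) e').symm
    · rintro (rfl | he)
      · rfl
      · obtain ⟨u', hu'⟩ := he
        have := subsingleton_pt q'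
        have : IsOpenImmersion δ.left :=
          have : Etale s.left := ha.2 _ _ _ h.flip
          EtaleSite.isOpenImmersion_of_section s.left δ.left (congrArg CommaMorphism.left hδs)
        have hr : Set.range (c' ≫ L i j).left ⊆ Set.range δ.left := by
          rintro _ ⟨y, rfl⟩
          exact ⟨u', hu'.trans (congrArg (c' ≫ L i j).left (Subsingleton.elim _ y))⟩
        let l := IsOpenImmersion.lift δ.left _ hr
        have hl : l ≫ δ.left = (c' ≫ L i j).left := IsOpenImmersion.lift_fac _ _ _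
        have e1 : (L i j).left ≫ s.left = (σ i).left := congrArg CommaMorphism.left (hLs i j)
        have e2 : (L i j).left ≫ t.left = (σ j).left := congrArg CommaMorphism.left (hLt i j)
        have eδs : δ.left ≫ s.left = 𝟙 _ := congrArg CommaMorphism.left hδs
        have eδt : δ.left ≫ t.left = 𝟙 _ := congrArg CommaMorphism.left hδt
        have el : c'.left ≫ (L i j).left = l ≫ δ.left := hl.symm
        apply Over.OverMorphism.ext
        refine ((congrArg (c'.left ≫ ·) e1.symm).trans ?_).trans (congrArg (c'.left ≫ ·) e2)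
        show c'.left ≫ (L i j).left ≫ s.left = c'.left ≫ (L i j).left ≫ t.left
        rw [← Category.assoc, ← Category.assoc, el, Category.assoc, Category.assoc, eδs, eδt]
  have hcE : c.left (IsLocalRing.closedPoint q.K) ∉ E := by
    intro hmem
    simp only [E, Set.mem_iUnion] at hmem
    obtain ⟨i, j, hij, hm⟩ := hmem
    have := (hdist q c i j).2 (Or.inr hm)
    rw [hcσ, hcσ] at this
    exact hij (Subtype.ext (Subtype.ext this))
  let O : W.left.Opens := ⟨Eᶜ, hE.isOpen_compl⟩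
  let ι : Over.mk (O.ι ≫ W.hom) ⟶ W := Over.homMk O.ι rfl
  have hr : Set.range c.left ⊆ Set.range O.ι := by
    have := subsingleton_pt q
    rintro _ ⟨y, rfl⟩
    rw [Scheme.Opens.range_ι, Subsingleton.elim y (IsLocalRing.closedPoint q.K)]
    exact hcE
  let c₀ : q.pt ⟶ Over.mk (O.ι ≫ W.hom) := Over.homMk (IsOpenImmersion.lift O.ι c.left hr) (by
    show IsOpenImmersion.lift O.ι c.left hr ≫ O.ι ≫ W.hom = q.pt.hom
    rw [IsOpenImmersion.lift_fac_assoc, Over.w c])
  have hc₀ : c₀ ≫ ι = c := Over.OverMorphism.ext (IsOpenImmersion.lift_fac _ _ _)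
  refine ⟨_, (AlgSp.yon S).map ι ≫ b, repWith_etale_restrict b hb O, c₀, fun i => ι ≫ σ i, ?_, fun i => ?_,
    fun i => by rw [← Category.assoc, hc₀, hcσ], fun q' c' i j e => ?_⟩
  · rw [← Category.assoc, ← Functor.map_comp, hc₀, hc]
  · rw [Functor.map_comp, Category.assoc, hσ]
  · simp only [← Category.assoc] at e
    by_contra hij
    have hm := ((hdist q' (c' ≫ ι) i j).1 e).resolve_left hij
    have hnot : O.ι (c'.left (IsLocalRing.closedPoint q'.K)) ∉ E := (c'.left (IsLocalRing.closedPoint q'.K)).2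
    exact hnot (Set.mem_iUnion.2 ⟨i, Set.mem_iUnion.2 ⟨j, Set.mem_iUnion.2 ⟨hij, hm⟩⟩⟩)

/-- At least `n` lifts near a point with `n` lifts. -/
theorem exists_open_le (q : AlgSp.FieldPt X.obj) (T : Finset (Lifts X a q)) :
    ∃ Ω : Set (AlgSp.Points X.obj), IsOpen Ω ∧ AlgSp.Points.mk q ∈ Ω ∧
      ∀ q' : AlgSp.FieldPt X.obj, q'.IsGeometric → AlgSp.Points.mk q' ∈ Ω →
        (T.card : ℕ∞) ≤ ENat.card (Lifts X a q') := by
  rcases T.eq_empty_or_nonempty with rfl | hT
  · exact ⟨Set.univ, isOpen_univ, trivial, fun _ _ _ => by simp⟩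
  obtain ⟨W, b, hb, c, σ, hc, hσ, -, hdist⟩ := exists_witness X a ha q T hT
  refine ⟨Set.range (AlgSp.Points.ofPt b), (AlgSpB.isOpenMap_ofPt hb).isOpen_range,
    ⟨_, ofPt_of_lift q b c hc⟩, fun q' hq' hmem => ?_⟩
  obtain ⟨w, hw⟩ := hmem
  obtain ⟨c', hc', -⟩ := AlgSpB.exists_lift_geometric hb q' hq' w hw
  let g : T → Lifts X a q' := fun i => ⟨c' ≫ σ i, by rw [Functor.map_comp, Category.assoc, hσ, hc']⟩
  have hg : Function.Injective g := fun i j e => hdist q' c' i j (congrArg Subtype.val e)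
  have h := ENat.card_le_card_of_injective hg
  simpa using h

theorem exists_open_natCast_le (q : AlgSp.FieldPt X.obj) (n : ℕ) (hn : (n : ℕ∞) ≤ ENat.card (Lifts X a q)) :
    ∃ Ω : Set (AlgSp.Points X.obj), IsOpen Ω ∧ AlgSp.Points.mk q ∈ Ω ∧
      ∀ q' : AlgSp.FieldPt X.obj, q'.IsGeometric → AlgSp.Points.mk q' ∈ Ω →
        (n : ℕ∞) ≤ ENat.card (Lifts X a q') := by
  rw [← Set.encard_univ] at hn
  obtain ⟨t, -, ht⟩ := Set.exists_subset_encard_eq hn
  have hf : t.Finite := Set.finite_of_encard_eq_coe ht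
  have hc : hf.toFinset.card = n := by exact_mod_cast hf.encard_eq_coe_toFinset_card.symm.trans ht
  rw [← hc]
  exact exists_open_le X a ha q hf.toFinset

/-- The number of lifts depends on the point only. -/
theorem card_lifts_eq (q q' : AlgSp.FieldPt X.obj) (hq : q.IsGeometric) (hq' : q'.IsGeometric)
    (h : AlgSp.Points.mk q = AlgSp.Points.mk q') :
    ENat.card (Lifts X a q) = ENat.card (Lifts X a q') := by
  refine le_antisymm ?_ ?_
  · refine ENat.forall_natCast_le_iff_le.1 fun n hn => ?_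
    obtain ⟨Ω, -, hm, hΩ⟩ := exists_open_natCast_le X a ha q n hn
    exact hΩ q' hq' (h ▸ hm)
  · refine ENat.forall_natCast_le_iff_le.1 fun n hn => ?_
    obtain ⟨Ω, -, hm, hΩ⟩ := exists_open_natCast_le X a ha q' n hn
    exact hΩ q hq (h.symm ▸ hm)

/-- The locus of at least `n` lifts. -/
def liftLocus (n : ℕ) : Set (AlgSp.Points X.obj) :=
  {x | ∀ q : AlgSp.FieldPt X.obj, q.IsGeometric → AlgSp.Points.mk q = x → (n : ℕ∞) ≤ ENat.card (Lifts X a q)}

theorem isOpen_liftLocus (n : ℕ) : IsOpen (liftLocus X a n) := by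
  rw [isOpen_iff_forall_mem_open]
  intro x hx
  obtain ⟨U', b, u', hb, hu⟩ := exists_chart X x
  obtain ⟨q, hq, -, -, hqm⟩ := exists_geometric_lift X (AlgSp.EtOver.mk b hb) u'
  have hqx : AlgSp.Points.mk q = x := hqm.trans hu
  obtain ⟨Ω, hΩo, hm, hΩ⟩ := exists_open_natCast_le X a ha q n (hx q hq hqx)
  exact ⟨Ω, fun y hy q' hq' e => hΩ q' hq' (e ▸ hy), hΩo, hqx ▸ hm⟩

/-- Where the number of lifts is constant the relation is quasi-compact over the chart. -/
theorem exists_compact_nbhd {R : Over S} {s t : R ⟶ U}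
    (h : IsPullback ((AlgSp.yon S).map s) ((AlgSp.yon S).map t) a a)
    (Ω : Set (AlgSp.Points X.obj)) (hΩ : IsOpen Ω) (k : ℕ)
    (hk : ∀ q : AlgSp.FieldPt X.obj, q.IsGeometric → AlgSp.Points.mk q ∈ Ω → ENat.card (Lifts X a q) = k)
    (v : ↥U.left) (hv : AlgSp.Points.ofPt a v ∈ Ω) :
    ∃ B : U.left.Opens, IsAffineOpen B ∧ v ∈ B ∧ IsCompact (s.left ⁻¹' (B : Set ↥U.left)) := by
  classical
  obtain ⟨q, hq, l, hlv, hqm⟩ := exists_geometric_lift X (AlgSp.EtOver.mk a ha) v
  have hqΩ : AlgSp.Points.mk q ∈ Ω := hqm.symm ▸ hv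
  have hcard := hk q hq hqΩ
  have : Finite (Lifts X a q) := ENat.card_lt_top.1 (hcard ▸ ENat.natCast_lt_top k)
  have : Fintype (Lifts X a q) := Fintype.ofFinite _
  let l₀ : Lifts X a q := ⟨l.1, l.2⟩
  let T : Finset (Lifts X a q) := Finset.univ
  obtain ⟨W, b, hb, c, σ, hc, hσ, hcσ, hdist⟩ := exists_witness X a ha q T ⟨l₀, Finset.mem_univ _⟩
  let i₀ : T := ⟨l₀, Finset.mem_univ _⟩
  have hL : ∀ i : T, ∃ L : W ⟶ R, L ≫ s = σ i₀ ∧ L ≫ t = σ i := fun i => by
    obtain ⟨L, hL⟩ := (AlgSp.yon S).map_surjective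
      (h.lift ((AlgSp.yon S).map (σ i₀)) ((AlgSp.yon S).map (σ i)) ((hσ i₀).trans (hσ i).symm))
    exact ⟨L, (AlgSp.yon S).map_injective (by rw [Functor.map_comp, hL, h.lift_fst]),
      (AlgSp.yon S).map_injective (by rw [Functor.map_comp, hL, h.lift_snd])⟩
  choose L hLs hLt using hL
  let w₀ := c.left (IsLocalRing.closedPoint q.K)
  have hA : ∀ i : T, ∃ A : R.left.Opens, IsAffineOpen A ∧ (L i).left w₀ ∈ A := fun i => by
    obtain ⟨A, hA, hm, -⟩ := exists_isAffineOpen_mem_and_subset (x := (L i).left w₀) (U := ⊤) trivial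
    exact ⟨A, hA, hm⟩
  choose A hAa hAm using hA
  let R₁ : Set ↥R.left := ⋃ i : T, (A i : Set ↥R.left)
  have hR₁c : IsCompact R₁ := isCompact_iUnion fun i => (hAa i).isCompact
  let W₁ : Set ↥W.left := ⋂ i : T, (L i).left ⁻¹' R₁
  have hW₁ : IsOpen W₁ := isOpen_iInter_of_finite fun i =>
    (isOpen_iUnion fun j => (A j).2).preimage (L i).left.continuous
  have hw₀ : w₀ ∈ W₁ := Set.mem_iInter.2 fun i => Set.mem_iUnion.2 ⟨i, hAm i⟩
  have hσ₀ : Etale (σ i₀).left := by
    have := (AlgSp.EtOver.etale_left (AlgSp.EtOver.homMk (E := AlgSp.EtOver.mk b hb) (E' := AlgSp.EtOver.mk a ha)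
      (σ i₀) (hσ i₀)))
    exact this
  have hvim : v ∈ (σ i₀).left '' W₁ := ⟨w₀, hw₀, by
    rw [← hlv]
    exact congrArg (fun m : q.pt ⟶ U => m.left (IsLocalRing.closedPoint q.K)) (hcσ i₀)⟩
  obtain ⟨B, hB, hvB, hBim⟩ := exists_isAffineOpen_mem_and_subset (x := v)
    (U := ⟨(σ i₀).left '' W₁ ∩ AlgSp.Points.ofPt a ⁻¹' Ω,
      ((σ i₀).left.isOpenMap _ hW₁).inter (hΩ.preimage (AlgSp.Points.continuous_ofPt a))⟩) ⟨hvim, hv⟩
  have hsub : s.left ⁻¹' (B : Set ↥U.left) ⊆ R₁ := by
    intro r hr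
    obtain ⟨⟨w, hw, hwr⟩, hrΩ⟩ := hBim hr
    have hs : Etale s.left := ha.2 _ _ _ h.flip
    have eP : IsPullback (pullback.fst s (σ i₀)).left (pullback.snd s (σ i₀)).left s.left (σ i₀).left :=
      (IsPullback.of_hasPullback s (σ i₀)).map (Over.forget S)
    obtain ⟨z₀, hz1, hz2⟩ := Scheme.Pullback.exists_preimage_pullback r w (f := s.left) (g := (σ i₀).left) hwr.symm
    let z := eP.isoPullback.inv z₀
    have hzf : (pullback.fst s (σ i₀)).left z = r := by
      rw [← Scheme.Hom.comp_apply, IsPullback.isoPullback_inv_fst]; exact hz1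
    have hzs : (pullback.snd s (σ i₀)).left z = w := by
      rw [← Scheme.Hom.comp_apply, IsPullback.isoPullback_inv_snd]; exact hz2
    have : Etale (pullback.snd s (σ i₀)).left := MorphismProperty.of_isPullback eP hs
    obtain ⟨q', hq', l', hl', -⟩ := exists_geometric_lift X
      (AlgSp.EtOver.mk ((AlgSp.yon S).map (pullback.snd s (σ i₀)) ≫ b)
        (AlgSpB.repWith_etale_map_comp _ hb)) z
    let cR : q'.pt ⟶ R := l'.1 ≫ pullback.fst s (σ i₀)
    let c' : q'.pt ⟶ W := l'.1 ≫ pullback.snd s (σ i₀)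
    have ec : cR ≫ s = c' ≫ σ i₀ := by
      rw [Category.assoc, Category.assoc, pullback.condition]
    have hc' : (AlgSp.yon S).map c' ≫ b = q'.toHom := by
      rw [Functor.map_comp, Category.assoc]; exact l'.2
    have hcRr : cR.left (IsLocalRing.closedPoint q'.K) = r :=
      (congrArg (pullback.fst s (σ i₀)).left hl').trans hzf
    have hc'w : c'.left (IsLocalRing.closedPoint q'.K) = w :=
      (congrArg (pullback.snd s (σ i₀)).left hl').trans hzs
    let g : T → Lifts X a q' := fun i => ⟨c' ≫ σ i, by rw [Functor.map_comp, Category.assoc, hσ, hc']⟩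
    have hginj : Function.Injective g := fun i j e => hdist q' c' i j (congrArg Subtype.val e)
    have hq'Ω : AlgSp.Points.mk q' ∈ Ω := by
      have h0 := ofPt_of_lift q' a (g i₀).1 (g i₀).2
      rw [← h0]
      show AlgSp.Points.ofPt a ((σ i₀).left (c'.left (IsLocalRing.closedPoint q'.K))) ∈ Ω
      rw [hc'w, hwr]
      exact hrΩ
    have hcard' := hk q' hq' hq'Ω
    have : Finite (Lifts X a q') := ENat.card_lt_top.1 (hcard' ▸ ENat.natCast_lt_top k)
    have hgsurj : Function.Surjective g := by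
      refine (hginj.bijective_of_nat_card_le ?_).2
      rw [ENat.card_eq_coe_natCard] at hcard'
      have hk' : Nat.card (Lifts X a q') = k := by exact_mod_cast hcard'
      rw [ENat.card_eq_coe_natCard] at hcard
      have hk'' : Nat.card (Lifts X a q) = k := by exact_mod_cast hcard
      rw [hk', ← hk'', Nat.card_eq_fintype_card, Nat.card_eq_fintype_card]
      simp [T]
    obtain ⟨j, hj⟩ := hgsurj ⟨cR ≫ t, by
      rw [Functor.map_comp, Category.assoc, ← h.w, ← Category.assoc, ← Functor.map_comp, ec]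
      exact (g i₀).2⟩
    have hj' : c' ≫ σ j = cR ≫ t := congrArg Subtype.val hj
    have e1 : cR ≫ s = (c' ≫ L j) ≫ s :=
      ec.trans ((congrArg (c' ≫ ·) (hLs j)).symm.trans (Category.assoc _ _ _).symm)
    have e2 : cR ≫ t = (c' ≫ L j) ≫ t :=
      hj'.symm.trans ((congrArg (c' ≫ ·) (hLt j)).symm.trans (Category.assoc _ _ _).symm)
    have e : cR = c' ≫ L j := (AlgSp.yon S).map_injective (h.hom_ext
      (by rw [← Functor.map_comp, ← Functor.map_comp, e1])
      (by rw [← Functor.map_comp, ← Functor.map_comp, e2]))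
    rw [← hcRr, e]
    show (L j).left (c'.left (IsLocalRing.closedPoint q'.K)) ∈ R₁
    rw [hc'w]
    exact Set.mem_iInter.1 hw j
  let O₁ : R.left.Opens := ⟨R₁, isOpen_iUnion fun j => (A j).2⟩
  have : CompactSpace ↥O₁.toScheme := isCompact_iff_compactSpace.1 hR₁c
  have : QuasiCompact (O₁.ι ≫ s.left) := quasiCompact_of_compactSpace _
  refine ⟨B, hB, hvB, ?_⟩
  have hc' := ((O₁.ι ≫ s.left).isCompact_preimage hB.isCompact).image O₁.ι.continuous
  convert hc' using 1
  ext r
  exact ⟨fun hr => ⟨⟨r, hsub hr⟩, hr, rfl⟩, fun ⟨z, hz, hzr⟩ => hzr ▸ hz⟩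

end Groth.Agent.AlgSpD
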