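import Groth.Agent.AlgSp.GenFiniteSch
import Groth.Agent.FlatMor.GenericPts
import Groth.Agent.AlgSpD.EtaleTop
import Mathlib.AlgebraicGeometry.Fiber

/-!
# Schemes with locally finitely many irreducible components
-/

universe u

open CategoryTheory CategoryTheory.Limits AlgebraicGeometry Opposite Topology

set_option backward.isDefEq.respectTransparency.types false
set_option autoImplicit false

namespace Groth.Agent.AlgSpD.LocFinComp

open Groth.Agent

/-- The generic points of components lying in a set. -/
def genIn {U : Scheme.{u}} (W : Set ↥U) : Set ↥U :=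
  {v | v ∈ W ∧ closure {v} ∈ irreducibleComponents (U : Type u)}

/-- Every quasi-compact open has finitely many irreducible components. -/
abbrev LFIC (U : Scheme.{u}) : Prop :=
  ∀ W : U.Opens, IsCompact (W : Set ↥U) → (irreducibleComponents ↥W).Finite

theorem finite_iff_genIn {U : Scheme.{u}} (W : U.Opens) :
    (irreducibleComponents ↥W).Finite ↔ (genIn (W : Set ↥U)).Finite := by
  constructor
  · intro h
    refine ((AlgSp.finite_generic_of_irreducibleComponents (V := W.toScheme) h).image W.ι).subset ?_
    rintro v ⟨hv, hg⟩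
    exact ⟨⟨v, hv⟩, (AlgSp.generic_open_iff W.ι _).2 hg, rfl⟩
  · intro h
    refine AlgSp.finite_irreducibleComponents_of_generic (V := W.toScheme) ?_
    refine (h.preimage W.ι.isOpenEmbedding.injective.injOn).subset fun w hw => ⟨?_, ?_⟩
    · exact (Scheme.Opens.range_ι W) ▸ Set.mem_range_self w
    · exact (AlgSp.generic_open_iff W.ι w).1 hw

/-- The property may be tested near each point. -/
theorem lfic_of_local {U : Scheme.{u}}
    (h : ∀ x : ↥U, ∃ O : U.Opens, x ∈ O ∧ (genIn (O : Set ↥U)).Finite) : LFIC U := by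
  intro W hW
  rw [finite_iff_genIn]
  choose O hO hf using h
  obtain ⟨t, ht⟩ := hW.elim_finite_subcover (fun x => (O x : Set ↥U)) (fun x => (O x).2)
    fun x _ => Set.mem_iUnion.2 ⟨x, hO x⟩
  refine (t.finite_toSet.biUnion fun x _ => hf x).subset fun v hv => ?_
  obtain ⟨x, hx, hvx⟩ := Set.mem_iUnion₂.1 (ht hv.1)
  exact Set.mem_biUnion hx ⟨hvx, hv.2⟩

/-- In an affine scheme of finite type flat over an affine scheme with finitely many components. -/
theorem finite_generic_of_flat_lft {U V : Scheme.{u}} [IsAffine U] [IsAffine V] (f : U ⟶ V) [Flat f]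
    [LocallyOfFiniteType f] (hV : (genIn (Set.univ : Set ↥V)).Finite) :
    (genIn (Set.univ : Set ↥U)).Finite := by
  have hfib : ∀ η : ↥V, {u : ↥U | f u = η ∧ closure {u} ∈ irreducibleComponents (U : Type u)}.Finite := by
    intro η
    let F : Scheme.{u} := f.fiber η
    have : LocallyOfFiniteType (f.fiberToSpecResidueField η) :=
      MorphismProperty.pullback_snd f _ inferInstance
    have : IsLocallyNoetherian F :=
      LocallyOfFiniteType.isLocallyNoetherian (f.fiberToSpecResidueField η)
    have : QuasiCompact f := (quasiCompact_iff_compactSpace f).2 inferInstance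
    have : CompactSpace F := inferInstanceAs (CompactSpace (f.fiber η))
    have : IsNoetherian F := {}
    have hF := AlgSp.finite_generic_of_irreducibleComponents (V := F)
      TopologicalSpace.NoetherianSpace.finite_irreducibleComponents
    refine (hF.image (f.fiberι η)).subset ?_
    rintro u ⟨hu, hg⟩
    obtain ⟨z, rfl⟩ : u ∈ Set.range (f.fiberι η) := by rw [f.range_fiberι]; exact hu
    refine ⟨z, ?_, rfl⟩
    rw [Set.mem_ofPred_eq]
    rw [FlatMor.GenericPts.closure_mem_irreducibleComponents_iff] at hg ⊢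
    intro w hw
    exact (f.fiberι η).isEmbedding.isInducing.specializes_iff.1
      (hg _ (hw.map (f.fiberι η).continuous))
  refine (hV.biUnion fun η _ => hfib η).subset fun u hu => ?_
  exact Set.mem_biUnion ⟨trivial, FlatMor.GenericPts.generic_of_generalizingMap (Flat.generalizingMap f)
    f.continuous hu.2⟩ ⟨rfl, hu.2⟩

/-- Schemes flat and locally of finite type over such a scheme. -/
theorem lfic_of_flat_lft {U V : Scheme.{u}} (f : U ⟶ V) [Flat f] [LocallyOfFiniteType f] (hV : LFIC V) :
    LFIC U := by
  refine lfic_of_local fun x => ?_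
  obtain ⟨V₁, hV₁, hxV, -⟩ := exists_isAffineOpen_mem_and_subset (x := f x) (U := ⊤) trivial
  obtain ⟨U₁, hU₁, hxU, hle⟩ := exists_isAffineOpen_mem_and_subset (x := x) (U := f ⁻¹ᵁ V₁) hxV
  refine ⟨U₁, hxU, ?_⟩
  have : IsAffine U₁.toScheme := hU₁
  have : IsAffine V₁.toScheme := hV₁
  let g := f.resLE V₁ U₁ hle
  have : Flat g := by dsimp only [g]; infer_instance
  have : LocallyOfFiniteType g := by dsimp only [g]; infer_instance
  have h1 : (genIn (Set.univ : Set ↥V₁.toScheme)).Finite := by
    have h0 := AlgSp.finite_generic_of_irreducibleComponents (V := V₁.toScheme) (hV V₁ hV₁.isCompact)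
    exact h0.subset fun v hv => hv.2
  refine ((finite_generic_of_flat_lft g h1).image U₁.ι).subset ?_
  rintro v ⟨hv, hg⟩
  exact ⟨⟨v, hv⟩, ⟨trivial, (AlgSp.generic_open_iff U₁.ι _).2 hg⟩, rfl⟩

/-- The property descends along etale surjective morphisms. -/
theorem lfic_of_etale_surjective {U V : Scheme.{u}} (e : U ⟶ V) [Etale e] (he : Function.Surjective e)
    (hU : LFIC U) : LFIC V := by
  intro W hW
  rw [finite_iff_genIn]
  choose O hO hxO hle using fun x : ↥(e ⁻¹ᵁ W) =>
    exists_isAffineOpen_mem_and_subset (x := (x : ↥U)) (U := e ⁻¹ᵁ W) x.2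
  obtain ⟨t, ht⟩ := hW.elim_finite_subcover (fun x => e '' (O x : Set ↥U))
    (fun x => e.isOpenMap _ (O x).2) (fun v hv => by
      obtain ⟨u, rfl⟩ := he v
      exact Set.mem_iUnion.2 ⟨⟨u, hv⟩, u, hxO ⟨u, hv⟩, rfl⟩)
  refine (t.finite_toSet.biUnion fun x _ =>
    ((finite_iff_genIn (O x)).1 (hU _ (hO x).isCompact)).image e).subset fun v hv => ?_
  obtain ⟨x, hx, u, hu, rfl⟩ := Set.mem_iUnion₂.1 (ht hv.1)
  refine Set.mem_biUnion hx ⟨u, ⟨hu, ?_⟩, rfl⟩
  have := hv.2
  rw [← AlgSp.stalkDim_zero_iff] at this ⊢
  exact (Groth.Agent.AlgSpD.ringKrullDim_stalk_eq e u).symm.trans this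

/-- A continuous image of a space with finitely many components has finitely many. -/
theorem finite_irreducibleComponents_of_surjective {α β : Type*} [TopologicalSpace α] [TopologicalSpace β]
    {f : α → β} (hc : Continuous f) (hs : Function.Surjective f) (h : (irreducibleComponents α).Finite) :
    (irreducibleComponents β).Finite := by
  classical
  refine (h.image fun Z => closure (f '' Z)).subset fun T hT => ?_
  let C : Finset (Set β) := h.toFinset.image fun Z => closure (f '' Z)
  obtain ⟨z, hz, hTz⟩ := isIrreducible_iff_sUnion_isClosed.1 hT.1 C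
    (fun z hz => by
      obtain ⟨Z, -, rfl⟩ := Finset.mem_image.1 hz
      exact isClosed_closure)
    (fun y _ => by
      obtain ⟨x, rfl⟩ := hs y
      refine ⟨closure (f '' irreducibleComponent x), ?_, subset_closure ⟨x, mem_irreducibleComponent, rfl⟩⟩
      exact Finset.mem_coe.2 (Finset.mem_image.2
        ⟨_, h.mem_toFinset.2 (irreducibleComponent_mem_irreducibleComponents x), rfl⟩))
  obtain ⟨Z, hZ, rfl⟩ := Finset.mem_image.1 hz
  have hZ' : Z ∈ irreducibleComponents α := h.mem_toFinset.1 hZ
  exact ⟨Z, hZ', (hTz.antisymm (hT.2 (hZ'.1.image f hc.continuousOn).closure hTz)).symm⟩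

end Groth.Agent.AlgSpD.LocFinComp
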