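import Groth.Agent.AlgSpD.DecentCrit
import Groth.Agent.AlgSpD.StalkPoint
import Groth.Agent.AlgSpB.Sep
import Groth.Agent.EtaleSite.Points
import Mathlib.LinearAlgebra.TensorProduct.Finiteness
import Mathlib.AlgebraicGeometry.Morphisms.Immersion

/-!
# Locally separated spaces are decent

The key point is that a tensor `∑ aₖ ⊗ bₖ` vanishing on all off-diagonal pairs of a family of
`Ω`-points is non-zero at finitely many diagonal pairs only (biorthogonal families in `Ω^r`).
-/

universe u

open CategoryTheory CategoryTheory.Limits AlgebraicGeometry Opposite TensorProduct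

set_option backward.isDefEq.respectTransparency false
set_option autoImplicit false

namespace Groth.Agent.AlgSpD

open Groth.Agent

/-- A tensor vanishing on off-diagonal pairs of points is non-zero at finitely many diagonal pairs. -/
theorem finite_of_tensor_biorthogonal {A : Type u} [CommRing A] {Ω : Type u} [Field Ω] {ι : Type*}
    (φ : ι → A →+* Ω) (g : A ⊗[ℤ] A)
    (h : ∀ i j, i ≠ j → Algebra.TensorProduct.productMap (φ i).toIntAlgHom (φ j).toIntAlgHom g = 0) :
    {i | Algebra.TensorProduct.productMap (φ i).toIntAlgHom (φ i).toIntAlgHom g ≠ 0}.Finite := by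
  classical
  obtain ⟨T, rfl⟩ := TensorProduct.exists_finset g
  have he : ∀ i j, Algebra.TensorProduct.productMap (φ i).toIntAlgHom (φ j).toIntAlgHom
      (∑ k ∈ T, k.1 ⊗ₜ[ℤ] k.2) = ∑ k : T, φ i k.1.1 * φ j k.1.2 := fun i j => by
    rw [map_sum, ← Finset.sum_coe_sort T]
    simp
  simp only [he] at h ⊢
  let I := {i | ∑ k : T, φ i k.1.1 * φ i k.1.2 ≠ 0}
  let v : I → T → Ω := fun i k => φ i.1 k.1.2
  have hv : LinearIndependent Ω v := by
    refine linearIndependent_iff'.2 fun s c hc i hi => ?_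
    have h0 := congrArg (fun w : T → Ω => ∑ k : T, φ i.1 k.1.1 * w k) hc
    simp only [Pi.zero_apply, mul_zero, Finset.sum_const_zero, Finset.sum_apply, Pi.smul_apply,
      smul_eq_mul, Finset.mul_sum] at h0
    rw [Finset.sum_comm, Finset.sum_eq_single i] at h0
    · rw [show (∑ k : T, φ i.1 k.1.1 * (c i * v i k)) = c i * ∑ k : T, φ i.1 k.1.1 * φ i.1 k.1.2 by
        rw [Finset.mul_sum]; exact Finset.sum_congr rfl fun k _ => by ring] at h0
      exact (mul_eq_zero.1 h0).resolve_right i.2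
    · intro j _ hj
      rw [show (∑ k : T, φ i.1 k.1.1 * (c j * v j k)) = c j * ∑ k : T, φ i.1 k.1.1 * φ j.1 k.1.2 by
        rw [Finset.mul_sum]; exact Finset.sum_congr rfl fun k _ => by ring,
        h i.1 j.1 (fun e => hj (Subtype.ext e.symm)), mul_zero]
    · intro hni; exact absurd hi hni
  exact Set.finite_coe_iff.1 hv.finite

theorem mem_basicOpen_pairSpec {U V : Scheme.{u}} {K : Type u} [Field K]
    (f : Spec (CommRingCat.of K) ⟶ U) (g : Spec (CommRingCat.of K) ⟶ V) (o : ↥(Spec (CommRingCat.of K)))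
    (z : Γ(U, ⊤) ⊗[ℤ] Γ(V, ⊤)) :
    AlgSpB.pairSpec f g o ∈ PrimeSpectrum.basicOpen z ↔
      Algebra.TensorProduct.productMap (f.appTop ≫ (Scheme.ΓSpecIso (CommRingCat.of K)).hom).hom.toIntAlgHom
        (g.appTop ≫ (Scheme.ΓSpecIso (CommRingCat.of K)).hom).hom.toIntAlgHom z ≠ 0 := by
  have e : AlgSpB.pairSpec f g =
      Spec.map (AlgSpB.globalPair f g ≫ (Scheme.ΓSpecIso (CommRingCat.of K)).hom) := by
    rw [AlgSpB.pairSpec, Spec.map_comp, SpecMap_ΓSpecIso_hom]
  rw [e]
  change (AlgSpB.globalPair f g ≫ (Scheme.ΓSpecIso (CommRingCat.of K)).hom) z ∉ o.asIdeal ↔ _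
  rw [(Ideal.eq_bot_or_top o.asIdeal).resolve_right o.isPrime.ne_top, Ideal.mem_bot]
  have h2 : ((Scheme.ΓSpecIso (CommRingCat.of K)).hom.hom.comp (AlgSpB.globalPair f g).hom).toIntAlgHom =
      Algebra.TensorProduct.productMap (f.appTop ≫ (Scheme.ΓSpecIso (CommRingCat.of K)).hom).hom.toIntAlgHom
        (g.appTop ≫ (Scheme.ΓSpecIso (CommRingCat.of K)).hom).hom.toIntAlgHom := by
    ext x <;> simp [AlgSpB.globalPair]
  rw [← h2]
  rfl

variable {S : Scheme.{u}}

/-- The relation of an affine chart of a locally separated space is immersed in the square. -/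
theorem isImmersion_pairSpec {X : AlgSp.Sp S} (hX : AlgSp.IsLocallySeparatedSp X) {U R : Over S}
    [IsAffine U.left] {a : (AlgSp.yon S).obj U ⟶ X} {s t : R ⟶ U}
    (h : IsPullback ((AlgSp.yon S).map s) ((AlgSp.yon S).map t) a a) :
    IsImmersion (AlgSpB.pairSpec s.left t.left) := by
  have : IsImmersion (AlgSpB.pairHom s t) := AlgSpB.prop_pairHom hX h
  let i : pullback U.hom U.hom ⟶ pullback (terminal.from U.left) (terminal.from U.left) :=
    pullback.lift (pullback.fst _ _) (pullback.snd _ _) (terminal.hom_ext _ _)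
  have : IsImmersion i := by
    let e : pullback (U.hom ≫ terminal.from S) (U.hom ≫ terminal.from S) ≅
        pullback (terminal.from U.left) (terminal.from U.left) :=
      pullback.congrHom (terminal.hom_ext _ _) (terminal.hom_ext _ _)
    have : i = pullback.mapDesc U.hom U.hom (terminal.from S) ≫ e.hom := by
      apply pullback.hom_ext <;> simp [i, e]
    rw [this]
    infer_instance
  have : IsClosedImmersion (AlgSpB.pairSpec (pullback.fst (terminal.from U.left) (terminal.from U.left))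
      (pullback.snd (terminal.from U.left) (terminal.from U.left))) :=
    AlgSpB.isClosedImmersion_pairSpec_terminal
  have e : AlgSpB.pairHom s t ≫ i ≫
      AlgSpB.pairSpec (pullback.fst (terminal.from U.left) (terminal.from U.left))
        (pullback.snd (terminal.from U.left) (terminal.from U.left)) =
      AlgSpB.pairSpec s.left t.left := by
    rw [AlgSpB.comp_pairSpec, AlgSpB.comp_pairSpec, pullback.lift_fst, pullback.lift_snd, pullback.lift_fst,
      pullback.lift_snd]
  rw [← e]
  infer_instance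

/-- A geometric point of a locally separated space has finitely many lifts to an affine chart. -/
theorem finite_lifts (X : AlgSp.Space S) (hX : AlgSp.IsLocallySeparatedSp X.obj) {U : Over S} [IsAffine U.left]
    (a : (AlgSp.yon S).obj U ⟶ X.obj) (ha : AlgSp.RepWith @Etale a) (q : AlgSp.FieldPt X.obj) :
    Finite {c : q.pt ⟶ U // (AlgSp.yon S).map c ≫ a = q.toHom} := by
  classical
  obtain ⟨R, s, t, h⟩ := AlgSpB.exists_pullback_yon (X.property.representable_from_yon a) a
  obtain ⟨δ, hδ⟩ := (AlgSp.yon S).map_surjective (h.lift (𝟙 _) (𝟙 _) rfl)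
  have hδs : δ ≫ s = 𝟙 U := (AlgSp.yon S).map_injective (by
    rw [Functor.map_comp, hδ, h.lift_fst, CategoryTheory.Functor.map_id])
  have hδt : δ ≫ t = 𝟙 U := (AlgSp.yon S).map_injective (by
    rw [Functor.map_comp, hδ, h.lift_snd, CategoryTheory.Functor.map_id])
  have hs : Etale s.left := ha.2 _ _ _ h.flip
  have hδs' : δ.left ≫ s.left = 𝟙 _ := congrArg CommaMorphism.left hδs
  have : IsOpenImmersion δ.left := EtaleSite.isOpenImmersion_of_section s.left δ.left hδs'
  have := isImmersion_pairSpec hX h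
  let m := AlgSpB.pairSpec s.left t.left
  obtain ⟨Q, hQo, hQ⟩ := m.isEmbedding.isInducing.isOpen_iff.1 δ.left.isOpenEmbedding.isOpen_range
  let A := Γ(U.left, ⊤)
  -- finitely many tensors cover the diagonal
  have hcov : ∀ u : ↥U.left, ∃ z : A ⊗[ℤ] A, m (δ.left u) ∈ PrimeSpectrum.basicOpen z ∧
      (PrimeSpectrum.basicOpen z : Set (PrimeSpectrum (A ⊗[ℤ] A))) ⊆ Q := by
    intro u
    have hu : m (δ.left u) ∈ Q := by
      show δ.left u ∈ m ⁻¹' Q
      rw [hQ]; exact ⟨u, rfl⟩
    obtain ⟨_, ⟨z, rfl⟩, hz, hzQ⟩ :=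
      PrimeSpectrum.isTopologicalBasis_basic_opens.exists_subset_of_mem_open hu hQo
    exact ⟨z, hz, hzQ⟩
  choose z hz hzQ using hcov
  obtain ⟨T, hT⟩ := isCompact_univ.elim_finite_subcover
    (fun u => (m ∘ δ.left) ⁻¹' (PrimeSpectrum.basicOpen (z u) : Set (PrimeSpectrum (A ⊗[ℤ] A))))
    (fun u => (PrimeSpectrum.basicOpen (z u)).2.preimage (m.continuous.comp δ.left.continuous))
    (fun u _ => Set.mem_iUnion.2 ⟨u, hz u⟩)
  let Φ := {c : q.pt ⟶ U // (AlgSp.yon S).map c ≫ a = q.toHom}
  let φ : Φ → A →+* q.K := fun c => (Scheme.Hom.appTop c.1.left ≫ (Scheme.ΓSpecIso (CommRingCat.of q.K)).hom).hom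
  let o : ↥(Spec (CommRingCat.of q.K)) := IsLocalRing.closedPoint q.K
  have hmem : ∀ (c d : Φ) (w : A ⊗[ℤ] A), AlgSpB.pairSpec (U := U.left) (V := U.left) c.1.left d.1.left o ∈
        PrimeSpectrum.basicOpen w ↔
      Algebra.TensorProduct.productMap (φ c).toIntAlgHom (φ d).toIntAlgHom w ≠ 0 :=
    fun c d w => mem_basicOpen_pairSpec c.1.left d.1.left o w
  have hoff : ∀ (u : ↥U.left) (c d : Φ), c ≠ d →
      Algebra.TensorProduct.productMap (φ c).toIntAlgHom (φ d).toIntAlgHom (z u) = 0 := by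
    intro u c d hcd
    by_contra hne
    obtain ⟨ρ, hρ⟩ := (AlgSp.yon S).map_surjective
      (h.lift ((AlgSp.yon S).map c.1) ((AlgSp.yon S).map d.1) (c.2.trans d.2.symm))
    have hρs : ρ ≫ s = c.1 := (AlgSp.yon S).map_injective (by rw [Functor.map_comp, hρ, h.lift_fst])
    have hρt : ρ ≫ t = d.1 := (AlgSp.yon S).map_injective (by rw [Functor.map_comp, hρ, h.lift_snd])
    have hρ' : ρ.left ≫ m = AlgSpB.pairSpec (U := U.left) (V := U.left) c.1.left d.1.left := by
      rw [AlgSpB.comp_pairSpec, ← Over.comp_left, ← Over.comp_left, hρs, hρt]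
    have hin : ρ.left o ∈ Set.range δ.left := by
      rw [← hQ]
      apply hzQ u
      rw [← Scheme.Hom.comp_apply, hρ']
      exact (hmem c d _).2 hne
    have hr : Set.range ρ.left ⊆ Set.range δ.left := by
      rintro _ ⟨y, rfl⟩
      rwa [@Subsingleton.elim _ (inferInstanceAs (Subsingleton (PrimeSpectrum q.K))) y o]
    let l := IsOpenImmersion.lift δ.left ρ.left hr
    have hl : l ≫ δ.left = ρ.left := IsOpenImmersion.lift_fac _ _ _
    apply hcd
    apply Subtype.ext
    ext1
    have hδt' : δ.left ≫ t.left = 𝟙 _ := congrArg CommaMorphism.left hδt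
    rw [← hρs, ← hρt, Over.comp_left, Over.comp_left, ← hl, Category.assoc, Category.assoc, hδs', hδt']
  have hcover : ∀ c : Φ, ∃ u ∈ T, Algebra.TensorProduct.productMap (φ c).toIntAlgHom (φ c).toIntAlgHom (z u) ≠ 0 := by
    intro c
    obtain ⟨u, huT, hu⟩ := Set.mem_iUnion₂.1 (hT (Set.mem_univ (c.1.left o)))
    refine ⟨u, huT, (hmem c c _).1 ?_⟩
    have hcc : c.1.left ≫ δ.left ≫ m = AlgSpB.pairSpec (U := U.left) (V := U.left) c.1.left c.1.left := by
      rw [AlgSpB.comp_pairSpec, AlgSpB.comp_pairSpec, hδs', show δ.left ≫ t.left = 𝟙 _ from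
        congrArg CommaMorphism.left hδt, Category.comp_id]
    rw [← hcc]
    exact hu
  rw [← Set.finite_univ_iff]
  refine (T.finite_toSet.biUnion fun u _ => finite_of_tensor_biorthogonal φ (z u) (hoff u)).subset fun c _ => ?_
  obtain ⟨u, huT, hu⟩ := hcover c
  exact Set.mem_biUnion huT hu

/-- A locally separated algebraic space is decent. -/
theorem isDecent_of_isLocallySeparated (X : AlgSp.Space S) (hX : AlgSp.IsLocallySeparatedSp X.obj) :
    AlgSp.IsDecent X.obj := by
  intro x
  obtain ⟨U, a, u, hU, ha, hu⟩ := exists_affine_chart X x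
  obtain ⟨q, hq, -, -, hqm⟩ := exists_geometric_lift X (AlgSp.EtOver.mk a ha) u
  have hqx : AlgSp.Points.mk q = x := hqm.trans hu
  have hfib : ∀ (V : Over S) (b : (AlgSp.yon S).obj V ⟶ X.obj), IsAffine V.left → AlgSp.RepWith @Etale b →
      (AlgSp.Points.ofPt b ⁻¹' {x}).Finite := by
    intro V b hV hb
    have := finite_lifts X hX b hb q
    refine (Set.finite_range fun c : {c : q.pt ⟶ V // (AlgSp.yon S).map c ≫ b = q.toHom} =>
      c.1.left (IsLocalRing.closedPoint q.K)).subset fun v hv => ?_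
    obtain ⟨c, hc, hcv⟩ := AlgSpB.exists_lift_geometric hb q hq v (hv.trans hqx.symm)
    exact ⟨⟨c, hc⟩, hcv⟩
  obtain ⟨R, t, s, hR⟩ := AlgSpB.exists_pullback_yon (X.property.representable_from_yon a) a
  have hfin : {r : ↥R.left | s.left r = u ∧ t.left r = u}.Finite := by
    have := finite_lifts X hX a ha q
    have hs : Etale s.left := ha.2 _ _ _ hR
    have hta : AlgSp.RepWith @Etale ((AlgSp.yon S).map s ≫ a) := AlgSpB.repWith_etale_map_comp s ha
    let Φ := {c : q.pt ⟶ U // (AlgSp.yon S).map c ≫ a = q.toHom}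
    let G : Φ × Φ → ↥R.left := fun cd => ((AlgSp.yon S).preimage (hR.lift ((AlgSp.yon S).map cd.1.1)
      ((AlgSp.yon S).map cd.2.1) (cd.1.2.trans cd.2.2.symm))).left (IsLocalRing.closedPoint q.K)
    refine (Set.finite_range G).subset fun r hr => ?_
    obtain ⟨c, hc, hcr⟩ := AlgSpB.exists_lift_geometric hta q hq r (by
      rw [AlgSpB.ofPt_map_comp, hr.1, hu, hqx])
    rw [← Category.assoc, ← Functor.map_comp] at hc
    have hc' : (AlgSp.yon S).map (c ≫ t) ≫ a = q.toHom := by
      rw [← hc, Functor.map_comp, Functor.map_comp, Category.assoc, Category.assoc, hR.w]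
    refine ⟨(⟨c ≫ t, hc'⟩, ⟨c ≫ s, hc⟩), ?_⟩
    rw [← hcr]
    refine congrArg (fun k : q.pt ⟶ R => k.left (IsLocalRing.closedPoint q.K)) ?_
    apply (AlgSp.yon S).map_injective
    rw [Functor.map_preimage]
    exact hR.hom_ext (by rw [hR.lift_fst, Functor.map_comp]) (by rw [hR.lift_snd, Functor.map_comp])
  obtain ⟨p, hp, hm, -⟩ := exists_mono_of_chart X a ha s t hR u hfin
  refine ⟨p, hp.trans hu, hm, repWith_quasiCompact_of_finite' X p hm ?_⟩
  rw [hp, hu]
  exact hfib

end Groth.Agent.AlgSpD
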