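import Groth.Agent.AlgSpD.Decent
import Groth.Agent.AlgSpD.FieldQuot
import Groth.Agent.AlgSp.Quot
import Mathlib.RingTheory.FinitePresentation
import Mathlib.RingTheory.RingHom.Finite

/-!
# Monomorphic field points from finite relations
-/

universe u

open CategoryTheory CategoryTheory.Limits AlgebraicGeometry Opposite TensorProduct

set_option backward.isDefEq.respectTransparency false

namespace Groth.Agent.AlgSpD

open Groth.Agent

variable {S : Scheme.{u}}

/-- Two ring maps out of a field agreeing after composing to the base give equal composites of the classifying map. -/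
theorem exists_factor_invField {K : Type u} [Field K] {B : CommRingCat.{u}} [Nontrivial B]
    (σ τ : CommRingCat.of K ⟶ B)
    (str : Spec (CommRingCat.of K) ⟶ S) (h : Spec.map σ ≫ str = Spec.map τ ≫ str) :
    ∃ str₀ : Spec (CommRingCat.of ↥(invField σ.hom τ.hom)) ⟶ S,
      Spec.map (CommRingCat.ofHom (invField σ.hom τ.hom).subtype) ≫ str₀ = str := by
  let s₀ := str (IsLocalRing.closedPoint K)
  let ψ : S.residueField s₀ ⟶ CommRingCat.of K := S.descResidueField (K := K) (Scheme.stalkClosedPointTo str)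
  have hψ : Spec.map ψ ≫ S.fromSpecResidueField s₀ = str :=
    Scheme.descResidueField_stalkClosedPointTo_fromSpecResidueField K S str
  have e : ψ ≫ σ = ψ ≫ τ := by
    apply Spec.map_injective
    rw [← cancel_mono (S.fromSpecResidueField s₀), Spec.map_comp, Spec.map_comp, Category.assoc,
      Category.assoc, hψ, h]
  have hC : ∀ x, ψ.hom x ∈ invField σ.hom τ.hom := fun x => ConcreteCategory.congr_hom e x
  refine ⟨Spec.map (CommRingCat.ofHom (ψ.hom.codRestrict (invField σ.hom τ.hom) hC)) ≫
    S.fromSpecResidueField s₀, ?_⟩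
  rw [← Spec.map_comp_assoc]
  exact hψ

/-- A field point with finite self-intersection comes from a monomorphic one. -/
theorem exists_mono_of_isFinite (X : AlgSp.Space S) (q : AlgSp.FieldPt X.obj) {R : Over S}
    (s t : R ⟶ q.pt) (sq : IsPullback ((AlgSp.yon S).map t) ((AlgSp.yon S).map s) q.toHom q.toHom)
    (hfin : IsFinite s.left) :
    ∃ p : AlgSp.FieldPt X.obj, AlgSp.Points.mk p = AlgSp.Points.mk q ∧ Mono p.toHom ∧
      ∃ c : q.pt ⟶ p.pt, IsFinite c.left ∧ Surjective c.left ∧ (AlgSp.yon S).map c ≫ p.toHom = q.toHom := by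
  have : IsAffine q.pt.left := inferInstanceAs (IsAffine (Spec (CommRingCat.of q.K)))
  have : IsAffine R.left := isAffine_of_isAffineHom s.left
  let e := R.left.isoSpec
  let B := Γ(R.left, ⊤)
  let σ : CommRingCat.of q.K ⟶ B := Spec.preimage (e.inv ≫ s.left)
  let τ : CommRingCat.of q.K ⟶ B := Spec.preimage (e.inv ≫ t.left)
  have hσ : Spec.map σ = e.inv ≫ s.left := Spec.map_preimage _
  have hτ : Spec.map τ = e.inv ≫ t.left := Spec.map_preimage _
  have hst : Spec.map σ ≫ q.str = Spec.map τ ≫ q.str := by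
    rw [hσ, hτ, Category.assoc, Category.assoc, show s.left ≫ q.str = R.hom from Over.w s,
      show t.left ≫ q.str = R.hom from Over.w t]
  -- the diagonal
  obtain ⟨δ, hδ⟩ := (AlgSp.yon S).map_surjective (sq.lift (𝟙 _) (𝟙 _) rfl)
  have : Nonempty ↥(Spec B) := ⟨(δ.left ≫ e.hom) (IsLocalRing.closedPoint q.K)⟩
  have : Nontrivial B := PrimeSpectrum.nonempty_iff_nontrivial.1 this
  let σ₀ : q.K →+* B := σ.hom
  let τ₀ : q.K →+* B := τ.hom
  have hσfin : σ₀.Finite := by
    rw [← IsFinite.SpecMap_iff, hσ]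
    infer_instance
  have hst_ext : ∀ {T : Over S} (m m' : T ⟶ R), m ≫ s = m' ≫ s → m ≫ t = m' ≫ t → m = m' :=
    fun m m' h1 h2 => (AlgSp.yon S).map_injective (sq.hom_ext
      (by rw [← Functor.map_comp, ← Functor.map_comp, h2]) (by rw [← Functor.map_comp, ← Functor.map_comp, h1]))
  -- composition of arrows
  have hcomp : HasComp σ₀ τ₀ := by
    intro L _ d d' hdd
    have hdd' : τ ≫ CommRingCat.ofHom d = σ ≫ CommRingCat.ofHom d' := by ext k; exact hdd k
    let T : Over S := Over.mk (Spec.map (CommRingCat.ofHom d) ≫ e.inv ≫ R.hom)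
    let D : T ⟶ R := Over.homMk (Spec.map (CommRingCat.ofHom d) ≫ e.inv) (Category.assoc _ _ _)
    have hD' : (Spec.map (CommRingCat.ofHom d') ≫ e.inv) ≫ R.hom = T.hom := by
      change _ = Spec.map _ ≫ e.inv ≫ R.hom
      conv_lhs => rw [← Over.w s, Category.assoc, ← Category.assoc e.inv, ← hσ, ← Category.assoc, ← Spec.map_comp, ← hdd']
      rw [Spec.map_comp, Category.assoc, hτ, Category.assoc, Over.w t]
    let D' : T ⟶ R := Over.homMk (Spec.map (CommRingCat.ofHom d') ≫ e.inv) hD'
    have hDD : D ≫ t = D' ≫ s := by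
      apply Over.OverMorphism.ext
      change (Spec.map _ ≫ e.inv) ≫ t.left = (Spec.map _ ≫ e.inv) ≫ s.left
      rw [Category.assoc, Category.assoc, ← hσ, ← hτ, ← Spec.map_comp, ← Spec.map_comp, hdd']
    obtain ⟨G, hG⟩ := (AlgSp.yon S).map_surjective (sq.lift ((AlgSp.yon S).map (D' ≫ t))
      ((AlgSp.yon S).map (D ≫ s)) (by
        rw [Functor.map_comp, Category.assoc, sq.w, ← Category.assoc, ← Functor.map_comp, ← hDD,
          Functor.map_comp, Category.assoc, sq.w, ← Category.assoc, ← Functor.map_comp]))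
    have hGt : G ≫ t = D' ≫ t := (AlgSp.yon S).map_injective (by rw [Functor.map_comp, hG, sq.lift_fst])
    have hGs : G ≫ s = D ≫ s := (AlgSp.yon S).map_injective (by rw [Functor.map_comp, hG, sq.lift_snd])
    let g : B ⟶ CommRingCat.of L := Spec.preimage (G.left ≫ e.hom)
    have hg : Spec.map g = G.left ≫ e.hom := Spec.map_preimage _
    have h1 : σ ≫ g = σ ≫ CommRingCat.ofHom d := by
      apply Spec.map_injective
      rw [Spec.map_comp, Spec.map_comp, hg, hσ, Category.assoc, Iso.hom_inv_id_assoc, ← Category.assoc]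
      exact congrArg (fun m : T ⟶ q.pt => m.left) hGs
    have h2 : τ ≫ g = τ ≫ CommRingCat.ofHom d' := by
      apply Spec.map_injective
      rw [Spec.map_comp, Spec.map_comp, hg, hτ, Category.assoc, Iso.hom_inv_id_assoc, ← Category.assoc]
      exact congrArg (fun m : T ⟶ q.pt => m.left) hGt
    exact ⟨g.hom, fun k => ConcreteCategory.congr_hom h1 k, fun k => ConcreteCategory.congr_hom h2 k⟩
  let C := invField σ₀ τ₀
  have hfC : Module.Finite C q.K := finite_over_invField σ₀ τ₀ hcomp hσfin
  obtain ⟨str₀, hstr₀⟩ := exists_factor_invField σ τ q.str hst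
  let P : Over S := Over.mk str₀
  let c : q.pt ⟶ P := Over.homMk (Spec.map (CommRingCat.ofHom C.subtype)) hstr₀
  have : IsFinite c.left := (IsFinite.SpecMap_iff _).2 (RingHom.finite_algebraMap.2 hfC)
  have : Surjective c.left := ⟨fun y => ⟨IsLocalRing.closedPoint q.K,
    @Subsingleton.elim _ (inferInstanceAs (Subsingleton (PrimeSpectrum C))) _ _⟩⟩
  have hflat : Flat c.left := by
    change Flat (Spec.map _)
    rw [HasRingHomProperty.Spec_iff (P := @Flat)]
    exact RingHom.flat_algebraMap_iff.2 (inferInstance : Module.Flat C q.K)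
  have hlfp : LocallyOfFinitePresentation c.left := by
    change LocallyOfFinitePresentation (Spec.map _)
    rw [HasRingHomProperty.Spec_iff (P := @LocallyOfFinitePresentation)]
    exact RingHom.finitePresentation_algebraMap.2 (Algebra.FinitePresentation.of_finiteType.1 inferInstance)
  have hts : t ≫ c = s ≫ c := by
    apply Over.OverMorphism.ext
    change t.left ≫ Spec.map _ = s.left ≫ Spec.map _
    rw [← cancel_epi e.inv, ← Category.assoc, ← Category.assoc, ← hσ, ← hτ, ← Spec.map_comp, ← Spec.map_comp]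
    congr 1
    ext x
    exact x.2.symm
  have hls : Sheaf.IsLocallySurjective ((AlgSp.yon S).map c) :=
    Groth.Agent.AlgSp.isLocallySurjective_of_repWith _ ((AlgSp.repWith_yon_map_iff _ c).2 hflat)
      ((AlgSp.repWith_yon_map_iff _ c).2 hlfp) ((AlgSp.repWith_yon_map_iff _ c).2 ‹_›)
  -- `q` coequalizes the kernel pair of `c`
  have hinj := pairMap_injective σ₀ τ₀ hcomp hσfin
  have hsurj : Function.Surjective (pairMap σ₀ τ₀) := by
    change Function.Surjective (CommRingCat.ofHom (pairMap σ₀ τ₀))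
    refine RingHom.surjective_iff_epi_and_finite.2 ⟨⟨fun {L} f₁ f₂ h => ?_⟩, ?_⟩
    · have h1 : σ ≫ f₁ = σ ≫ f₂ := by
        ext k
        have := ConcreteCategory.congr_hom h (k ⊗ₜ (1 : q.K))
        simpa [pairMap_tmul] using this
      have h2 : τ ≫ f₁ = τ ≫ f₂ := by
        ext k
        have := ConcreteCategory.congr_hom h ((1 : q.K) ⊗ₜ k)
        simpa [pairMap_tmul] using this
      let T₁ : Over S := Over.mk (Spec.map f₁ ≫ e.inv ≫ R.hom)
      have hw : Spec.map f₂ ≫ e.inv ≫ R.hom = Spec.map f₁ ≫ e.inv ≫ R.hom := by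
        conv_lhs => rw [← Over.w s, ← Category.assoc e.inv, ← hσ, ← Category.assoc, ← Spec.map_comp, ← h1]
        rw [Spec.map_comp, Category.assoc, hσ, Category.assoc, Over.w s]
      let m₁ : T₁ ⟶ R := Over.homMk (Spec.map f₁ ≫ e.inv) (Category.assoc _ _ _)
      let m₂ : T₁ ⟶ R := Over.homMk (Spec.map f₂ ≫ e.inv) ((Category.assoc _ _ _).trans hw)
      have hm : m₁ = m₂ := by
        apply hst_ext <;> apply Over.OverMorphism.ext
        · change (_ ≫ e.inv) ≫ s.left = (_ ≫ e.inv) ≫ s.left
          rw [Category.assoc, Category.assoc, ← hσ, ← Spec.map_comp, ← Spec.map_comp, h1]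
        · change (_ ≫ e.inv) ≫ t.left = (_ ≫ e.inv) ≫ t.left
          rw [Category.assoc, Category.assoc, ← hτ, ← Spec.map_comp, ← Spec.map_comp, h2]
      exact Spec.map_injective ((cancel_mono e.inv).1 (congrArg (fun m : T₁ ⟶ R => m.left) hm))
    · refine RingHom.Finite.of_comp_finite (f := (Algebra.TensorProduct.includeLeftRingHom :
        q.K →+* q.K ⊗[C] q.K)) ?_
      change ((pairMap σ₀ τ₀).comp _).Finite
      rw [show (pairMap σ₀ τ₀).comp (Algebra.TensorProduct.includeLeftRingHom :
          q.K →+* q.K ⊗[C] q.K) = σ₀ from RingHom.ext fun k => (pairMap_tmul σ₀ τ₀ k 1).trans (by rw [map_one, mul_one])]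
      exact hσfin
  let π := RingEquiv.ofBijective (pairMap σ₀ τ₀) ⟨hinj, hsurj⟩
  let W := pullback c.left c.left
  let m : W ⟶ R.left := (pullbackSpecIso C q.K q.K).hom ≫ Spec.map (CommRingCat.ofHom π.symm.toRingHom) ≫ e.inv
  have hm1 : m ≫ s.left = pullback.fst c.left c.left := by
    simp only [m, Category.assoc, ← hσ, ← Spec.map_comp]
    rw [show σ ≫ CommRingCat.ofHom π.symm.toRingHom =
      CommRingCat.ofHom (Algebra.TensorProduct.includeLeftRingHom : q.K →+* q.K ⊗[C] q.K) from ?_]
    · exact pullbackSpecIso_hom_fst C q.K q.K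
    ext k
    apply π.injective
    change π (π.symm (σ k)) = pairMap σ₀ τ₀ (k ⊗ₜ 1)
    simp [pairMap_tmul]; rfl
  have hm2 : m ≫ t.left = pullback.snd c.left c.left := by
    simp only [m, Category.assoc, ← hτ, ← Spec.map_comp]
    rw [show τ ≫ CommRingCat.ofHom π.symm.toRingHom =
      CommRingCat.ofHom ((Algebra.TensorProduct.includeRight (R := C) (A := q.K) (B := q.K)).toRingHom) from ?_]
    · exact pullbackSpecIso_hom_snd C q.K q.K
    ext k
    apply π.injective
    change π (π.symm (τ k)) = pairMap σ₀ τ₀ (1 ⊗ₜ k)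
    simp [pairMap_tmul]; rfl
  have hker := (IsPullback.of_hasPullback c c).map (AlgSp.yon S)
  obtain ⟨hcol⟩ := Groth.Agent.AlgSp.isColimit_of_isPullback ((AlgSp.yon S).map c) hker
  have hq : (AlgSp.yon S).map (pullback.fst c c) ≫ q.toHom = (AlgSp.yon S).map (pullback.snd c c) ≫ q.toHom := by
    have sqL := (IsPullback.of_hasPullback c c).map (Over.forget S)
    let i : (pullback c c).left ⟶ W := pullback.lift (pullback.fst c c).left (pullback.snd c c).left sqL.w
    let M : pullback c c ⟶ R := Over.homMk (i ≫ m) (by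
      rw [← Over.w s, Category.assoc, reassoc_of% hm1]
      simp only [i, pullback.lift_fst_assoc]
      exact Over.w (pullback.fst c c))
    have hMs : M ≫ s = pullback.fst c c := by
      apply Over.OverMorphism.ext
      change (i ≫ m) ≫ s.left = _
      rw [Category.assoc, hm1]
      exact pullback.lift_fst _ _ _
    have hMt : M ≫ t = pullback.snd c c := by
      apply Over.OverMorphism.ext
      change (i ≫ m) ≫ t.left = _
      rw [Category.assoc, hm2]
      exact pullback.lift_snd _ _ _
    rw [← hMs, ← hMt, Functor.map_comp, Functor.map_comp, Category.assoc, Category.assoc, sq.w]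
  let p₀ : (AlgSp.yon S).obj P ⟶ X.obj := Cofork.IsColimit.desc hcol q.toHom hq
  have hp₀ : (AlgSp.yon S).map c ≫ p₀ = q.toHom := Cofork.IsColimit.π_desc' hcol _ _
  let p : AlgSp.FieldPt X.obj := { K := ↥C, str := str₀, val := (AlgSp.J S).uliftYonedaEquiv p₀ }
  have hp : p.toHom = p₀ := Equiv.symm_apply_apply _ _
  refine ⟨p, ?_, ?_, c, inferInstance, inferInstance, ?_⟩
  · rw [← AlgSp.Points.ofPt_toHom p (c.left (IsLocalRing.closedPoint q.K)), hp, ← AlgSpB.ofPt_map_comp, hp₀,
      AlgSp.Points.ofPt_toHom]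
  swap
  · rw [hp]; exact hp₀
  rw [hp]
  refine Groth.Agent.AlgSp.mono_of_yon p₀ fun U a b w => ?_
  obtain ⟨a, rfl⟩ := (AlgSp.yon S).map_surjective a
  obtain ⟨b, rfl⟩ := (AlgSp.yon S).map_surjective b
  let w₁ := pullback.fst a c
  let w₂ := pullback.fst (w₁ ≫ b) c
  have hrep : ∀ (Q : MorphismProperty Scheme.{u}) [Q.IsStableUnderBaseChange] [Q.IsStableUnderComposition],
      Q c.left → AlgSp.RepWith Q ((AlgSp.yon S).map (w₂ ≫ w₁)) := fun Q _ _ h => by
    rw [AlgSp.repWith_yon_map_iff]
    exact Q.comp_mem _ _ (Q.of_isPullback ((IsPullback.of_hasPullback (w₁ ≫ b) c).map (Over.forget S)).flip h)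
      (Q.of_isPullback ((IsPullback.of_hasPullback a c).map (Over.forget S)).flip h)
  have : Sheaf.IsLocallySurjective ((AlgSp.yon S).map (w₂ ≫ w₁)) :=
    Groth.Agent.AlgSp.isLocallySurjective_of_repWith _ (hrep _ hflat) (hrep _ hlfp) (hrep _ ‹_›)
  have : Epi ((AlgSp.yon S).map (w₂ ≫ w₁)) := Sheaf.epi_of_isLocallySurjective _
  rw [← cancel_epi ((AlgSp.yon S).map (w₂ ≫ w₁)), ← Functor.map_comp, ← Functor.map_comp]
  congr 1
  have ha' : (w₂ ≫ w₁) ≫ a = (w₂ ≫ pullback.snd a c) ≫ c := by
    simp only [w₁, Category.assoc, pullback.condition]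
  have hb' : (w₂ ≫ w₁) ≫ b = pullback.snd (w₁ ≫ b) c ≫ c := by
    simp only [w₂, Category.assoc, pullback.condition]
  have hlift : (AlgSp.yon S).map (w₂ ≫ pullback.snd a c) ≫ q.toHom =
      (AlgSp.yon S).map (pullback.snd (w₁ ≫ b) c) ≫ q.toHom := by
    rw [← hp₀, ← Category.assoc, ← Category.assoc, ← Functor.map_comp, ← Functor.map_comp, ← ha', ← hb',
      Functor.map_comp, Functor.map_comp, Category.assoc, Category.assoc, Category.assoc, w]
    simp [Functor.map_comp]
  obtain ⟨N, hN⟩ := (AlgSp.yon S).map_surjective (sq.lift _ _ hlift)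
  have hNt : N ≫ t = w₂ ≫ pullback.snd a c := (AlgSp.yon S).map_injective (by rw [Functor.map_comp, hN, sq.lift_fst])
  have hNs : N ≫ s = pullback.snd (w₁ ≫ b) c := (AlgSp.yon S).map_injective (by rw [Functor.map_comp, hN, sq.lift_snd])
  rw [ha', hb', ← hNt, ← hNs, Category.assoc, Category.assoc, hts]

/-- A field point with two quasi-finite lifts to a chart and finitely many relations between the images. -/
theorem exists_mono_of_lifts (X : AlgSp.Space S) (q : AlgSp.FieldPt X.obj) {U R : Over S}
    (a : (AlgSp.yon S).obj U ⟶ X.obj) (ha : AlgSp.RepWith @Etale a) (s t : R ⟶ U)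
    (hR : IsPullback ((AlgSp.yon S).map t) ((AlgSp.yon S).map s) a a)
    (i j : q.pt ⟶ U) [LocallyQuasiFinite i.left] [LocallyQuasiFinite j.left]
    (hi : (AlgSp.yon S).map i ≫ a = q.toHom) (hj : (AlgSp.yon S).map j ≫ a = q.toHom) {u v : ↥U.left}
    (hu : ∀ k : ↥q.pt.left, i.left k = u) (hv : ∀ k : ↥q.pt.left, j.left k = v)
    (hfin : {r : ↥R.left | s.left r = u ∧ t.left r = v}.Finite) :
    ∃ p : AlgSp.FieldPt X.obj, AlgSp.Points.mk p = AlgSp.Points.mk q ∧ Mono p.toHom ∧
      ∃ c : q.pt ⟶ p.pt, IsFinite c.left ∧ Surjective c.left ∧ (AlgSp.yon S).map c ≫ p.toHom = q.toHom := by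
  have hs : Etale s.left := ha.2 _ _ _ hR
  let A := pullback t j
  let sA : A ⟶ U := pullback.fst t j ≫ s
  let R' := pullback sA i
  let s' : R' ⟶ q.pt := pullback.snd sA i
  let t' : R' ⟶ q.pt := pullback.fst sA i ≫ pullback.snd t j
  have sq1 := ((IsPullback.of_hasPullback t j).map (AlgSp.yon S)).flip.paste_vert hR
  have sq2 := (((IsPullback.of_hasPullback sA i).map (AlgSp.yon S)))
  rw [← Functor.map_comp] at sq1
  have sq' := sq2.paste_horiz sq1
  rw [← Functor.map_comp] at sq'
  have sqA := (IsPullback.of_hasPullback t j).map (Over.forget S)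
  have sqR := (IsPullback.of_hasPullback sA i).map (Over.forget S)
  have : Finite ↥q.pt.left := inferInstanceAs (Finite (PrimeSpectrum q.K))
  have hqj : QuasiCompact j.left := quasiCompact_of_finite _
  have hqi : QuasiCompact i.left := quasiCompact_of_finite _
  have : LocallyQuasiFinite (pullback.fst t j).left := MorphismProperty.of_isPullback sqA.flip ‹LocallyQuasiFinite j.left›
  have : QuasiCompact (pullback.fst t j).left := MorphismProperty.of_isPullback sqA.flip hqj
  have : LocallyQuasiFinite (pullback.fst sA i).left := MorphismProperty.of_isPullback sqR.flip ‹LocallyQuasiFinite i.left›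
  have : QuasiCompact (pullback.fst sA i).left := MorphismProperty.of_isPullback sqR.flip hqi
  have : LocallyQuasiFinite s.left := locallyQuasiFinite_of_etale s.left
  have : LocallyQuasiFinite sA.left := by
    change LocallyQuasiFinite ((pullback.fst t j).left ≫ s.left)
    infer_instance
  have : LocallyQuasiFinite s'.left := MorphismProperty.of_isPullback sqR ‹_›
  have : Finite ↥R'.left := by
    rw [← Set.finite_univ_iff]
    refine ((pullback.fst sA i).left.finite_preimage
      ((pullback.fst t j).left.finite_preimage hfin)).subset fun z _ => ⟨?_, ?_⟩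
    · exact (congrArg (fun m : R'.left ⟶ U.left => m z) sqR.w).trans (hu _)
    · exact (congrArg (fun m : A.left ⟶ U.left => m ((pullback.fst sA i).left z)) sqA.w).trans (hv _)
  have : QuasiCompact s'.left := quasiCompact_of_finite _
  have : IsLocallyArtinian q.pt.left := Scheme.isLocallyArtinianScheme_Spec.2
    (inferInstanceAs (IsArtinianRing q.K))
  refine exists_mono_of_isFinite X q s' t' ?_ (IsFinite.of_locallyQuasiFinite _)
  rw [hi, hj] at sq'
  exact sq'

/-- A point of a chart with finitely many self-relations gives a monomorphic field point. -/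
theorem exists_mono_of_chart (X : AlgSp.Space S) {U R : Over S} (a : (AlgSp.yon S).obj U ⟶ X.obj)
    (ha : AlgSp.RepWith @Etale a) (s t : R ⟶ U)
    (hR : IsPullback ((AlgSp.yon S).map t) ((AlgSp.yon S).map s) a a) (u : ↥U.left)
    (hfin : {r : ↥R.left | s.left r = u ∧ t.left r = u}.Finite) :
    ∃ p : AlgSp.FieldPt X.obj, AlgSp.Points.mk p = AlgSp.Points.ofPt a u ∧ Mono p.toHom ∧
      ∃ c : (AlgSp.FieldPt.ofPt a u).pt ⟶ p.pt, IsFinite c.left ∧ Surjective c.left ∧
        (AlgSp.yon S).map c ≫ p.toHom = (AlgSp.FieldPt.ofPt a u).toHom :=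
  let i : (AlgSp.FieldPt.ofPt a u).pt ⟶ U := Over.homMk (U.left.fromSpecResidueField u) rfl
  have : IsPreimmersion i.left := inferInstanceAs (IsPreimmersion (U.left.fromSpecResidueField u))
  exists_mono_of_lifts X _ a ha s t hR i i (AlgSp.FieldPt.toHom_ofPt a u).symm (AlgSp.FieldPt.toHom_ofPt a u).symm
    (fun _ => Scheme.fromSpecResidueField_apply _ _) (fun _ => Scheme.fromSpecResidueField_apply _ _) hfin

end Groth.Agent.AlgSpD
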