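import Groth.Agent.AlgSp.NormUniv
import Groth.Agent.AlgSp.NormAffine
import Groth.Agent.AlgSp.SchImageRep
import Groth.Agent.AlgSpD.IntegralMor
import Groth.Agent.S0573

/-!
# Finiteness of normalizations over Nagata bases
-/

universe u

open CategoryTheory CategoryTheory.Limits AlgebraicGeometry Opposite

set_option autoImplicit false
set_option backward.isDefEq.respectTransparency.types false

namespace Groth.Agent.AlgSpD.NormFinite

open Groth.Agent.AlgSp

variable {S : Scheme.{u}}

/-- The integral equalizer inside a reduced algebra of finite type over a Nagata ring is finite. -/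
theorem finite_intEq {K E F C : Type u} [CommRing K] [CommRing E] [Algebra K E] [CommRing F] [Algebra K F]
    [CommRing C] [Algebra K C] (hK : CAlg.IsNagata K) [_root_.IsReduced E] [Algebra.FiniteType K E]
    {p q : E →ₐ[K] F} {j : C →ₐ[K] E} (hj : IsIntEq p q j) : Module.Finite K C := by
  have := hK.1
  have := S0573.result K hK E
  let l : C →ₐ[K] integralClosure K E := j.codRestrict (integralClosure K E) fun c => ((hj.2 (j c)).1 ⟨c, rfl⟩).2
  refine Module.Finite.of_injective l.toLinearMap fun a b e => hj.1 ?_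
  exact congrArg Subtype.val e

/-- The normalization is finite over a Nagata affine chart. -/
theorem isFinite_of_affine_chart {X Y Y' : _root_.AlgSp.Space S} {f : X ⟶ Y} {ν : Y' ⟶ Y} {f' : X ⟶ Y'}
    (hn : _root_.AlgSp.IsRelNormalization f.hom ν.hom f'.hom)
    (hqs : _root_.AlgSp.IsQuasiSeparatedMor f.hom) (hft : _root_.AlgSp.IsFiniteTypeMor f.hom)
    (hX : _root_.AlgSp.IsReducedSp X.obj) {K : Type u} [CommRing K] (hK : CAlg.IsNagata K)
    (h : Spec (CommRingCat.of K) ⟶ S) (b : (_root_.AlgSp.yon S).obj (Over.mk h) ⟶ Y.obj)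
    (hb : _root_.AlgSp.RepWith @Etale b) {W : Over S} {i : W ⟶ Over.mk h}
    {fst : (_root_.AlgSp.yon S).obj W ⟶ Y'.obj}
    (sq : IsPullback fst ((_root_.AlgSp.yon S).map i) ν.hom b) : IsFinite i.left := by
  have : IsAffine (Over.mk h).left := inferInstanceAs (IsAffine (Spec (CommRingCat.of K)))
  have hsm := isSmoothNorm_of_relNorm X.property Y.property Y'.property hft.2 hqs hn
  have sF := IsPullback.of_hasPullback f.hom b
  let a := pullback.fst f.hom b
  let g := pullback.snd f.hom b
  let m := sq.lift (a ≫ f'.hom) g (by rw [Category.assoc, hn.1, sF.w])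
  have hN := hsm.2.2 (Over.mk h) this b (locP_smooth_of_etale hb) a g fst _ m sF sq
    (sq.lift_snd _ _ _) (sq.lift_fst _ _ _)
  have hXT := isAlgSpace_pullback Y.property X.property (_root_.AlgSp.IsAlgSpace.yon_obj (Over.mk h)) f.hom b
  have hqc' : _root_.AlgSp.IsQuasiCompactMor g := isQuasiCompactMor_baseChange sF hft.2
  have hqs' : _root_.AlgSp.IsQuasiSeparatedMor g := isQuasiSeparatedMor_baseChange' sF hqs
  obtain ⟨E, F, _, _, ⟨P⟩⟩ := exists_pres hXT hqc' hqs'
  have ha : _root_.AlgSp.RepWith @Etale (P.a ≫ a) :=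
    (_root_.AlgSp.RepWith _).comp_mem _ _ P.ha (MorphismProperty.of_isPullback sF.flip hb)
  have : IsReduced (specOver h E).left := SchImageRep.isReduced_chart X.property hX _ ha
  have : IsReduced (Spec E) := this
  have : _root_.IsReduced E := (affine_isReduced_iff E).1 this
  have hlft : LocallyOfFiniteType (Spec.map (CommRingCat.ofHom (algebraMap K E))) :=
    hft.1 (P.a ≫ a) b (specStr h E) ha hb (by rw [Category.assoc, sF.w, ← Category.assoc, P.hga])
  have : Algebra.FiniteType K E :=
    RingHom.finiteType_algebraMap.1 ((HasRingHomProperty.Spec_iff (P := @LocallyOfFiniteType)).1 hlft)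
  let C := integralClosure K (AlgHom.equalizer P.p P.q)
  let j := (AlgHom.equalizer P.p P.q).val.comp (integralClosure K (AlgHom.equalizer P.p P.q)).val
  have hj := isIntEq_integralClosure P.p P.q
  obtain ⟨m₀, hm₀⟩ := P.exists_desc ((_root_.AlgSp.yon S).map (specMap h j)) (by
    rw [← Functor.map_comp, ← Functor.map_comp, specMap_comp, specMap_comp]
    congr 2
    exact AlgHom.ext fun c => c.1.2)
  have h₀ := P.relNorm hj hm₀
  obtain ⟨e, -, he⟩ := relNorm_iso hN (_root_.AlgSp.IsAlgSpace.yon_obj W)
    (_root_.AlgSp.IsAlgSpace.yon_obj (specOver h C)) h₀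
  obtain ⟨e₀, hee⟩ := (_root_.AlgSp.yon S).map_surjective e.hom
  have : IsIso e₀ := by
    have : IsIso ((_root_.AlgSp.yon S).map e₀) := by rw [hee]; infer_instance
    exact isIso_of_reflects_iso e₀ (_root_.AlgSp.yon S)
  have he₀ : e₀ ≫ specStr h C = i := (_root_.AlgSp.yon S).map_injective (by rw [Functor.map_comp, hee, he])
  have := finite_intEq hK hj
  have : IsFinite (Spec.map (CommRingCat.ofHom (algebraMap K C))) :=
    (IsFinite.SpecMap_iff _).2 (RingHom.finite_algebraMap.2 inferInstance)
  rw [← he₀]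
  have : IsIso e₀.left := inferInstanceAs (IsIso ((Over.forget S).map e₀))
  change IsFinite (e₀.left ≫ Spec.map (CommRingCat.ofHom (algebraMap K C)))
  infer_instance

end Groth.Agent.AlgSpD.NormFinite
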