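import Groth.Agent.AlgSpD.OnePoint
import Groth.Agent.AlgSp.DescentSepLqf
import Groth.Agent.AlgSpB.QuotRel
import Mathlib.AlgebraicGeometry.Artinian

/-!
# The residual space at a point
-/

universe u

open CategoryTheory CategoryTheory.Limits AlgebraicGeometry Opposite TopologicalSpace

set_option backward.isDefEq.respectTransparency false

namespace Groth.Agent.AlgSpD

open Groth.Agent

/-- A preimmersion into a discrete reduced scheme is an open immersion. -/
theorem isOpenImmersion_of_isPreimmersion {Y Q : Scheme.{u}} (g : Y ⟶ Q) [IsPreimmersion g]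
    [DiscreteTopology ↥Q] (hQ : RedZeroDim Q) : IsOpenImmersion g := by
  refine IsOpenImmersion.iff_isIso_stalkMap.2 ⟨⟨g.isEmbedding, isOpen_discrete _⟩, fun y => ?_⟩
  refine (ConcreteCategory.isIso_iff_bijective (g.stalkMap y)).2 ⟨?_, g.stalkMap_surjective y⟩
  let := (hQ.isField (g y)).toField
  exact (g.stalkMap y).hom.injective

variable {S : Scheme.{u}}

/-- Kernel pairs give equivalence relations. -/
theorem isEqvRel_of_isPullback {F : AlgSp.Sp S} {U R : Over S} (p : (AlgSp.yon S).obj U ⟶ F) {t s : R ⟶ U}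
    (sq : IsPullback ((AlgSp.yon S).map t) ((AlgSp.yon S).map s) p p) : AlgSp.IsEqvRel s t := by
  have hiff : ∀ {T : Over S} (a b : T ⟶ U), (∃ r : T ⟶ R, r ≫ t = a ∧ r ≫ s = b) ↔
      (AlgSp.yon S).map a ≫ p = (AlgSp.yon S).map b ≫ p := by
    intro T a b
    constructor
    · rintro ⟨r, rfl, rfl⟩
      rw [Functor.map_comp_assoc, Functor.map_comp_assoc, sq.w]
    · intro h
      obtain ⟨r, h1, h2⟩ := sq.exists_lift _ _ h
      obtain ⟨r, rfl⟩ := (AlgSp.yon S).map_surjective r
      exact ⟨r, (AlgSp.yon S).map_injective (by rw [Functor.map_comp, h1]),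
        (AlgSp.yon S).map_injective (by rw [Functor.map_comp, h2])⟩
  exact ⟨fun T r r' h1 h2 => (AlgSp.yon S).map_injective (sq.hom_ext
      (by rw [← Functor.map_comp, ← Functor.map_comp, h1]) (by rw [← Functor.map_comp, ← Functor.map_comp, h2])),
    fun T => ⟨fun a => (hiff a a).2 rfl, fun h => (hiff _ _).2 ((hiff _ _).1 h).symm,
      fun h h' => (hiff _ _).2 (((hiff _ _).1 h).trans ((hiff _ _).1 h'))⟩⟩

/-- The residue point of a chart has an etale kernel pair. -/
theorem exists_kernelPair_etale {F : AlgSp.Sp S} {U : Over S} (a : (AlgSp.yon S).obj U ⟶ F)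
    (ha : AlgSp.RepWith @Etale a) (u : ↥U.left) :
    ∃ (R : Over S) (t s : R ⟶ Over.mk (U.left.fromSpecResidueField u ≫ U.hom)),
      IsPullback ((AlgSp.yon S).map t) ((AlgSp.yon S).map s) (AlgSp.FieldPt.ofPt a u).toHom
        (AlgSp.FieldPt.ofPt a u).toHom ∧ Etale s.left := by
  obtain ⟨R, t, s, sq⟩ := AlgSpB.exists_pullback_yon ha.1 a
  let c : Over.mk (U.left.fromSpecResidueField u ≫ U.hom) ⟶ U :=
    Over.homMk (U.left.fromSpecResidueField u) rfl
  have eQ := IsPullback.of_hasPullback s c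
  let l := pullback.fst s c ≫ t
  have h0 : IsPullback ((AlgSp.yon S).map l) ((AlgSp.yon S).map (pullback.snd s c)) a
      ((AlgSp.yon S).map c ≫ a) := by
    rw [Functor.map_comp]
    exact (eQ.map (AlgSp.yon S)).paste_horiz sq
  have e1 := IsPullback.of_hasPullback c l
  refine ⟨pullback c l, pullback.fst c l, pullback.snd c l ≫ pullback.snd s c, ?_, ?_⟩
  · rw [AlgSp.FieldPt.toHom_ofPt, Functor.map_comp]
    exact (e1.map (AlgSp.yon S)).paste_vert h0
  · have hs : Etale s.left := ha.2 _ _ _ sq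
    have eL : IsPullback (pullback.fst s c).left (pullback.snd s c).left s.left c.left :=
      eQ.map (Over.forget S)
    have : Etale (pullback.snd s c).left := MorphismProperty.of_isPullback eL hs
    have := locallyQuasiFinite_of_etale (pullback.snd s c).left
    have hpt : RedZeroDim (Over.mk (U.left.fromSpecResidueField u ≫ U.hom) : Over S).left :=
      redZeroDim_spec_field (U.left.residueField u)
    have : IsLocallyArtinian (Over.mk (U.left.fromSpecResidueField u ≫ U.hom) : Over S).left :=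
      inferInstanceAs (IsLocallyArtinian (Spec (U.left.residueField u)))
    have : IsLocallyArtinian (pullback s c).left :=
      IsLocallyArtinian.of_locallyQuasiFinite (pullback.snd s c).left
    have e1L : IsPullback (pullback.fst c l).left (pullback.snd c l).left c.left l.left :=
      e1.map (Over.forget S)
    have : IsPreimmersion (pullback.snd c l).left :=
      MorphismProperty.of_isPullback (P := @IsPreimmersion) e1L
        (inferInstanceAs (IsPreimmersion (U.left.fromSpecResidueField u)))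
    have : IsOpenImmersion (pullback.snd c l).left :=
      isOpenImmersion_of_isPreimmersion _ (hpt.etale (pullback.snd s c).left)
    rw [Over.comp_left]
    infer_instance

/-- Existence of residual spaces. -/
theorem exists_residual (X : AlgSp.Space S) (x : AlgSp.Points X.obj) :
    ∃ (Z : AlgSp.Space S) (i : Z ⟶ X), Mono i.hom ∧ Set.range (AlgSp.Points.map i.hom) = {x} ∧
      ∃ (k : Type u) (_ : Field k) (str : Spec (CommRingCat.of k) ⟶ S) (p : (AlgSp.yon S).obj (Over.mk str) ⟶ Z.obj),
        AlgSp.LocP @LocallyOfFinitePresentation p ∧ AlgSp.LocP @Flat p ∧ AlgSp.IsSurjectiveMor p := by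
  obtain ⟨U, a, u, ha, hu⟩ := exists_chart X x
  obtain ⟨R, t, s, sq, hs⟩ := exists_kernelPair_etale a ha u
  let pt : Over S := Over.mk (U.left.fromSpecResidueField u ≫ U.hom)
  let q : (AlgSp.yon S).obj pt ⟶ X.obj := (AlgSp.FieldPt.ofPt a u).toHom
  have hR := isEqvRel_of_isPullback (U := pt) q sq
  let π : (AlgSp.yon S).obj pt ⟶ QuotSh.quot Scheme.fppfPrecoverage s t := AlgSp.yπ s t
  have sqπ : IsPullback ((AlgSp.yon S).map t) ((AlgSp.yon S).map s) π π := AlgSp.isPullback_yπ s t hR
  have := AlgSp.isLocallySurjective_yπ s t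
  obtain ⟨hZ, hπe, hπs⟩ := AlgSp.isAlgSpace_of_kernelPair π sqπ hs
  let Z : AlgSp.Space S := ⟨_, hZ⟩
  obtain ⟨hc⟩ := AlgSp.isColimit_of_isPullback π sqπ
  obtain ⟨i, hi⟩ := Cofork.IsColimit.desc' hc q sq.w
  have hi' : π ≫ i = q := hi
  have : Epi π := (Sheaf.isLocallySurjective_iff_epi _).1 inferInstance
  have hm : Mono i := AlgSp.mono_of_yon i fun T α β e => by
    obtain ⟨S₁, hS₁, l₁⟩ := AlgSpB.exists_sieve_lift π α
    obtain ⟨S₂, hS₂, l₂⟩ := AlgSpB.exists_sieve_lift π β
    refine AlgSpB.yon_hom_ext_of_mem ((AlgSp.J S).intersection_covering hS₁ hS₂) α β fun T' f hf => ?_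
    obtain ⟨a₁, ha₁⟩ := l₁ f hf.1
    obtain ⟨a₂, ha₂⟩ := l₂ f hf.2
    obtain ⟨r, hr₁, hr₂⟩ := sq.exists_lift a₁ a₂ (show a₁ ≫ q = a₂ ≫ q by
      rw [← hi', ← Category.assoc, ha₁, ← Category.assoc, ha₂, Category.assoc, Category.assoc, e])
    rw [← ha₁, ← ha₂, ← hr₁, ← hr₂, Category.assoc, Category.assoc, sqπ.w]
  have hps : AlgSp.IsSurjectiveMor π :=
    (AlgSp.repWith_surjective_iff π hπs.1).1 hπs
  obtain ⟨hne, hsub⟩ := subsingleton_of_surjective Z (k := U.left.residueField u) π hps
  refine ⟨Z, ObjectProperty.homMk i, hm, ?_, U.left.residueField u, inferInstance,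
    U.left.fromSpecResidueField u ≫ U.hom, π,
    AlgSpCov.locP_of_repWith AlgSpCov.etaleLocal_locallyOfFinitePresentation
      (AlgSp.repWith_mono (Q := @LocallyOfFinitePresentation) (fun g (hg : Etale g) => inferInstance) hπe),
    AlgSpCov.locP_of_repWith AlgSpCov.etaleLocal_flat
      (AlgSp.repWith_mono (Q := @Flat) (fun g (hg : Etale g) => inferInstance) hπe), hps⟩
  have hpt : AlgSp.Points.map i (AlgSp.Points.ofPt π (IsLocalRing.closedPoint (U.left.residueField u))) = x := by
    rw [← hu, AlgSp.Points.ofPt_eq_map_ofScheme]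
    show AlgSp.Points.map i (AlgSp.Points.map π _) = _
    rw [← AlgSp.Points.map_comp, hi', ← AlgSp.Points.ofPt_eq_map_ofScheme]
    exact AlgSp.Points.ofPt_toHom (AlgSp.FieldPt.ofPt a u) _
  refine Set.eq_singleton_iff_unique_mem.2 ⟨⟨_, hpt⟩, ?_⟩
  rintro _ ⟨z, rfl⟩
  rw [← hpt]
  exact congrArg (AlgSp.Points.map i) (@Subsingleton.elim _ hsub _ _)

end Groth.Agent.AlgSpD
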