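import Groth.Agent.AlgSpD.LqfLocus
import Groth.Agent.AlgSpB.Art.GroupLocus
import Groth.Agent.AlgSpCov.LocP
import Groth.Agent.AlgSpD.HasAt
import Groth.Agent.EtaleDev.Fibre
import Groth.Agent.S10342
import Groth.Agent.S10346
import Groth.Agent.S10351
import Groth.Agent.S10390
import Groth.Agent.S10404
import Groth.Agent.S9798
import Groth.Agent.S5792

/-!
# Points of fibres over field-valued points
-/

universe u

open CategoryTheory CategoryTheory.Limits AlgebraicGeometry Opposite Topology

set_option autoImplicit false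
set_option backward.isDefEq.respectTransparency false
set_option backward.isDefEq.respectTransparency.types false

namespace Groth.Agent.AlgSpD.PointFibre

open Groth.Agent _root_.AlgSp

variable {S : Scheme.{u}}

/-- The five conditions at a point of a space locally of finite type over a field. -/
structure Conds (X : Space S) (q : Prop) (x : Points X.obj) : Prop where
  closed : IsOpen ({x} : Set (Points X.obj)) ↔ IsClosed ({x} : Set (Points X.obj)) ∧ ∀ x' : Points X.obj, x' ⤳ x → x' = x
  dim : IsOpen ({x} : Set (Points X.obj)) ↔ HasAt (fun U u => FlatMor.localDim ↥U u = 0) X.obj x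
  qf : IsOpen ({x} : Set (Points X.obj)) ↔ q
  decent : IsDecent X.obj → (FlatMor.localDim (Points X.obj) x = 0 ↔ IsOpen ({x} : Set (Points X.obj)))

variable {X : Space S} {T : Over S}

theorem chart_lft (p : X.obj ⟶ (yon S).obj T) (hp : LocP @LocallyOfFiniteType p) {U : Over S}
    {a : (yon S).obj U ⟶ X.obj} (ha : RepWith @Etale a) :
    ∃ h : U ⟶ T, a ≫ p = (yon S).map h ≫ 𝟙 _ ∧ LocallyOfFiniteType h.left := by
  obtain ⟨h, hh⟩ := (yon S).map_surjective (a ≫ p)
  have w : a ≫ p = (yon S).map h ≫ 𝟙 _ := by rw [hh, Category.comp_id]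
  exact ⟨h, w, hp a _ h ha (_root_.AlgSp.repWith_id _ _) w⟩

theorem jacobsonSpace_field {K : Type u} [Field K] {str : Spec (CommRingCat.of K) ⟶ S} {U : Over S}
    (h : U ⟶ Over.mk str) [LocallyOfFiniteType h.left] : JacobsonSpace ↥U.left ∧ IsLocallyNoetherian U.left := by
  let h' : U.left ⟶ Spec (CommRingCat.of K) := h.left
  have : LocallyOfFiniteType h' := ‹LocallyOfFiniteType h.left›
  exact ⟨LocallyOfFiniteType.jacobsonSpace h', LocallyOfFiniteType.isLocallyNoetherian h'⟩

theorem fibreDimAt_field {K : Type u} [Field K] {U : Scheme.{u}} (h : U ⟶ Spec (CommRingCat.of K)) (u : U) :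
    FlatMor.fibreDimAt h u = FlatMor.localDim U u := by
  have hrange : Set.range (h.fiberι (h u)) = Set.univ := by
    rw [h.range_fiberι]
    exact Set.eq_univ_of_forall fun v => Subsingleton.elim (α := PrimeSpectrum K) _ _
  let e := (h.fiberι (h u)).isEmbedding.toHomeomorphOfSurjective (Set.range_eq_univ.1 hrange)
  show FlatMor.localDim _ _ = _
  exact (Groth.Agent.EtaleDev.localDim_eq_of_homeo e _).symm.trans (congrArg _ (h.fiberι_asFiber u))

/-- The conditions hold on spaces locally of finite type over a field. -/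
theorem conds {K : Type u} [Field K] {str : Spec (CommRingCat.of K) ⟶ S}
    (p : X.obj ⟶ (yon S).obj (Over.mk str)) (hp : LocP @LocallyOfFiniteType p) (x : Points X.obj) :
    Conds X (HasAtMor DimZeroAt p x) x := by
  have hN : IsLocNoethSp X.obj := by
    obtain ⟨U, a, ha, hs⟩ := X.property.atlas
    obtain ⟨h, -, hl⟩ := chart_lft p hp ha
    exact ⟨U, a, ha, hs, (jacobsonSpace_field h).2⟩
  -- isolated points of the space are isolated on charts
  have key : ∀ (U : Over S) (a : (yon S).obj U ⟶ X.obj), RepWith @Etale a → ∀ u : ↥U.left,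
      IsOpen {Points.ofPt a u} → IsOpen ({u} : Set ↥U.left) ∧ IsClosed ({u} : Set ↥U.left) := by
    intro U a ha u hop
    obtain ⟨h, -, hl⟩ := chart_lft p hp ha
    obtain ⟨hJ, hUN⟩ := jacobsonSpace_field h
    let F := Points.ofPt a ⁻¹' {Points.ofPt a u}
    have hF : IsOpen F := hop.preimage (Points.continuous_ofPt a)
    have hcl : ∀ w ∈ F, IsClosed ({w} : Set ↥U.left) := fun w hw => by
      refine isClosed_singleton_of_isLocallyClosed_singleton ⟨F, closure {w}, hF, isClosed_closure, ?_⟩
      refine subset_antisymm (Set.singleton_subset_iff.2 ⟨hw, subset_closure rfl⟩) ?_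
      rintro v ⟨hv, hvw⟩
      exact S10342.result X hN a ha v w (hv.trans hw.symm) (specializes_iff_mem_closure.2 hvw)
    refine ⟨EtStruct.isOpen_singleton_of_forall_specializes u (fun y hy => ?_) (hcl u rfl), hcl u rfl⟩
    exact (S10342.result X hN a ha u y (Set.mem_singleton_iff.1 (hy.mem_open hF rfl : y ∈ F)).symm hy).symm
  obtain ⟨U, a, u, ha, rfl⟩ := exists_chart X x
  obtain ⟨h, w, hl⟩ := chart_lft p hp ha
  obtain ⟨hJ, hUN⟩ := jacobsonSpace_field h
  have up : IsOpen ({u} : Set ↥U.left) → IsOpen {Points.ofPt a u} := fun h' => by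
    rw [← Set.image_singleton]; exact AlgSpB.isOpenMap_ofPt ha _ h'
  have h2 : IsOpen ({Points.ofPt a u} : Set (Points X.obj)) ↔
      HasAt (fun U u => FlatMor.localDim ↥U u = 0) X.obj (Points.ofPt a u) := by
    rw [hasAt_iff_chart (localDim_invariant 0) ha, S9798.result U.left u]
    exact ⟨fun h' => (key U a ha u h').1, up⟩
  have h3 : IsOpen ({Points.ofPt a u} : Set (Points X.obj)) ↔ HasAtMor DimZeroAt p (Points.ofPt a u) := by
    have := hasAtMor_iff_chart (morEtaleInv_fibreDimAt 0)
      (ObjectProperty.homMk p : X ⟶ (⟨_, IsAlgSpace.yon_obj _⟩ : Space S)) ha (_root_.AlgSp.repWith_id _ _) w u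
    rw [h2, hasAt_iff_chart (localDim_invariant 0) ha]
    refine Iff.trans ?_ this.symm
    show FlatMor.localDim ↥U.left u = 0 ↔ FlatMor.fibreDimAt (h.left : U.left ⟶ Spec (CommRingCat.of K)) u = 0
    rw [fibreDimAt_field]
  refine ⟨⟨fun h' => ⟨?_, fun x' hx' => Set.mem_singleton_iff.1 (hx'.mem_open h' rfl)⟩, fun ⟨hc, hg⟩ => ?_⟩, h2, h3,
    fun hX => by rw [← S10346.result X hX a ha u, h2, hasAt_iff_chart (localDim_invariant 0) ha]⟩
  · obtain ⟨V, b, hb, hbs⟩ := X.property.atlas
    rw [← (AlgSpB.isOpenQuotientMap_ofPt hb hbs).isQuotientMap.isClosed_preimage]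
    obtain ⟨hV, -, hVl⟩ := chart_lft p hp hb
    obtain ⟨hVJ, hVN⟩ := jacobsonSpace_field hV
    let F := Points.ofPt b ⁻¹' {Points.ofPt a u}
    have hsing : ∀ w ∈ F, IsOpen ({w} : Set ↥V.left) ∧ IsClosed ({w} : Set ↥V.left) := fun w hw =>
      key V b hb w (by rw [show Points.ofPt b w = Points.ofPt a u from hw]; exact h')
    rw [← isOpen_compl_iff, isOpen_iff_forall_mem_open]
    intro v hv
    obtain ⟨W, hW, hvW, -⟩ := exists_isAffineOpen_mem_and_subset (x := v) (U := ⊤) trivial
    have : IsNoetherian W.toScheme := { toCompactSpace := isCompact_iff_compactSpace.mp hW.isCompact }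
    have hfin : (F ∩ W : Set ↥V.left).Finite := by
      have hc : IsCompact (W.ι ⁻¹' (F ∩ W)) := TopologicalSpace.NoetherianSpace.isCompact _
      obtain ⟨t, ht⟩ := hc.elim_finite_subcover (fun w : ↥W.toScheme => ({w} ∩ W.ι ⁻¹' (F ∩ W) : Set _))
        (fun w => by
          by_cases hw : W.ι w ∈ F ∩ W
          · rw [Set.inter_eq_left.2 (Set.singleton_subset_iff.2 (show w ∈ W.ι ⁻¹' (F ∩ W) from hw))]
            convert (hsing _ hw.1).1.preimage W.ι.continuous
            ext z
            exact W.ι.isOpenEmbedding.injective.eq_iff.symm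
          · rw [Set.inter_comm, Set.inter_singleton_eq_empty.2 (show w ∉ W.ι ⁻¹' (F ∩ W) from hw)]; exact isOpen_empty)
        (fun w hw => Set.mem_iUnion.2 ⟨w, rfl, hw⟩)
      refine (t.finite_toSet.image W.ι).subset fun z hz => ?_
      obtain ⟨w, hwt, hwz⟩ := Set.mem_iUnion₂.1 (ht (show (⟨z, hz.2⟩ : ↥W) ∈ W.ι ⁻¹' (F ∩ W) from hz))
      exact ⟨w, hwt, congrArg W.ι hwz.1.symm⟩
    refine ⟨(W : Set _) ∩ (F ∩ W)ᶜ, fun z hz hzF => hz.2 ⟨hzF, hz.1⟩, W.2.inter ?_, hvW, fun hh => hv hh.1⟩
    rw [isOpen_compl_iff, ← Set.biUnion_of_singleton (F ∩ (W : Set ↥V.left))]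
    exact hfin.isClosed_biUnion fun w hw => (hsing w hw.1).2
  · refine up (EtStruct.isOpen_singleton_of_forall_specializes u
      (fun y hy => (S10342.result X hN a ha u y (hg _ (hy.map (Points.continuous_ofPt a))).symm hy).symm) ?_)
    rw [← closure_subset_iff_isClosed]
    intro v hv
    have hvF : v ∈ Points.ofPt a ⁻¹' {Points.ofPt a u} :=
      (hc.preimage (Points.continuous_ofPt a)).closure_subset_iff.2 (Set.singleton_subset_iff.2 rfl) hv
    exact S10342.result X hN a ha v u hvF (specializes_iff_mem_closure.2 hv)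

/-- Finite decent spaces locally of finite type over a field are discrete. -/
theorem discrete_of_finite {K : Type u} [Field K] {str : Spec (CommRingCat.of K) ⟶ S}
    (p : X.obj ⟶ (yon S).obj (Over.mk str)) (hp : LocP @LocallyOfFiniteType p) (hX : IsDecent X.obj)
    [Finite (Points X.obj)] : DiscreteTopology (Points X.obj) := by
  obtain ⟨U, a, ha, hs⟩ := X.property.atlas
  obtain ⟨h, -, hl⟩ := chart_lft p hp ha
  have hJ : JacobsonSpace (Points X.obj) := (S10404.result X hX).1 ⟨U, a, ha, hs, (jacobsonSpace_field h).1⟩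
  have hc : closedPoints (Points X.obj) = Set.univ := by
    have h := ((Set.toFinite (closedPoints (Points X.obj))).isClosed_biUnion
      (f := fun x => ({x} : Set (Points X.obj))) fun x hx => hx).closure_eq
    rw [Set.biUnion_of_singleton, closure_closedPoints] at h
    exact h.symm
  exact DiscreteTopology.of_finite_of_isClosed_singleton fun x => (Set.ext_iff.1 hc x).2 trivial

theorem isOpen_singleton_iff {A B : Type*} [TopologicalSpace A] [TopologicalSpace B] (e : A ≃ₜ B) (a : A) :
    IsOpen ({e a} : Set B) ↔ IsOpen ({a} : Set A) := by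
  rw [← e.isOpen_image, Set.image_singleton]

theorem isClosed_singleton_iff {A B : Type*} [TopologicalSpace A] [TopologicalSpace B] (e : A ≃ₜ B) (a : A) :
    (IsClosed ({e a} : Set B) ∧ ∀ b : B, b ⤳ e a → b = e a) ↔ IsClosed ({a} : Set A) ∧ ∀ a' : A, a' ⤳ a → a' = a := by
  rw [← e.isClosed_image (s := {a}), Set.image_singleton]
  refine and_congr_right' ⟨fun h a' h' => e.injective (h _ (h'.map e.continuous)), fun h b hb => ?_⟩
  have := h (e.symm b) (by simpa using hb.map e.symm.continuous)
  rw [← this, e.apply_symm_apply]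

theorem zero_le_topDim {A : Type*} [TopologicalSpace A] [Nonempty A] : 0 ≤ topologicalKrullDim A := by
  obtain ⟨a⟩ := ‹Nonempty A›
  have : Nonempty (TopologicalSpace.IrreducibleCloseds A) :=
    ⟨⟨closure {a}, isIrreducible_singleton.closure, isClosed_closure⟩⟩
  exact Order.krullDim_nonneg

theorem krullDim_eq_zero {A : Type*} [TopologicalSpace A] [DiscreteTopology A] [Nonempty A] :
    topologicalKrullDim A = 0 := (topologicalKrullDim_zero_of_discreteTopology _).antisymm zero_le_topDim

theorem localDim_eq_zero {A : Type*} [TopologicalSpace A] (h : topologicalKrullDim A = 0) (a : A) :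
    FlatMor.localDim A a = 0 := by
  refine le_antisymm ?_ (le_iInf fun U => ?_)
  · exact (iInf_le _ ⟨⊤, trivial⟩).trans (h ▸ IsInducing.subtypeVal.topologicalKrullDim_le)
  · have : Nonempty (U.1 : Set A) := ⟨⟨a, U.2⟩⟩
    exact zero_le_topDim

theorem discrete_iff_dim (Z : Space S) [Nonempty (Points Z.obj)]
    (H : ∀ z : Points Z.obj, IsOpen ({z} : Set (Points Z.obj)) ↔ HasAt (fun U u => FlatMor.localDim ↥U u = 0) Z.obj z)
    : DiscreteTopology (Points Z.obj) ↔ dim Z.obj = 0 := by
  rw [discreteTopology_iff_isOpen_singleton]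
  constructor
  · intro h
    refine le_antisymm (iSup_le fun U => iSup_le fun a => iSup_le fun ha => ?_) ?_
    · rw [S5792.result]
      exact iSup_le fun u => ((hasAt_iff_chart (localDim_invariant 0) ha u).1 ((H _).1 (h _))).le
    · obtain ⟨U, a, u, ha, -⟩ := exists_chart Z (Classical.arbitrary _)
      have : Nonempty ↥U.left := ⟨u⟩
      exact le_iSup_of_le U (le_iSup_of_le a (le_iSup_of_le ha zero_le_topDim))
  · intro h z
    obtain ⟨U, a, u, ha, rfl⟩ := exists_chart Z z
    rw [H, hasAt_iff_chart (localDim_invariant 0) ha]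
    have : Nonempty ↥U.left := ⟨u⟩
    refine localDim_eq_zero (le_antisymm (h ▸ le_iSup_of_le U (le_iSup_of_le a (le_iSup_of_le ha le_rfl))) zero_le_topDim) u

variable {Y : Space S}

/-- The conditions on a fibre over a field-valued point, in terms of quasi-finiteness of the morphism. -/
theorem conds_fibre (f : X ⟶ Y) (hf : LocP @LocallyOfFiniteType f.hom) (r : FieldPt Y.obj) (Xk : Space S)
    (fst : Xk ⟶ X) (snd : Xk.obj ⟶ (yon S).obj r.pt) (hsq : IsPullback fst.hom snd f.hom r.toHom)
    (xt : Points Xk.obj) : Conds Xk (HasAtMor LqfNear f.hom (Points.map fst.hom xt)) xt := by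
  have hp : LocP @LocallyOfFiniteType snd :=
    AlgSpCov.locP_baseChange AlgSpCov.etaleLocal_locallyOfFiniteType X.property Y.property hsq hf
  let c := conds (K := r.K) (X := Xk) snd hp xt
  exact ⟨c.closed, c.dim, c.qf.trans ((AlgSpB.Art.hasAtMor_baseChange AlgSpB.Art.bcProp_lqf X.property Y.property
    (IsAlgSpace.yon_obj _) hf hsq xt).trans (hasAtMor_lqfNear_iff f.hom hf _).symm), c.decent⟩

/-- The fibre over a point of a decent space, as a subspace. -/
theorem exists_homeo (f : X ⟶ Y) (hY : IsDecent Y.obj) (y : Points Y.obj) :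
    ∃ (r : FieldPt Y.obj) (Xk : Space S) (fst : Xk ⟶ X) (snd : Xk.obj ⟶ (yon S).obj r.pt)
      (e : Points Xk.obj ≃ₜ ↥(Points.map f.hom ⁻¹' {y})), IsPullback fst.hom snd f.hom r.toHom ∧
      (∀ z, (e z : Points X.obj) = Points.map fst.hom z) ∧ (IsDecent X.obj → IsDecent Xk.obj) := by
  obtain ⟨r, rfl, hm, hq⟩ := hY y
  have sq := IsPullback.of_hasPullback f.hom r.toHom
  let Xk : Space S := ⟨pullback f.hom r.toHom,
    Groth.Agent.AlgSp.isAlgSpace_pullback Y.property X.property (IsAlgSpace.yon_obj _) _ _⟩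
  let fst : Xk ⟶ X := ObjectProperty.homMk (pullback.fst f.hom r.toHom)
  obtain ⟨he, hr⟩ := S10390.result f r hm hq Xk fst (pullback.snd _ _) sq
  refine ⟨r, Xk, fst, pullback.snd _ _, he.toHomeomorph.trans (Homeomorph.setCongr hr), sq, fun z => rfl, fun hX =>
    S10351.result fst ?_ hX⟩
  exact MorphismProperty.of_isPullback (P := Representable) sq.flip hq.1

end Groth.Agent.AlgSpD.PointFibre
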