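import Groth.Agent.AlgSpD.EtaleRes
import Groth.Agent.ProjDesc.Basic
import Groth.Agent.AlgSpQC.Hom
import Groth.Prelude.Def_AlgSpModX
import Groth.Prelude.Def_AlgSpD

/-!
# Projectivity of sections of quasi-coherent modules over affine objects of the small etale site
-/

universe u

open CategoryTheory CategoryTheory.Limits AlgebraicGeometry Opposite TensorProduct

set_option backward.isDefEq.respectTransparency false
set_option backward.isDefEq.respectTransparency.types false
set_option autoImplicit false

namespace Groth.Agent.AlgSpD.ProjLocal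

open _root_.AlgSp
open Groth.Agent.AlgSpQC
open Groth.Agent.AlgSpD.EtaleRes (Res post pullIso)

section Algebra

theorem projective_trans {R S : Type u} [CommRing R] [CommRing S] [Algebra R S] [Module.Projective R S]
    (P : Type u) [AddCommGroup P] [Module R P] [Module S P] [IsScalarTower R S P] [Module.Projective S P] :
    Module.Projective R P := by
  classical
  obtain ⟨s, hs⟩ := ‹Module.Projective S P›.out
  have : Module.Projective R (P →₀ S) := Module.Projective.of_equiv' (finsuppLequivDFinsupp R).symm
  exact Module.Projective.of_split (s.restrictScalars R)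
    ((Finsupp.linearCombination S (id : P → P)).restrictScalars R) (LinearMap.ext hs)

theorem projective_pi {κ : Type u} [Fintype κ] (S : κ → Type u) [∀ k, CommRing (S k)] (P : κ → Type u)
    [∀ k, AddCommGroup (P k)] [∀ k, Module (S k) (P k)] (h : ∀ k, Module.Projective (S k) (P k)) :
    letI : ∀ k, Module (∀ j, S j) (P k) := fun k => Module.compHom (P k) (Pi.evalRingHom S k)
    Module.Projective (∀ j, S j) (∀ k, P k) := by
  classical
  let A := ∀ j, S j
  let _ : ∀ k, Algebra A (S k) := fun k => (Pi.evalRingHom S k).toAlgebra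
  let _ : ∀ k, Module A (P k) := fun k => Module.compHom (P k) (Pi.evalRingHom S k)
  have hS : ∀ k, Module.Projective A (S k) := fun k =>
    Module.Projective.of_split (M := A)
      { toFun := fun x => Pi.single k x
        map_add' := fun x y => Pi.single_add k x y
        map_smul' := fun a x => funext fun j => by
          rcases eq_or_ne j k with rfl | hj
          · simp only [Algebra.smul_def, RingHom.algebraMap_toAlgebra, RingHom.id_apply, Pi.single_eq_same]
            exact (congrArg (a j * ·) (Pi.single_eq_same (M := S) j x)).symm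
          · rw [Pi.single_eq_of_ne hj]
            exact (mul_zero (a j)).symm.trans (congrArg (a j * ·) (Pi.single_eq_of_ne (M := S) hj x).symm) }
      { toFun := fun a => a k, map_add' := fun _ _ => rfl, map_smul' := fun _ _ => rfl }
      (LinearMap.ext fun x => Pi.single_eq_same k x)
  have hP : ∀ k, Module.Projective A (P k) := fun k =>
    have : IsScalarTower A (S k) (P k) := .of_algebraMap_smul fun _ _ => rfl
    have := hS k
    have := h k
    projective_trans (R := A) (S := S k) (P k)
  exact Module.Projective.of_equiv' DFinsupp.linearEquivFunOnFintype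

/-- Projectivity descends along finite jointly faithfully flat families. -/
theorem projective_of_family {R : Type u} [CommRing R] {κ : Type u} [Fintype κ] (S : κ → Type u)
    [∀ k, CommRing (S k)] [∀ k, Algebra R (S k)] [∀ k, Module.Flat R (S k)]
    (hS : ∀ q : PrimeSpectrum R, ∃ k r, PrimeSpectrum.comap (algebraMap R (S k)) r = q)
    (M : Type u) [AddCommGroup M] [Module R M] (h : ∀ k, Module.Projective (S k) (S k ⊗[R] M)) :
    Module.Projective R M := by
  classical
  let A := ∀ k, S k
  have : Module.Flat R A := Module.Flat.of_linearEquiv DFinsupp.linearEquivFunOnFintype.symm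
  have : Module.FaithfullyFlat R A := Module.FaithfullyFlat.of_comap_surjective fun p => by
    obtain ⟨k, q, hq⟩ := hS p
    exact ⟨PrimeSpectrum.comap (Pi.evalRingHom S k) q, by rw [← hq]; rfl⟩
  let _ : ∀ k, Module A (S k ⊗[R] M) := fun k => Module.compHom _ (Pi.evalRingHom S k)
  have : Module.Projective A (∀ k, S k ⊗[R] M) := projective_pi S (fun k => S k ⊗[R] M) h
  let e₀ := TensorProduct.piLeft (R := R) (N := M) (M := S)
  have he : ∀ (b : A) (m : M) k, e₀ (b ⊗ₜ[R] m) k = b k ⊗ₜ[R] m := fun _ _ _ => rfl
  have : Module.Projective A (A ⊗[R] M) := Module.Projective.of_equiv' (LinearEquiv.symm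
    { e₀ with
      map_smul' := fun a x => by
        induction x using TensorProduct.induction_on with
        | zero => simp
        | add x y hx hy => simp only [smul_add, LinearEquiv.toFun_eq_coe, map_add] at *; rw [hx, hy]
        | tmul b m =>
          funext k
          change e₀ (a • (b ⊗ₜ[R] m)) k = a k • e₀ (b ⊗ₜ[R] m) k
          rw [TensorProduct.smul_tmul', he, he, TensorProduct.smul_tmul']
          rfl })
  exact Groth.Agent.ProjDesc.projective_of_baseChange R A M

end Algebra

variable {S : Scheme.{u}} {X : Sp S} {F : ModEt X}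

theorem small_of_bc {E V : EtOver X} (g : V ⟶ E) (h : BC F g) [Small.{u} (sectModEt F E)] :
    Small.{u} (sectModEt F V) :=
  small_of_surjective (f := lc (sr g (id : sectModEt F E → sectModEt F E))) h.1

theorem projective_of_bc {E V : EtOver X} (g : V ⟶ E) (h : BC F g)
    [Module.Projective (gr E) (sectModEt F E)] : Module.Projective (gr V) (sectModEt F V) := by
  let _ := (gm g).toAlgebra
  exact Module.Projective.of_equiv' (LinearEquiv.ofBijective (bc (rs F g) (rs_smul g))
    ((isBC_iff (A := gr E) (rs F g) (rs_smul g)).1 h))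

theorem small_of_cover {E : EtOver X} {κ : Type u} {V : κ → EtOver X} (f : ∀ k, V k ⟶ E)
    (hf : ∀ x : E.obj.left.left, ∃ k, x ∈ Set.range (f k).hom.left.left)
    [∀ k, Small.{u} (sectModEt F (V k))] : Small.{u} (sectModEt F E) :=
  small_of_injective (f := fun m k => rs F (f k) m) fun _ _ e => eq_of_family f hf fun k => congrFun e k

/-- Projectivity of sections descends along finite jointly surjective families of affine objects. -/
theorem projective_of_cover [F.IsQuasicoherent] {E : EtOver X} [IsAffine E.obj.left.left] {κ : Type u} [Finite κ]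
    {V : κ → EtOver X} (f : ∀ k, V k ⟶ E) (hV : ∀ k, IsAffine (V k).obj.left.left)
    (hf : ∀ x : E.obj.left.left, ∃ k, x ∈ Set.range (f k).hom.left.left)
    (hs : ∀ k, Small.{u} (sectModEt F (V k)))
    (hp : ∀ k, Module.Projective (gr (V k)) (sectModEt F (V k))) :
    Module.Projective (gr E) (sectModEt F E) := by
  classical
  have := Fintype.ofFinite κ
  have := small_of_cover f hf (F := F)
  let M := Shrink.{u} (sectModEt F E)
  let _ : ∀ k, Algebra (gr E) (gr (V k)) := fun k => (gm (f k)).toAlgebra
  have : ∀ k, Module.Flat (gr E) (gr (V k)) := fun k => have := hV k; flat_gm (f k)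
  have hproj : ∀ k, Module.Projective (gr (V k)) (gr (V k) ⊗[gr E] M) := fun k => by
    have := hV k
    have := hp k
    exact Module.Projective.of_equiv' ((TensorProduct.AlgebraTensorModule.congr (LinearEquiv.refl _ _)
      (Shrink.linearEquiv (gr E) (sectModEt F E))).trans
      (LinearEquiv.ofBijective (bc (rs F (f k)) (rs_smul (f k)))
        ((isBC_iff (A := gr E) (rs F (f k)) (rs_smul (f k))).1 (bc_of_isQuasicoherent (f k))))).symm
  have : Module.Projective (gr E) M := projective_of_family (fun k => gr (V k)) (exists_prime_comap f hV hf) M hproj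
  exact Module.Projective.of_shrink

section Chart

variable {U : Over S} {p : (yon S).obj U ⟶ X} (hp : RepWith @Etale p)

include hp in
theorem isEtaleMor_chart : IsEtaleMor p := fun _ _ hφ => (RepWith _).comp_mem _ _ hφ hp

/-- An open of a chart as an object of the site. -/
noncomputable abbrev openE (W : U.left.Opens) : EtOver X :=
  (post (isEtaleMor_chart hp)).obj ((EtOver.ofScheme U).obj (etaleOfOpen U.left W))

variable (hrep : Representable p) [(SheafOfModules.pushforward.{u + 1} (bcRingHom hrep)).IsRightAdjoint]
  {G : U.left.Modules} (c : ZarCompanion U.left G ((resSchModEt U).obj ((pullModEt hrep).obj F))) (W : U.left.Opens)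

/-- Isomorphic modules have isomorphic sections. -/
noncomputable def hsEquiv {Y : Sp S} {M N : ModEt Y} (i : M ≅ N) (E : EtOver Y) :
    sectModEt M E ≃ₗ[gr E] sectModEt N E :=
  LinearEquiv.ofLinearMap (hs i.hom E) (hs i.inv E)
    (LinearMap.ext fun m => (hs_comp i.inv i.hom E m).symm.trans (by rw [i.inv_hom_id]; rfl))
    (LinearMap.ext fun m => (hs_comp i.hom i.inv E m).symm.trans (by rw [i.hom_inv_id]; rfl))

/-- Sections of a restriction are sections. -/
theorem projective_res_iff {Y : Sp S} {j : Y ⟶ X} (he : IsEtaleMor j) (M : ModEt X) (E : EtOver Y) :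
    Module.Projective (gr E) (sectModEt ((Res he).obj M) E) ↔
      Module.Projective (gr ((post he).obj E)) (sectModEt M ((post he).obj E)) :=
  Iff.rfl

/-- An open of a scheme as an object of its site. -/
noncomputable abbrev schOpen {T : Over S} (W : T.left.Opens) : EtOver ((yon S).obj T) :=
  (EtOver.ofScheme T).obj (etaleOfOpen T.left W)

/-- Sections of a module with a companion. -/
noncomputable def secEquiv {T : Over S} {P : ModEt ((yon S).obj T)} {G : T.left.Modules}
    (c : ZarCompanion T.left G ((resSchModEt T).obj P)) (W : T.left.Opens) :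
    sectModEt P (schOpen W) ≃+ (G.val.obj (op W) : Type u) :=
  (c.iso W).trans AddEquiv.ulift

theorem secEquiv_smul {T : Over S} {P : ModEt ((yon S).obj T)} {G : T.left.Modules}
    (c : ZarCompanion T.left G ((resSchModEt T).obj P)) (W : T.left.Opens) (a : gr (schOpen W))
    (m : sectModEt P (schOpen W)) : secEquiv c W (a • m) = W.topIso.hom a • secEquiv c W m := by
  have h := c.map_smul W (W.topIso.hom a) m
  rw [Iso.hom_inv_id_apply] at h
  exact congrArg ULift.down h

theorem projective_secEquiv_iff {T : Over S} {P : ModEt ((yon S).obj T)} {G : T.left.Modules}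
    (c : ZarCompanion T.left G ((resSchModEt T).obj P)) (W : T.left.Opens) :
    Module.Projective (gr (schOpen W)) (sectModEt P (schOpen W)) ↔
      Module.Projective (T.left.ringCatSheaf.obj.obj (op W)) (G.val.obj (op W)) := by
  let σ : gr (schOpen W) ≃+* T.left.ringCatSheaf.obj.obj (op W) := W.topIso.commRingCatIsoToRingEquiv
  have := RingHomInvPair.of_ringEquiv σ
  have := RingHomInvPair.of_ringEquiv σ.symm
  let e : sectModEt P (schOpen W) ≃ₛₗ[(σ : gr (schOpen W) →+* T.left.ringCatSheaf.obj.obj (op W))]
      (G.val.obj (op W) : Type u) :=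
    { secEquiv c W with map_smul' := secEquiv_smul c W }
  exact ⟨fun _ => Module.Projective.of_equiv e, fun _ => Module.Projective.of_equiv e.symm⟩

/-- Restriction to an open against the inverse image there. -/
noncomputable def chartEquiv :
    sectModEt ((Res (isEtaleMor_chart hp)).obj F) (schOpen W) ≃ₗ[gr (schOpen W)]
      sectModEt ((pullModEt hrep).obj F) (schOpen W) :=
  hsEquiv ((pullIso hrep (isEtaleMor_chart hp)).app F).symm (schOpen W)

include c hrep in
theorem small_openE : Small.{u} (sectModEt F (openE hp W)) :=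
  have : Small.{u} (sectModEt ((Res (isEtaleMor_chart hp)).obj F) (schOpen W)) :=
    ⟨⟨(G.val.obj (op W) : Type u), ⟨(chartEquiv hp hrep W).toEquiv.trans (secEquiv c W).toEquiv⟩⟩⟩
  this

include c hrep in
theorem projective_openE_iff :
    Module.Projective (gr (openE hp W)) (sectModEt F (openE hp W)) ↔
      Module.Projective (U.left.ringCatSheaf.obj.obj (op W)) (G.val.obj (op W)) :=
  ((projective_res_iff (isEtaleMor_chart hp) F (schOpen W)).symm.trans
    ⟨fun _ => Module.Projective.of_equiv' (chartEquiv hp hrep W),
      fun _ => Module.Projective.of_equiv' (chartEquiv hp hrep W).symm⟩).trans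
    (projective_secEquiv_iff c W)

/-- A jointly surjective family of affine objects over a given object, each lying over an affine open of the chart. -/
theorem exists_cover_openE (hs : RepWith @Surjective p) (E : EtOver X) [IsAffine E.obj.left.left] :
    ∃ (κ : Type u) (_ : Finite κ) (V : κ → EtOver X) (f : ∀ k, V k ⟶ E) (W : κ → U.left.Opens)
      (_ : ∀ k, V k ⟶ openE hp (W k)), (∀ k, IsAffine (V k).obj.left.left) ∧ (∀ k, IsAffineOpen (W k)) ∧
        ∀ x : E.obj.left.left, ∃ k, x ∈ Set.range (f k).hom.left.left := by
  obtain ⟨R, r₁, r₂, sq⟩ := Groth.Agent.AlgSpB.exists_pullback_yon E.property.1 p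
  have hr₁ : Etale r₁.left := hp.2 _ _ _ sq.flip
  have hr₂ : Etale r₂.left := E.property.2 _ _ _ sq
  have hr₁s : Surjective r₁.left := hs.2 _ _ _ sq.flip
  choose W hW hxW _ using fun x : ↥R.left =>
    exists_isAffineOpen_mem_and_subset (x := r₂.left x) (U := ⊤) trivial
  choose O hO hxO hOW using fun x : ↥R.left =>
    exists_isAffineOpen_mem_and_subset (x := x) (U := r₂.left ⁻¹ᵁ W x) (hxW x)
  obtain ⟨t, ht⟩ := (isCompact_univ (X := ↥E.obj.left.left)).elim_finite_subcover
    (fun x => r₁.left '' (O x : Set ↥R.left)) (fun x => r₁.left.isOpenMap _ (O x).2) (fun e _ => by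
      obtain ⟨x, rfl⟩ := hr₁s.surj e
      exact Set.mem_iUnion.2 ⟨x, x, hxO x, rfl⟩)
  let he := isEtaleMor_chart hp
  let o : ∀ x : ↥R.left, Over.mk ((O x).ι ≫ R.hom) ⟶ R := fun x => Over.homMk (O x).ι rfl
  let V : ∀ x : ↥R.left, EtOver ((yon S).obj U) := fun x => EtOver.mk ((yon S).map (o x ≫ r₂))
    ((repWith_yon_map_iff _ _).2 (inferInstanceAs (Etale ((O x).ι ≫ r₂.left))))
  let f : ∀ x : ↥R.left, (post he).obj (V x) ⟶ E := fun x => EtOver.homMk (o x ≫ r₁) (by
    change (yon S).map (o x ≫ r₁) ≫ E.obj.hom = (yon S).map (o x ≫ r₂) ≫ p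
    rw [Functor.map_comp, Functor.map_comp, Category.assoc, Category.assoc, sq.w])
  have hrange : ∀ x, Set.range ((O x).ι ≫ r₂.left) ⊆ Set.range (W x).ι := fun x => by
    rintro _ ⟨y, rfl⟩
    rw [Scheme.Opens.range_ι]
    exact hOW x y.2
  let g : ∀ x : ↥R.left, V x ⟶ (EtOver.ofScheme U).obj (etaleOfOpen U.left (W x)) := fun x =>
    EtOver.homMk (Over.homMk (IsOpenImmersion.lift (W x).ι _ (hrange x)) (by
      change IsOpenImmersion.lift _ _ (hrange x) ≫ (W x).ι ≫ U.hom = (O x).ι ≫ R.hom
      rw [IsOpenImmersion.lift_fac_assoc, Category.assoc, Over.w r₂])) (by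
      change (yon S).map _ ≫ (yon S).map _ ≫ 𝟙 _ = (yon S).map _
      rw [Category.comp_id, ← Functor.map_comp]
      congr 1
      exact Over.OverMorphism.ext (IsOpenImmersion.lift_fac (W x).ι _ (hrange x)))
  refine ⟨{x // x ∈ t}, inferInstance, fun k => (post he).obj (V k), fun k => f k, fun k => W k.1,
    fun k => (post he).map (g k), fun k => hO k.1, fun k => hW k.1, fun e => ?_⟩
  obtain ⟨x, hx, y, hy, rfl⟩ := Set.mem_iUnion₂.1 (ht (Set.mem_univ e))
  exact ⟨⟨x, hx⟩, ⟨y, hy⟩, rfl⟩

theorem projective_of_openE [F.IsQuasicoherent] (hs : RepWith @Surjective p)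
    (hsm : ∀ W : U.left.Opens, IsAffineOpen W → Small.{u} (sectModEt F (openE hp W)))
    (hpr : ∀ W : U.left.Opens, IsAffineOpen W → Module.Projective (gr (openE hp W)) (sectModEt F (openE hp W)))
    (E : EtOver X) [IsAffine E.obj.left.left] :
    Small.{u} (sectModEt F E) ∧ Module.Projective (gr E) (sectModEt F E) := by
  obtain ⟨κ, _, V, f, W, g, hV, hW, hf⟩ := exists_cover_openE hp hs E
  have hb : ∀ k, BC F (g k) := fun k => by
    have := hV k
    have : IsAffine (openE hp (W k)).obj.left.left := hW k
    exact bc_of_isQuasicoherent (g k)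
  have hs' : ∀ k, Small.{u} (sectModEt F (V k)) := fun k => have := hsm _ (hW k); small_of_bc _ (hb k)
  exact ⟨small_of_cover f hf, projective_of_cover f hV hf hs' fun k => have := hpr _ (hW k); projective_of_bc _ (hb k)⟩

end Chart

end Groth.Agent.AlgSpD.ProjLocal
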