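import Groth.Agent.AlgSpD.ZarCompanionMk
import Groth.Agent.AlgSpQC.PullUniv

/-!
# Local projectivity of inverse images
-/

universe u

open CategoryTheory CategoryTheory.Limits AlgebraicGeometry Opposite TensorProduct TopologicalSpace

set_option backward.isDefEq.respectTransparency false
set_option backward.isDefEq.respectTransparency.types false
set_option autoImplicit false

namespace Groth.Agent.AlgSpD.ProjPull

open _root_.AlgSp
open Groth.Agent.AlgSpQC
open Groth.Agent.AlgSpD.ProjLocal
open Groth.Agent.AlgSpD.EtaleRes (Res post pullIso resAdj)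

variable {S : Scheme.{u}}

section Sch

variable {X : Sp S} (G : ModEt X) {T : Over S} {q : (yon S).obj T ⟶ X} (hq : RepWith @Etale q)
  (hrep : Representable q) [(SheafOfModules.pushforward.{u + 1} (bcRingHom hrep)).IsRightAdjoint]

include hq in
theorem isQuasicoherent_chart [G.IsQuasicoherent] : ((pullModEt hrep).obj G).IsQuasicoherent :=
  (SheafOfModules.isQuasicoherent (OEtRing ((yon S).obj T))).prop_of_iso
    ((pullIso hrep (isEtaleMor_chart hq)).app G).symm (Groth.Agent.AlgSpD.EtaleRes.isQuasicoherent_res _ G)

theorem small_schOpen_affine (W : T.left.Opens) (hsm : Small.{u} (sectModEt G (openE hq W))) :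
    Small.{u} (sectModEt ((pullModEt hrep).obj G) (schOpen W)) :=
  have : Small.{u} (sectModEt ((Res (isEtaleMor_chart hq)).obj G) (schOpen W)) := hsm
  small_of_injective (f := (chartEquiv (F := G) hq hrep W).symm) (LinearEquiv.injective _)

theorem small_schOpen (P : ModEt ((yon S).obj T))
    (h : ∀ W : T.left.Opens, IsAffineOpen W → Small.{u} (sectModEt P (schOpen W))) (W : T.left.Opens) :
    Small.{u} (sectModEt P (schOpen W)) := by
  choose O hO hxO hOW using fun x : ↥(W : Scheme.{u}) =>
    exists_isAffineOpen_mem_and_subset (x := x.1) (U := W) x.2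
  have : ∀ x, Small.{u} (sectModEt P (schOpen (O x))) := fun x => h _ (hO x)
  exact small_of_cover (fun x => ZarCompanionMk.schLE (hOW x)) fun x =>
    ⟨x, ⟨x.1, hxO x⟩, T.left.homOfLE_apply' (hOW x) x.1 (hxO x)⟩

/-- The hypothesis of local projectivity gives projective sections on affine objects. -/
theorem projective_openE_top [IsAffine T.left] [G.IsQuasicoherent]
    (hsmall : ∀ E : EtOver X, IsAffine E.obj.left.left → Small.{u} (sectModEt G E))
    (hproj : ∀ (H : T.left.Modules) [Coh.IsQCoh H]
      (_ : ZarCompanion T.left H ((resSchModEt T).obj ((pullModEt hrep).obj G))),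
        Module.Projective (T.left.ringCatSheaf.obj.obj (op (⊤ : T.left.Opens))) (H.val.obj (op (⊤ : T.left.Opens)))) :
    Module.Projective (gr (openE hq ⊤)) (sectModEt G (openE hq ⊤)) := by
  have : ∀ W, Small.{u} (sectModEt ((pullModEt hrep).obj G) (schOpen W)) :=
    small_schOpen _ fun W hW => small_schOpen_affine G hq hrep W (hsmall _ hW)
  have := isQuasicoherent_chart G hq hrep
  have := ZarCompanionMk.isQuasicoherent_zarMod ((pullModEt hrep).obj G)
  exact (projective_openE_iff hq hrep (ZarCompanionMk.companion _) ⊤).2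
    (hproj (ZarCompanionMk.zarMod _) (ZarCompanionMk.companion _))

/-- An affine chart maps to its whole open. -/
noncomputable def toOpenETop (E : EtOver X) : E ⟶ openE E.property (⊤ : E.obj.left.left.Opens) :=
  EtOver.homMk (Over.homMk E.obj.left.left.topIso.inv (by
    change E.obj.left.left.topIso.inv ≫ (⊤ : E.obj.left.left.Opens).ι ≫ E.obj.left.hom = _
    rw [← Scheme.topIso_hom, Iso.inv_hom_id_assoc])) (by
    change (yon S).map _ ≫ ((yon S).map _ ≫ 𝟙 _) ≫ E.obj.hom = E.obj.hom
    rw [Category.comp_id, ← Category.assoc, ← Functor.map_comp]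
    refine ((congrArg ((yon S).map · ≫ E.obj.hom) ?_).trans (congrArg (· ≫ E.obj.hom) ((yon S).map_id _))).trans
      (Category.id_comp _)
    exact Over.OverMorphism.ext E.obj.left.left.topIso.inv_hom_id)

end Sch

variable {X Y : Space S} {f : X.obj ⟶ Y.obj} {hf : Representable f} {G : ModEt Y.obj} [G.IsQuasicoherent]

omit [G.IsQuasicoherent] in
theorem small_PT {Z : EtOver X.obj} {E : EtOver Y.obj} (h : Z ⟶ bcO hf E) [Small.{u} (sectModEt G E)] :
    Small.{u} (PT G h) :=
  small_of_injective (f := TensorProduct.congr (LinearEquiv.refl (gr E) (RZ h))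
    (Shrink.linearEquiv.{u} (gr E) (sectModEt G E)).symm) (LinearEquiv.injective _)

omit [G.IsQuasicoherent] in
theorem projective_PT {Z : EtOver X.obj} {E : EtOver Y.obj} (h : Z ⟶ bcO hf E)
    [Module.Projective (gr E) (sectModEt G E)] : Module.Projective (gr Z) (PT G h) :=
  (inferInstance : Module.Projective (RZ h) (RZ h ⊗[gr E] sectModEt G E))

/-- Inverse images of modules with projective sections on affine objects have projective sections there. -/
theorem projective_pullQC (hG : ∀ E : EtOver Y.obj, IsAffine E.obj.left.left →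
    Small.{u} (sectModEt G E) ∧ Module.Projective (gr E) (sectModEt G E))
    (W : EtOver X.obj) [IsAffine W.obj.left.left] :
    Module.Projective (gr W) (sectModEt (pullQC hf G) W) := by
  choose Z l E h hZ hE hz using Groth.Agent.AlgSpQC.exists_chart hf W
  obtain ⟨t, ht⟩ := (isCompact_univ (X := ↥W.obj.left.left)).elim_finite_subcover
    (fun z => Set.range (l z).hom.left.left) (fun z => by
      have := EtOver.etale_left (l z)
      exact (l z).hom.left.left.isOpenMap.isOpen_range)
    (fun z _ => Set.mem_iUnion.2 ⟨z, hz z⟩)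
  have hcov : ∀ x : W.obj.left.left, ∃ k : {z // z ∈ t}, x ∈ Set.range (l k.1).hom.left.left := fun x => by
    obtain ⟨k, hk, hxk⟩ := Set.mem_iUnion₂.1 (ht (Set.mem_univ x))
    exact ⟨⟨k, hk⟩, hxk⟩
  have := isQuasicoherent_pullQC hf G
  refine projective_of_cover (V := fun k : {z // z ∈ t} => Z k.1) (fun k => l k.1) (fun k => hZ k.1) hcov
    (fun k => ?_) fun k => ?_
  · have := hZ k.1
    have := hE k.1
    have := (hG _ (hE k.1)).1
    have := small_PT (G := G) (h k.1)
    exact small_of_injective (bijective_pullEv (G := G) (h k.1)).1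
  · have := hZ k.1
    have := hE k.1
    have := (hG _ (hE k.1)).2
    have := projective_PT (G := G) (h k.1)
    exact Module.Projective.of_equiv' (LinearEquiv.ofBijective
      ({ __ := pullEv G (h k.1), map_smul' := pullEv_smul (h k.1) } : sectModEt (pullQC hf G) (Z k.1) →ₗ[gr (Z k.1)] PT G (h k.1))
      (bijective_pullEv (h k.1))).symm

end Groth.Agent.AlgSpD.ProjPull
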