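import Groth.Agent.Goldman.Topology
import Mathlib.Topology.Spectral.Basic
import Mathlib.Topology.NoetherianSpace
import Mathlib.Topology.JacobsonSpace
import Mathlib.Topology.Sober

/-!
# Jacobson property of images with finite fibres
-/

open Topology TopologicalSpace Set

namespace Groth.Agent.AlgSpD

variable {P W : Type*} [TopologicalSpace P] [TopologicalSpace W]

/-- A sober image of a Noetherian Jacobson space by a map with finite fibres lifting generizations is Jacobson. -/
theorem jacobsonSpace_of_surjective [NoetherianSpace W] [T0Space W] [QuasiSober W] [JacobsonSpace P]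
    (π : P → W) (hc : Continuous π) (hs : Function.Surjective π) (hf : ∀ w, (π ⁻¹' {w}).Finite)
    (hl : ∀ (q : P) (w : W), w ⤳ π q → ∃ p, p ⤳ q ∧ π p = w) : JacobsonSpace W := by
  rw [jacobsonSpace_iff_locallyClosed]
  intro Z hne hZ
  obtain ⟨w, hwZ, hw⟩ := Groth.Agent.Goldman.exists_isLocallyClosed_singleton (NoetherianSpace.isCompact Z) hne hZ
  refine ⟨w, hwZ, ?_⟩
  have hS : IsLocallyClosed (π ⁻¹' {w}) := hw.preimage hc
  have hcl : ∀ p, π p = w → IsClosed ({p} : Set P) := by
    intro p hp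
    by_contra hnp
    have hfin : (π ⁻¹' {w} ∩ closedPoints P).Finite := (hf w).subset inter_subset_left
    have hC : IsClosed (π ⁻¹' {w} ∩ closedPoints P) := by
      rw [← biUnion_of_singleton (π ⁻¹' {w} ∩ closedPoints P)]
      exact hfin.isClosed_biUnion fun q hq => hq.2
    obtain ⟨q, ⟨hq1, hq2⟩, hq3⟩ := (jacobsonSpace_iff_locallyClosed.1 ‹_›)
      (π ⁻¹' {w} ∩ (π ⁻¹' {w} ∩ closedPoints P)ᶜ) ⟨p, hp, fun h => hnp h.2⟩
      (hS.inter hC.isOpen_compl.isLocallyClosed)
    exact hq2 ⟨hq1, hq3⟩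
  refine mem_closedPoints_iff.2 (closure_subset_iff_isClosed.1 fun w' hw' => ?_)
  obtain ⟨q, rfl⟩ := hs w'
  obtain ⟨p, hpq, hp⟩ := hl q w (specializes_iff_mem_closure.2 hw')
  have : q = p := hpq.mem_closed (hcl p hp) rfl
  rw [this]; exact hp

end Groth.Agent.AlgSpD
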