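import Groth.Agent.AlgSpQC.Conv
import Groth.Agent.AlgSpQC.Abelian
import Mathlib.CategoryTheory.Limits.Constructions.LimitsOfProductsAndEqualizers

/-!
# Coproducts and colimits of quasi-coherent modules on the small etale site
-/

universe u v' u'

open CategoryTheory CategoryTheory.Limits AlgebraicGeometry Opposite

set_option backward.isDefEq.respectTransparency false
set_option autoImplicit false

namespace Groth.Agent.AlgSpD.QCColim

section Generic

variable {D : Type u'} [Category.{v'} D] [HasZeroMorphisms D] {α : Type u} {K I M : α → D}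
  [HasCoproduct K] [HasCoproduct I] [HasCoproduct M]

/-- A coproduct of cokernel coforks is a cokernel cofork. -/
noncomputable def isColimitSigmaCofork (f : ∀ a, K a ⟶ I a) (g : ∀ a, I a ⟶ M a) (w : ∀ a, f a ≫ g a = 0)
    (hc : ∀ a, IsColimit (CokernelCofork.ofπ (g a) (w a))) (hw : Limits.Sigma.map f ≫ Limits.Sigma.map g = 0) :
    IsColimit (CokernelCofork.ofπ (Limits.Sigma.map g) hw) :=
  CokernelCofork.IsColimit.ofπ _ _
    (fun {T} h w' => Limits.Sigma.desc fun a => (hc a).desc
      (CokernelCofork.ofπ (Limits.Sigma.ι I a ≫ h) (by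
        rw [← Category.assoc, ← Limits.Sigma.ι_map, Category.assoc, w', comp_zero])))
    (fun {T} h w' => Limits.Sigma.hom_ext _ _ fun a => by
      rw [Limits.Sigma.ι_map_assoc, Limits.Sigma.ι_desc]
      exact (hc a).fac _ WalkingParallelPair.one)
    (fun {T} h w' m hm => Limits.Sigma.hom_ext _ _ fun a => by
      rw [Limits.Sigma.ι_desc]
      refine Cofork.IsColimit.hom_ext (hc a) ?_
      rw [Cofork.IsColimit.π_desc]
      show g a ≫ Limits.Sigma.ι M a ≫ m = Limits.Sigma.ι I a ≫ h
      rw [← hm, Limits.Sigma.ι_map_assoc])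

/-- Precomposing a cokernel cofork with isomorphisms. -/
noncomputable def isColimitCoforkIso {A B A' B' T : D} {f : A ⟶ B} {g : B ⟶ T} {w : f ≫ g = 0}
    (hc : IsColimit (CokernelCofork.ofπ g w)) (eA : A ≅ A') (eB : B ≅ B')
    (w' : (eA.inv ≫ f ≫ eB.hom) ≫ eB.inv ≫ g = 0) :
    IsColimit (CokernelCofork.ofπ (f := eA.inv ≫ f ≫ eB.hom) (eB.inv ≫ g) w') :=
  CokernelCofork.IsColimit.ofπ _ _
    (fun {Z} h w'' => hc.desc (CokernelCofork.ofπ (eB.hom ≫ h) (by
      rw [← cancel_epi eA.inv, comp_zero]
      simpa only [Category.assoc] using w'')))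
    (fun {Z} h w'' => by
      rw [Category.assoc, Iso.inv_comp_eq]
      exact hc.fac _ WalkingParallelPair.one)
    (fun {Z} h w'' m hm => by
      refine Cofork.IsColimit.hom_ext hc ?_
      rw [Cofork.IsColimit.π_desc]
      show g ≫ m = eB.hom ≫ h
      rw [← hm, Category.assoc, Iso.hom_inv_id_assoc])

end Generic

section Sheaf

variable {C : Type u'} [Category.{v'} C] {J : GrothendieckTopology C} {R : Sheaf J RingCat.{u}}
  [HasSheafify J AddCommGrpCat.{u}] [J.WEqualsLocallyBijective AddCommGrpCat.{u}]

/-- A coproduct of presented modules is presented. -/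
noncomputable def presentationSigma {α : Type u} (M : α → SheafOfModules.{u} R) (P : ∀ a, (M a).Presentation) :
    (∐ M).Presentation :=
  let eK := sigmaSigmaIso (fun a => (P a).relations.I) fun _ _ => SheafOfModules.unit R
  let eI := sigmaSigmaIso (fun a => (P a).generators.I) fun _ _ => SheafOfModules.unit R
  let f := fun a => (SheafOfModules.freeHomEquiv _).symm (P a).relations.s ≫ kernel.ι (P a).generators.π
  let g := fun a => (P a).generators.π
  have hfg : Limits.Sigma.map f ≫ Limits.Sigma.map g = 0 := Limits.Sigma.hom_ext _ _ fun a => by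
    simp [f, g]
  SheafOfModules.presentationOfIsCokernelFree _ (eI.inv ≫ Limits.Sigma.map g) (by simp [hfg])
    (isColimitCoforkIso (isColimitSigmaCofork f g (fun a => by simp [f, g]) (fun a => (P a).isColimit) hfg) eK eI
      (by simp [hfg]))

end Sheaf

open _root_.AlgSp Groth.Agent.AlgSpQC

variable {S : Scheme.{u}} {X : Sp S}

/-- Coproducts of quasi-coherent modules are quasi-coherent. -/
theorem isQuasicoherent_sigma {α : Type (u + 1)} (M : α → ModEt X) (h : ∀ a, (M a).IsQuasicoherent) :
    (∐ M : ModEt X).IsQuasicoherent := by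
  have P : ∀ (i : {V : EtOver X // IsAffine V.obj.left.left}) (a : α), ((M a).over i.1).Presentation := fun i a =>
    have := i.2
    have := h a
    presentationOfPres (pres_id (M a) i.1)
      (Subtype.val : {c // c ∈ LinearMap.ker (lc (id : sectModEt (M a) i.1 → sectModEt (M a) i.1))} → _)
      (eq_span_range_subtype _)
  refine SheafOfModules.QuasicoherentData.isQuasicoherent (M := (∐ M : ModEt X))
    { I := {V : EtOver X // IsAffine V.obj.left.left}
      X := fun i => i.1
      coversTop := coversTop_affine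
      presentation := fun i => ?_ }
  let F := SheafOfModules.overFunctor (OEtRing X) i.1
  have : F.IsLeftAdjoint := inferInstanceAs (SheafOfModules.pushforward.{u + 1} (𝟙 ((OEtRing X).over i.1))).IsLeftAdjoint
  exact (presentationSigma (fun a => (M a).over i.1) (P i)).ofIsIso (sigmaComparison F M)

/-- Colimits of quasi-coherent modules are quasi-coherent. -/
theorem isQuasicoherent_colimit {J : Type u} [SmallCategory J] (D : J ⥤ ModEt X) [HasColimit D]
    (h : ∀ j, (D.obj j).IsQuasicoherent) : (colimit D).IsQuasicoherent := by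
  have : HasCoproducts.{u} (ModEt X) := fun _ => inferInstance
  let A := (∐ fun f : Σ p : J × J, p.1 ⟶ p.2 => D.obj f.1.1 : ModEt X)
  let B := (∐ fun j => D.obj j : ModEt X)
  have hA : A.IsQuasicoherent := isQC (fun f : Σ p : J × J, p.1 ⟶ p.2 => D.obj f.1.1) fun f => h _
  have hB : B.IsQuasicoherent := isQC (fun j => D.obj j) h
  let s : A ⟶ B := Limits.Sigma.desc fun f => D.map f.2 ≫ colimit.ι (Discrete.functor D.obj) ⟨f.1.2⟩
  let t : A ⟶ B := Limits.Sigma.desc fun f => colimit.ι (Discrete.functor D.obj) ⟨f.1.1⟩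
  have := isQuasicoherent_cokernel (s - t)
  let hc := Preadditive.isColimitCoforkOfCokernelCofork (f := s) (g := t) (cokernelIsCokernel (s - t))
  let e : cokernel (s - t) ≅ colimit D :=
    (HasColimitOfHasCoproductsOfHasCoequalizers.buildIsColimit (F := D) (c₁ := _) (c₂ := _) s t (by simp [s]) (by simp [t]) (colimit.isColimit _)
      (colimit.isColimit _) hc).coconePointUniqueUpToIso (colimit.isColimit D)
  exact (SheafOfModules.isQuasicoherent (OEtRing X)).prop_of_iso e this
where
  isQC {ι : Type u} (M : ι → ModEt X) (h : ∀ a, (M a).IsQuasicoherent) : (∐ M : ModEt X).IsQuasicoherent :=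
    (SheafOfModules.isQuasicoherent (OEtRing X)).prop_of_iso
      (Limits.Sigma.reindex Equiv.ulift.{u + 1} M) (isQuasicoherent_sigma (fun a : ULift.{u + 1} ι => M a.down) fun a => h a.down)

end Groth.Agent.AlgSpD.QCColim
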