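import Groth.Agent.AlgSp.GenFiniteSch
import Groth.Agent.AlgSpD.EtaleTop
import Groth.Agent.S2081
import Groth.Agent.RedSub.Basic

/-!
# Separated etale morphisms with finite fibres over Noetherian schemes are quasi-compact
-/

universe u

open CategoryTheory CategoryTheory.Limits AlgebraicGeometry Opposite Topology TopologicalSpace

set_option backward.isDefEq.respectTransparency false

namespace Groth.Agent.AlgSpD

open Groth.Agent

/-- Over a Noetherian integral base, a separated etale morphism with finite fibres has compact preimage of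
some nonempty open. -/
theorem exists_open_compact_preimage {P Z : Scheme.{u}} (g : P ⟶ Z) [Etale g] [IsSeparated g]
    [IrreducibleSpace ↥Z] [AlgebraicGeometry.IsNoetherian Z] (hfin : ∀ z, (g ⁻¹' {z}).Finite) :
    ∃ O : Z.Opens, (O : Set ↥Z).Nonempty ∧ IsCompact (g ⁻¹' (O : Set ↥Z)) := by
  have hcZ : (irreducibleComponents (Z : Type u)).Finite :=
    NoetherianSpace.finite_irreducibleComponents
  have hgen : ∀ z : ↥P, closure {z} ∈ irreducibleComponents (P : Type u) ↔
      closure {g z} ∈ irreducibleComponents (Z : Type u) := fun z => by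
    rw [← AlgSp.stalkDim_zero_iff, ← AlgSp.stalkDim_zero_iff, ringKrullDim_stalk_eq g z]
  have hfP : {z : ↥P | closure {z} ∈ irreducibleComponents (P : Type u)}.Finite :=
    ((AlgSp.finite_generic_of_irreducibleComponents hcZ).biUnion fun v _ => hfin v).subset
      fun z hz => Set.mem_iUnion₂.2 ⟨g z, (hgen z).1 hz, rfl⟩
  choose W hW hzW using fun z : ↥P => (⟨_,
    (exists_isAffineOpen_mem_and_subset (x := z) (U := (⊤ : P.Opens)) trivial).choose_spec.1,
    (exists_isAffineOpen_mem_and_subset (x := z) (U := (⊤ : P.Opens)) trivial).choose_spec.2.1⟩ :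
      ∃ W : P.Opens, IsAffineOpen W ∧ z ∈ W)
  let R0 : P.Opens := ⟨⋃ z ∈ {z : ↥P | closure {z} ∈ irreducibleComponents (P : Type u)},
    (W z : Set ↥P), isOpen_biUnion fun z _ => (W z).2⟩
  have hR0c : IsCompact (R0 : Set ↥P) := hfP.isCompact_biUnion fun z _ => (hW z).isCompact
  have : CompactSpace ↥R0.toScheme := isCompact_iff_compactSpace.1 hR0c
  have : QuasiCompact (R0.ι ≫ g) := (quasiCompact_iff_compactSpace (R0.ι ≫ g)).2 inferInstance
  obtain ⟨O, hO, hOfin⟩ := Groth.Agent.S2081.result (R0.ι ≫ g)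
    (AlgSp.finite_irreducibleComponents_of_generic
      ((hfP.preimage R0.ι.isOpenEmbedding.injective.injOn).subset fun z hz =>
        (AlgSp.generic_open_iff R0.ι z).1 hz)) hcZ
    (fun z => by rw [AlgSp.generic_open_iff R0.ι z, hgen]; rfl)
  obtain ⟨z₀, hz₀⟩ := hO.nonempty
  obtain ⟨A, hA, hzA, hAO⟩ := exists_isAffineOpen_mem_and_subset hz₀
  refine ⟨A, ⟨z₀, hzA⟩, ?_⟩
  have h0 := AlgSp.isFinite_of_restrict_le (R0.ι ≫ g) A ((R0.ι ≫ g) ∣_ A)
    ((R0.ι ≫ g) ⁻¹ᵁ A).ι O hAO hOfin (isPullback_morphismRestrict (R0.ι ≫ g) A).flip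
  rw [morphismRestrict_comp] at h0
  have hf : IsFinite (g ∣_ A) := AlgSp.isFinite_of_generic_open (R0.ι ∣_ (g ⁻¹ᵁ A)) (g ∣_ A) h0 fun z hz => by
    have h1 : (g ⁻¹ᵁ A).ι z ∈ R0 :=
      Set.mem_iUnion₂.2 ⟨_, (AlgSp.generic_open_iff (g ⁻¹ᵁ A).ι z).1 hz, hzW _⟩
    obtain ⟨w, hw, -⟩ := Scheme.exists_preimage_of_isPullback (isPullback_morphismRestrict R0.ι (g ⁻¹ᵁ A))
      z (⟨_, h1⟩ : ↥R0.toScheme) rfl
    exact ⟨w, hw⟩
  have : CompactSpace ↥A.toScheme := isCompact_iff_compactSpace.1 hA.isCompact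
  have : CompactSpace ↥(g ⁻¹ᵁ A).toScheme := QuasiCompact.compactSpace_of_compactSpace (g ∣_ A)
  exact isCompact_iff_compactSpace.2 this

/-- A separated etale morphism with finite fibres to a Noetherian scheme has compact source. -/
theorem compactSpace_of_finite_fibres {P U : Scheme.{u}} (f : P ⟶ U) [Etale f] [IsSeparated f]
    [AlgebraicGeometry.IsNoetherian U] (hfin : ∀ u, (f ⁻¹' {u}).Finite) : CompactSpace ↥P := by
  suffices H : ∀ T : Closeds ↥U, IsCompact (f ⁻¹' (T : Set ↥U)) from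
    ⟨by simpa using H ⊤⟩
  intro T
  induction T using WellFoundedLT.induction with
  | ind T ih =>
    by_cases hT : (T : Set ↥U) = ∅
    · rw [hT]; simp
    by_cases hirr : IsPreirreducible (T : Set ↥U)
    swap
    · rw [isPreirreducible_iff_isClosed_union_isClosed] at hirr
      push Not at hirr
      obtain ⟨z₁, z₂, hz₁, hz₂, hsub, h1, h2⟩ := hirr
      have e : f ⁻¹' (T : Set ↥U) = f ⁻¹' ((T ⊓ ⟨z₁, hz₁⟩ : Closeds ↥U) : Set ↥U) ∪
          f ⁻¹' ((T ⊓ ⟨z₂, hz₂⟩ : Closeds ↥U) : Set ↥U) := by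
        rw [← Set.preimage_union, Closeds.coe_inf, Closeds.coe_inf, ← Set.inter_union_distrib_left]
        congr 1
        exact (Set.inter_eq_left.2 hsub).symm
      rw [e]
      refine (ih _ (lt_of_le_of_ne inf_le_left fun h => h1 ?_)).union
        (ih _ (lt_of_le_of_ne inf_le_left fun h => h2 ?_))
      · exact fun t ht => ((congrArg (fun C : Closeds ↥U => t ∈ (C : Set ↥U)) h).mpr ht).2
      · exact fun t ht => ((congrArg (fun C : Closeds ↥U => t ∈ (C : Set ↥U)) h).mpr ht).2
    let I := Scheme.IdealSheafData.vanishingIdeal T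
    let ι := I.subschemeι
    have hr : Set.range ι = (T : Set ↥U) := by
      simp [ι, I, Scheme.IdealSheafData.range_subschemeι]
    have : IrreducibleSpace ↥I.subscheme := by
      have : IrreducibleSpace ↥(T : Set ↥U) :=
        Subtype.irreducibleSpace ⟨Set.nonempty_iff_ne_empty.2 hT, hirr⟩
      exact (ι.isEmbedding.toHomeomorph.trans (Homeomorph.setCongr hr)).symm.surjective.irreducibleSpace
        (Homeomorph.continuous _)
    have : AlgebraicGeometry.IsNoetherian I.subscheme :=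
      { toIsLocallyNoetherian := LocallyOfFiniteType.isLocallyNoetherian ι
        toCompactSpace := QuasiCompact.compactSpace_of_compactSpace ι }
    let g := pullback.snd f ι
    let π := pullback.fst f ι
    have hπ : Set.range π = f ⁻¹' (T : Set ↥U) := by rw [Scheme.Pullback.range_fst, hr]
    obtain ⟨O, hOne, hOc⟩ := exists_open_compact_preimage g fun z => by
      refine ((hfin (ι z)).preimage π.isEmbedding.injective.injOn).subset fun w hw => ?_
      show f (π w) = ι z
      rw [← Scheme.Hom.comp_apply, pullback.condition, Scheme.Hom.comp_apply,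
        show pullback.snd f ι w = z from hw]
    have hcl : IsClosed (ι '' (O : Set ↥I.subscheme)ᶜ) := ι.isClosedMap _ O.2.isClosed_compl
    have hle : (⟨_, hcl⟩ : Closeds ↥U) ≤ T := by
      rintro _ ⟨a, -, rfl⟩
      exact hr.le ⟨a, rfl⟩
    have hne : (⟨_, hcl⟩ : Closeds ↥U) ≠ T := fun h => by
      obtain ⟨z, hz⟩ := hOne
      have : ι z ∈ ι '' (O : Set ↥I.subscheme)ᶜ :=
        (congrArg (fun C : Closeds ↥U => ι z ∈ (C : Set ↥U)) h).mpr (hr.le ⟨z, rfl⟩)
      obtain ⟨a, ha, e⟩ := this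
      exact ha (ι.isEmbedding.injective e ▸ hz)
    have e : f ⁻¹' (T : Set ↥U) = π '' (g ⁻¹' (O : Set ↥I.subscheme)) ∪
        f ⁻¹' (((⟨_, hcl⟩ : Closeds ↥U)) : Set ↥U) := by
      ext x
      constructor
      · intro hx
        obtain ⟨w, rfl⟩ := hπ.ge hx
        by_cases hw : g w ∈ O
        · exact Or.inl ⟨w, hw, rfl⟩
        · refine Or.inr ⟨g w, hw, ?_⟩
          rw [← Scheme.Hom.comp_apply, ← pullback.condition, Scheme.Hom.comp_apply]
      · rintro (⟨w, -, rfl⟩ | hx)
        · exact hπ.le ⟨w, rfl⟩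
        · exact hle hx
    rw [e]
    exact (hOc.image π.continuous).union (ih _ (lt_of_le_of_ne hle hne))

end Groth.Agent.AlgSpD
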