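import Groth.Agent.AlgSpD.DecentLifts
import Groth.Agent.AlgSp.NormCoprod

/-!
# Spaces quasi-separated over an affine scheme are decent
-/

universe u

open CategoryTheory CategoryTheory.Limits AlgebraicGeometry Opposite

set_option backward.isDefEq.respectTransparency false
set_option autoImplicit false

namespace Groth.Agent.AlgSpD

open Groth.Agent

variable {S : Scheme.{u}}

/-- The relation of an affine chart of a space quasi-separated over an affine scheme is quasi-compact. -/
theorem compactSpace_rel_of_qs (X : AlgSp.Space S) {T : Over S} [IsAffine T.left]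
    (π : X.obj ⟶ (AlgSp.yon S).obj T) (hπ : AlgSp.IsQuasiSeparatedMor π) {U : Over S} [IsAffine U.left]
    (a : (AlgSp.yon S).obj U ⟶ X.obj) {R : Over S} (s t : R ⟶ U)
    (h : IsPullback ((AlgSp.yon S).map s) ((AlgSp.yon S).map t) a a) : CompactSpace ↥R.left := by
  let g : U ⟶ T := (AlgSp.yon S).preimage (a ≫ π)
  have hg : (AlgSp.yon S).map g = a ≫ π := Functor.map_preimage _ _
  let p₁ := pullback.fst g g
  let p₂ := pullback.snd g g
  let k : (AlgSp.yon S).obj (pullback g g) ⟶ pullback π π :=
    pullback.lift ((AlgSp.yon S).map p₁ ≫ a) ((AlgSp.yon S).map p₂ ≫ a) (by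
      rw [Category.assoc, Category.assoc]
      refine (congrArg ((AlgSp.yon S).map p₁ ≫ ·) hg.symm).trans
        (Eq.trans ?_ (congrArg ((AlgSp.yon S).map p₂ ≫ ·) hg))
      show (AlgSp.yon S).map p₁ ≫ (AlgSp.yon S).map g = (AlgSp.yon S).map p₂ ≫ (AlgSp.yon S).map g
      rw [← Functor.map_comp, ← Functor.map_comp, pullback.condition])
  obtain ⟨R', snd, fst, sq⟩ := hπ.1 k
  have : QuasiCompact snd.left := hπ.2 _ _ _ sq
  have : IsAffine (pullback g g).left := by
    have e : IsPullback p₁.left p₂.left g.left g.left := (IsPullback.of_hasPullback g g).map (Over.forget S)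
    exact IsAffine.of_isIso e.isoPullback.hom
  have : CompactSpace ↥R'.left := QuasiCompact.compactSpace_of_compactSpace snd.left
  have w1 : fst = (AlgSp.yon S).map (snd ≫ p₁) ≫ a := by
    have := congrArg (· ≫ pullback.fst π π) sq.w
    simp only [Category.assoc, pullback.diagonal_fst, Category.comp_id, k, pullback.lift_fst] at this
    rw [Functor.map_comp, Category.assoc]; exact this
  have w2 : fst = (AlgSp.yon S).map (snd ≫ p₂) ≫ a := by
    have := congrArg (· ≫ pullback.snd π π) sq.w
    simp only [Category.assoc, pullback.diagonal_snd, Category.comp_id, k, pullback.lift_snd] at this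
    rw [Functor.map_comp, Category.assoc]; exact this
  obtain ⟨e, he⟩ := (AlgSp.yon S).map_surjective
    (h.lift ((AlgSp.yon S).map (snd ≫ p₁)) ((AlgSp.yon S).map (snd ≫ p₂)) (w1.symm.trans w2))
  have he1 : e ≫ s = snd ≫ p₁ := (AlgSp.yon S).map_injective (by rw [Functor.map_comp, he, h.lift_fst])
  have he2 : e ≫ t = snd ≫ p₂ := (AlgSp.yon S).map_injective (by rw [Functor.map_comp, he, h.lift_snd])
  have hst : s ≫ g = t ≫ g := (AlgSp.yon S).map_injective (by
    rw [Functor.map_comp, Functor.map_comp, hg, ← Category.assoc, h.w, Category.assoc])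
  let m : R ⟶ pullback g g := pullback.lift s t hst
  obtain ⟨j, hj⟩ := (AlgSp.yon S).map_surjective (sq.lift ((AlgSp.yon S).map s ≫ a) ((AlgSp.yon S).map m) (by
    apply pullback.hom_ext
    · simp only [Category.assoc, pullback.diagonal_fst, Category.comp_id, k, pullback.lift_fst,
        ← Functor.map_comp_assoc, m, p₁, pullback.lift_fst]
    · simp only [Category.assoc, pullback.diagonal_snd, Category.comp_id, k, pullback.lift_snd,
        ← Functor.map_comp_assoc, m, p₂, pullback.lift_snd]
      exact h.w))
  have hjs : j ≫ snd = m := (AlgSp.yon S).map_injective (by rw [Functor.map_comp, hj, sq.lift_snd])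
  have hje : j ≫ e = 𝟙 R := (AlgSp.yon S).map_injective (h.hom_ext
    (by rw [← Functor.map_comp, ← Functor.map_comp, Category.assoc, he1, ← Category.assoc, hjs,
      pullback.lift_fst, Category.id_comp])
    (by rw [← Functor.map_comp, ← Functor.map_comp, Category.assoc, he2, ← Category.assoc, hjs,
      pullback.lift_snd, Category.id_comp]))
  have hsurj : Function.Surjective e.left := fun r => ⟨j.left r, by
    rw [← Scheme.Hom.comp_apply, ← Over.comp_left, hje]; rfl⟩
  exact ⟨hsurj.range_eq ▸ isCompact_range e.left.continuous⟩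

/-- A space quasi-separated over an affine scheme is decent. -/
theorem isDecent_of_isQuasiSeparatedMor (X : AlgSp.Space S) {T : Over S} [IsAffine T.left]
    (π : X.obj ⟶ (AlgSp.yon S).obj T) (hπ : AlgSp.IsQuasiSeparatedMor π) : AlgSp.IsDecent X.obj := by
  refine isDecent_of_finite_lifts X fun U a hU ha q _ => ?_
  rcases isEmpty_or_nonempty {c : q.pt ⟶ U // (AlgSp.yon S).map c ≫ a = q.toHom} with he | ⟨⟨c₀, hc₀⟩⟩
  · infer_instance
  obtain ⟨R, s, t, h⟩ := AlgSpB.exists_pullback_yon (X.property.representable_from_yon a) a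
  have := compactSpace_rel_of_qs X π hπ a s t h
  have hs : Etale s.left := ha.2 _ _ _ h.flip
  have : QuasiCompact s.left := quasiCompact_of_compactSpace _
  let P := pullback s c₀
  let sn : P ⟶ q.pt := pullback.snd s c₀
  have eP : IsPullback (pullback.fst s c₀).left sn.left s.left c₀.left :=
    (IsPullback.of_hasPullback s c₀).map (Over.forget S)
  have : Etale sn.left := MorphismProperty.of_isPullback eP hs
  have : QuasiCompact sn.left := MorphismProperty.of_isPullback eP ‹QuasiCompact s.left›
  have := subsingleton_pt q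
  have := locallyQuasiFinite_of_etale sn.left
  have : Finite ↥P.left := by
    rw [← Set.finite_univ_iff]
    exact (sn.left.finite_preimage_singleton (IsLocalRing.closedPoint q.K)).subset fun z _ => Subsingleton.elim _ _
  have hl : ∀ c : {c : q.pt ⟶ U // (AlgSp.yon S).map c ≫ a = q.toHom},
      ∃ e : q.pt ⟶ P, e ≫ sn = 𝟙 _ ∧ (e ≫ pullback.fst s c₀) ≫ t = c.1 := fun c => by
    obtain ⟨r, hr⟩ := (AlgSp.yon S).map_surjective (h.lift ((AlgSp.yon S).map c₀) ((AlgSp.yon S).map c.1)
      (hc₀.trans c.2.symm))
    have h1 : r ≫ s = c₀ := (AlgSp.yon S).map_injective (by rw [Functor.map_comp, hr, h.lift_fst])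
    have h2 : r ≫ t = c.1 := (AlgSp.yon S).map_injective (by rw [Functor.map_comp, hr, h.lift_snd])
    exact ⟨pullback.lift r (𝟙 _) (by rw [h1, Category.id_comp]), pullback.lift_snd _ _ _,
      by rw [pullback.lift_fst, h2]⟩
  choose e he1 he2 using hl
  refine Finite.of_injective (fun c => (e c).left (IsLocalRing.closedPoint q.K)) fun c d hcd => ?_
  have : e c = e d := Over.OverMorphism.ext
    (EtaleSite.section_ext sn.left (e c).left (e d).left (congrArg CommaMorphism.left (he1 c))
      (congrArg CommaMorphism.left (he1 d)) (IsLocalRing.closedPoint q.K) hcd)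
  exact Subtype.ext (by rw [← he2 c, ← he2 d, this])

end Groth.Agent.AlgSpD
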