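import Groth.Agent.AlgSpD.MonoPoint

/-!
# Relations over a point of an algebraic space
-/

universe u

open CategoryTheory CategoryTheory.Limits AlgebraicGeometry Opposite

set_option backward.isDefEq.respectTransparency false

namespace Groth.Agent.AlgSpD

open Groth.Agent

variable {S : Scheme.{u}}

/-- Over a monomorphic field point the relation between two points of a chart is finite. -/
theorem finite_pairs_of_mono (X : AlgSp.Space S) (p : AlgSp.FieldPt X.obj) (hm : Mono p.toHom)
    {U R : Over S} (a : (AlgSp.yon S).obj U ⟶ X.obj) (ha : AlgSp.RepWith @Etale a) (s t : R ⟶ U)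
    (hR : IsPullback ((AlgSp.yon S).map t) ((AlgSp.yon S).map s) a a) {u u' : ↥U.left}
    (hu : AlgSp.Points.ofPt a u = AlgSp.Points.mk p) (hu' : AlgSp.Points.ofPt a u' = AlgSp.Points.mk p) :
    {r : ↥R.left | s.left r = u ∧ t.left r = u'}.Finite := by
  let q := AlgSp.FieldPt.ofPt a u'
  let j : q.pt ⟶ U := Over.homMk (U.left.fromSpecResidueField u') rfl
  have : IsPreimmersion j.left := inferInstanceAs (IsPreimmersion (U.left.fromSpecResidueField u'))
  obtain ⟨c, hc⟩ := exists_factor_of_mono X p q hm hu'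
  obtain ⟨P, fst, snd, sq⟩ := AlgSpB.exists_pullback_yon (X.property.representable_from_yon p.toHom) a
  have hj : (AlgSp.yon S).map j ≫ a = q.toHom := (AlgSp.FieldPt.toHom_ofPt a u').symm
  obtain ⟨l, hl⟩ := (AlgSp.yon S).map_surjective (sq.lift ((AlgSp.yon S).map c) ((AlgSp.yon S).map j) (hc.trans hj.symm))
  have hl1 : l ≫ fst = c := (AlgSp.yon S).map_injective (by rw [Functor.map_comp, hl, sq.lift_fst])
  have hl2 : l ≫ snd = j := (AlgSp.yon S).map_injective (by rw [Functor.map_comp, hl, sq.lift_snd])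
  have : Etale fst.left := ha.2 _ _ _ sq.flip
  have : LocallyQuasiFinite fst.left := locallyQuasiFinite_of_etale _
  have hll : LocallyQuasiFinite (l.left ≫ snd.left) := by
    rw [← Over.comp_left, hl2]; infer_instance
  have : LocallyQuasiFinite l.left := LocallyQuasiFinite.of_comp l.left snd.left
  have : LocallyQuasiFinite c.left := by rw [← hl1, Over.comp_left]; infer_instance
  have : Finite ↥q.pt.left := inferInstanceAs (Finite (PrimeSpectrum q.K))
  have : QuasiCompact c.left := quasiCompact_of_finite _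
  -- the relation with `u'` on one side
  let A := pullback t j
  let sA : A ⟶ U := pullback.fst t j ≫ s
  have sqA := ((IsPullback.of_hasPullback t j).map (AlgSp.yon S)).flip.paste_vert hR
  rw [← Functor.map_comp, hj, ← hc] at sqA
  obtain ⟨k, hk⟩ := (AlgSp.yon S).map_surjective
    (sq.lift ((AlgSp.yon S).map (pullback.snd t j) ≫ (AlgSp.yon S).map c) ((AlgSp.yon S).map sA)
      ((Category.assoc _ _ _).trans sqA.w))
  have hk2 : k ≫ snd = sA := (AlgSp.yon S).map_injective (by rw [Functor.map_comp, hk, sq.lift_snd])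
  have sqk : IsPullback (pullback.snd t j) k c fst := by
    refine IsPullback.of_map (AlgSp.yon S) ?_ ?_
    · exact (AlgSp.yon S).map_injective (by rw [Functor.map_comp, Functor.map_comp, hk, sq.lift_fst])
    · refine IsPullback.of_bot ?_ ?_ sq
      · rw [← Functor.map_comp, hk2]; exact sqA
      · rw [hk, sq.lift_fst]
  have sqk' := sqk.map (Over.forget S)
  have : LocallyQuasiFinite k.left := MorphismProperty.of_isPullback sqk' ‹LocallyQuasiFinite c.left›
  have : QuasiCompact k.left := MorphismProperty.of_isPullback sqk' ‹QuasiCompact c.left›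
  have := hm
  have : Mono ((AlgSp.yon S).map snd) := MorphismProperty.of_isPullback
    (P := MorphismProperty.monomorphisms _) sq ‹Mono p.toHom›
  have : Mono snd := Functor.mono_of_mono_map (AlgSp.yon S) this
  have hfinite : (snd.left ⁻¹' {u}).Finite := Set.Subsingleton.finite fun x hx y hy =>
    snd.left.injective (hx.trans hy.symm)
  refine (((k.left.finite_preimage hfinite)).image (pullback.fst t j).left).subset ?_
  rintro r ⟨h1, h2⟩
  have sqA' := (IsPullback.of_hasPullback t j).map (Over.forget S)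
  obtain ⟨z, hz, -⟩ := Scheme.exists_preimage_of_isPullback sqA' r (IsLocalRing.closedPoint q.K)
    (h2.trans (Scheme.fromSpecResidueField_apply _ _).symm)
  refine ⟨z, ?_, hz⟩
  change snd.left (k.left z) = u
  rw [← h1, ← hz]
  exact congrArg (fun m : A ⟶ U => m.left z) hk2

/-- A quasi-compact field point bounds the pullback of every equivalent field point to a compact chart. -/
theorem finite_pullback_of_qc_point (X : AlgSp.Space S) (q q' : AlgSp.FieldPt X.obj)
    (hq : AlgSp.RepWith @QuasiCompact q.toHom) (h : AlgSp.Points.mk q' = AlgSp.Points.mk q)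
    {U P : Over S} [CompactSpace ↥U.left] (a : (AlgSp.yon S).obj U ⟶ X.obj) (ha : AlgSp.RepWith @Etale a)
    (fst : P ⟶ q'.pt) (snd : P ⟶ U)
    (sq : IsPullback ((AlgSp.yon S).map fst) ((AlgSp.yon S).map snd) q'.toHom a) : Finite ↥P.left := by
  obtain ⟨Ω, hΩ, w, α, β, he⟩ := AlgSp.Points.mk_eq_mk_iff.1 h
  let qΩ : AlgSp.FieldPt X.obj := { K := Ω, str := w, val := X.obj.obj.map α.op q'.val }
  have h1 : qΩ.toHom = (AlgSp.yon S).map (α : qΩ.pt ⟶ q'.pt) ≫ q'.toHom := by
    apply (AlgSp.J S).uliftYonedaEquiv.injective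
    rw [AlgSp.FieldPt.uliftYonedaEquiv_toHom, Groth.Agent.AlgSp.yEquiv_map, AlgSp.FieldPt.uliftYonedaEquiv_toHom]
  have h2 : qΩ.toHom = (AlgSp.yon S).map (β : qΩ.pt ⟶ q.pt) ≫ q.toHom := by
    apply (AlgSp.J S).uliftYonedaEquiv.injective
    rw [AlgSp.FieldPt.uliftYonedaEquiv_toHom, Groth.Agent.AlgSp.yEquiv_map, AlgSp.FieldPt.uliftYonedaEquiv_toHom]
    exact he
  have hqΩ : AlgSp.RepWith @QuasiCompact qΩ.toHom := by
    rw [h2]
    have : Finite ↥qΩ.pt.left := inferInstanceAs (Finite (PrimeSpectrum Ω))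
    exact (AlgSp.RepWith _).comp_mem _ _ ((AlgSp.repWith_yon_map_iff _ _).2 (quasiCompact_of_finite _)) hq
  let PΩ := pullback (α : qΩ.pt ⟶ q'.pt) fst
  have sqΩ := ((IsPullback.of_hasPullback (α : qΩ.pt ⟶ q'.pt) fst).map (AlgSp.yon S)).paste_vert sq
  rw [← Functor.map_comp, ← h1] at sqΩ
  have sqΩ' := (IsPullback.of_hasPullback (α : qΩ.pt ⟶ q'.pt) fst).map (Over.forget S)
  have : QuasiCompact (pullback.snd (α : qΩ.pt ⟶ q'.pt) fst ≫ snd).left := hqΩ.2 _ _ _ sqΩ
  have : CompactSpace ↥PΩ.left :=
    QuasiCompact.compactSpace_of_compactSpace (pullback.snd (α : qΩ.pt ⟶ q'.pt) fst ≫ snd).left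
  have hα : Surjective (α : qΩ.pt ⟶ q'.pt).left := ⟨fun k => ⟨IsLocalRing.closedPoint Ω,
    @Subsingleton.elim _ (inferInstanceAs (Subsingleton (PrimeSpectrum q'.K))) _ _⟩⟩
  have : Surjective (pullback.snd (α : qΩ.pt ⟶ q'.pt) fst).left := MorphismProperty.of_isPullback sqΩ' hα
  have : CompactSpace ↥P.left := ⟨(pullback.snd (α : qΩ.pt ⟶ q'.pt) fst).left.surjective.range_eq ▸
    isCompact_range (pullback.snd (α : qΩ.pt ⟶ q'.pt) fst).left.continuous⟩
  have : IsAffine q'.pt.left := inferInstanceAs (IsAffine (Spec (CommRingCat.of q'.K)))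
  have : QuasiCompact fst.left := HasAffineProperty.iff_of_isAffine.2 (by infer_instance)
  have : Etale fst.left := ha.2 _ _ _ sq.flip
  have := locallyQuasiFinite_of_etale fst.left
  rw [← Set.finite_univ_iff]
  refine (fst.left.finite_preimage_singleton (IsLocalRing.closedPoint q'.K)).subset fun z _ => ?_
  exact @Subsingleton.elim _ (inferInstanceAs (Subsingleton (PrimeSpectrum q'.K))) _ _

/-- Over a quasi-compact field point the relation on a compact chart is finite. -/
theorem finite_pairs_of_qc_point (X : AlgSp.Space S) (q : AlgSp.FieldPt X.obj)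
    (hq : AlgSp.RepWith @QuasiCompact q.toHom)
    {U R : Over S} [CompactSpace ↥U.left] (a : (AlgSp.yon S).obj U ⟶ X.obj) (ha : AlgSp.RepWith @Etale a)
    (s t : R ⟶ U) (hR : IsPullback ((AlgSp.yon S).map t) ((AlgSp.yon S).map s) a a) {u' : ↥U.left}
    (hu' : AlgSp.Points.ofPt a u' = AlgSp.Points.mk q) :
    {r : ↥R.left | t.left r = u'}.Finite := by
  let q' := AlgSp.FieldPt.ofPt a u'
  let j : q'.pt ⟶ U := Over.homMk (U.left.fromSpecResidueField u') rfl
  have hj : (AlgSp.yon S).map j ≫ a = q'.toHom := (AlgSp.FieldPt.toHom_ofPt a u').symm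
  have sqA := ((IsPullback.of_hasPullback t j).map (AlgSp.yon S)).flip.paste_vert hR
  rw [← Functor.map_comp, hj] at sqA
  have := finite_pullback_of_qc_point X q q' hq hu' a ha _ _ sqA
  refine (Set.finite_range (pullback.fst t j).left).subset fun r hr => ?_
  have sqA' := (IsPullback.of_hasPullback t j).map (Over.forget S)
  obtain ⟨z, hz, -⟩ := Scheme.exists_preimage_of_isPullback sqA' r (IsLocalRing.closedPoint q'.K)
    (hr.trans (Scheme.fromSpecResidueField_apply _ _).symm)
  exact ⟨z, hz⟩

end Groth.Agent.AlgSpD
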