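import Groth.Agent.AlgSp.ClosedEt
import Groth.Agent.AlgSp.ElemDist
import Groth.Agent.EtaleSite.TopInv
import Groth.Agent.EtaleSite.PushIntegral
import Groth.Agent.AlgSpB.Open
import Groth.Agent.AlgSp.EDPushGlue
import Groth.Agent.PinchLib.StdRinged
import Groth.Agent.PinchLib.FlatBaseChange

/-!
# Pushouts of schemes in algebraic spaces
-/

universe u

open CategoryTheory CategoryTheory.Limits AlgebraicGeometry Opposite

set_option autoImplicit false
set_option backward.isDefEq.respectTransparency false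
set_option backward.isDefEq.respectTransparency.types false

namespace Groth.Agent.AlgSpD.SchemePush

open _root_.AlgSp

/-- An open part of an etale scheme over a scheme meeting the preimage of a closed subscheme in a section. -/
theorem exists_section_open {Z X W : Scheme.{u}} (i : Z ⟶ X) [IsClosedImmersion i] (ρ : W ⟶ X) [Etale ρ]
    [Surjective ρ] (σ : Z ⟶ W) (hσ : σ ≫ ρ = i) :
    ∃ O : W.Opens, Surjective (O.ι ≫ ρ) ∧
      ∀ (T : Scheme.{u}) (t : T ⟶ O) (z : T ⟶ Z), t ≫ O.ι ≫ ρ = z ≫ i → t ≫ O.ι = z ≫ σ := by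
  let p₁ : pullback i ρ ⟶ Z := pullback.fst i ρ
  let p₂ : pullback i ρ ⟶ W := pullback.snd i ρ
  let s : Z ⟶ pullback i ρ := pullback.lift (𝟙 Z) σ (by rw [Category.id_comp, hσ])
  have hs1 : s ≫ p₁ = 𝟙 Z := pullback.lift_fst _ _ _
  have hs2 : s ≫ p₂ = σ := pullback.lift_snd _ _ _
  have hop : IsOpenImmersion s := EtaleSite.isOpenImmersion_of_section p₁ s hs1
  let O : W.Opens := ⟨(p₂ '' (Set.range s)ᶜ)ᶜ,
    (p₂.isClosedEmbedding.isClosedMap _ s.isOpenEmbedding.isOpen_range.isClosed_compl).isOpen_compl⟩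
  refine ⟨O, ⟨fun x => ?_⟩, fun T t z h => ?_⟩
  · by_cases hx : x ∈ Set.range i
    · obtain ⟨z, rfl⟩ := hx
      refine ⟨⟨σ z, ?_⟩, (Scheme.Hom.comp_apply σ ρ z).symm.trans congr($hσ z)⟩
      rintro ⟨r, hr, e⟩
      exact hr ⟨z, (p₂.isClosedEmbedding.injective (e.trans (congr($hs2 z)).symm)).symm⟩
    · obtain ⟨w, rfl⟩ := ρ.surjective x
      refine ⟨⟨w, ?_⟩, rfl⟩
      rintro ⟨r, -, rfl⟩
      exact hx ⟨p₁ r, congr($(pullback.condition (f := i) (g := ρ)) r)⟩
  · let l : T ⟶ pullback i ρ := pullback.lift z (t ≫ O.ι) (by rw [Category.assoc, h])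
    have hl : Set.range l ⊆ Set.range s := by
      rintro _ ⟨x, rfl⟩
      by_contra hx
      exact (t x).2 ⟨l x, hx, congr($(pullback.lift_snd z (t ≫ O.ι) _) x)⟩
    let m : T ⟶ Z := IsOpenImmersion.lift s l hl
    have hm : m ≫ s = l := IsOpenImmersion.lift_fac _ _ _
    have hmz : m = z := by
      have := hm =≫ p₁
      rwa [Category.assoc, hs1, Category.comp_id, show l ≫ p₁ = z from pullback.lift_fst _ _ _] at this
    rw [← hmz, ← hs2, reassoc_of% hm]
    exact (pullback.lift_snd _ _ _).symm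

variable {S : Scheme.{u}} {Z X Y P U : Over S}

/-- Maps from a pushout of schemes to an algebraic space are determined by their restrictions. -/
theorem hom_ext_of_isPushout {F : Sp S} (hd : Representable (Limits.diag F)) {i : Z ⟶ X} {j : Z ⟶ Y}
    {a : X ⟶ P} {b : Y ⟶ P} (hpo : IsPushout i j a b) (γ γ' : (yon S).obj P ⟶ F)
    (ha : (yon S).map a ≫ γ = (yon S).map a ≫ γ') (hb : (yon S).map b ≫ γ = (yon S).map b ≫ γ') : γ = γ' := by
  obtain ⟨E, e, fst, sq⟩ := hd (prod.lift γ γ')
  have hmono : Mono e := (yon S).mono_of_mono_map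
    (MorphismProperty.of_isPullback (P := MorphismProperty.monomorphisms (Sp S)) sq
      (inferInstance : Mono (Limits.diag F)))
  obtain ⟨lX, hlX⟩ := (yon S).map_surjective (sq.lift ((yon S).map a ≫ γ) ((yon S).map a) (by
    apply prod.hom_ext <;> simp [ha]))
  obtain ⟨lY, hlY⟩ := (yon S).map_surjective (sq.lift ((yon S).map b ≫ γ) ((yon S).map b) (by
    apply prod.hom_ext <;> simp [hb]))
  have hX : lX ≫ e = a := (yon S).map_injective (by rw [Functor.map_comp, hlX, sq.lift_snd])
  have hY : lY ≫ e = b := (yon S).map_injective (by rw [Functor.map_comp, hlY, sq.lift_snd])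
  let s : P ⟶ E := hpo.desc lX lY (by rw [← cancel_mono e, Category.assoc, Category.assoc, hX, hY, hpo.w])
  have hs : s ≫ e = 𝟙 P := hpo.hom_ext (by rw [hpo.inl_desc_assoc, hX, Category.comp_id])
    (by rw [hpo.inr_desc_assoc, hY, Category.comp_id])
  have h1 := congrArg (fun k => (yon S).map s ≫ k ≫ prod.fst) sq.w
  have h2 := congrArg (fun k => (yon S).map s ≫ k ≫ prod.snd) sq.w
  simp only [Category.assoc, prod.lift_fst, prod.lift_snd, Category.comp_id] at h1 h2
  rw [← Category.assoc ((yon S).map s) ((yon S).map e), ← Functor.map_comp, hs, CategoryTheory.Functor.map_id,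
    Category.id_comp] at h1 h2
  exact h1.symm.trans h2

/-- The pushout property persists after etale base change. -/
def EtBC (i : Z ⟶ X) (j : Z ⟶ Y) (a : X ⟶ P) (b : Y ⟶ P) : Prop :=
  ∀ ⦃V XV YV ZV : Over S⦄ (q : V ⟶ P), Etale q.left →
    ∀ (eX : XV ⟶ X) (aV : XV ⟶ V) (eY : YV ⟶ Y) (bV : YV ⟶ V) (eZ : ZV ⟶ Z) (iV : ZV ⟶ XV) (jV : ZV ⟶ YV),
      IsPullback eX aV a q → IsPullback eY bV b q → IsPullback eZ (iV ≫ aV) (i ≫ a) q →
      iV ≫ eX = eZ ≫ i → jV ≫ eY = eZ ≫ j → iV ≫ aV = jV ≫ bV → IsPushout iV jV aV bV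

/-- Two descriptions of local data for descending along a pushout. -/
theorem exists_desc {F : Sp S} (hd : Representable (Limits.diag F)) {u₀ : (yon S).obj U ⟶ F}
    {i : Z ⟶ X} {j : Z ⟶ Y} {a : X ⟶ P} {b : Y ⟶ P} (w : i ≫ a = j ≫ b)
    (hbc : EtBC i j a b) (α : (yon S).obj X ⟶ F) (β : (yon S).obj Y ⟶ F)
    (hloc : ∀ p : P.left, ∃ (V : Over S) (q : V ⟶ P) (mX : pullback a q ⟶ U) (mY : pullback b q ⟶ U),
      Etale q.left ∧ p ∈ Set.range q.left ∧
      (yon S).map mX ≫ u₀ = (yon S).map (pullback.fst a q) ≫ α ∧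
      (yon S).map mY ≫ u₀ = (yon S).map (pullback.fst b q) ≫ β ∧
      ∀ (T : Over S) (x : T ⟶ pullback a q) (y : T ⟶ pullback b q) (z : T ⟶ Z),
        x ≫ pullback.fst a q = z ≫ i → y ≫ pullback.fst b q = z ≫ j →
        x ≫ pullback.snd a q = y ≫ pullback.snd b q → x ≫ mX = y ≫ mY) :
    ∃ γ : (yon S).obj P ⟶ F, (yon S).map a ≫ γ = α ∧ (yon S).map b ≫ γ = β := by
  -- a local extension near each point
  have key : ∀ p : P.left, ∃ (V : Over S) (q : V ⟶ P) (g : (yon S).obj V ⟶ F),
      Etale q.left ∧ p ∈ Set.range q.left ∧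
      (∀ (T : Over S) (l : T ⟶ V) (x : T ⟶ X), x ≫ a = l ≫ q → (yon S).map l ≫ g = (yon S).map x ≫ α) ∧
      (∀ (T : Over S) (l : T ⟶ V) (y : T ⟶ Y), y ≫ b = l ≫ q → (yon S).map l ≫ g = (yon S).map y ≫ β) := by
    intro p
    obtain ⟨V, q, mX, mY, hq, hp, hX, hY, hc⟩ := hloc p
    let eZ := pullback.fst (i ≫ a) q
    let qZ := pullback.snd (i ≫ a) q
    let iV : pullback (i ≫ a) q ⟶ pullback a q :=
      pullback.lift (eZ ≫ i) qZ (by rw [Category.assoc, pullback.condition])
    let jV : pullback (i ≫ a) q ⟶ pullback b q :=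
      pullback.lift (eZ ≫ j) qZ (by rw [Category.assoc, ← w, pullback.condition])
    have i1 : iV ≫ pullback.fst a q = eZ ≫ i := pullback.lift_fst _ _ _
    have i2 : iV ≫ pullback.snd a q = qZ := pullback.lift_snd _ _ _
    have j1 : jV ≫ pullback.fst b q = eZ ≫ j := pullback.lift_fst _ _ _
    have j2 : jV ≫ pullback.snd b q = qZ := pullback.lift_snd _ _ _
    have hV : IsPushout iV jV (pullback.snd a q) (pullback.snd b q) :=
      hbc q hq _ _ _ _ eZ iV jV (IsPullback.of_hasPullback a q) (IsPullback.of_hasPullback b q)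
        (by rw [i2]; exact IsPullback.of_hasPullback (i ≫ a) q) i1 j1 (i2.trans j2.symm)
    let m : V ⟶ U := hV.desc mX mY (hc _ iV jV eZ i1 j1 (i2.trans j2.symm))
    refine ⟨V, q, (yon S).map m ≫ u₀, hq, hp, fun T l x h => ?_, fun T l y h => ?_⟩
    · let x' := pullback.lift x l h
      rw [← show x' ≫ pullback.snd a q = l from pullback.lift_snd _ _ _, ← Functor.map_comp_assoc,
        Category.assoc, show pullback.snd a q ≫ m = mX from hV.inl_desc _ _ _, Functor.map_comp, Category.assoc, hX,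
        ← Functor.map_comp_assoc, show x' ≫ pullback.fst a q = x from pullback.lift_fst _ _ _]
    · let y' := pullback.lift y l h
      rw [← show y' ≫ pullback.snd b q = l from pullback.lift_snd _ _ _, ← Functor.map_comp_assoc,
        Category.assoc, show pullback.snd b q ≫ m = mY from hV.inr_desc _ _ _, Functor.map_comp, Category.assoc, hY,
        ← Functor.map_comp_assoc, show y' ≫ pullback.fst b q = y from pullback.lift_fst _ _ _]
  choose V q g hq hp hgX hgY using key
  have hqe : ∀ p, RepWith @Etale ((yon S).map (q p)) := fun p => (repWith_yon_map_iff _ _).2 (hq p)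
  obtain ⟨γ, hγ⟩ := Groth.Agent.AlgSp.ElemDist.exists_desc_fam (p := fun p => (yon S).map (q p)) hqe (fun x => by
      obtain ⟨x, rfl⟩ := (Points.schemeHomeo P).surjective x
      obtain ⟨t, ht⟩ := hp x
      exact ⟨x, t, (Points.ofPt_eq_map_ofScheme _ _).trans
        ((Points.map_yon_map_apply (q x) t).trans (congrArg (Points.ofScheme P) ht))⟩) g
    fun p p' T l l' h => by
      obtain ⟨l, rfl⟩ := (yon S).map_surjective l
      obtain ⟨l', rfl⟩ := (yon S).map_surjective l'
      rw [← Functor.map_comp, ← Functor.map_comp] at h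
      replace h := (yon S).map_injective h
      let r := pullback.fst (q p) (q p')
      let r' := pullback.snd (q p) (q p')
      let Q := r ≫ q p
      have hQ : Etale Q.left := by
        have h2 : Etale r.left := MorphismProperty.of_isPullback (P := @Etale)
          ((IsPullback.of_hasPullback (q p) (q p')).map (Over.forget S)).flip (hq p')
        have := hq p
        change Etale (r.left ≫ (q p).left)
        infer_instance
      let iQ : pullback (i ≫ a) Q ⟶ pullback a Q :=
        pullback.lift (pullback.fst _ _ ≫ i) (pullback.snd _ _) (by rw [Category.assoc, pullback.condition])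
      let jQ : pullback (i ≫ a) Q ⟶ pullback b Q :=
        pullback.lift (pullback.fst _ _ ≫ j) (pullback.snd _ _) (by rw [Category.assoc, ← w, pullback.condition])
      have i2 : iQ ≫ pullback.snd a Q = pullback.snd (i ≫ a) Q := pullback.lift_snd _ _ _
      have j2 : jQ ≫ pullback.snd b Q = pullback.snd (i ≫ a) Q := pullback.lift_snd _ _ _
      have hpoQ := hbc Q hQ (pullback.fst a Q) _ (pullback.fst b Q) _ (pullback.fst (i ≫ a) Q) iQ jQ
        (IsPullback.of_hasPullback a Q) (IsPullback.of_hasPullback b Q)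
        (by rw [i2]; exact IsPullback.of_hasPullback (i ≫ a) Q) (pullback.lift_fst _ _ _)
        (pullback.lift_fst _ _ _) (i2.trans j2.symm)
      have hr : r' ≫ q p' = r ≫ q p := pullback.condition.symm
      have e : (yon S).map r ≫ g p = (yon S).map r' ≫ g p' := hom_ext_of_isPushout hd hpoQ _ _
        (by
          rw [← Functor.map_comp_assoc, ← Functor.map_comp_assoc,
            hgX p _ (pullback.snd a Q ≫ r) (pullback.fst a Q) (by rw [pullback.condition, Category.assoc]),
            hgX p' _ (pullback.snd a Q ≫ r') (pullback.fst a Q) (by rw [pullback.condition, Category.assoc, hr])])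
        (by
          rw [← Functor.map_comp_assoc, ← Functor.map_comp_assoc,
            hgY p _ (pullback.snd b Q ≫ r) (pullback.fst b Q) (by rw [pullback.condition, Category.assoc]),
            hgY p' _ (pullback.snd b Q ≫ r') (pullback.fst b Q) (by rw [pullback.condition, Category.assoc, hr])])
      let L := pullback.lift l l' h
      refine (congrArg (fun k => (yon S).map k ≫ g p) (pullback.lift_fst l l' h).symm).trans
        (Eq.trans ?_ (congrArg (fun k => (yon S).map k ≫ g p') (pullback.lift_snd l l' h)))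
      change (yon S).map (L ≫ r) ≫ g p = (yon S).map (L ≫ r') ≫ g p'
      simp only [Functor.map_comp, Category.assoc, e]
  have hext : ∀ {A : Over S} (c : A ⟶ P) (δ : (yon S).obj A ⟶ F),
      (∀ p, (yon S).map (pullback.snd c (q p)) ≫ g p = (yon S).map (pullback.fst c (q p)) ≫ δ) →
      (yon S).map c ≫ γ = δ := fun {A} c δ hh => by
    refine Groth.Agent.AlgSp.InfGlue.hom_ext_cover (fun p => pullback.fst c (q p))
      (fun p => MorphismProperty.of_isPullback (P := @Etale)
        ((IsPullback.of_hasPullback c (q p)).map (Over.forget S)).flip (hq p))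
      (fun x => ?_) _ _ fun p => ?_
    · obtain ⟨t, ht⟩ := hp (c.left x)
      obtain ⟨r, hr, -⟩ := Scheme.exists_preimage_of_isPullback
        ((IsPullback.of_hasPullback c (q (c.left x))).map (Over.forget S)) x t ht.symm
      exact ⟨c.left x, r, hr⟩
    · rw [← Functor.map_comp_assoc, pullback.condition, Functor.map_comp, Category.assoc, hγ, hh]
  exact ⟨γ, hext a α fun p => hgX p _ _ _ pullback.condition,
    hext b β fun p => hgY p _ _ _ pullback.condition⟩

/-- Near each point of the pushout, the map on the second leg lifts to the chart. -/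
theorem exists_lift_snd {F : Sp S} {u₀ : (yon S).obj U ⟶ F} (hu : RepWith @Etale u₀) (hus : RepWith @Surjective u₀)
    (b : Y ⟶ P) [IsClosedImmersion b.left] (β : (yon S).obj Y ⟶ F) (p : P.left) :
    ∃ (V : Over S) (q : V ⟶ P) (mY : pullback b q ⟶ U), Etale q.left ∧ p ∈ Set.range q.left ∧
      (yon S).map mY ≫ u₀ = (yon S).map (pullback.fst b q) ≫ β := by
  by_cases hp : p ∈ Set.range b.left
  · obtain ⟨y, rfl⟩ := hp
    obtain ⟨Q, w, π, sQ⟩ := Groth.Agent.AlgSpB.exists_pullback_yon hu.1 β
    have : Etale π.left := hu.2 _ _ _ sQ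
    have : Surjective π.left := hus.2 _ _ _ sQ
    obtain ⟨x, hx⟩ := π.left.surjective y
    obtain ⟨O, hO, hyO, -⟩ := exists_isAffineOpen_mem_and_subset (x := b.left y) (U := (⊤ : P.left.Opens)) trivial
    let B := b.left ⁻¹ᵁ O
    let c : (B : Scheme.{u}) ⟶ O := b.left ∣_ O
    have : IsClosedImmersion c := IsZariskiLocalAtTarget.restrict ‹_› O
    have : IsAffine (Scheme.Opens.toScheme O) := hO
    obtain ⟨xB, hxB, -⟩ := Scheme.Pullback.exists_preimage_pullback (f := π.left) (g := B.ι) x
      (⟨y, hyO⟩ : ↥(Scheme.Opens.toScheme B)) hx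
    obtain ⟨U', W', e, qW, pW, k, he, sqW, hk, w₀, hw₀⟩ :=
      Groth.Agent.AlgSp.ClosedEt.exists_etale_lift_closed c (pullback.snd π.left B.ι) xB
    let V : Over S := Over.mk (e ≫ O.ι ≫ P.hom)
    let q : V ⟶ P := Over.homMk (e ≫ O.ι) (Category.assoc _ _ _)
    have hqe : Etale q.left := inferInstanceAs (Etale (e ≫ O.ι))
    have sl : IsPullback (pullback.fst b q).left (pullback.snd b q).left b.left q.left :=
      (IsPullback.of_hasPullback b q).map (Over.forget S)
    have sW : IsPullback (pW ≫ B.ι) qW b.left (e ≫ O.ι) :=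
      (sqW.paste_vert (isPullback_morphismRestrict b.left O).flip.flip).flip
    let θ := sl.isoIsPullback _ _ sW
    let kQ : W' ⟶ Q.left := k ≫ pullback.fst π.left B.ι
    have hkQ : kQ ≫ π.left = pW ≫ B.ι := by
      simp only [kQ, Category.assoc, pullback.condition]
      rw [← Category.assoc, hk]
    have hl : (θ.hom ≫ kQ) ≫ π.left = (pullback.fst b q).left := by
      rw [Category.assoc, hkQ]; exact sl.isoIsPullback_hom_fst _ _ sW
    let lQ : pullback b q ⟶ Q := Over.homMk (θ.hom ≫ kQ) (by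
      rw [← Over.w π, ← Category.assoc, hl]; exact Over.w (pullback.fst b q))
    have hlQ : lQ ≫ π = pullback.fst b q := Over.OverMorphism.ext hl
    refine ⟨V, q, lQ ≫ w, hqe, ⟨qW w₀, ?_⟩, ?_⟩
    · change (e ≫ O.ι) (qW w₀) = b.left y
      have h1 : B.ι (pW w₀) = y := by
        rw [← hk, Scheme.Hom.comp_apply, hw₀, ← hx, ← hxB, ← Scheme.Hom.comp_apply, ← pullback.condition,
          Scheme.Hom.comp_apply]
      rw [← h1, ← Scheme.Hom.comp_apply, ← Scheme.Hom.comp_apply B.ι b.left]
      have h2 : qW ≫ e ≫ O.ι = pW ≫ B.ι ≫ b.left := sW.w.symm.trans (Category.assoc _ _ _)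
      rw [h2]
      rfl
    · rw [Functor.map_comp, Category.assoc, sQ.w, ← Functor.map_comp_assoc, hlQ]
  · let O : P.left.Opens := ⟨(Set.range b.left)ᶜ, b.left.isClosedEmbedding.isClosed_range.isOpen_compl⟩
    let V : Over S := Over.mk (O.ι ≫ P.hom)
    let q : V ⟶ P := Over.homMk O.ι rfl
    have hem : IsEmpty (pullback b q).left := ⟨fun t => ((pullback.snd b q).left t).2
      ⟨_, congr($((congrArg CommaMorphism.left (pullback.condition (f := b) (g := q)))) t)⟩⟩
    exact ⟨V, q, Over.homMk (isInitialOfIsEmpty.to U.left) (isInitialOfIsEmpty.hom_ext _ _),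
      inferInstanceAs (Etale O.ι), ⟨⟨p, hp⟩, rfl⟩, Groth.Agent.AlgSp.EDPushGlue.hom_eq_of_isEmpty hem _ _⟩

/-- The map on the first leg lifts to the chart on an etale cover, compatibly with a given lift on the second. -/
theorem exists_lift_fst {F : Sp S} {u₀ : (yon S).obj U ⟶ F} (hu : RepWith @Etale u₀) (hus : RepWith @Surjective u₀)
    {i : Z ⟶ X} {j : Z ⟶ Y} {a : X ⟶ P} {b : Y ⟶ P} [IsClosedImmersion i.left] (w : i ≫ a = j ≫ b)
    (α : (yon S).obj X ⟶ F) (β : (yon S).obj Y ⟶ F) (hαβ : (yon S).map i ≫ α = (yon S).map j ≫ β)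
    {V : Over S} (q : V ⟶ P) (mY : pullback b q ⟶ U)
    (hY : (yon S).map mY ≫ u₀ = (yon S).map (pullback.fst b q) ≫ β) :
    ∃ (W : Over S) (g : W ⟶ pullback a q) (mX : W ⟶ U), Etale g.left ∧ Surjective g.left ∧
      (yon S).map mX ≫ u₀ = (yon S).map (g ≫ pullback.fst a q) ≫ α ∧
      (∀ (T : Over S) (t : T ⟶ W) (y : T ⟶ pullback b q) (z : T ⟶ Z),
        t ≫ g ≫ pullback.fst a q = z ≫ i → y ≫ pullback.fst b q = z ≫ j →
        t ≫ g ≫ pullback.snd a q = y ≫ pullback.snd b q → t ≫ mX = y ≫ mY) ∧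
      (Surjective i.left → IsIso g.left) := by
  let XV := pullback a q
  let ZV := pullback i (pullback.fst a q)
  let eZ : ZV ⟶ Z := pullback.fst _ _
  let iV : ZV ⟶ XV := pullback.snd _ _
  have sZ := (IsPullback.of_hasPullback i (pullback.fst a q)).map (Over.forget S)
  have : IsClosedImmersion iV.left := MorphismProperty.of_isPullback sZ ‹_›
  let jV : ZV ⟶ pullback b q := pullback.lift (eZ ≫ j) (iV ≫ pullback.snd a q) (by
    rw [Category.assoc, ← w, Category.assoc, ← pullback.condition (f := a) (g := q), ← Category.assoc,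
      pullback.condition (f := i) (g := pullback.fst a q), Category.assoc])
  have j1 : jV ≫ pullback.fst b q = eZ ≫ j := pullback.lift_fst _ _ _
  have j2 : jV ≫ pullback.snd b q = iV ≫ pullback.snd a q := pullback.lift_snd _ _ _
  obtain ⟨Q, wX, ρ, sQ⟩ := Groth.Agent.AlgSpB.exists_pullback_yon hu.1 ((yon S).map (pullback.fst a q) ≫ α)
  have : Etale ρ.left := hu.2 _ _ _ sQ
  have : Surjective ρ.left := hus.2 _ _ _ sQ
  obtain ⟨σ, hσ⟩ := (yon S).map_surjective (sQ.lift ((yon S).map (jV ≫ mY)) ((yon S).map iV) (by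
    rw [Functor.map_comp, Category.assoc, hY, ← Functor.map_comp_assoc, j1, Functor.map_comp, Category.assoc, ← hαβ,
      ← Functor.map_comp_assoc, show eZ ≫ i = iV ≫ pullback.fst a q from pullback.condition, Functor.map_comp,
      Category.assoc]))
  have hσ1 : σ ≫ wX = jV ≫ mY := (yon S).map_injective (by rw [Functor.map_comp, hσ, sQ.lift_fst])
  have hσ2 : σ ≫ ρ = iV := (yon S).map_injective (by rw [Functor.map_comp, hσ, sQ.lift_snd])
  obtain ⟨O, hOs, hO⟩ := exists_section_open iV.left ρ.left σ.left (congrArg CommaMorphism.left hσ2)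
  let W : Over S := Over.mk (O.ι ≫ Q.hom)
  let ιW : W ⟶ Q := Over.homMk O.ι rfl
  let g : W ⟶ XV := ιW ≫ ρ
  have hge : Etale g.left := inferInstanceAs (Etale (O.ι ≫ ρ.left))
  have hgs : Surjective g.left := hOs
  refine ⟨W, g, ιW ≫ wX, hge, hgs, ?_, fun T t y z h1 h2 h3 => ?_, fun hi => ?_⟩
  · simp only [g, Functor.map_comp, Category.assoc, sQ.w]
  · let zV : T ⟶ ZV := pullback.lift z (t ≫ g) (by rw [Category.assoc, h1])
    have hz1 : zV ≫ eZ = z := pullback.lift_fst _ _ _
    have hz2 : zV ≫ iV = t ≫ g := pullback.lift_snd _ _ _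
    have ht : t ≫ ιW = zV ≫ σ := Over.OverMorphism.ext
      (hO T.left t.left zV.left (congrArg CommaMorphism.left hz2).symm)
    have hy : zV ≫ jV = y := pullback.hom_ext (by rw [Category.assoc, j1, reassoc_of% hz1, h2])
      (by rw [Category.assoc, j2, reassoc_of% hz2, h3])
    rw [← Category.assoc, ht, Category.assoc, hσ1, reassoc_of% hy]
  · have : Surjective iV.left := MorphismProperty.of_isPullback (P := @Surjective) sZ hi
    let d := pullback.diagonal g.left
    let p₁ := pullback.fst g.left g.left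
    let p₂ := pullback.snd g.left g.left
    let r := pullback.fst (p₁ ≫ g.left) iV.left
    let z₀ := pullback.snd (p₁ ≫ g.left) iV.left
    have : Surjective r := MorphismProperty.pullback_fst _ _ ‹Surjective iV.left›
    have e1 : (r ≫ p₁) ≫ O.ι = z₀ ≫ σ.left :=
      hO _ (r ≫ p₁) z₀ ((Category.assoc _ _ _).trans pullback.condition)
    have e2 : (r ≫ p₂) ≫ O.ι = z₀ ≫ σ.left := hO _ (r ≫ p₂) z₀ (by
      refine (Category.assoc _ _ _).trans ?_
      rw [show p₂ ≫ O.ι ≫ ρ.left = p₁ ≫ g.left from (pullback.condition (f := g.left) (g := g.left)).symm]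
      exact pullback.condition)
    have e12 : r ≫ p₁ = r ≫ p₂ := (cancel_mono O.ι).1 (e1.trans e2.symm)
    have hrd : (r ≫ p₁) ≫ d = r := pullback.hom_ext
      (by rw [Category.assoc, pullback.diagonal_fst, Category.comp_id])
      (by rw [Category.assoc, pullback.diagonal_snd, Category.comp_id, e12])
    have : Surjective d := by
      have : Surjective ((r ≫ p₁) ≫ d) := by rw [hrd]; infer_instance
      exact Surjective.of_comp (r ≫ p₁) d
    have : UniversallyInjective g.left := (UniversallyInjective.iff_diagonal g.left).2 this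
    exact EtaleSite.isIso_of_etale_of_universallyInjective g.left

/-- Base change of a pushout of schemes along a closed immersion is a pushout. -/
theorem etBC_of_cover {i : Z ⟶ X} {j : Z ⟶ Y} {a : X ⟶ P} {b : Y ⟶ P} [IsClosedImmersion i.left]
    [IsAffineHom a.left] [IsClosedImmersion b.left]
    (hc : ∀ y : Y.left, ∃ (A : X.left.Opens) (B : Y.left.Opens), IsAffineOpen A ∧ IsAffineOpen B ∧ y ∈ B ∧
      i.left ⁻¹ᵁ A = j.left ⁻¹ᵁ B)
    (hpo : IsPushout i j a b) : EtBC i j a b := by
  intro V XV YV ZV q hq eX aV eY bV eZ iV jV sX sY sZ hi hj hw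
  have hP : IsPushout i.left j.left a.left b.left := hpo.map (Over.forget S)
  have := hq
  have : Flat q.left := inferInstance
  refine IsPushout.of_map (Over.forget S) hw ?_
  refine Groth.Agent.PinchLib.StdRinged.isPushout_of_toSh ?_
  exact Groth.Agent.PinchLib.isPushout_flatBaseChange (fX := a.left) (fZ' := b.left) (fX' := 𝟙 P.left)
    hP.w.symm (Category.comp_id _) (Category.comp_id _)
    (Groth.Agent.PinchLib.StdRinged.isPushout_toSh hc hP)
    (g := q.left)
    (sX.map (Over.forget S)) (sZ.map (Over.forget S)) (sY.map (Over.forget S))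
    (eX' := q.left) (pX' := 𝟙 V.left) (IsPullback.of_vert_isIso ⟨by simp⟩)
    (congrArg CommaMorphism.left hi) rfl (congrArg CommaMorphism.left hj) (congrArg CommaMorphism.left hw).symm
    (congrArg CommaMorphism.left sX.w).symm (Category.comp_id _) (congrArg CommaMorphism.left sY.w).symm
    (Category.comp_id _)

end Groth.Agent.AlgSpD.SchemePush
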