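import Groth.Agent.AlgSpD.SchemePush
import Groth.Agent.PinchLib.StdPushout
import Groth.Agent.FlatMisc.PushoutCovers
import Groth.Agent.S0440
import Groth.Prelude.Def_AlgSp2
import Groth.Prelude.Def_MoreMor

/-!
# Pushouts of schemes remain pushouts among algebraic spaces
-/

universe u

open CategoryTheory CategoryTheory.Limits AlgebraicGeometry Opposite

set_option autoImplicit false
set_option backward.isDefEq.respectTransparency false
set_option backward.isDefEq.respectTransparency.types false

namespace Groth.Agent.AlgSpD.SchemePush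

open _root_.AlgSp

variable {S : Scheme.{u}} {Z X Y P : Over S} {i : Z ⟶ X} {j : Z ⟶ Y} {a : X ⟶ P} {b : Y ⟶ P}

/-- The compatible affine cover of a thickening and an affine morphism. -/
theorem cover_of_thick [IsClosedImmersion i.left] [Surjective i.left] [IsAffineHom j.left] (y : Y.left) :
    ∃ (A : X.left.Opens) (B : Y.left.Opens), IsAffineOpen A ∧ IsAffineOpen B ∧ y ∈ B ∧
      i.left ⁻¹ᵁ A = j.left ⁻¹ᵁ B := by
  let t := i.left
  have hh : IsHomeomorph t := isHomeomorph_iff_isEmbedding_surjective.mpr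
    ⟨t.isClosedEmbedding.isEmbedding, t.surjective⟩
  obtain ⟨V, hV, hy, -⟩ := exists_isAffineOpen_mem_and_subset (U := (⊤ : Y.left.Opens)) (x := y) trivial
  let A : X.left.Opens := ⟨t '' (j.left ⁻¹ᵁ V : Set Z.left), hh.isOpenMap _ (j.left ⁻¹ᵁ V).isOpen⟩
  have e : t ⁻¹ᵁ A = j.left ⁻¹ᵁ V := TopologicalSpace.Opens.ext (Set.preimage_image_eq _ hh.injective)
  refine ⟨A, V, ?_, hV, hy, e⟩
  have : IsAffine (t ⁻¹ᵁ A).toScheme := e ▸ hV.preimage j.left
  have : IsClosedImmersion (t ∣_ A) := IsZariskiLocalAtTarget.restrict ‹IsClosedImmersion i.left› A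
  have : Surjective (t ∣_ A) := IsZariskiLocalAtTarget.restrict ‹Surjective i.left› A
  exact Groth.Agent.S0440.result (t ∣_ A) (t ∣_ A).surjective

/-- The legs of a pushout of a thickening along an affine morphism. -/
theorem props_of_thick [IsClosedImmersion i.left] [Surjective i.left] [IsAffineHom j.left] (hpo : IsPushout i j a b) :
    IsClosedImmersion b.left ∧ IsAffineHom a.left := by
  have hP : IsPushout i.left j.left a.left b.left := hpo.map (Over.forget S)
  obtain ⟨Q, a', b', h', -, hb, -, -, -⟩ :=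
    FlatMisc.SchemePushout.exists_pushout i.left j.left cover_of_thick
  let e := h'.isoIsPushout _ _ hP
  have : IsClosedImmersion b.left := (h'.inr_isoIsPushout_hom _ _ hP) ▸ inferInstance
  refine ⟨this, ⟨fun W hW => ?_⟩⟩
  let t := i.left
  let A := a.left ⁻¹ᵁ W
  have : IsAffine (t ⁻¹ᵁ A).toScheme := by
    have e1 : t ⁻¹ᵁ A = j.left ⁻¹ᵁ (b.left ⁻¹ᵁ W) := by
      rw [← Scheme.Hom.comp_preimage, ← Scheme.Hom.comp_preimage, hP.w]
    exact e1 ▸ (hW.preimage b.left).preimage j.left
  have : IsClosedImmersion (t ∣_ A) := IsZariskiLocalAtTarget.restrict ‹IsClosedImmersion i.left› A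
  have : Surjective (t ∣_ A) := IsZariskiLocalAtTarget.restrict ‹Surjective i.left› A
  exact Groth.Agent.S0440.result (t ∣_ A) (t ∣_ A).surjective

/-- Existence of descended morphisms gives the pushout among algebraic spaces. -/
theorem isPushout_ofScheme (hpo : IsPushout i j a b)
    (hdesc : ∀ F : Space S, ∀ (α : (yon S).obj X ⟶ F.obj) (β : (yon S).obj Y ⟶ F.obj),
      (yon S).map i ≫ α = (yon S).map j ≫ β →
        ∃ γ : (yon S).obj P ⟶ F.obj, (yon S).map a ≫ γ = α ∧ (yon S).map b ≫ γ = β) :
    IsPushout ((ofScheme S).map i) ((ofScheme S).map j) ((ofScheme S).map a) ((ofScheme S).map b) := by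
  refine ⟨⟨by rw [← Functor.map_comp, ← Functor.map_comp, hpo.w]⟩, ⟨?_⟩⟩
  choose γ hγ using fun s : PushoutCocone ((ofScheme S).map i) ((ofScheme S).map j) =>
    hdesc s.pt s.inl.hom s.inr.hom (congrArg (fun k => k.hom) s.condition)
  exact PushoutCocone.IsColimit.mk _ (fun s => ObjectProperty.homMk (γ s))
    (fun s => ObjectProperty.hom_ext _ (hγ s).1) (fun s => ObjectProperty.hom_ext _ (hγ s).2)
    fun s m h1 h2 => ObjectProperty.hom_ext _ (hom_ext_of_isPushout s.pt.property.diag hpo m.hom (γ s)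
      ((congrArg (fun k => k.hom) h1).trans (hγ s).1.symm) ((congrArg (fun k => k.hom) h2).trans (hγ s).2.symm))

/-- A pushout of a thickening along an affine morphism stays one among algebraic spaces. -/
theorem isPushout_ofScheme_of_thick [IsClosedImmersion i.left] [Surjective i.left] [IsAffineHom j.left]
    (hpo : IsPushout i j a b) :
    IsPushout ((ofScheme S).map i) ((ofScheme S).map j) ((ofScheme S).map a) ((ofScheme S).map b) := by
  obtain ⟨hb, ha⟩ := props_of_thick hpo
  refine isPushout_ofScheme hpo fun F α β hαβ => ?_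
  obtain ⟨U, u₀, hu, hus⟩ := F.property.atlas
  refine exists_desc (u₀ := u₀) F.property.diag hpo.w (etBC_of_cover cover_of_thick hpo) α β fun p => ?_
  obtain ⟨V, q, mY, hq, hp, hY⟩ := exists_lift_snd hu hus b β p
  obtain ⟨W, g, mX, -, -, hX, hc, hiso⟩ := exists_lift_fst hu hus hpo.w α β hαβ q mY hY
  have : IsIso g := by
    have : IsIso ((Over.forget S).map g) := hiso ‹Surjective i.left›
    exact isIso_of_reflects_iso g (Over.forget S)
  refine ⟨V, q, inv g ≫ mX, mY, hq, hp, ?_, hY, fun T x y z h1 h2 h3 => ?_⟩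
  · rw [Functor.map_comp, Category.assoc, hX, ← Functor.map_comp_assoc, IsIso.inv_hom_id_assoc]
  · rw [← Category.assoc]
    exact hc T (x ≫ inv g) y z (by simpa using h1) h2 (by simpa using h3)

/-- A pushout of a closed immersion along an integral morphism stays one among algebraic spaces. -/
theorem isPushout_ofScheme_of_integral [IsClosedImmersion i.left] [IsIntegralHom j.left]
    (hc : ∀ y : Y.left, ∃ (A : X.left.Opens) (B : Y.left.Opens), IsAffineOpen A ∧ IsAffineOpen B ∧ y ∈ B ∧
      i.left ⁻¹ᵁ A = j.left ⁻¹ᵁ B) (hpo : IsPushout i j a b) :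
    IsPushout ((ofScheme S).map i) ((ofScheme S).map j) ((ofScheme S).map a) ((ofScheme S).map b) := by
  obtain ⟨-, hb, ha, -⟩ := PinchLib.StdPushout.props i.left j.left hc (hpo.map (Over.forget S))
  have hb : IsClosedImmersion b.left := hb
  have ha : IsIntegralHom a.left := ha
  have : IsAffineHom a.left := inferInstance
  refine isPushout_ofScheme hpo fun F α β hαβ => ?_
  obtain ⟨U, u₀, hu, hus⟩ := F.property.atlas
  refine exists_desc (u₀ := u₀) F.property.diag hpo.w (etBC_of_cover hc hpo) α β fun p => ?_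
  obtain ⟨V, q, mY, hq, ⟨v, hv⟩, hY⟩ := exists_lift_snd hu hus b β p
  obtain ⟨W, g, mX, hge, hgs, hX, hcomp, -⟩ := exists_lift_fst hu hus hpo.w α β hαβ q mY hY
  let aV := pullback.snd a q
  have : IsIntegralHom aV.left := MorphismProperty.of_isPullback (P := @IsIntegralHom)
    ((IsPullback.of_hasPullback a q).map (Over.forget S)) ha
  obtain ⟨V₂, ⟨v₂, hv₂⟩, h, hh⟩ := EtaleSite.exists_nbhd_factor aV.left g.left v fun x _ => g.left.surjective x
  let VO : Over S := Over.mk (V₂.hom ≫ V.hom)
  let e : VO ⟶ V := Over.homMk V₂.hom rfl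
  let q₂ : VO ⟶ P := e ≫ q
  have hq₂ : Etale q₂.left := by
    have := hq
    have := V₂.prop
    change Etale (V₂.hom ≫ q.left)
    infer_instance
  let m : pullback a q₂ ⟶ pullback a q := pullback.lift (pullback.fst a q₂) (pullback.snd a q₂ ≫ e)
    (by rw [Category.assoc, pullback.condition])
  have m1 : m ≫ pullback.fst a q = pullback.fst a q₂ := pullback.lift_fst _ _ _
  have m2 : m ≫ pullback.snd a q = pullback.snd a q₂ ≫ e := pullback.lift_snd _ _ _
  let d : (pullback a q₂).left ⟶ pullback V₂.hom aV.left :=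
    pullback.lift (pullback.snd a q₂).left m.left (congrArg CommaMorphism.left m2).symm
  have hd : (d ≫ h) ≫ g.left = m.left := by
    rw [Category.assoc, hh]; exact pullback.lift_snd _ _ _
  let r : pullback a q₂ ⟶ W := Over.homMk (d ≫ h) (by
    rw [← Over.w g, ← Category.assoc, hd]; exact Over.w m)
  have hr : r ≫ g = m := Over.OverMorphism.ext hd
  let n : pullback b q₂ ⟶ pullback b q := pullback.lift (pullback.fst b q₂) (pullback.snd b q₂ ≫ e)
    (by rw [Category.assoc, pullback.condition])
  have n1 : n ≫ pullback.fst b q = pullback.fst b q₂ := pullback.lift_fst _ _ _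
  have n2 : n ≫ pullback.snd b q = pullback.snd b q₂ ≫ e := pullback.lift_snd _ _ _
  refine ⟨VO, q₂, r ≫ mX, n ≫ mY, hq₂, ⟨v₂, ?_⟩, ?_, ?_, fun T x y z h1 h2 h3 => ?_⟩
  · change q.left (V₂.hom v₂) = p
    rw [hv₂, hv]
  · rw [Functor.map_comp, Category.assoc, hX, ← Functor.map_comp_assoc, reassoc_of% hr, m1]
  · rw [Functor.map_comp, Category.assoc, hY, ← Functor.map_comp_assoc, n1]
  · rw [← Category.assoc, ← Category.assoc]
    refine hcomp T (x ≫ r) (y ≫ n) z ?_ ?_ ?_
    · simp only [Category.assoc, reassoc_of% hr, m1, h1]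
    · simp only [Category.assoc, n1, h2]
    · simp only [Category.assoc, reassoc_of% hr, m2, n2, reassoc_of% h3]

end Groth.Agent.AlgSpD.SchemePush
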