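import Groth.Agent.AlgSpD.SepLiftAlg
import Groth.Agent.AlgSpD.Decent
import Groth.Agent.AlgSp.Diag
import Groth.Agent.AlgSp.NormQf
import Groth.Agent.AlgSp.InfSpace
import Groth.Agent.AlgSp.Space
import Groth.Prelude.Def_AlgSpMor5
import Mathlib.AlgebraicGeometry.Morphisms.ClosedImmersion

/-!
# Dotted arrows descend along extensions of valuation rings for separated morphisms
-/

universe u

open CategoryTheory CategoryTheory.Limits AlgebraicGeometry Opposite
open scoped TensorProduct

set_option backward.isDefEq.respectTransparency false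
set_option autoImplicit false

namespace Groth.Agent.AlgSpD

open Groth.Agent

variable {S : Scheme.{u}}

theorem surjective_of_isClosedImmersion_SpecMap {R R' : CommRingCat.{u}} (φ : R ⟶ R')
    (h : IsClosedImmersion (Spec.map φ)) : Function.Surjective φ := by
  obtain ⟨-, h'⟩ := IsClosedImmersion.isAffine_surjective_of_isAffine (Spec.map φ)
  have e := Scheme.ΓSpecIso_naturality φ
  intro y
  obtain ⟨x, hx⟩ := h' ((Scheme.ΓSpecIso R').inv y)
  refine ⟨(Scheme.ΓSpecIso R).hom x, ?_⟩
  have := congr($e x)
  simp only [CommRingCat.comp_apply] at this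
  rw [← this, hx]
  simp [← CommRingCat.comp_apply]

theorem injective_appTop_SpecMap {R R' : CommRingCat.{u}} (φ : R ⟶ R') (h : Function.Injective φ) :
    Function.Injective (Spec.map φ).appTop := by
  have e := Scheme.ΓSpecIso_naturality φ
  intro x y hxy
  have hx := congr($e x)
  have hy := congr($e y)
  simp only [CommRingCat.comp_apply] at hx hy
  rw [hxy, hy] at hx
  exact ((ConcreteCategory.bijective_of_isIso (Scheme.ΓSpecIso R).hom).1 (h hx)).symm

/-- A spectrum as an object over `S`. -/
noncomputable abbrev specOverS {A : Type u} [CommRing A] (str : Spec (CommRingCat.of A) ⟶ S) (R : Type u)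
    [CommRing R] [Algebra A R] : Over S :=
  Over.mk (Spec.map (CommRingCat.ofHom (algebraMap A R)) ≫ str)

/-- The morphism induced by an algebra map. -/
noncomputable abbrev specOverMap {A : Type u} [CommRing A] (str : Spec (CommRingCat.of A) ⟶ S) {R R' : Type u}
    [CommRing R] [Algebra A R] [CommRing R'] [Algebra A R'] (g : R →ₐ[A] R') :
    specOverS str R' ⟶ specOverS str R :=
  Over.homMk (Spec.map (CommRingCat.ofHom g.toRingHom)) (by
    change Spec.map _ ≫ Spec.map _ ≫ _ = _
    rw [← Spec.map_comp_assoc, ← CommRingCat.ofHom_comp, AlgHom.toRingHom_eq_coe, AlgHom.comp_algebraMap]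
    rfl)

/-- The structure morphism to the base spectrum. -/
noncomputable abbrev specOverBase {A : Type u} [CommRing A] (str : Spec (CommRingCat.of A) ⟶ S) (R : Type u)
    [CommRing R] [Algebra A R] : specOverS str R ⟶ Over.mk str :=
  Over.homMk (Spec.map (CommRingCat.ofHom (algebraMap A R))) rfl

theorem specOverMap_comp_base {A : Type u} [CommRing A] (str : Spec (CommRingCat.of A) ⟶ S) {R R' : Type u}
    [CommRing R] [Algebra A R] [CommRing R'] [Algebra A R'] (g : R →ₐ[A] R') :
    specOverMap str g ≫ specOverBase str R = specOverBase str R' := by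
  ext1
  change Spec.map _ ≫ Spec.map _ = Spec.map _
  rw [← Spec.map_comp, ← CommRingCat.ofHom_comp, AlgHom.toRingHom_eq_coe, AlgHom.comp_algebraMap]

theorem specOverMap_comp {A : Type u} [CommRing A] (str : Spec (CommRingCat.of A) ⟶ S) {R R' R'' : Type u}
    [CommRing R] [Algebra A R] [CommRing R'] [Algebra A R'] [CommRing R''] [Algebra A R'']
    (g : R →ₐ[A] R') (g' : R' →ₐ[A] R'') :
    specOverMap str g' ≫ specOverMap str g = specOverMap str (g'.comp g) := by
  ext1
  change Spec.map _ ≫ Spec.map _ = Spec.map _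
  rw [← Spec.map_comp, ← CommRingCat.ofHom_comp]
  rfl

/-- The spectrum of a tensor product is the fibre product. -/
theorem isPullback_specOver {A : Type u} [CommRing A] (str : Spec (CommRingCat.of A) ⟶ S) (R R' : Type u)
    [CommRing R] [Algebra A R] [CommRing R'] [Algebra A R'] :
    IsPullback (specOverMap str (Algebra.TensorProduct.includeLeft : R →ₐ[A] R ⊗[A] R'))
      (specOverMap str (Algebra.TensorProduct.includeRight : R' →ₐ[A] R ⊗[A] R'))
      (specOverBase str R) (specOverBase str R') := by
  refine IsPullback.of_map (Over.forget S) ?_ ?_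
  · rw [specOverMap_comp_base, specOverMap_comp_base]
  · exact isPullback_SpecMap_of_isPushout _ _ _ _ (CommRingCat.isPushout_tensorProduct A R R')

/-- A monomorphism after a pair of morphisms does not change their fibre product. -/
theorem isPullback_of_comp_mono {C : Type*} [Category C] {P A B D E : C} {a : P ⟶ A} {b : P ⟶ B}
    {f : A ⟶ D} {g : B ⟶ D} {m : D ⟶ E} [Mono m] (h : IsPullback a b (f ≫ m) (g ≫ m)) :
    IsPullback a b f g :=
  IsPullback.of_isLimit' ⟨(cancel_mono m).1 (by simpa only [Category.assoc] using h.w)⟩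
    (PullbackCone.IsLimit.mk _ (fun c => h.lift c.fst c.snd (by rw [← Category.assoc, c.condition, Category.assoc]))
      (fun c => h.lift_fst _ _ _) (fun c => h.lift_snd _ _ _)
      (fun c k h1 h2 => h.hom_ext (by rw [h1, h.lift_fst]) (by rw [h2, h.lift_snd])))

/-- The comparison of fibre products over a separated morphism is a closed immersion. -/
theorem isClosedImmersion_lift {T U T₁ V P : Over S} {Z : AlgSp.Sp S} {π : Z ⟶ (AlgSp.yon S).obj T}
    (hπ : AlgSp.IsSeparatedMor π) (a : (AlgSp.yon S).obj U ⟶ Z) (b : (AlgSp.yon S).obj T₁ ⟶ Z)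
    (gu : U ⟶ T) (hgu : (AlgSp.yon S).map gu = a ≫ π) (gb : T₁ ⟶ T) (hgb : (AlgSp.yon S).map gb = b ≫ π)
    {q : V ⟶ U} {p : V ⟶ T₁} (sV : IsPullback ((AlgSp.yon S).map q) ((AlgSp.yon S).map p) a b)
    {P1 : P ⟶ U} {P2 : P ⟶ T₁} (sP : IsPullback P1 P2 gu gb) (w : q ≫ gu = p ≫ gb) :
    IsClosedImmersion (sP.lift q p w).left := by
  have sP' : IsPullback ((AlgSp.yon S).map P1) ((AlgSp.yon S).map P2) (a ≫ π) (b ≫ π) :=
    hgu ▸ hgb ▸ sP.map (AlgSp.yon S)
  have key : sV.isoPullback.hom ≫ pullback.mapDesc a b π =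
      (AlgSp.yon S).map (sP.lift q p w) ≫ sP'.isoPullback.hom := by
    apply pullback.hom_ext <;>
      simp [pullback.mapDesc, ← Functor.map_comp]
  have h : AlgSp.RepWith @IsClosedImmersion (pullback.mapDesc a b π) :=
    AlgSp.mapDesc_mem_of_diagonal _ a b π hπ
  have h' : AlgSp.RepWith @IsClosedImmersion ((AlgSp.yon S).map (sP.lift q p w)) :=
    ((AlgSp.RepWith (S := S) @IsClosedImmersion).arrow_mk_iso_iff
      (Arrow.isoMk sV.isoPullback sP'.isoPullback key)).2 h
  exact (AlgSp.repWith_yon_map_iff _ _).1 h'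

/-- An affine fibre product over a space separated over an affine scheme, with surjective comparison map. -/
theorem exists_affine_pullback {A : Type u} [CommRing A] (str : Spec (CommRingCat.of A) ⟶ S)
    {Z : AlgSp.Sp S} {π : Z ⟶ (AlgSp.yon S).obj (Over.mk str)} (hπ : AlgSp.IsSeparatedMor π)
    (A₁ R : Type u) [CommRing A₁] [Algebra A A₁] [CommRing R] [Algebra A R]
    (a : (AlgSp.yon S).obj (specOverS str R) ⟶ Z) (ha : a ≫ π = (AlgSp.yon S).map (specOverBase str R))
    (hrep : AlgSp.Representable a)
    (b : (AlgSp.yon S).obj (specOverS str A₁) ⟶ Z) (hb : b ≫ π = (AlgSp.yon S).map (specOverBase str A₁)) :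
    ∃ (R₁ : Type u) (_ : CommRing R₁) (_ : Algebra A R₁) (g : A₁ →ₐ[A] R₁) (r : R →ₐ[A] R₁),
      IsPullback ((AlgSp.yon S).map (specOverMap str r)) ((AlgSp.yon S).map (specOverMap str g)) a b ∧
      Function.Surjective (Algebra.TensorProduct.lift g r (fun _ _ => Commute.all _ _) : A₁ ⊗[A] R →ₐ[A] R₁) := by
  obtain ⟨V, q, p, sV⟩ := AlgSpB.exists_pullback_yon hrep b
  have sP := (isPullback_specOver str A₁ R).flip
  have w : q ≫ specOverBase str R = p ≫ specOverBase str A₁ := (AlgSp.yon S).map_injective (by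
    rw [Functor.map_comp, Functor.map_comp, ← ha, ← hb, ← Category.assoc, sV.w, Category.assoc])
  have hc := isClosedImmersion_lift hπ a b _ ha.symm _ hb.symm sV sP w
  let d := sP.lift q p w
  have : IsClosedImmersion d.left := hc
  have : IsAffine (specOverS str (A₁ ⊗[A] R)).left := inferInstanceAs (IsAffine (Spec (CommRingCat.of _)))
  have : IsAffine V.left := (IsClosedImmersion.isAffine_surjective_of_isAffine d.left).1
  let R₁ : CommRingCat.{u} := Γ(V.left, ⊤)
  let δ : CommRingCat.of (A₁ ⊗[A] R) ⟶ R₁ := Spec.preimage (V.left.isoSpec.inv ≫ d.left)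
  have hδ : Spec.map δ = V.left.isoSpec.inv ≫ d.left := Spec.map_preimage _
  have hδs : Function.Surjective δ := surjective_of_isClosedImmersion_SpecMap δ (by rw [hδ]; infer_instance)
  letI : Algebra A R₁ := (δ.hom.comp (algebraMap A (A₁ ⊗[A] R))).toAlgebra
  let Δ : A₁ ⊗[A] R →ₐ[A] R₁ := { δ.hom with commutes' := fun _ => rfl }
  let g : A₁ →ₐ[A] R₁ := Δ.comp Algebra.TensorProduct.includeLeft
  let r : R →ₐ[A] R₁ := Δ.comp Algebra.TensorProduct.includeRight
  let V' : Over S := specOverS str R₁
  have eV : V.left.isoSpec.inv ≫ V.hom = V'.hom := by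
    rw [← Over.w d, ← Category.assoc, ← hδ]
    change Spec.map δ ≫ Spec.map (CommRingCat.ofHom (algebraMap A (A₁ ⊗[A] R))) ≫ str = _
    rw [← Spec.map_comp_assoc]
    rfl
  let i : V' ≅ V := Over.isoMk V.left.isoSpec.symm eV
  have hiq : i.hom ≫ q = specOverMap str r := by
    rw [← sP.lift_fst q p w]
    change i.hom ≫ d ≫ _ = _
    ext1
    change V.left.isoSpec.inv ≫ d.left ≫ Spec.map _ = Spec.map _
    rw [← Category.assoc, ← hδ, ← Spec.map_comp]
    rfl
  have hip : i.hom ≫ p = specOverMap str g := by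
    rw [← sP.lift_snd q p w]
    change i.hom ≫ d ≫ _ = _
    ext1
    change V.left.isoSpec.inv ≫ d.left ≫ Spec.map _ = Spec.map _
    rw [← Category.assoc, ← hδ, ← Spec.map_comp]
    rfl
  refine ⟨R₁, inferInstance, inferInstance, g, r, ?_, ?_⟩
  · refine sV.of_iso ((AlgSp.yon S).mapIso i.symm) (Iso.refl _) (Iso.refl _) (Iso.refl _) ?_ ?_ ?_ ?_
    · simp [← hiq, ← Functor.map_comp]
    · simp [← hip, ← Functor.map_comp]
    · simp
    · simp
  · intro y
    obtain ⟨x, hx⟩ := hδs y
    refine ⟨x, ?_⟩
    have e : (Algebra.TensorProduct.lift g r (fun _ _ => Commute.all _ _) : A₁ ⊗[A] R →ₐ[A] R₁) = Δ := by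
      ext <;> simp [g, r]
    rw [e]
    exact hx

/-- Two morphisms over a separated morphism agreeing on a schematically dense affine are equal. -/
theorem eq_of_agree_dense {A : Type u} [CommRing A] (str : Spec (CommRingCat.of A) ⟶ S) {Z B : AlgSp.Sp S}
    {π : Z ⟶ B} (hπ : AlgSp.IsSeparatedMor π) {C D : Type u} [CommRing C] [Algebra A C] [CommRing D]
    [Algebra A D] (i : C →ₐ[A] D) (hi : Function.Injective i)
    {u v : (AlgSp.yon S).obj (specOverS str C) ⟶ Z} (w : u ≫ π = v ≫ π)
    (h : (AlgSp.yon S).map (specOverMap str i) ≫ u = (AlgSp.yon S).map (specOverMap str i) ≫ v) : u = v := by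
  obtain ⟨W, snd, fst, sW⟩ := hπ.1 (pullback.lift u v w)
  have hc : IsClosedImmersion snd.left := hπ.2 _ _ _ sW
  obtain ⟨t, ht⟩ := (AlgSp.yon S).map_surjective (sW.lift ((AlgSp.yon S).map (specOverMap str i) ≫ u)
    ((AlgSp.yon S).map (specOverMap str i)) (by apply pullback.hom_ext <;> simp [h]))
  have htd : t ≫ snd = specOverMap str i :=
    (AlgSp.yon S).map_injective (by rw [Functor.map_comp, ht, sW.lift_snd])
  have : IsAffine (specOverS str C).left := inferInstanceAs (IsAffine (Spec (CommRingCat.of _)))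
  have : IsIso snd.left := IsClosedImmersion.isIso_of_injective_of_isAffine (by
    have e : (specOverMap str i).left.appTop = snd.left.appTop ≫ t.left.appTop := by
      rw [← htd, Over.comp_left, Scheme.Hom.comp_appTop]
    intro x y hxy
    apply injective_appTop_SpecMap (CommRingCat.ofHom i.toRingHom) hi
    change (specOverMap str i).left.appTop x = (specOverMap str i).left.appTop y
    rw [e]
    exact congrArg t.left.appTop hxy)
  have : IsIso snd := by
    have : IsIso ((Over.forget S).map snd) := this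
    exact isIso_of_reflects_iso snd (Over.forget S)
  have e1 := congrArg (· ≫ pullback.fst π π) sW.w
  have e2 := congrArg (· ≫ pullback.snd π π) sW.w
  simp only [Category.assoc, pullback.diagonal_fst, pullback.diagonal_snd, pullback.lift_fst,
    pullback.lift_snd, Category.comp_id] at e1 e2
  rw [← cancel_epi ((AlgSp.yon S).map snd), ← e1, ← e2]

/-- Faithfully flat extension of valuation rings. -/
theorem faithfullyFlat_of_dominates {A A' : Type u} [CommRing A] [IsDomain A] [ValuationRing A] [CommRing A']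
    [IsDomain A'] [IsLocalRing A'] [Algebra A A'] (hinj : Function.Injective (algebraMap A A'))
    [IsLocalHom (algebraMap A A')] : Module.FaithfullyFlat A A' := by
  have : Module.Flat A A' := by
    rw [Module.Flat.flat_iff_torsion_eq_bot_of_isBezout]
    refine eq_bot_iff.2 fun x hx => ?_
    rw [Submodule.mem_torsion_iff] at hx
    obtain ⟨a, ha⟩ := hx
    rw [Submonoid.smul_def, Algebra.smul_def, mul_eq_zero] at ha
    rcases ha with h | h
    · exact absurd ((map_eq_zero_iff _ hinj).1 h) (nonZeroDivisors.ne_zero a.2)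
    · exact h
  exact Module.FaithfullyFlat.of_flat_of_isLocalHom

/-- Over a valuation ring, a separated space with a point over an extension has the point over the ring. -/
theorem exists_section_of_ext {A : Type u} [CommRing A] [IsDomain A] [ValuationRing A]
    (str : Spec (CommRingCat.of A) ⟶ S) (A' K K' : Type u) [CommRing A'] [IsDomain A'] [ValuationRing A']
    [Algebra A A'] [IsLocalHom (algebraMap A A')] [Field K] [Algebra A K] [IsFractionRing A K]
    [Field K'] [Algebra A K'] [Algebra A' K'] [IsFractionRing A' K'] [IsScalarTower A A' K']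
    [Algebra K K'] [IsScalarTower A K K']
    {Z : AlgSp.Sp S} (hZ : AlgSp.IsAlgSpace Z) {π : Z ⟶ (AlgSp.yon S).obj (Over.mk str)}
    (hπ : AlgSp.IsSeparatedMor π) (l : (AlgSp.yon S).obj (specOverS str A') ⟶ Z)
    (hl : l ≫ π = (AlgSp.yon S).map (specOverBase str A'))
    (η : (AlgSp.yon S).obj (specOverS str K) ⟶ Z) (hη : η ≫ π = (AlgSp.yon S).map (specOverBase str K))
    (hcomp : (AlgSp.yon S).map (specOverMap str (IsScalarTower.toAlgHom A A' K')) ≫ l =
      (AlgSp.yon S).map (specOverMap str (IsScalarTower.toAlgHom A K K')) ≫ η) :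
    ∃ σ : (AlgSp.yon S).obj (Over.mk str) ⟶ Z, σ ≫ π = 𝟙 _ ∧
      (AlgSp.yon S).map (specOverBase str K) ≫ σ = η := by
  have hinjAK' : Function.Injective (algebraMap A K') := by
    rw [IsScalarTower.algebraMap_eq A K K']
    exact (algebraMap K K').injective.comp (IsFractionRing.injective A K)
  have hinj : Function.Injective (algebraMap A A') := by
    rw [IsScalarTower.algebraMap_eq A A' K', RingHom.coe_comp] at hinjAK'
    exact hinjAK'.of_comp
  have := faithfullyFlat_of_dominates hinj
  -- an affine chart through the closed point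
  obtain ⟨U₀, a₀, ha₀, ha₀s⟩ := hZ.atlas
  let c' : ↥(specOverS str A').left := IsLocalRing.closedPoint A'
  obtain ⟨u₀, hu₀⟩ := AlgSpB.surjective_ofPt ha₀s (AlgSp.Points.ofPt l c')
  obtain ⟨W, hW, hu₀W, -⟩ := exists_isAffineOpen_mem_and_subset (x := u₀) (U := ⊤) trivial
  let R : CommRingCat.{u} := Γ(U₀.left, W)
  let U₁ : Over S := Over.mk (hW.fromSpec ≫ U₀.hom)
  let i₁ : U₁ ⟶ U₀ := Over.homMk hW.fromSpec rfl
  let g₁ : U₁ ⟶ Over.mk str := (AlgSp.yon S).preimage ((AlgSp.yon S).map i₁ ≫ a₀ ≫ π)
  let α : CommRingCat.of A ⟶ R := Spec.preimage g₁.left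
  have hα : Spec.map α = g₁.left := Spec.map_preimage _
  letI : Algebra A R := α.hom.toAlgebra
  let i : specOverS str R ⟶ U₀ := Over.homMk hW.fromSpec (by
    change hW.fromSpec ≫ U₀.hom = Spec.map α ≫ str
    rw [hα]; exact (Over.w g₁).symm)
  let a : (AlgSp.yon S).obj (specOverS str R) ⟶ Z := (AlgSp.yon S).map i ≫ a₀
  have : Etale i.left := inferInstanceAs (Etale hW.fromSpec)
  have hae : AlgSp.RepWith @Etale a := AlgSpB.repWith_etale_map_comp i ha₀
  have ha : a ≫ π = (AlgSp.yon S).map (specOverBase str R) := by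
    let k : specOverS str R ⟶ U₁ := Over.homMk (𝟙 _) (by
      change 𝟙 _ ≫ hW.fromSpec ≫ U₀.hom = Spec.map α ≫ str
      rw [Category.id_comp, hα]; exact (Over.w g₁).symm)
    have e1 : i = k ≫ i₁ := by ext1; exact (Category.id_comp _).symm
    have e2 : specOverBase str R = k ≫ g₁ := by
      ext1; exact hα.trans (Category.id_comp _).symm
    rw [e2, Functor.map_comp, Functor.map_preimage]
    simp only [a, e1, Functor.map_comp, Category.assoc]
  obtain ⟨u, hu⟩ : u₀ ∈ Set.range hW.fromSpec := by rw [hW.range_fromSpec]; exact hu₀W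
  have hau : AlgSp.Points.ofPt a u = AlgSp.Points.ofPt l c' := by
    rw [← hu₀, ← hu]; exact AlgSpB.ofPt_map_comp i a₀ u
  -- the two pullbacks
  obtain ⟨R', _, _, gV, rV, sV, hsV⟩ := exists_affine_pullback str hπ A' R a ha hae.1 l hl
  obtain ⟨L, _, _, gW, rW, sW, -⟩ := exists_affine_pullback str hπ K R a ha hae.1 η hη
  letI : Algebra A' R' := gV.toRingHom.toAlgebra
  have : IsScalarTower A A' R' := IsScalarTower.of_algebraMap_eq' gV.comp_algebraMap.symm
  letI : Algebra K L := gW.toRingHom.toAlgebra
  have : IsScalarTower A K L := IsScalarTower.of_algebraMap_eq' gW.comp_algebraMap.symm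
  have hR' : Algebra.Etale A' R' := by
    have h : Etale (specOverMap str gV).left := hae.2 _ _ _ sV
    exact RingHom.etale_algebraMap.1 ((HasRingHomProperty.Spec_iff (P := @Etale)).1 h)
  -- the generic fibre
  have sN := isPullback_specOver str K' L
  let nK := specOverMap str (Algebra.TensorProduct.includeLeft : K' →ₐ[A] K' ⊗[A] L)
  let nL := specOverMap str (Algebra.TensorProduct.includeRight : L →ₐ[A] K' ⊗[A] L)
  let ψO := specOverMap str (IsScalarTower.toAlgHom A K K')
  let jO := specOverMap str (IsScalarTower.toAlgHom A A' K')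
  have : Mono (specOverBase str K) := by
    have : Mono (specOverBase str K).left := by
      have : Epi (CommRingCat.ofHom (algebraMap A K)) :=
        ⟨fun g h e => CommRingCat.hom_ext (IsLocalization.ringHom_ext (nonZeroDivisors A) congr($(e).hom))⟩
      exact inferInstanceAs (Mono (Scheme.Spec.map (CommRingCat.ofHom (algebraMap A K)).op))
    exact Over.mono_of_mono_left _
  have sN' : IsPullback nL nK (specOverMap str gW) ψO := by
    refine isPullback_of_comp_mono (m := specOverBase str K) ?_
    rw [specOverMap_comp_base, specOverMap_comp_base]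
    exact sN.flip
  have big := (sN'.map (AlgSp.yon S)).paste_horiz sW
  have hcond : ((AlgSp.yon S).map nL ≫ (AlgSp.yon S).map (specOverMap str rW)) ≫ a =
      (AlgSp.yon S).map (nK ≫ jO) ≫ l := by
    rw [big.w, Functor.map_comp, Category.assoc, hcomp]
  let tO : specOverS str (K' ⊗[A] L) ⟶ specOverS str R' := (AlgSp.yon S).preimage (sV.lift _ _ hcond)
  have ht1 : tO ≫ specOverMap str rV = nL ≫ specOverMap str rW := (AlgSp.yon S).map_injective (by
    rw [Functor.map_comp, Functor.map_preimage, sV.lift_fst, Functor.map_comp])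
  have ht2 : tO ≫ specOverMap str gV = nK ≫ jO := (AlgSp.yon S).map_injective (by
    rw [Functor.map_comp, Functor.map_preimage, sV.lift_snd, Functor.map_comp])
  have sT : IsPullback tO nK (specOverMap str gV) jO := by
    refine IsPullback.of_map (AlgSp.yon S) ht2 ?_
    refine IsPullback.of_right ?_ (by rw [← Functor.map_comp, ← Functor.map_comp, ht2]) sV
    rw [← Functor.map_comp, ht1, Functor.map_comp]
    rw [hcomp]
    exact big
  let τ : CommRingCat.of R' ⟶ CommRingCat.of (K' ⊗[A] L) := Spec.preimage tO.left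
  have hτ : Spec.map τ = tO.left := Spec.map_preimage _
  have sT' : IsPullback (Spec.map τ) (Spec.map (CommRingCat.ofHom (algebraMap K' (K' ⊗[A] L))))
      (Spec.map (CommRingCat.ofHom (algebraMap A' R'))) (Spec.map (CommRingCat.ofHom (algebraMap A' K'))) := by
    rw [hτ]; exact sT.map (Over.forget S)
  have hτinj : Function.Injective τ := by
    have sS := isPullback_SpecMap_of_isPushout _ _ _ _ (CommRingCat.isPushout_tensorProduct A' R' K')
    let e := Spec.preimage (sT'.isoIsPullback _ _ sS).inv
    have : IsIso (Spec.map e) := by rw [Spec.map_preimage]; infer_instance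
    have : IsIso e := (ConcreteCategory.isIso_iff_bijective e).2 (isIso_SpecMap_iff.1 this)
    have e1 : τ ≫ e = CommRingCat.ofHom Algebra.TensorProduct.includeLeftRingHom := Spec.map_injective (by
      rw [Spec.map_comp, Spec.map_preimage, IsPullback.isoIsPullback_inv_fst])
    intro x y hxy
    refine Algebra.TensorProduct.includeLeft_injective (S := A') (A := R') (IsFractionRing.injective A' K') ?_
    change Algebra.TensorProduct.includeLeftRingHom x = Algebra.TensorProduct.includeLeftRingHom y
    have hx := congr($e1 x)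
    have hy := congr($e1 y)
    simp only [CommRingCat.comp_apply, CommRingCat.hom_ofHom] at hx hy
    rw [← hx, ← hy]
    exact congrArg e hxy
  have eτA : (τ.hom.comp (algebraMap A' R')) = algebraMap A' (K' ⊗[A] L) := by
    have : CommRingCat.ofHom (algebraMap A' R') ≫ τ = CommRingCat.ofHom (algebraMap A' K') ≫
        CommRingCat.ofHom (algebraMap K' (K' ⊗[A] L)) := Spec.map_injective (by
      rw [Spec.map_comp, Spec.map_comp, sT'.w])
    exact congr($(this).hom).trans (IsScalarTower.algebraMap_eq A' K' _).symm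
  let θ : R' →ₐ[A'] K' ⊗[A] L := { τ.hom with commutes' := fun x => RingHom.congr_fun eτA x }
  have hθr : ∀ x, θ (rV x) = 1 ⊗ₜ[A] rW x := by
    intro x
    have : CommRingCat.ofHom rV.toRingHom ≫ τ = CommRingCat.ofHom rW.toRingHom ≫
        CommRingCat.ofHom (Algebra.TensorProduct.includeRight : L →ₐ[A] K' ⊗[A] L).toRingHom :=
      Spec.map_injective (by
        rw [Spec.map_comp, Spec.map_comp, hτ]
        exact congrArg (fun k => k.left) ht1)
    exact congr($this x)
  have hs : Function.Surjective (Algebra.TensorProduct.lift (Algebra.ofId A' R') rV (fun _ _ => Commute.all _ _) :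
      A' ⊗[A] R →ₐ[A'] R') := by
    have e : ((Algebra.TensorProduct.lift (Algebra.ofId A' R') rV (fun _ _ => Commute.all _ _) :
      A' ⊗[A] R →ₐ[A'] R')).restrictScalars A = Algebra.TensorProduct.lift gV rV (fun _ _ => Commute.all _ _) := by
      ext <;> simp <;> rfl
    intro y
    obtain ⟨x, hx⟩ := hsV y
    exact ⟨x, by rw [← hx]; exact DFunLike.congr_fun e x⟩
  obtain ⟨hBet, β, hβ⟩ := etale_range_of_generic (K := K) (IsFractionRing.injective A' K') rW rV hs θ hτinj hθr
  let B := rW.range
  let bU := specOverMap str rW.rangeRestrict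
  let pB := specOverBase str B
  let wB := specOverMap str B.val
  have hwB : wB ≫ bU = specOverMap str rW := (specOverMap_comp str _ _).trans (by congr 1)
  let m := (AlgSp.yon S).map bU ≫ a
  have hmπ : m ≫ π = (AlgSp.yon S).map pB := by
    rw [Category.assoc, ha, ← Functor.map_comp, specOverMap_comp_base]
  have hwm : (AlgSp.yon S).map wB ≫ m = (AlgSp.yon S).map (specOverMap str gW) ≫ η := by
    rw [← Category.assoc, ← Functor.map_comp, hwB, sW.w]
  -- the cover
  have hpBe : Etale pB.left := (HasRingHomProperty.Spec_iff (P := @Etale)).2 (RingHom.etale_algebraMap.2 hBet)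
  obtain ⟨v, hv₁, hv₂⟩ : ∃ v, (specOverMap str rV).left v = u ∧ (specOverMap str gV).left v = c' :=
    (AlgSpB.ofPt_eq_ofPt_iff sV u c').1 hau
  have hpBs : Surjective pB.left := by
    constructor
    intro x
    let βO := specOverMap str β
    let cA : ↥(Over.mk str).left := IsLocalRing.closedPoint A
    have h1 : pB.left (βO.left v) = cA := by
      have e : βO ≫ pB = specOverMap str gV ≫ specOverBase str A' := by
        rw [specOverMap_comp_base, specOverMap_comp_base]
      rw [← Scheme.Hom.comp_apply, ← Over.comp_left, e, Over.comp_left, Scheme.Hom.comp_apply, hv₂]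
      exact (IsLocalRing.isLocalHom_iff_comap_closedPoint (algebraMap A A')).1 ‹_›
    have hg : GeneralizingMap pB.left :=
      RingHom.Flat.generalizingMap_comap (RingHom.flat_algebraMap_iff.2 inferInstance)
    have hx : x ⤳ pB.left (βO.left v) := by
      rw [h1]
      exact IsLocalRing.specializes_closedPoint (R := A) x
    obtain ⟨y, -, hy⟩ := hg hx
    exact ⟨y, hy⟩
  have hpe : AlgSp.RepWith @Etale ((AlgSp.yon S).map pB) := (AlgSp.repWith_yon_map_iff _ _).2 hpBe
  have hps : AlgSp.RepWith @Surjective ((AlgSp.yon S).map pB) := (AlgSp.repWith_yon_map_iff _ _).2 hpBs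
  have hB : Module.Flat A B := flat_of_subalgebra_of_fractionRing K B
  have : Module.Flat A K := IsLocalization.flat K (nonZeroDivisors A)
  have : Module.Flat A L := Module.Flat.trans A K L
  -- compatibility on the overlap
  have sBB := isPullback_specOver str B B
  let q₁ := specOverMap str (Algebra.TensorProduct.includeLeft : B →ₐ[A] B ⊗[A] B)
  let q₂ := specOverMap str (Algebra.TensorProduct.includeRight : B →ₐ[A] B ⊗[A] B)
  have hover : (AlgSp.yon S).map q₁ ≫ m = (AlgSp.yon S).map q₂ ≫ m := by
    refine eq_of_agree_dense str hπ (Algebra.TensorProduct.map B.val B.val) ?_ ?_ ?_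
    · exact TensorProduct.map_injective_of_flat_flat (R := A) B.val.toLinearMap B.val.toLinearMap
        Subtype.val_injective Subtype.val_injective
    · refine ((Category.assoc _ _ _).trans ?_).trans (Category.assoc _ _ _).symm
      rw [hmπ, ← Functor.map_comp, ← Functor.map_comp, specOverMap_comp_base, specOverMap_comp_base]
    · let dd := specOverMap str (Algebra.TensorProduct.map B.val B.val)
      let d₁ := specOverMap str (Algebra.TensorProduct.includeLeft : L →ₐ[A] L ⊗[A] L)
      let d₂ := specOverMap str (Algebra.TensorProduct.includeRight : L →ₐ[A] L ⊗[A] L)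
      have e₁ : dd ≫ q₁ = d₁ ≫ wB := by
        rw [specOverMap_comp, specOverMap_comp]; congr 1
      have e₂ : dd ≫ q₂ = d₂ ≫ wB := by
        rw [specOverMap_comp, specOverMap_comp]; congr 1
      have e₃ : d₁ ≫ specOverMap str gW = d₂ ≫ specOverMap str gW := by
        rw [← cancel_mono (specOverBase str K)]
        simp only [Category.assoc, specOverMap_comp_base]
        exact (specOverMap_comp_base str _).trans (specOverMap_comp_base str _).symm
      have k : ∀ (q : specOverS str (B ⊗[A] B) ⟶ specOverS str B) (d : specOverS str (L ⊗[A] L) ⟶ specOverS str L),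
          dd ≫ q = d ≫ wB → (AlgSp.yon S).map dd ≫ (AlgSp.yon S).map q ≫ m =
            (AlgSp.yon S).map (d ≫ specOverMap str gW) ≫ η := by
        intro q d hd
        rw [← Functor.map_comp_assoc, hd, Functor.map_comp_assoc, hwm, Functor.map_comp_assoc]
      exact (k q₁ d₁ e₁).trans ((congrArg (fun z => (AlgSp.yon S).map z ≫ η) e₃).trans (k q₂ d₂ e₂).symm)
  obtain ⟨σ, hσ⟩ := AlgSp.InfSpace.exists_desc hpe hps m (fun T x y hxy => by
    obtain ⟨x', rfl⟩ := (AlgSp.yon S).map_surjective x
    obtain ⟨y', rfl⟩ := (AlgSp.yon S).map_surjective y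
    have w : x' ≫ pB = y' ≫ pB := (AlgSp.yon S).map_injective (by simpa using hxy)
    rw [← sBB.lift_fst x' y' w]
    conv_rhs => rw [← sBB.lift_snd x' y' w]
    rw [Functor.map_comp, Functor.map_comp, Category.assoc, Category.assoc, hover])
  refine ⟨σ, AlgSp.InfSpace.hom_ext_cover_sp hpe hps (by rw [← Category.assoc, hσ, hmπ, Category.comp_id]), ?_⟩
  -- the generic point
  have hWe : AlgSp.RepWith @Etale ((AlgSp.yon S).map (specOverMap str gW)) :=
    MorphismProperty.of_isPullback sW hae
  have hnt : Nontrivial L := by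
    have : Nontrivial R' := PrimeSpectrum.nontrivial v
    have : Nontrivial (K' ⊗[A] L) := ⟨θ 0, θ 1, fun h => zero_ne_one (hτinj h)⟩
    exact (Algebra.TensorProduct.includeRight : L →ₐ[A] K' ⊗[A] L).toRingHom.domain_nontrivial
  have hWs : AlgSp.RepWith @Surjective ((AlgSp.yon S).map (specOverMap str gW)) := by
    refine (AlgSp.repWith_yon_map_iff _ _).2 ⟨fun x => ?_⟩
    obtain ⟨y⟩ := (inferInstance : Nonempty (PrimeSpectrum L))
    exact ⟨y, Subsingleton.elim (α := PrimeSpectrum K) _ _⟩
  refine AlgSp.InfSpace.hom_ext_cover_sp hWe hWs ?_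
  rw [← hwm, ← hσ, ← Category.assoc, ← Category.assoc, ← Functor.map_comp, ← Functor.map_comp,
    specOverMap_comp_base, specOverMap_comp_base]

/-- A dotted arrow over an extension of the valuation ring descends for a separated morphism. -/
theorem hasLift_of_domExt {X Y : AlgSp.Space S} (f : X ⟶ Y) (hf : AlgSp.IsSeparatedMor f.hom)
    (sq : AlgSp.ValSq f.hom) (e : sq.DomExt) (he : e.HasLift) : sq.HasLift := by
  obtain ⟨l, hl₁, hl₂⟩ := he
  letI : Algebra sq.A e.A' := e.φ.toAlgebra
  letI : Algebra sq.K e.K' := e.ψ.toAlgebra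
  letI : Algebra sq.A e.K' := ((algebraMap e.A' e.K').comp e.φ).toAlgebra
  have : IsScalarTower sq.A e.A' e.K' := IsScalarTower.of_algebraMap_eq' rfl
  have : IsScalarTower sq.A sq.K e.K' := IsScalarTower.of_algebraMap_eq' e.comm
  have : IsLocalHom (algebraMap sq.A e.A') := e.isLocalHom
  have hT : AlgSp.IsAlgSpace ((AlgSp.yon S).obj sq.ptA) := AlgSp.IsAlgSpace.yon_obj _
  have hZ : AlgSp.IsAlgSpace (pullback f.hom sq.bot) :=
    AlgSp.isAlgSpace_pullback Y.property X.property hT _ _
  have hπ : AlgSp.IsSeparatedMor (pullback.snd f.hom sq.bot) :=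
    AlgSp.isSeparatedMor_baseChange' (IsPullback.of_hasPullback _ _) hf
  let l' : (AlgSp.yon S).obj (specOverS sq.str e.A') ⟶ pullback f.hom sq.bot :=
    pullback.lift l ((AlgSp.yon S).map (specOverBase sq.str e.A')) hl₂
  let η : (AlgSp.yon S).obj (specOverS sq.str sq.K) ⟶ pullback f.hom sq.bot :=
    pullback.lift sq.top ((AlgSp.yon S).map (specOverBase sq.str sq.K)) sq.comm
  let toK : specOverS sq.str e.K' ⟶ e.ptK' := Over.homMk (𝟙 _) (by
    change 𝟙 _ ≫ Spec.map _ ≫ Spec.map _ ≫ sq.str = _
    rw [Category.id_comp, ← Spec.map_comp_assoc]; rfl)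
  have hcomp : (AlgSp.yon S).map (specOverMap sq.str (IsScalarTower.toAlgHom sq.A e.A' e.K')) ≫ l' =
      (AlgSp.yon S).map (specOverMap sq.str (IsScalarTower.toAlgHom sq.A sq.K e.K')) ≫ η := by
    apply pullback.hom_ext
    · simp only [l', η, Category.assoc, pullback.lift_fst]
      have := congrArg ((AlgSp.yon S).map toK ≫ ·) hl₁
      simp only [← Functor.map_comp_assoc] at this
      have eA : specOverMap sq.str (IsScalarTower.toAlgHom sq.A e.A' e.K') =
          toK ≫ (Over.homMk (Spec.map (CommRingCat.ofHom (algebraMap e.A' e.K'))) rfl : e.ptK' ⟶ e.ptA') :=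
        Over.OverMorphism.ext (Category.id_comp _).symm
      have hψw : Spec.map (CommRingCat.ofHom e.ψ) ≫ sq.ptK.hom = e.ptK'.hom := by
        change Spec.map _ ≫ Spec.map _ ≫ _ = Spec.map _ ≫ Spec.map _ ≫ _
        rw [← Spec.map_comp_assoc, ← Spec.map_comp_assoc, ← CommRingCat.ofHom_comp, ← CommRingCat.ofHom_comp, e.comm]
      have eK : specOverMap sq.str (IsScalarTower.toAlgHom sq.A sq.K e.K') =
          toK ≫ (Over.homMk (Spec.map (CommRingCat.ofHom e.ψ)) hψw : e.ptK' ⟶ sq.ptK) :=
        Over.OverMorphism.ext (Category.id_comp _).symm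
      refine (congrArg (fun z => (AlgSp.yon S).map z ≫ l) eA).trans (this.trans ?_)
      exact congrArg (fun z => (AlgSp.yon S).map z ≫ sq.top) eK.symm
    · simp only [l', η, Category.assoc, pullback.lift_snd, ← Functor.map_comp, specOverMap_comp_base]
  obtain ⟨σ, hσ₁, hσ₂⟩ := exists_section_of_ext sq.str e.A' sq.K e.K' hZ hπ l' (pullback.lift_snd _ _ _)
    η (pullback.lift_snd _ _ _) hcomp
  refine ⟨σ ≫ pullback.fst f.hom sq.bot, ?_, ?_⟩
  · rw [← Category.assoc]
    exact (congrArg (· ≫ pullback.fst f.hom sq.bot) hσ₂).trans (pullback.lift_fst _ _ _)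
  · rw [Category.assoc, pullback.condition, ← Category.assoc, hσ₁, Category.id_comp]

end Groth.Agent.AlgSpD
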