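import Mathlib.RingTheory.Etale.Descent
import Mathlib.RingTheory.Flat.TorsionFree
import Mathlib.RingTheory.RingHom.FaithfullyFlat
import Mathlib.RingTheory.Valuation.ValuationRing

/-!
# Descent of the closure of a generic fibre over a valuation ring
-/

universe u

open scoped TensorProduct

namespace Groth.Agent.AlgSpD

variable {A A' K K' R R' L : Type u} [CommRing A] [IsDomain A] [ValuationRing A]
  [CommRing A'] [Algebra A A'] [Field K] [Algebra A K] [IsFractionRing A K]
  [Field K'] [Algebra A K'] [Algebra A' K'] [IsScalarTower A A' K']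
  [CommRing R] [Algebra A R] [CommRing L] [Algebra A L] [Algebra K L] [IsScalarTower A K L]
  [CommRing R'] [Algebra A R'] [Algebra A' R'] [IsScalarTower A A' R']

variable (K) in
include K in
theorem flat_of_subalgebra_of_fractionRing (B : Subalgebra A L) : Module.Flat A B := by
  have : Module.Flat A K := IsLocalization.flat K (nonZeroDivisors A)
  have : Module.Flat A L := Module.Flat.trans A K L
  rw [Module.Flat.flat_iff_torsion_eq_bot_of_isBezout]
  refine eq_bot_iff.2 fun x hx => ?_
  rw [Submodule.mem_torsion_iff] at hx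
  obtain ⟨a, ha⟩ := hx
  have ht : Submodule.torsion A L = ⊥ := Module.Flat.torsion_eq_bot
  have : (x : L) ∈ Submodule.torsion A L :=
    (Submodule.mem_torsion_iff _).2 ⟨a, by rw [Submonoid.smul_def] at ha ⊢; exact congrArg Subtype.val ha⟩
  rw [ht, Submodule.mem_bot] at this
  exact Subtype.ext this

include K in
/-- If the base change `R'` of the closure `B` of the generic fibre to a faithfully flat valuation
extension is étale then so is `B`. -/
theorem etale_range_of_generic [Module.FaithfullyFlat A A'] (hι : Function.Injective (algebraMap A' K'))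
    [Algebra.Etale A' R'] (ρ : R →ₐ[A] L) (r : R →ₐ[A] R')
    (hs : Function.Surjective (Algebra.TensorProduct.lift (Algebra.ofId A' R') r (fun _ _ => Commute.all _ _) :
      A' ⊗[A] R →ₐ[A'] R'))
    (θ : R' →ₐ[A'] K' ⊗[A] L) (hθ : Function.Injective θ) (hθr : ∀ x, θ (r x) = 1 ⊗ₜ[A] ρ x) :
    Algebra.Etale A ρ.range ∧ ∃ β : ρ.range →ₐ[A] R', ∀ x, β (ρ.rangeRestrict x) = r x := by
  let B := ρ.range
  let s : A' ⊗[A] R →ₐ[A'] R' := Algebra.TensorProduct.lift (Algebra.ofId A' R') r (fun _ _ => Commute.all _ _)
  have hB : Module.Flat A B := flat_of_subalgebra_of_fractionRing K B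
  have : Module.Flat A K := IsLocalization.flat K (nonZeroDivisors A)
  have : Module.Flat A K' := by
    rw [Module.Flat.flat_iff_torsion_eq_bot_of_isBezout]
    refine eq_bot_iff.2 fun x hx => ?_
    rw [Submodule.mem_torsion_iff] at hx
    obtain ⟨a, ha⟩ := hx
    rw [Submonoid.smul_def, Algebra.smul_def, mul_eq_zero] at ha
    rcases ha with h | h
    · have hinj : Function.Injective (algebraMap A K') := by
        rw [IsScalarTower.algebraMap_eq A A' K']
        exact hι.comp (FaithfulSMul.algebraMap_injective A A')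
      exact absurd ((map_eq_zero_iff _ hinj).1 h) (nonZeroDivisors.ne_zero a.2)
    · exact h
  let p : A' ⊗[A] R →ₐ[A'] A' ⊗[A] B := Algebra.TensorProduct.map (AlgHom.id A' A') ρ.rangeRestrict
  let m : A' ⊗[A] B →ₐ[A'] K' ⊗[A] L := Algebra.TensorProduct.map (Algebra.ofId A' K') B.val
  have hm : Function.Injective m := by
    have := TensorProduct.map_injective_of_flat_flat (R := A)
      ((Algebra.ofId A' K').restrictScalars A).toLinearMap B.val.toLinearMap hι Subtype.val_injective
    exact this
  have hp : Function.Surjective p :=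
    TensorProduct.map_surjective (R := A) (g := (LinearMap.id : A' →ₗ[A] A')) (g' := ρ.rangeRestrict.toLinearMap)
      Function.surjective_id ρ.rangeRestrict_surjective
  have hcomp : θ.comp s = m.comp p := by
    ext x
    simp [s, p, m, hθr]
  have hker : RingHom.ker p = RingHom.ker s := by
    ext x
    have h := DFunLike.congr_fun hcomp x
    simp only [AlgHom.comp_apply] at h
    rw [RingHom.mem_ker, RingHom.mem_ker, ← map_eq_zero_iff m hm, ← h, map_eq_zero_iff θ hθ]
  let e₁ : (A' ⊗[A] R ⧸ RingHom.ker p) ≃ₐ[A'] A' ⊗[A] B := Ideal.quotientKerAlgEquivOfSurjective hp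
  let e₂ : (A' ⊗[A] R ⧸ RingHom.ker s) ≃ₐ[A'] R' := Ideal.quotientKerAlgEquivOfSurjective hs
  let e : A' ⊗[A] B ≃ₐ[A'] R' := e₁.symm.trans ((Ideal.quotientEquivAlgOfEq A' hker).trans e₂)
  have he : ∀ x, e (p x) = s x := by
    intro x
    have h1 : e₁.symm (p x) = Ideal.Quotient.mk _ x := by
      rw [AlgEquiv.symm_apply_eq]; rfl
    simp only [e, AlgEquiv.trans_apply, h1]
    rfl
  have : Algebra.Etale A' (A' ⊗[A] B) := Algebra.Etale.of_equiv e.symm
  refine ⟨Algebra.Etale.of_etale_tensorProduct_of_faithfullyFlat A',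
    (e.toAlgHom.restrictScalars A).comp Algebra.TensorProduct.includeRight, fun x => ?_⟩
  have := he (1 ⊗ₜ x)
  simpa [p, s] using this

end Groth.Agent.AlgSpD
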