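import Groth.Agent.AlgSpD.StalkSupport
import Groth.Agent.EtaleSite.EtaleStalkHens

/-!
# The etale local ring of a space is the etale local ring of a chart
-/

universe u

open CategoryTheory CategoryTheory.Limits AlgebraicGeometry Opposite

set_option backward.isDefEq.respectTransparency false
set_option maxHeartbeats 1000000

noncomputable section

namespace Groth.Agent.AlgSpD

open Groth.Agent

variable {S : Scheme.{u}} (X : AlgSp.Space S) (p : AlgSp.FieldPt X.obj)
  {U : Over S} (a : (AlgSp.yon S).obj U ⟶ X.obj) (ha : AlgSp.RepWith @Etale a)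
  (c : p.pt ⟶ U) (hc : (AlgSp.yon S).map c ≫ a = p.toHom)

/-- The geometric point of the chart. -/
abbrev chartPt : Spec (CommRingCat.of p.K) ⟶ U.left := c.left

variable [IsSepClosed p.K]

/-- An etale neighbourhood in the chart gives one in the space. -/
def chartNbhd (V : U.left.Etale) (y : (Scheme.pointSmallEtale (chartPt X p c)).fiber.obj V) : AlgSp.EtNbhd p :=
  ⟨(AlgSp.EtOver.ofChart a ha).obj V,
    ⟨Over.homMk (EtaleSite.EtaleLocalRing.ptOf _ y) (by
      change EtaleSite.EtaleLocalRing.ptOf _ y ≫ V.hom ≫ U.hom = p.pt.hom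
      have h : EtaleSite.EtaleLocalRing.ptOf _ y ≫ V.hom = c.left :=
        Over.w (show Over.mk (chartPt X p c) ⟶ (Scheme.Etale.forget U.left).obj V from y)
      rw [← Category.assoc, h, Over.w c]), by
      change (AlgSp.yon S).map _ ≫ (AlgSp.yon S).map (AlgSp.EtOver.homOfEtale V) ≫ a = p.toHom
      rw [← Category.assoc, ← Functor.map_comp, ← hc]
      congr 2
      ext1
      exact Over.w (show Over.mk (chartPt X p c) ⟶ (Scheme.Etale.forget U.left).obj V from y)⟩⟩

/-- Its functoriality. -/
def chartNbhdMap {V V' : U.left.Etale} (g : V' ⟶ V) (y : (Scheme.pointSmallEtale (chartPt X p c)).fiber.obj V') :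
    chartNbhd X p a ha c hc V' y ⟶
      chartNbhd X p a ha c hc V ((Scheme.pointSmallEtale (chartPt X p c)).fiber.map g y) :=
  CategoryOfElements.homMk _ _ ((AlgSp.EtOver.ofChart a ha).map g) (Subtype.ext (Over.OverMorphism.ext rfl))

/-- The universe lift of commutative rings. -/
def ringLift : CommRingCat.{u} ⥤ CommRingCat.{u + 1} where
  obj A := CommRingCat.of (ULift.{u + 1} A)
  map f := CommRingCat.ofHom (ULift.ringEquiv.symm.toRingHom.comp (f.hom.comp ULift.ringEquiv.toRingHom))
  map_id A := rfl
  map_comp f g := rfl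

instance preservesFilteredColimits_ringLift :
    PreservesFilteredColimitsOfSize.{u, u} ringLift.{u} where
  preserves_filtered_colimits J _ _ :=
    have : PreservesColimitsOfShape J (ringLift.{u} ⋙ forget CommRingCat.{u+1}) :=
      inferInstanceAs (PreservesColimitsOfShape J (forget CommRingCat.{u} ⋙ CategoryTheory.uliftFunctor.{u + 1}))
    have : HasColimitsOfShape J CommRingCat.{u+1} := inferInstance
    have : PreservesColimitsOfShape J (forget CommRingCat.{u+1}) :=
      PreservesFilteredColimitsOfSize.preserves_filtered_colimits J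
    have : ReflectsColimitsOfShape J (forget CommRingCat.{u+1}) :=
      reflectsColimitsOfShape_of_reflectsIsomorphisms
    preservesColimitsOfShape_of_reflects_of_preserves _ (forget CommRingCat.{u+1})

/-- The comparison map on stalks. -/
def chartDesc : (Scheme.pointSmallEtale (chartPt X p c)).presheafFiber.obj
    (EtBase.OO U.left ⋙ ringLift.{u}) ⟶ AlgSp.OEtStalk p :=
  (Scheme.pointSmallEtale (chartPt X p c)).presheafFiberDesc
    (fun V y => AlgSp.stalkEtι p (AlgSp.OEt X.obj) (chartNbhd X p a ha c hc V y))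
    (fun V V' g y => colimit.w (AlgSp.stalkEtDiagram p (AlgSp.OEt X.obj)) (chartNbhdMap X p a ha c hc g y).op)

theorem chartDesc_germ (V : U.left.Etale) (y : (Scheme.pointSmallEtale (chartPt X p c)).fiber.obj V) :
    (Scheme.pointSmallEtale (chartPt X p c)).toPresheafFiber V y
        (EtBase.OO U.left ⋙ ringLift.{u}) ≫ chartDesc X p a ha c hc =
      AlgSp.stalkEtι p (AlgSp.OEt X.obj) (chartNbhd X p a ha c hc V y) :=
  (Scheme.pointSmallEtale (chartPt X p c)).toPresheafFiber_presheafFiberDesc _ _ V y

variable (hp : p.IsGeometric)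
include hp

/-- Neighbourhoods in the space are refined by neighbourhoods in the chart. -/
theorem exists_chartNbhd_hom (N : AlgSp.EtNbhd p) :
    ∃ (V : U.left.Etale) (y : (Scheme.pointSmallEtale (chartPt X p c)).fiber.obj V),
      Nonempty (chartNbhd X p a ha c hc V y ⟶ N) := by
  obtain ⟨W, f, g, sq⟩ := AlgSpB.exists_pullback_yon (X.property.representable_from_yon N.1.obj.hom) a
  have : Etale g.left := N.1.property.2 _ _ _ sq
  obtain ⟨l, hl⟩ := (AlgSp.yon S).map_surjective (sq.lift ((AlgSp.yon S).map N.2.1) ((AlgSp.yon S).map c)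
    (N.2.2.trans hc.symm))
  have h1 : l ≫ f = N.2.1 := (AlgSp.yon S).map_injective (by rw [Functor.map_comp, hl, sq.lift_fst])
  have h2 : l ≫ g = c := (AlgSp.yon S).map_injective (by rw [Functor.map_comp, hl, sq.lift_snd])
  let V : U.left.Etale := MorphismProperty.Over.mk ⊤ g.left ‹Etale g.left›
  let y : (Scheme.pointSmallEtale (chartPt X p c)).fiber.obj V :=
    (Over.homMk l.left (congrArg CommaMorphism.left h2) :
      Over.mk (chartPt X p c) ⟶ (Scheme.Etale.forget U.left).obj V)
  let q : ((AlgSp.EtOver.ofChart a ha).obj V).obj.left ⟶ W := Over.homMk (𝟙 W.left) (by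
    change 𝟙 W.left ≫ W.hom = g.left ≫ U.hom
    rw [Category.id_comp, Over.w g])
  have hq : q ≫ g = AlgSp.EtOver.homOfEtale V := by
    ext1
    exact Category.id_comp _
  refine ⟨V, y, ⟨CategoryOfElements.homMk _ _ (AlgSp.EtOver.homMk (q ≫ f) ?_) (Subtype.ext ?_)⟩⟩
  · rw [Functor.map_comp, Category.assoc, sq.w, ← Category.assoc, ← Functor.map_comp, hq]
    rfl
  · rw [AlgSp.FieldPt.liftsTo_map_coe, ← h1]
    ext1
    change l.left ≫ 𝟙 W.left ≫ f.left = l.left ≫ f.left
    rw [Category.id_comp]

theorem chartDesc_bijective : Function.Bijective (chartDesc X p a ha c hc) := by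
  let Φ := stalkPoint X p hp
  let Ψ := Scheme.pointSmallEtale (chartPt X p c)
  constructor
  · rw [injective_iff_map_eq_zero]
    intro z hz
    obtain ⟨V, y, s, rfl⟩ := Ψ.toPresheafFiber_jointly_surjective z
    have hz' : Φ.toPresheafFiber _ (chartNbhd X p a ha c hc V y).2 (AlgSp.OEt X.obj).obj s =
        Φ.toPresheafFiber _ (chartNbhd X p a ha c hc V y).2 (AlgSp.OEt X.obj).obj 0 := by
      rw [map_zero]
      exact (ConcreteCategory.congr_hom (chartDesc_germ X p a ha c hc V y) s).symm.trans hz
    obtain ⟨E, f, l, hl, hs⟩ := (Φ.toPresheafFiber_eq_iff' _ _ _ _).1 hz'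
    have hfe : Etale f.hom.left.left := AlgSp.EtOver.etale_left f
    have : Etale V.hom := V.prop
    let V' : U.left.Etale := MorphismProperty.Over.mk ⊤ (f.hom.left.left ≫ V.hom)
      (inferInstanceAs (Etale (f.hom.left.left ≫ V.hom)))
    let g : V' ⟶ V := MorphismProperty.Over.homMk f.hom.left.left rfl
    have hl' : l.1.left ≫ f.hom.left.left = EtaleSite.EtaleLocalRing.ptOf _ y :=
      congrArg CommaMorphism.left (congrArg Subtype.val hl)
    let y' : Ψ.fiber.obj V' := (Over.homMk l.1.left (by
      change l.1.left ≫ f.hom.left.left ≫ V.hom = c.left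
      rw [← Category.assoc, hl']
      exact Over.w (show Over.mk (chartPt X p c) ⟶ (Scheme.Etale.forget U.left).obj V from y)) :
      Over.mk (chartPt X p c) ⟶ (Scheme.Etale.forget U.left).obj V')
    have hy' : Ψ.fiber.map g y' = y := Over.OverMorphism.ext hl'
    have hs' : (EtBase.OO U.left ⋙ ringLift.{u}).map g.op s = 0 := by
      refine (hs.trans ?_)
      exact map_zero _
    rw [← hy', ← GrothendieckTopology.Point.toPresheafFiber_w_apply, hs', map_zero]
  · intro z
    obtain ⟨E, l, s, rfl⟩ := Φ.toPresheafFiber_jointly_surjective (P := (AlgSp.OEt X.obj).obj) z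
    obtain ⟨V, y, ⟨h⟩⟩ := exists_chartNbhd_hom X p a ha c hc hp ⟨E, l⟩
    refine ⟨Ψ.toPresheafFiber V y (EtBase.OO U.left ⋙ ringLift.{u})
      ((AlgSp.OEt X.obj).obj.map h.val.op s), ?_⟩
    refine (ConcreteCategory.congr_hom (chartDesc_germ X p a ha c hc V y) _).trans ?_
    exact ConcreteCategory.congr_hom (colimit.w (AlgSp.stalkEtDiagram p (AlgSp.OEt X.obj)) h.op) s

include ha hc in
/-- The etale local ring of the space is that of the chart. -/
theorem nonempty_ringEquiv_OEtStalk :
    Nonempty (EtBase.etaleLocalRing (chartPt X p c) ≃+* ↥(AlgSp.OEtStalk p)) := by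
  let e := ((Scheme.pointSmallEtale (chartPt X p c)).presheafFiberCompIso
    ringLift.{u}).app (EtBase.OO U.left)
  let e₁ : ULift.{u + 1} (EtBase.etaleLocalRing (chartPt X p c)) ≃+* _ := e.symm.commRingCatIsoToRingEquiv
  exact ⟨ULift.ringEquiv.symm.trans (e₁.trans
    (RingEquiv.ofBijective (chartDesc X p a ha c hc).hom (chartDesc_bijective X p a ha c hc hp)))⟩

end Groth.Agent.AlgSpD
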