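import Groth.Agent.AlgSpD.StalkChart
import Groth.Agent.AlgSpD.HasAt
import Groth.Agent.AlgSpD.DecentCrit
import Groth.Agent.S9238
import Groth.Agent.Hens.BranchSup
import Groth.Prelude.Def_CAlgX

/-!
# The etale local ring of a space is a strict henselization of the local ring of any chart
-/

universe u v

open CategoryTheory CategoryTheory.Limits AlgebraicGeometry Opposite

set_option backward.isDefEq.respectTransparency false
set_option autoImplicit false

namespace Groth.Agent.AlgSpD

open Groth.Agent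

variable {S : Scheme.{u}} (X : AlgSp.Space S)

theorem encard_minimalPrimes_congr {R : Type u} {R' : Type v} [CommRing R] [CommRing R'] (e : R ≃+* R') :
    (minimalPrimes R).encard = (minimalPrimes R').encard := by
  have hle : ∀ {A : Type u} {B : Type v} [CommRing A] [CommRing B] (e : A ≃+* B) (P : Ideal B),
      P ∈ minimalPrimes B → P.comap e.toRingHom ∈ minimalPrimes A := by
    intro A B _ _ e P hP
    haveI := hP.1.1
    refine ⟨⟨inferInstance, bot_le⟩, fun Q hQ hQP => ?_⟩
    haveI := hQ.1
    have h1 : Q.comap e.symm.toRingHom ≤ P := fun x hx => by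
      have h : e.toRingHom (e.symm x) ∈ P := hQP hx
      simpa using h
    have h2 := hP.2 ⟨inferInstance, bot_le⟩ h1
    intro x hx
    have h : e x ∈ Q.comap e.symm.toRingHom := h2 hx
    simpa using h
  have hinj : ∀ P Q : Ideal R', P.comap e.toRingHom = Q.comap e.toRingHom → P = Q := fun P Q h => by
    ext x
    have := SetLike.ext_iff.1 h (e.symm x)
    rw [Ideal.mem_comap, Ideal.mem_comap, show e.toRingHom (e.symm x) = x from e.apply_symm_apply x] at this
    exact this
  have himg : (fun P : Ideal R' => P.comap e.toRingHom) '' minimalPrimes R' = minimalPrimes R := by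
    refine Set.Subset.antisymm (Set.image_subset_iff.2 fun P hP => hle e P hP) fun Q hQ => ?_
    haveI := hQ.1.1
    refine ⟨Q.comap e.symm.toRingHom, ⟨⟨inferInstance, bot_le⟩, fun P hP hPQ => ?_⟩, ?_⟩
    · haveI := hP.1
      have h1 : P.comap e.toRingHom ≤ Q := fun x hx => by
        have h : e.symm.toRingHom (e x) ∈ Q := hPQ hx
        simpa using h
      have h2 := hQ.2 ⟨inferInstance, bot_le⟩ h1
      intro x hx
      have h : e.toRingHom (e.symm x) ∈ P := Ideal.mem_comap.1 (h2 hx)
      rwa [show e.toRingHom (e.symm x) = x from e.apply_symm_apply x] at h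
    · ext x
      simp
  rw [← himg, Set.InjOn.encard_image fun P _ Q _ h => hinj P Q h]

theorem hasUniqueMinimalPrime_iff {R : Type u} [CommRing R] :
    CAlgX.HasUniqueMinimalPrime R ↔ (minimalPrimes R).encard = 1 := by
  rw [Set.encard_eq_one]
  exact ⟨fun ⟨P, hP, h⟩ => ⟨P, Set.ext fun Q => ⟨fun hQ => h Q hQ, fun hQ => hQ ▸ hP⟩⟩,
    fun ⟨P, h⟩ => ⟨P, h ▸ rfl, fun Q hQ => (h ▸ hQ : Q ∈ ({P} : Set (Ideal R)))⟩⟩

/-- The etale local ring at a geometric point is a strict henselization of the local ring of any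
chart at any point over it. -/
theorem exists_strictHens (p : AlgSp.FieldPt X.obj) (hp : p.IsGeometric) {U : Over S}
    {a : (AlgSp.yon S).obj U ⟶ X.obj} (ha : AlgSp.RepWith @Etale a) {u : ↥U.left}
    (hu : AlgSp.Points.ofPt a u = AlgSp.Points.mk p) :
    ∃ (R : Type u) (_ : CommRing R) (_ : IsLocalRing R) (_ : Algebra (U.left.presheaf.stalk u) R)
      (_ : IsLocalHom (algebraMap (U.left.presheaf.stalk u) R)),
      Hensel.IsStrictHenselization (U.left.presheaf.stalk u) R ∧
        EtCoh.IsStrictlyHenselianLocalRing R ∧ Nonempty (R ≃+* ↥(AlgSp.OEtStalk p)) := by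
  haveI : IsAlgClosed p.K := hp
  obtain ⟨c, hc, hcu⟩ := AlgSpB.exists_lift_geometric ha p hp u hu
  have hξ : chartPt X p c default = u := by
    rw [← hcu]
    exact congrArg c.left (@Subsingleton.elim _ (inferInstanceAs (Subsingleton (PrimeSpectrum p.K))) _ _)
  obtain ⟨e⟩ := nonempty_ringEquiv_OEtStalk X p a ha c hc hp
  obtain ⟨hl, alg, hloc, hH⟩ := EtaleSite.EtaleLocalRing.exists_isStrictHenselization (chartPt X p c)
  subst hξ
  exact ⟨_, inferInstance, hl, alg, hloc, hH,
    EtaleSite.EtaleLocalRing.isStrictlyHenselian (chartPt X p c), ⟨e⟩⟩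

/-- The number of geometric branches of a chart is the number of minimal primes of the etale local ring. -/
theorem numGeomBranchesAt_eq (p : AlgSp.FieldPt X.obj) (hp : p.IsGeometric) {U : Over S}
    {a : (AlgSp.yon S).obj U ⟶ X.obj} (ha : AlgSp.RepWith @Etale a) {u : ↥U.left}
    (hu : AlgSp.Points.ofPt a u = AlgSp.Points.mk p) :
    Brnch.numGeomBranchesAt U.left u = (minimalPrimes ↥(AlgSp.OEtStalk p)).encard := by
  obtain ⟨R, _, _, _, _, _, -, ⟨e⟩⟩ := exists_strictHens X p hp ha hu
  rw [← encard_minimalPrimes_congr e, ← ENat.card_coe_set_eq]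
  exact (Groth.Agent.S9238.result (U.left.presheaf.stalk u) R).symm

/-- A point of an object lifts to a geometric point: every point of the space is geometric. -/
theorem exists_geometric_rep (x : AlgSp.Points X.obj) :
    ∃ p : AlgSp.FieldPt X.obj, p.IsGeometric ∧ AlgSp.Points.mk p = x := by
  obtain ⟨U, a, u, ha, rfl⟩ := exists_chart X x
  obtain ⟨q, hq, l, -, hqm⟩ := exists_geometric_lift X (AlgSp.EtOver.mk a ha) u
  exact ⟨q, hq, hqm⟩

/-- Charts' minimal primes are bounded by their geometric branches. -/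
theorem encard_minimalPrimes_le_numGeomBranchesAt {U : Scheme.{u}} (u : U) :
    (minimalPrimes ↥(U.presheaf.stalk u)).encard ≤ Brnch.numGeomBranchesAt U u := by
  rw [Hens.numGeomBranchesAt_eq_iSup]
  exact le_iSup_of_le U (le_iSup_of_le (𝟙 U) (le_iSup_of_le u
    (le_iSup_of_le ⟨(Hens.isEtaleNbhd_id U u).etale, rfl⟩ (Hens.encard_components_eq u).ge)))

/-- The branches of a chart are computed by etale charts. -/
theorem numGeomBranchesAt_le {x : AlgSp.Points X.obj} {n : ℕ∞} {U : Over S}
    {a : (AlgSp.yon S).obj U ⟶ X.obj} (ha : AlgSp.RepWith @Etale a) {u : ↥U.left}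
    (hu : AlgSp.Points.ofPt a u = x)
    (h : ∀ (V : Over S) (b : (AlgSp.yon S).obj V ⟶ X.obj) (v : ↥V.left),
      AlgSp.RepWith @Etale b → AlgSp.Points.ofPt b v = x → (minimalPrimes ↥(V.left.presheaf.stalk v)).encard ≤ n) :
    Brnch.numGeomBranchesAt U.left u ≤ n := by
  rw [Hens.numGeomBranchesAt_eq_iSup]
  refine iSup_le fun W => iSup_le fun g => iSup_le fun w => iSup_le fun hg => ?_
  rw [Hens.encard_components_eq]
  let f : Over.mk (g ≫ U.hom) ⟶ U := Over.homMk g rfl
  haveI : Etale f.left := hg.1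
  refine h _ ((AlgSp.yon S).map f ≫ a) w (AlgSpB.repWith_etale_map_comp f ha) ?_
  rw [AlgSpB.ofPt_map_comp]
  exact (congrArg (AlgSp.Points.ofPt a) hg.2).trans hu

end Groth.Agent.AlgSpD
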