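import Groth.Agent.AlgSpD.RelDim
import Groth.Agent.AlgSpCov.Instances
import Groth.Agent.AlgSpCov.LocPBasic
import Mathlib.AlgebraicGeometry.Morphisms.FormallyUnramified

/-!
# The unramified locus of a morphism of algebraic spaces
-/

universe u

open CategoryTheory CategoryTheory.Limits AlgebraicGeometry Opposite Topology

set_option backward.isDefEq.respectTransparency false

namespace Groth.Agent.AlgSpD

open Groth.Agent

/-- Unramified on an open around the point. -/
def UnrNear : ∀ (U V : Scheme.{u}), (U ⟶ V) → ↥U → Prop := fun U _ h u =>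
  ∃ W : U.Opens, u ∈ W ∧ LocallyOfFiniteType (W.ι ≫ h) ∧ FormallyUnramified (W.ι ≫ h)

theorem morEtaleInv_unrNear : MorEtaleInv.{u} UnrNear := by
  intro U' U V' V p q h' h hp hq w u
  constructor
  · rintro ⟨W, hu, h1, h2⟩
    let W₀ : U.Opens := ⟨p '' W, p.isOpenMap _ W.2⟩
    have hle : W ≤ p ⁻¹ᵁ W₀ := fun t ht => ⟨t, ht, rfl⟩
    let e : (W : Scheme) ⟶ W₀ := p.resLE W₀ W hle
    have : Surjective e := ⟨fun t => by
      obtain ⟨s, hs, hst⟩ := t.2
      exact ⟨⟨s, hs⟩, W₀.ι.isOpenEmbedding.injective (by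
        simp only [e, ← Scheme.Hom.comp_apply, Scheme.Hom.resLE_comp_ι]; exact hst)⟩⟩
    have he : e ≫ W₀.ι ≫ h = (W.ι ≫ h') ≫ q := by
      rw [Scheme.Hom.resLE_comp_ι_assoc, Category.assoc, w]
    refine ⟨W₀, ⟨u, hu, rfl⟩, ?_, ?_⟩
    · exact AlgSpCov.etaleLocal_locallyOfFiniteType.ofPrecomp e _ inferInstance inferInstance
        (by rw [he]; exact inferInstance)
    · exact AlgSpCov.etaleLocal_formallyUnramified.ofPrecomp e _ inferInstance inferInstance
        (by rw [he]; exact MorphismProperty.comp_mem @FormallyUnramified _ _ h2 inferInstance)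
  · rintro ⟨W, hu, h1, h2⟩
    refine ⟨p ⁻¹ᵁ W, hu, ?_⟩
    have e : ((p ⁻¹ᵁ W).ι ≫ h') ≫ q = (p ∣_ W) ≫ W.ι ≫ h := by
      rw [morphismRestrict_ι_assoc, Category.assoc, w]
    have h1' : LocallyOfFiniteType (((p ⁻¹ᵁ W).ι ≫ h') ≫ q) := by rw [e]; infer_instance
    have h2' : FormallyUnramified (((p ⁻¹ᵁ W).ι ≫ h') ≫ q) := by
      rw [e]; exact MorphismProperty.comp_mem @FormallyUnramified _ _ inferInstance h2
    exact ⟨locallyOfFiniteType_of_comp _ q, FormallyUnramified.of_comp _ q⟩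

theorem unrNear_iff {U V : Scheme.{u}} (h : U ⟶ V) [LocallyOfFiniteType h] (u : U) :
    UnrNear U V h u ↔ ∃ W : U.Opens, u ∈ W ∧ FormallyUnramified (W.ι ≫ h) :=
  ⟨fun ⟨W, hu, _, h2⟩ => ⟨W, hu, h2⟩, fun ⟨W, hu, h2⟩ => ⟨W, hu, inferInstance, h2⟩⟩

theorem isOpen_unrNear {S : Scheme.{u}} {F G : AlgSp.Sp S} (f : F ⟶ G) :
    IsOpen {x : AlgSp.Points F | AlgSp.HasAtMor UnrNear f x} := by
  rw [isOpen_iff_forall_mem_open]
  rintro x ⟨U, V, a, b, h, u, ha, hb, w, rfl, W, hu, h1, h2⟩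
  exact ⟨AlgSp.Points.ofPt a '' (W : Set ↥U.left),
    fun _ ⟨t, ht, e⟩ => ⟨U, V, a, b, h, t, ha, hb, w, e, W, ht, h1, h2⟩,
    AlgSpB.isOpenMap_ofPt ha _ W.2, ⟨u, hu, rfl⟩⟩

/-- Cancellation of locally of finite type morphisms of algebraic spaces. -/
theorem locP_lft_of_comp {S : Scheme.{u}} {X Y Z : AlgSp.Space S} (f : X ⟶ Y) (q : Y ⟶ Z)
    (hp : AlgSp.LocP @LocallyOfFiniteType (f ≫ q).hom) : AlgSp.LocP @LocallyOfFiniteType f.hom := by
  intro U V a b h ha hb w
  obtain ⟨T, c, hc, hcs⟩ := Z.property.atlas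
  obtain ⟨V', o, k, sqV⟩ := AlgSpB.exists_pullback_yon (Z.property.representable_from_yon (b ≫ q.hom)) c
  have : Etale o.left := hc.2 _ _ _ sqV.flip
  have : Surjective o.left := hcs.2 _ _ _ sqV.flip
  let U' := pullback h o
  have hpb : IsPullback (pullback.fst h o).left (pullback.snd h o).left h.left o.left :=
    (IsPullback.of_hasPullback h o).map (Over.forget S)
  have : Etale (pullback.fst h o).left := MorphismProperty.of_isPullback (P := @Etale) hpb.flip ‹_›
  have : Surjective (pullback.fst h o).left := MorphismProperty.of_isPullback (P := @Surjective) hpb.flip ‹_›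
  have h0 : LocallyOfFiniteType (pullback.snd h o ≫ k).left :=
    hp ((AlgSp.yon S).map (pullback.fst h o) ≫ a) c (pullback.snd h o ≫ k)
      (AlgSpB.repWith_etale_map_comp _ ha) hc (by
        show ((AlgSp.yon S).map _ ≫ a) ≫ f.hom ≫ q.hom = _
        rw [Category.assoc, reassoc_of% w, ← Functor.map_comp_assoc, pullback.condition, Functor.map_comp_assoc,
          sqV.w, Functor.map_comp_assoc])
  rw [Over.comp_left] at h0
  have := locallyOfFiniteType_of_comp (pullback.snd h o).left k.left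
  have h1 : LocallyOfFiniteType ((pullback.fst h o).left ≫ h.left) := by rw [hpb.w]; infer_instance
  exact AlgSpCov.etaleLocal_locallyOfFiniteType.ofPrecomp (pullback.fst h o).left _ inferInstance inferInstance h1

end Groth.Agent.AlgSpD
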