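import Groth.Agent.AlgSpD.ProjLocal
import Groth.Agent.QCoh.Basic
import Mathlib.Topology.Sheaves.SheafCondition.UniqueGluing
import Mathlib.RingTheory.Localization.BaseChange

/-!
# The Zariski companion of a module with small sections on the small etale site of a scheme
-/

universe u

open CategoryTheory CategoryTheory.Limits AlgebraicGeometry Opposite TensorProduct TopologicalSpace

set_option backward.isDefEq.respectTransparency false
set_option backward.isDefEq.respectTransparency.types false
set_option autoImplicit false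

namespace Groth.Agent.AlgSpD.ZarCompanionMk

open _root_.AlgSp
open Groth.Agent.AlgSpQC
open Groth.Agent.AlgSpD.ProjLocal (schOpen)

variable {S : Scheme.{u}} {T : Over S} (P : ModEt ((yon S).obj T))

/-- An inclusion of opens in the site. -/
noncomputable abbrev schLE {W W' : T.left.Opens} (h : W' ≤ W) : schOpen W' ⟶ schOpen W :=
  (EtOver.ofScheme T).map (etaleOfLE h)

theorem schLE_refl (W : T.left.Opens) : schLE (le_refl W) = 𝟙 (schOpen W) :=
  EtOver.hom_ext _ _ (Over.OverMorphism.ext (T.left.homOfLE_rfl W))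

theorem schLE_comp {W W' W'' : T.left.Opens} (h : W' ≤ W) (h' : W'' ≤ W') :
    schLE h' ≫ schLE h = schLE (h'.trans h) :=
  EtOver.hom_ext _ _ (Over.OverMorphism.ext (T.left.homOfLE_homOfLE h' h))

/-- Functions on an open as global functions of the open subscheme. -/
noncomputable abbrev fn (W : T.left.Opens) : Γ(T.left, W) →+* gr (schOpen W) := W.topIso.inv.hom

theorem gm_schLE_fn {W W' : T.left.Opens} (h : W' ≤ W) (a : Γ(T.left, W)) :
    gm (schLE h) (fn W a) = fn W' (T.left.presheaf.map (homOfLE h).op a) := by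
  change (T.left.homOfLE h).appTop (T.left.presheaf.map _ a) = T.left.presheaf.map _ (T.left.presheaf.map _ a)
  rw [Scheme.homOfLE_appTop]
  change (T.left.presheaf.map _ ≫ T.left.presheaf.map _) a = (T.left.presheaf.map _ ≫ T.left.presheaf.map _) a
  rw [← Functor.map_comp, ← Functor.map_comp]
  rfl

theorem fn_bijective (W : T.left.Opens) : Function.Bijective (fn W) :=
  ConcreteCategory.bijective_of_isIso W.topIso.inv

variable [∀ W : T.left.Opens, Small.{u} (sectModEt P (schOpen W))]

/-- The small model of the sections over an open. -/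
noncomputable abbrev sh (W : T.left.Opens) : Type u := Shrink.{u} (sectModEt P (schOpen W))

noncomputable instance moduleSh (W : T.left.Opens) : Module Γ(T.left, W) (sh P W) :=
  Module.compHom (sh P W) (fn W)

theorem sh_smul (W : T.left.Opens) (a : Γ(T.left, W)) (x : sh P W) : a • x = fn W a • x := rfl

/-- Unshrinking. -/
noncomputable abbrev un (W : T.left.Opens) : sh P W ≃ₗ[gr (schOpen W)] sectModEt P (schOpen W) :=
  Shrink.linearEquiv _ _

/-- Restriction on small models. -/
noncomputable def shRes {W W' : T.left.Opens} (h : W' ≤ W) : sh P W →+ sh P W' :=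
  (un P W').symm.toAddEquiv.toAddMonoidHom.comp ((rs P (schLE h)).comp (un P W).toAddEquiv.toAddMonoidHom)

theorem un_shRes {W W' : T.left.Opens} (h : W' ≤ W) (x : sh P W) :
    un P W' (shRes P h x) = rs P (schLE h) (un P W x) := (un P W').apply_symm_apply _

/-- The small presheaf of abelian groups. -/
noncomputable def shPresheaf : T.left.Opensᵒᵖ ⥤ AddCommGrpCat.{u} where
  obj W := AddCommGrpCat.of (sh P W.unop)
  map i := AddCommGrpCat.ofHom (shRes P i.unop.le)
  map_id W := AddCommGrpCat.hom_ext <| AddMonoidHom.ext fun x => by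
    refine (un P W.unop).injective ((un_shRes P le_rfl x).trans ?_)
    rw [schLE_refl, rs_id]
    rfl
  map_comp {A B C} i j := AddCommGrpCat.hom_ext <| AddMonoidHom.ext fun x => by
    refine (un P C.unop).injective ((un_shRes P _ x).trans ?_)
    change _ = un P C.unop (shRes P j.unop.le (shRes P i.unop.le x))
    rw [un_shRes, un_shRes, ← rs_comp, schLE_comp]

noncomputable instance moduleShPresheaf (W : T.left.Opensᵒᵖ) :
    Module (T.left.ringCatSheaf.obj.obj W) ((shPresheaf P).obj W) :=
  moduleSh P W.unop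

/-- The small presheaf of modules. -/
noncomputable def shMod : T.left.PresheafOfModules :=
  PresheafOfModules.ofPresheaf (shPresheaf P) fun {A B} i r m => by
    refine (un P B.unop).injective ((un_shRes P _ _).trans ?_)
    refine (congrArg (rs P (schLE i.unop.le)) ((un P A.unop).map_smul (fn A.unop r) m)).trans ?_
    rw [rs_smul, gm_schLE_fn]
    refine Eq.trans ?_ ((un P B.unop).map_smul (fn B.unop _) (shRes P i.unop.le m)).symm
    rw [un_shRes]
    rfl

theorem range_le_inf {W W' : T.left.Opens} {Z : EtOver ((yon S).obj T)} (a : Z ⟶ schOpen W) (b : Z ⟶ schOpen W')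
    (e : a.hom.left.left ≫ W.ι = b.hom.left.left ≫ W'.ι) :
    Set.range (a.hom.left.left ≫ W.ι) ⊆ Set.range (W ⊓ W').ι := by
  rintro _ ⟨z, rfl⟩
  rw [Scheme.Opens.range_ι]
  exact ⟨(a.hom.left.left z).2, e ▸ (b.hom.left.left z).2⟩

omit [∀ W : T.left.Opens, Small.{u} (sectModEt P (schOpen W))] in
theorem rs_eq_of_inf {W W' : T.left.Opens} {Z : EtOver ((yon S).obj T)} (a : Z ⟶ schOpen W) (b : Z ⟶ schOpen W')
    (e : a.hom.left.left ≫ W.ι = b.hom.left.left ≫ W'.ι) {m : sectModEt P (schOpen W)} {m' : sectModEt P (schOpen W')}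
    (h : rs P (schLE inf_le_left) m = rs P (schLE inf_le_right) m' ) : rs P a m = rs P b m' := by
  let v := IsOpenImmersion.lift (W ⊓ W').ι _ (range_le_inf a b e)
  have hv : v ≫ (W ⊓ W').ι = a.hom.left.left ≫ W.ι := IsOpenImmersion.lift_fac _ _ _
  let z : Z ⟶ schOpen (W ⊓ W') := EtOver.homMk (Over.homMk v (by
      have := Over.w a.hom.left
      change v ≫ (W ⊓ W').ι ≫ T.hom = _
      rw [reassoc_of% hv]
      exact this)) (by
    rw [← EtOver.w a]
    change (yon S).map _ ≫ (yon S).map _ ≫ 𝟙 _ = (yon S).map _ ≫ (yon S).map _ ≫ 𝟙 _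
    rw [Category.comp_id, Category.comp_id, ← Functor.map_comp, ← Functor.map_comp]
    congr 1
    exact Over.OverMorphism.ext hv)
  have h₁ : z ≫ schLE inf_le_left = a := EtOver.hom_ext _ _ (Over.OverMorphism.ext (by
    rw [← cancel_mono W.ι]
    exact (Category.assoc _ _ _).trans ((congrArg (v ≫ ·) (T.left.homOfLE_ι (inf_le_left : W ⊓ W' ≤ W))).trans hv)))
  have h₂ : z ≫ schLE inf_le_right = b := EtOver.hom_ext _ _ (Over.OverMorphism.ext (by
    rw [← cancel_mono W'.ι]
    exact (Category.assoc _ _ _).trans ((congrArg (v ≫ ·) (T.left.homOfLE_ι (inf_le_right : W ⊓ W' ≤ W'))).trans (hv.trans e))))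
  rw [← h₁, ← h₂, rs_comp, rs_comp, h]

theorem isSheaf_shPresheaf : TopCat.Presheaf.IsSheaf (shPresheaf P) := by
  refine (TopCat.Presheaf.isSheaf_iff_isSheafUniqueGluing _).2 fun ι (U : ι → T.left.Opens) sf hsf => ?_
  let f : ∀ i, schOpen (U i) ⟶ schOpen (iSup U) := fun i => schLE (le_iSup U i)
  have hf : ∀ x : (schOpen (iSup U)).obj.left.left, ∃ i, x ∈ Set.range (f i).hom.left.left := fun x => by
    obtain ⟨i, hi⟩ := Opens.mem_iSup.1 x.2
    exact ⟨i, ⟨x.1, hi⟩, T.left.homOfLE_apply' (le_iSup U i) x.1 hi⟩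
  obtain ⟨m, hm⟩ := exists_glue_sections (M := P) f hf (fun i => un P (U i) (sf i)) fun i j Z a b e =>
    rs_eq_of_inf P a b (by
      have := congrArg (fun φ : Z ⟶ schOpen (iSup U) => φ.hom.left.left ≫ (iSup U).ι) e
      refine Eq.trans ?_ (this.trans ?_)
      · exact ((Category.assoc _ _ _).trans (congrArg (a.hom.left.left ≫ ·) (T.left.homOfLE_ι (le_iSup U i)))).symm
      · exact (Category.assoc _ _ _).trans (congrArg (b.hom.left.left ≫ ·) (T.left.homOfLE_ι (le_iSup U j))))
      (((un_shRes P inf_le_left (sf i)).symm.trans (congrArg (un P _) (hsf i j))).trans (un_shRes P inf_le_right (sf j)))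
  refine ⟨(un P (iSup U)).symm m, fun i => (un P (U i)).injective ?_, fun y hy => (un P (iSup U)).injective ?_⟩
  · refine (un_shRes P _ _).trans ?_
    rw [LinearEquiv.apply_symm_apply]
    exact hm i
  · rw [LinearEquiv.apply_symm_apply]
    refine eq_of_family f hf fun i => ?_
    rw [hm i]
    exact (un_shRes P _ y).symm.trans (congrArg (un P (U i)) (hy i))

/-- The module on the Zariski site. -/
noncomputable def zarMod : T.left.Modules := ⟨shMod P, isSheaf_shPresheaf P⟩

/-- It is a companion. -/
noncomputable def companion : ZarCompanion T.left (zarMod P) ((resSchModEt T).obj P) where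
  iso W := (un P W).symm.toAddEquiv.trans AddEquiv.ulift.symm
  map_smul W a m := congrArg ULift.up ((un P W).symm.map_smul (fn W a) m)
  map_res {W W'} h m := congrArg ULift.up ((un P W').injective (((un P W').apply_symm_apply _).trans
    ((congrArg (rs P (schLE h)) ((un P W).apply_symm_apply m).symm).trans (un_shRes P h _).symm)))

theorem isLocalization_fn {U : T.left.Opens} (hU : IsAffineOpen U) (r : Γ(T.left, U)) :
    letI := (gm (schLE (T.left.basicOpen_le r))).toAlgebra
    IsLocalization.Away (fn U r) (gr (schOpen (T.left.basicOpen r))) := by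
  let _ := (gm (schLE (T.left.basicOpen_le r))).toAlgebra
  have := hU.isLocalization_basicOpen r
  refine ⟨?_, ?_, ?_⟩
  · rintro ⟨_, n, rfl⟩
    change IsUnit (gm _ (fn U r ^ n))
    rw [map_pow, gm_schLE_fn]
    exact ((IsLocalization.Away.algebraMap_isUnit (S := Γ(T.left, T.left.basicOpen r)) r).map (fn _)).pow n
  · intro z
    obtain ⟨w, rfl⟩ := (fn_bijective (T.left.basicOpen r)).2 z
    obtain ⟨⟨a, ⟨_, n, rfl⟩⟩, ha⟩ := IsLocalization.surj (Submonoid.powers r) w
    refine ⟨⟨fn U a, ⟨_, n, rfl⟩⟩, ?_⟩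
    change fn _ w * gm _ (fn U r ^ n) = gm _ (fn U a)
    rw [← map_pow (fn U), gm_schLE_fn, gm_schLE_fn, ← map_mul]
    exact congrArg (fn _) ha
  · intro x y h
    obtain ⟨x, rfl⟩ := (fn_bijective U).2 x
    obtain ⟨y, rfl⟩ := (fn_bijective U).2 y
    change gm _ (fn U x) = gm _ (fn U y) at h
    rw [gm_schLE_fn, gm_schLE_fn] at h
    obtain ⟨⟨_, n, rfl⟩, hn⟩ := IsLocalization.exists_of_eq (M := Submonoid.powers r) ((fn_bijective _).1 h)
    exact ⟨⟨_, n, rfl⟩, by simpa only [map_mul, map_pow] using congrArg (fn U) hn⟩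

theorem isQuasicoherent_zarMod [P.IsQuasicoherent] : (zarMod P).IsQuasicoherent := by
  refine (Groth.Agent.QCoh.isQuasicoherent_iff_forall_isAffineOpen _).2 fun U hU r => ?_
  let g := schLE (T.left.basicOpen_le r)
  let _ := (gm g).toAlgebra
  have := isLocalization_fn hU r
  have : IsAffine (schOpen U).obj.left.left := hU
  have : IsAffine (schOpen (T.left.basicOpen r)).obj.left.left := hU.basicOpen r
  let _ : Module (gr (schOpen U)) (sectModEt P (schOpen (T.left.basicOpen r))) := overBase P g
  have : IsScalarTower (gr (schOpen U)) (gr (schOpen (T.left.basicOpen r)))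
      (sectModEt P (schOpen (T.left.basicOpen r))) := .of_algebraMap_smul fun _ _ => rfl
  let φ : sectModEt P (schOpen U) →ₗ[gr (schOpen U)] sectModEt P (schOpen (T.left.basicOpen r)) :=
    { rs P g with map_smul' := rs_smul g }
  have hφ : IsLocalizedModule (Submonoid.powers (fn U r)) φ :=
    (isLocalizedModule_iff_isBaseChange _ (gr (schOpen (T.left.basicOpen r))) φ).2
      (IsBaseChange.of_equiv (LinearEquiv.ofBijective (bc (rs P g) (rs_smul g))
        ((isBC_iff (A := gr (schOpen U)) (rs P g) (rs_smul g)).1 (bc_of_isQuasicoherent g)))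
        fun x => by rw [LinearEquiv.ofBijective_apply, bc_tmul, one_smul]; rfl)
  refine ⟨fun s => ?_, fun t ht => ?_⟩
  · obtain ⟨⟨t, ⟨_, n, rfl⟩⟩, ht⟩ := IsLocalizedModule.surj (Submonoid.powers (fn U r)) φ (un P _ s)
    refine ⟨n, (un P U).symm t, (un P (T.left.basicOpen r)).injective ?_⟩
    refine (un_shRes P _ _).trans ?_
    rw [LinearEquiv.apply_symm_apply]
    refine ht.symm.trans ?_
    refine Eq.trans ?_ ((un P (T.left.basicOpen r)).map_smul (fn _ _) s).symm
    change gm g (fn U r ^ n) • un P _ s = _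
    rw [map_pow, gm_schLE_fn, ← map_pow]
  · obtain ⟨⟨_, n, rfl⟩, hn⟩ := IsLocalizedModule.exists_of_eq (S := Submonoid.powers (fn U r)) (f := φ)
      (x₁ := un P U t) (x₂ := 0) (((un_shRes P _ t).symm.trans ((congrArg (un P _) ht).trans (map_zero _))).trans
        (map_zero φ).symm)
    refine ⟨n, (un P U).injective ?_⟩
    refine ((un P U).map_smul (fn U (r ^ n)) t).trans ?_
    rw [map_zero, map_pow]
    exact hn.trans (smul_zero _)

end Groth.Agent.AlgSpD.ZarCompanionMk
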